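import Cfsg.Agent.Lib.Coprime.Basic
import Cfsg.Agent.Lib.Transfer.Tate
import Cfsg.Agent.Lib.Transfer.Frobenius
import Cfsg.Agent.Lib.PGrp.Cyclic
import Cfsg.Agent.Lib.Invol.Sylow2
import Cfsg.Agent.Lib.Core.PSolvable

/-!
# Groups with cyclic Sylow subgroups
-/

set_option autoImplicit false

namespace Cfsg.Lib.Coprime

open Subgroup Cfsg.Lib.Transfer

variable {G : Type*} [Group G] [Finite G] {p : ℕ} [hp : Fact p.Prime]

/-- An element normalizing a cyclic `p`-group `T` and centralizing a nontrivial element of it,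
inside a group in which `T` is Sylow, centralizes `T`. -/
theorem mem_centralizer_of_isCyclic {T H : Subgroup G} (hT : SylowIn p T H) (hc : IsCyclic T)
    {x : G} (hxT : x ∈ T) (h1 : x ≠ 1) (hx : H ≤ centralizer ({x} : Set G)) :
    H ⊓ normalizer (T : Set G) ≤ centralizer (T : Set G) := by
  haveI := PGrp.isMulCommutative_of_isCyclic hc
  obtain ⟨k, hk⟩ := Invol.pow_eq_one_of_mem hT.isPGroup hxT
  have hT' : SylowIn p T (H ⊓ normalizer (T : Set G)) := hT.mono (le_inf hT.le le_normalizer)
    inf_le_left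
  refine hT'.resOf_sup.ge.trans (sup_le (Transfer.resOf_le_iff.2 fun g hg ho => ?_)
    (le_centralizer T))
  refine le_centralizer_of_prime_order (A := zpowers g) (zpowers_le_of_mem hg.2)
    (by rw [Nat.card_zpowers]; exact coprime_card_of_isPGroup hT.isPGroup ho)
    (fun v hv hq a ha => ?_) (mem_zpowers g)
  obtain ⟨l, hl⟩ := Invol.pow_eq_one_of_mem hT.isPGroup hv
  have h2 : v ∈ zpowers x := PGrp.mem_zpowers_of_pow_eq_one hc hv hxT (by
    have hp' : p.Prime := Fact.out
    rw [← orderOf_dvd_iff_pow_eq_one, (Nat.prime_dvd_prime_iff_eq hq hp').1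
      (hq.dvd_of_dvd_pow (orderOf_dvd_of_pow_eq_one hl))]
    obtain ⟨j, -, hj⟩ := (Nat.dvd_prime_pow hp').1 (orderOf_dvd_of_pow_eq_one hk)
    rcases j with _ | j
    · exact absurd (orderOf_eq_one_iff.1 hj) h1
    · rw [hj]; exact dvd_pow_self p j.succ_ne_zero)
  have h3 : Commute x a :=
    (mem_centralizer_singleton_iff.1 (hx (zpowers_le_of_mem hg.1 ha))).symm
  obtain ⟨m, rfl⟩ := h2
  exact (h3.zpow_left m).eq.symm

theorem pnil_of_isCyclic_of_cent {T H : Subgroup G} (hT : SylowIn p T H) (hc : IsCyclic T)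
    {x : G} (hxT : x ∈ T) (h1 : x ≠ 1) (hx : H ≤ centralizer ({x} : Set G)) : PNil p H :=
  hT.pnil_of_normalizer_le_centralizer (mem_centralizer_of_isCyclic hT hc hxT h1 hx)

theorem isPSolvable_of_pnil_top (h : PNil p (⊤ : Subgroup G)) : IsPSolvable p G := by
  haveI := resOf_normal (p := p) (⊤ : Subgroup G)
  refine Core.isPSolvable_of_normal_of_quotient hp.out (resOf p ⊤)
    (Core.isPSolvable_of_coprime hp.out h.coprime) (Core.isPSolvable_of_isPGroup hp.out ?_)
  obtain ⟨n, hn⟩ := relIndex_resOf (p := p) (⊤ : Subgroup G)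
  rw [relIndex_top_right] at hn
  exact IsPGroup.of_card hn

theorem isPSolvable_of_pnil {H : Subgroup G} (h : PNil p H) : IsPSolvable p H :=
  isPSolvable_of_pnil_top (hasNormalPComplement_iff_top.1 (hasNormalPComplement_iff.2 h))

/-- A group with cyclic Sylow `p`-subgroups and a nontrivial normal `p`-subgroup is `p`-solvable. -/
theorem isPSolvable_of_isCyclic_of_normal {T : Subgroup G} (hT : SylowIn p T ⊤) (hc : IsCyclic T)
    (D : Subgroup G) [D.Normal] (hD : D ≤ T) (h1 : D ≠ ⊥) : IsPSolvable p G := by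
  haveI := PGrp.isMulCommutative_of_isCyclic hc
  have hTC : T ≤ centralizer (D : Set G) := (le_centralizer T).trans (centralizer_le hD)
  obtain ⟨⟨x, hx⟩, hx1⟩ := ne_bot_iff_exists_ne_one.1 h1
  have hC : PNil p (centralizer (D : Set G)) :=
    pnil_of_isCyclic_of_cent (hT.mono hTC le_top) hc (hD hx) (fun h => hx1 (Subtype.ext h))
      (centralizer_le (Set.singleton_subset_iff.2 hx))
  refine Core.isPSolvable_of_normal_of_quotient hp.out (centralizer (D : Set G))
    (isPSolvable_of_pnil hC) ?_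
  have h2 := PGrp.commutator_normalizer_le_centralizer (PGrp.isCyclic_of_le' hc hD)
  rw [normalizer_eq_top] at h2
  haveI : IsMulCommutative (G ⧸ centralizer (D : Set G)) :=
    Normal.quotient_commutative_iff_commutator_le.2 h2
  haveI : Group.IsSolvable (G ⧸ centralizer (D : Set G)) :=
    isSolvable_of_comm fun a b => mul_comm' a b
  exact Core.isPSolvable_of_isSolvable hp.out

theorem pnil_of_isCyclic_of_dvd_index (P : Sylow p G) (hP : IsCyclic (P : Subgroup G))
    (H : Subgroup G) [H.Normal] (h2 : p ∣ H.index) : PNil p H := by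
  refine tate P H fun x hx => ?_
  have hlt : (H ⊓ P).subgroupOf (P : Subgroup G) < ⊤ := by
    rw [lt_top_iff_ne_top, Ne, subgroupOf_eq_top]
    intro h
    exact P.not_dvd_index (h2.trans (index_dvd_of_le (h.trans inf_le_left)))
  have h3 := PGrp.le_powerClosure_of_lt P.isPGroup' (PGrp.isCyclic_top_iff.2 hP) hlt
  refine ⟨⟨x, hx.2⟩, ?_, rfl⟩
  refine (h3.trans ?_) (show (⟨x, hx.2⟩ : (P : Subgroup G)) ∈ (H ⊓ P).subgroupOf P from hx)
  rw [powerClosure, closure_le]
  rintro _ ⟨y, -, rfl⟩
  simpa using Core.pow_mem_frattini_of_isPGroup P.isPGroup' y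

theorem isPSolvable_of_isCyclic_of_pnil (P : Sylow p G) (hP : IsCyclic (P : Subgroup G))
    (H : Subgroup G) [H.Normal] (h1 : p ∣ Nat.card H) (h : PNil p H) : IsPSolvable p G := by
  haveI := resOf_normal (p := p) H
  refine Core.isPSolvable_of_normal_of_quotient hp.out (resOf p H)
    (Core.isPSolvable_of_coprime hp.out h.coprime) ?_
  let f := QuotientGroup.mk' (resOf p H)
  have hf : Function.Surjective f := QuotientGroup.mk'_surjective _
  have hT := (sylowIn_top P).map f
  rw [map_top_of_surjective f hf] at hT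
  have hS := sylowIn_inf_normal P H
  have hHm : H.map f = ((P : Subgroup G) ⊓ H).map f := by
    refine (congrArg (map f) hS.resOf_sup).symm.trans ?_
    rw [Subgroup.map_sup, (Subgroup.map_eq_bot_iff _).2 (QuotientGroup.ker_mk' _).ge, bot_sup_eq]
  haveI : (H.map f).Normal := Normal.map inferInstance f hf
  refine isPSolvable_of_isCyclic_of_normal hT (PGrp.isCyclic_map f hP) (H.map f)
    (hHm.le.trans (map_mono inf_le_left)) fun hb => ?_
  rw [Subgroup.map_eq_bot_iff, QuotientGroup.ker_mk'] at hb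
  exact h (h1.trans (card_dvd_of_le hb))

end Cfsg.Lib.Coprime
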