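/-
Frobenius' proof of Jordan's theorem on finite linear groups.
-/
import Cfsg.Agent.Lib.Char.Kernel
import Mathlib.Analysis.CStarAlgebra.Spectrum
import Mathlib.Analysis.CStarAlgebra.ContinuousLinearMap
import Mathlib.Analysis.InnerProductSpace.PiL2
import Mathlib.Analysis.InnerProductSpace.Adjoint
import Mathlib.LinearAlgebra.Eigenspace.Triangularizable
import Cfsg.Agent.Lib.Clifford.On

set_option autoImplicit false

namespace Cfsg.Lib.Coprime

open Cfsg Cfsg.Lib.Char Module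
open scoped ComplexConjugate InnerProductSpace

/-- Commuting endomorphisms have a common eigenvector in every invariant subspace. -/
theorem exists_joint_eigenvector {k V ι : Type*} [Field k] [IsAlgClosed k] [AddCommGroup V]
    [Module k V] [FiniteDimensional k V] (f : ι → End k V) (hf : ∀ i j, f i * f j = f j * f i)
    (W : Submodule k V) (hW : W ≠ ⊥) (hi : ∀ i, ∀ v ∈ W, f i v ∈ W) :
    ∃ v ∈ W, v ≠ 0 ∧ ∀ i, ∃ c : k, f i v = c • v := by
  induction hn : finrank k W using Nat.strong_induction_on generalizing W with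
  | _ n ih =>
  by_cases h : ∀ i, ∃ c : k, ∀ v ∈ W, f i v = c • v
  · obtain ⟨v, hv, h0⟩ := Submodule.exists_mem_ne_zero_of_ne_bot hW
    exact ⟨v, hv, h0, fun i => (h i).imp fun c hc => hc v hv⟩
  push Not at h
  obtain ⟨i, h⟩ := h
  have : Nontrivial W := Submodule.nontrivial_iff_ne_bot.2 hW
  obtain ⟨c, hc⟩ := End.exists_eigenvalue ((f i).restrict (hi i))
  obtain ⟨u, hu⟩ := hc.exists_hasEigenvector
  obtain ⟨w, hw, h1⟩ := h c
  obtain ⟨v, hv, h2⟩ := ih _ (hn ▸ Submodule.finrank_lt_finrank_of_lt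
    (inf_lt_left.2 fun e => h1 (End.mem_eigenspace_iff.1 (e hw)))) (W ⊓ (f i).eigenspace c)
    ((Submodule.ne_bot_iff _).2 ⟨u, ⟨u.2, End.mem_eigenspace_iff.2
      (congrArg Subtype.val hu.apply_eq_smul)⟩, fun e => hu.2 (Subtype.ext e)⟩)
    (fun j v hv => ⟨hi j v hv.1, End.mem_eigenspace_iff.2 (by
      rw [← End.mul_apply, hf, End.mul_apply, End.mem_eigenspace_iff.1 hv.2, map_smul])⟩) rfl
  exact ⟨v, hv.1, h2⟩

theorem exists_arc_index : ∃ f : ℂ → Fin 12, ∀ z w : ℂ, ‖z‖ = 1 → ‖w‖ = 1 → f z = f w →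
    ‖z * w⁻¹ - ((√3 / 2 : ℝ) : ℂ)‖ < 1 / 2 := by
  have hpi := Real.pi_pos
  have hb : ∀ z : ℂ, ⌊(Real.pi - z.arg) / (Real.pi / 6)⌋₊ < 12 := fun z => by
    rw [Nat.floor_lt (div_nonneg (sub_nonneg.2 z.arg_le_pi) (by positivity)),
      div_lt_iff₀ (by positivity)]
    have := z.neg_pi_lt_arg
    push_cast
    linarith
  refine ⟨fun z => ⟨_, hb z⟩, fun z w hz hw e => ?_⟩
  have e : ⌊(Real.pi - z.arg) / (Real.pi / 6)⌋₊ = ⌊(Real.pi - w.arg) / (Real.pi / 6)⌋₊ :=
    congrArg Fin.val e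
  have h1 : |z.arg - w.arg| < Real.pi / 6 := by
    have a1 := Nat.floor_le (div_nonneg (sub_nonneg.2 z.arg_le_pi)
      (by positivity : 0 ≤ Real.pi / 6))
    have a2 := Nat.floor_le (div_nonneg (sub_nonneg.2 w.arg_le_pi)
      (by positivity : 0 ≤ Real.pi / 6))
    have a3 := Nat.lt_floor_add_one ((Real.pi - z.arg) / (Real.pi / 6))
    have a4 := Nat.lt_floor_add_one ((Real.pi - w.arg) / (Real.pi / 6))
    rw [e] at a1 a3
    rw [le_div_iff₀ (by positivity)] at a1 a2
    rw [div_lt_iff₀ (by positivity)] at a3 a4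
    rw [abs_lt]
    constructor <;> linarith
  have h2 : √3 / 2 < Real.cos (z.arg - w.arg) := by
    rw [← Real.cos_abs, ← Real.cos_pi_div_six]
    exact Real.cos_lt_cos_of_nonneg_of_le_pi (abs_nonneg _) (by linarith) h1
  have h3 : z * w⁻¹ = Complex.exp ((z.arg - w.arg : ℝ) * Complex.I) := by
    have a := z.norm_mul_exp_arg_mul_I
    have b := w.norm_mul_exp_arg_mul_I
    rw [hz] at a
    rw [hw] at b
    simp only [Complex.ofReal_one, one_mul] at a b
    rw [Complex.ofReal_sub, sub_mul, Complex.exp_sub, a, b, div_eq_mul_inv]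
  rw [h3, ← sq_lt_sq₀ (norm_nonneg _) (by norm_num), Complex.sq_norm, Complex.normSq_apply]
  simp only [Complex.sub_re, Complex.exp_ofReal_mul_I_re, Complex.ofReal_re, Complex.sub_im,
    Complex.exp_ofReal_mul_I_im, Complex.ofReal_im, sub_zero]
  have := Real.sin_sq_add_cos_sq (z.arg - w.arg)
  have h4 : √3 * √3 = 3 := Real.mul_self_sqrt (by norm_num)
  have h5 : 0 < √3 := by positivity
  nlinarith

section Unitary
variable {G : Type*} [Group G] {E : Type*} [NormedAddCommGroup E] [InnerProductSpace ℂ E]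
  {X : G →* (E →L[ℂ] E)} (hX : ∀ g v, ‖X g v‖ = ‖v‖)
include hX

theorem inner_rep (g : G) (u v : E) : ⟪X g u, X g v⟫_ℂ = ⟪u, v⟫_ℂ :=
  LinearIsometry.inner_map_map (⟨(X g : E →ₗ[ℂ] E), hX g⟩ : E →ₗᵢ[ℂ] E) u v

theorem norm_eigen {g : G} {v : E} {c : ℂ} (h0 : v ≠ 0) (h : X g v = c • v) : ‖c‖ = 1 := by
  have := hX g v
  rwa [h, norm_smul, mul_eq_right₀ (norm_ne_zero_iff.2 h0)] at this

theorem inner_eigen {g : G} {v w : E} {c d : ℂ} (h0 : v ≠ 0) (h : X g v = c • v)
    (h' : X g w = d • w) (hne : c ≠ d) : ⟪v, w⟫_ℂ = 0 := by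
  have h1 := inner_rep hX g v w
  have h2 := norm_eigen hX h0 h
  rw [h, h', inner_smul_left, inner_smul_right, ← mul_assoc] at h1
  by_contra h3
  apply hne
  have := congrArg (c * ·) ((mul_eq_right₀ h3).1 h1)
  simp only [← mul_assoc, Complex.mul_conj', h2] at this
  simpa using this.symm

theorem norm_commutator_le (x y : G) (c d : ℂ) : ‖X (x * y * x⁻¹ * y⁻¹) - 1‖ ≤
    2 * ‖X x - algebraMap ℂ _ c‖ * ‖X y - algebraMap ℂ _ d‖ := by
  have h1 : X (x * y * x⁻¹ * y⁻¹) - 1 = ((X x - algebraMap ℂ _ c) * (X y - algebraMap ℂ _ d) -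
      (X y - algebraMap ℂ _ d) * (X x - algebraMap ℂ _ c)) * X (x⁻¹ * y⁻¹) := by
    have : (X x - algebraMap ℂ _ c) * (X y - algebraMap ℂ _ d) -
        (X y - algebraMap ℂ _ d) * (X x - algebraMap ℂ _ c) = X x * X y - X y * X x := by
      simp only [Algebra.algebraMap_eq_smul_one, sub_mul, mul_sub, smul_mul_assoc, mul_smul_comm,
        one_mul, mul_one, smul_sub, smul_smul, mul_comm c d]
      abel
    rw [this, sub_mul, ← map_mul, ← map_mul, ← map_mul, ← map_mul, ← map_one X]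
    congr 2 <;> group
  have h2 : ‖X (x⁻¹ * y⁻¹)‖ ≤ 1 :=
    ContinuousLinearMap.opNorm_le_bound _ zero_le_one fun v => by rw [hX, one_mul]
  rw [h1]
  refine (norm_mul_le _ _).trans ((mul_le_of_le_one_right (norm_nonneg _) h2).trans
    ((norm_sub_le _ _).trans ?_))
  have := norm_mul_le (X x - algebraMap ℂ _ c) (X y - algebraMap ℂ _ d)
  have := norm_mul_le (X y - algebraMap ℂ _ d) (X x - algebraMap ℂ _ c)
  linarith

variable [FiniteDimensional ℂ E]

theorem comm_of_comm_conj (hi : Function.Injective X) {x z : G} {d : ℂ}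
    (hz : ‖X z - algebraMap ℂ _ d‖ < 1) (h : x * (z * x * z⁻¹) = z * x * z⁻¹ * x) :
    x * z = z * x := by
  set t := x⁻¹ * (z * x * z⁻¹) with ht
  have hxt : x * t = t * x := by
    rw [ht, mul_assoc x⁻¹, ← h]; group
  by_contra hne
  have h1 : X t - 1 ≠ 0 := fun e => hne (by
    have := hi ((sub_eq_zero.1 e).trans (map_one X).symm)
    calc x * z = x * t * z := by rw [this, mul_one]
      _ = z * x := by rw [ht]; group)
  have hc : ∀ a b : G, a * b = b * a → ∀ v, X a (X b v) = X b (X a v) := fun a b e v => by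
    rw [← ContinuousLinearMap.mul_apply, ← map_mul, e, map_mul, ContinuousLinearMap.mul_apply]
  obtain ⟨_, ⟨u, rfl⟩, h0, h2⟩ := exists_joint_eigenvector
    (fun b : Bool => (X (if b then x else t) : E →ₗ[ℂ] E))
    (fun a b => LinearMap.ext (hc _ _ (by cases a <;> cases b <;> simp [hxt])))
    (LinearMap.range ((X t - 1 : E →L[ℂ] E) : E →ₗ[ℂ] E))
    (fun e => h1 (by
      ext v
      exact LinearMap.congr_fun (LinearMap.range_eq_bot.1 e) v)) (by
      rintro b _ ⟨u, rfl⟩
      refine ⟨X (if b then x else t) u, ?_⟩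
      simp [hc t _ (by cases b <;> simp [hxt] : t * (if b then x else t) = _)])
  obtain ⟨μ, h3⟩ := h2 true
  obtain ⟨ν, h4⟩ := h2 false
  simp only [ContinuousLinearMap.coe_coe, if_true, Bool.false_eq_true, if_false] at h0 h3 h4
  set v := (X t - 1) u with hv
  have h5 : ν ≠ 1 := fun e => h0 (by
    rw [e, one_smul] at h4
    have := inner_rep hX t v u
    rw [h4] at this
    rw [← inner_self_eq_zero (𝕜 := ℂ)]
    conv_lhs => rw [hv]
    rw [← hv, show ⟪v, v⟫_ℂ = ⟪v, X t u - u⟫_ℂ from rfl, inner_sub_right, this, sub_self])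
  have h6 : X x (X z⁻¹ v) = (μ * ν) • X z⁻¹ v := by
    rw [← ContinuousLinearMap.mul_apply, ← map_mul, show x * z⁻¹ = z⁻¹ * x * t by rw [ht]; group,
      map_mul, map_mul, ContinuousLinearMap.mul_apply, ContinuousLinearMap.mul_apply, h4, map_smul,
      h3, smul_smul, map_smul, mul_comm]
  have h7 := inner_eigen hX h0 h3 h6 fun e => h5 ((mul_eq_left₀ (by
    rw [← norm_ne_zero_iff, norm_eigen hX h0 h3]; exact one_ne_zero)).1 e.symm)
  have h8 : ⟪v, (X z - algebraMap ℂ _ d) (X z⁻¹ v)⟫_ℂ = ⟪v, v⟫_ℂ := by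
    rw [ContinuousLinearMap.sub_apply, ← ContinuousLinearMap.mul_apply, ← map_mul, mul_inv_cancel,
      map_one, inner_sub_right, Algebra.algebraMap_eq_smul_one, ContinuousLinearMap.smul_apply,
      inner_smul_right]
    simp [h7]
  have h9 := norm_inner_le_norm (𝕜 := ℂ) v ((X z - algebraMap ℂ _ d) (X z⁻¹ v))
  have h10 := (X z - algebraMap ℂ _ d).le_opNorm (X z⁻¹ v)
  rw [h8, inner_self_eq_norm_sq_to_K, norm_pow] at h9
  rw [hX] at h10
  have := norm_pos_iff.2 h0
  simp only [Complex.coe_algebraMap, Complex.norm_real, norm_norm] at h9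
  nlinarith [mul_le_mul_of_nonneg_left h10 this.le, mul_lt_mul_of_pos_right hz (mul_pos this this)]

/-- Frobenius: elements close to scalars commute. -/
theorem comm_of_small [Finite G] (hi : Function.Injective X) {x y : G} {c d : ℂ}
    (hx : ‖X x - algebraMap ℂ _ c‖ < 1 / 2) (hy : ‖X y - algebraMap ℂ _ d‖ < 1) :
    x * y = y * x := by
  have step : ∀ y : G, ∀ d : ℂ, ‖X y - algebraMap ℂ _ d‖ < 1 →
      x * (x * y * x⁻¹ * y⁻¹) = x * y * x⁻¹ * y⁻¹ * x → x * y = y * x := fun y d hy h =>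
    comm_of_comm_conj hX hi hy (by
      calc x * (y * x * y⁻¹) = y * x * y⁻¹ * (x⁻¹ * (x * y * x⁻¹ * y⁻¹ * x)) * (y * x * y⁻¹) := by
            group
        _ = y * x * y⁻¹ * x := by rw [← h]; group)
  have : IsTrans G fun a b => ‖X a - 1‖ < ‖X b - 1‖ := ⟨fun _ _ _ => lt_trans⟩
  have : Std.Irrefl fun a b : G => ‖X a - 1‖ < ‖X b - 1‖ := ⟨fun _ => lt_irrefl _⟩
  have key : ∀ y : G, ‖X y - 1‖ < 1 → x * y = y * x := fun y => by
    induction y using (Finite.wellFounded_of_trans_of_irrefl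
      fun a b : G => ‖X a - 1‖ < ‖X b - 1‖).induction with
    | _ y ih =>
    intro hy
    by_cases h : X y - 1 = 0
    · rw [hi ((sub_eq_zero.1 h).trans (map_one X).symm), mul_one, one_mul]
    have h1 := norm_commutator_le hX x y c 1
    rw [map_one] at h1
    have h2 : ‖X (x * y * x⁻¹ * y⁻¹) - 1‖ < ‖X y - 1‖ := by
      have := norm_pos_iff.2 h
      nlinarith
    exact step y 1 (by rwa [map_one]) (ih _ h2 (h2.trans hy))
  refine step y d hy (key _ ((norm_commutator_le hX x y c d).trans_lt ?_))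
  have := norm_nonneg (X x - algebraMap ℂ _ c)
  have := norm_nonneg (X y - algebraMap ℂ _ d)
  nlinarith

theorem norm_sub_lt {H : Subgroup G} (hH : ∀ x ∈ H, ∀ y ∈ H, x * y = y * x) {h : G} (hh : h ∈ H)
    {c : ℂ} {r : ℝ} (hr : 0 < r) (hc : ∀ v : E, v ≠ 0 → ∀ lam : H → ℂ, (∀ k : H, X k v = lam k • v) →
      ‖lam ⟨h, hh⟩ - c‖ < r) : ‖X h - algebraMap ℂ _ c‖ < r := by
  have := FiniteDimensional.complete ℂ E
  rcases subsingleton_or_nontrivial E with _ | _
  · rwa [Subsingleton.elim (X h - _) 0, norm_zero]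
  have hs : star (X h) = X h⁻¹ := by
    rw [ContinuousLinearMap.star_eq_adjoint, eq_comm, ContinuousLinearMap.eq_adjoint_iff]
    intro u v
    rw [← inner_rep hX h, ← ContinuousLinearMap.mul_apply, ← map_mul, mul_inv_cancel, map_one,
      ContinuousLinearMap.one_apply]
  have : IsStarNormal (X h - algebraMap ℂ _ c) := ⟨by
    rw [star_sub, hs, ← algebraMap_star_comm]
    exact (((Commute.refl h).inv_left.map X).sub_right (Algebra.commute_algebraMap_right _ _)).sub_left
      (Algebra.commute_algebraMap_left _ _)⟩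
  obtain ⟨z, hz, e⟩ := spectrum.exists_nnnorm_eq_spectralRadius (X h - algebraMap ℂ _ c)
  rw [IsStarNormal.spectralRadius_eq_nnnorm, ENNReal.coe_inj] at e
  rw [ContinuousLinearMap.spectrum_eq, ← End.hasEigenvalue_iff_mem_spectrum] at hz
  have hc' : ∀ a ∈ H, ∀ b ∈ H, ∀ v, X a (X b v) = X b (X a v) := fun a ha b hb v => by
    rw [← ContinuousLinearMap.mul_apply, ← map_mul, hH a ha b hb, map_mul,
      ContinuousLinearMap.mul_apply]
  obtain ⟨v, hv, h0, h1⟩ := exists_joint_eigenvector (fun k : H => (X k : E →ₗ[ℂ] E))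
    (fun a b => LinearMap.ext (hc' _ a.2 _ b.2)) _ (End.hasEigenvalue_iff.1 hz) fun k v hv => by
      rw [End.mem_eigenspace_iff] at hv ⊢
      simp only [ContinuousLinearMap.coe_coe, ContinuousLinearMap.sub_apply,
        Algebra.algebraMap_eq_smul_one, ContinuousLinearMap.smul_apply,
        ContinuousLinearMap.one_apply] at hv ⊢
      rw [hc' _ hh _ k.2, ← map_smul, ← map_sub, hv, map_smul]
  choose lam h1 using h1
  rw [End.mem_eigenspace_iff] at hv
  simp only [ContinuousLinearMap.coe_coe, ContinuousLinearMap.sub_apply,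
    Algebra.algebraMap_eq_smul_one, ContinuousLinearMap.smul_apply,
    ContinuousLinearMap.one_apply] at hv h1
  rw [h1 ⟨h, hh⟩, ← sub_smul] at hv
  have h2 := hc v h0 lam h1
  rw [smul_left_injective ℂ h0 hv] at h2
  exact (congrArg NNReal.toReal e).ge.trans_lt h2

theorem exists_jordan_of_unitary [Finite G] (hi : Function.Injective X) : ∃ A : Subgroup G,
    A.Normal ∧ (∀ x ∈ A, ∀ y ∈ A, x * y = y * x) ∧ ∀ H : Subgroup G,
      (∀ x ∈ H, ∀ y ∈ H, x * y = y * x) → (A.subgroupOf H).index ≤ 12 ^ finrank ℂ E := by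
  set s : Set G := {x | ∃ c : ℂ, ‖X x - algebraMap ℂ _ c‖ < 1 / 2}
  refine ⟨Subgroup.closure s, ⟨fun x hx g => ?_⟩, fun x hx y hy => ?_, fun H hH => ?_⟩
  · have h1 : ∀ g, ‖X g‖ ≤ 1 := fun g =>
      ContinuousLinearMap.opNorm_le_bound _ zero_le_one fun v => by rw [hX, one_mul]
    refine (Subgroup.closure_le ((Subgroup.closure s).comap (MulAut.conj g).toMonoidHom)).2
      (fun x hx => ?_) hx
    obtain ⟨c, hc⟩ := hx
    refine Subgroup.subset_closure ⟨c, lt_of_le_of_lt ?_ hc⟩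
    have : X (g * x * g⁻¹) - algebraMap ℂ _ c = X g * (X x - algebraMap ℂ _ c) * X g⁻¹ := by
      rw [mul_sub, sub_mul, ← Algebra.commutes, mul_assoc (algebraMap ℂ _ c), ← map_mul, ← map_mul,
        ← map_mul, mul_inv_cancel, map_one, mul_one]
    refine (congrArg norm this).le.trans ((norm_mul_le _ _).trans
      ((mul_le_of_le_one_right (norm_nonneg _) (h1 _)).trans ((norm_mul_le _ _).trans
        (mul_le_of_le_one_left (norm_nonneg _) (h1 _)))))
  · refine Subgroup.closure_induction₂ (p := fun x y _ _ => Commute x y)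
      (fun x y hx hy => comm_of_small hX hi hx.choose_spec (hy.choose_spec.trans (by norm_num)))
      (fun x _ => Commute.one_left x) (fun x _ => Commute.one_right x)
      (fun _ _ _ _ _ _ => Commute.mul_left) (fun _ _ _ _ _ _ => Commute.mul_right)
      (fun _ _ _ _ => Commute.inv_left) (fun _ _ _ _ => Commute.inv_right) hx hy
  · obtain ⟨f, hf⟩ := exists_arc_index
    set L := {lam : H → ℂ // ∃ v : E, v ≠ 0 ∧ ∀ k : H, X k v = lam k • v}
    choose v h0 hv using fun lam : L => lam.2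
    have h1 := linearIndependent_of_ne_zero_of_inner_eq_zero (𝕜 := ℂ) h0 fun a b e => by
      obtain ⟨k, hk⟩ := Function.ne_iff.1 (Subtype.coe_injective.ne e)
      exact inner_eigen hX (h0 a) (hv a k) (hv b k) hk
    have := h1.finite_of_isNoetherian
    have := Fintype.ofFinite L
    have h2 := h1.fintype_card_le_finrank
    classical
    refine (Nat.card_le_card_of_injective (fun q (lam : L) => f (lam.1 q.out⁻¹)) fun a b e => ?_).trans
      (by simpa using Nat.pow_le_pow_right (by norm_num) h2)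
    rw [← a.out_eq, ← b.out_eq, QuotientGroup.eq]
    refine Subgroup.subset_closure ⟨((√3 / 2 : ℝ) : ℂ), norm_sub_lt hX hH (a.out⁻¹ * b.out).2
      (by norm_num)
      fun w hw lam h => ?_⟩
    have h3 := hf _ _ (norm_eigen hX hw (h _)) (norm_eigen hX hw (h _)) (congrFun e ⟨lam, w, hw, h⟩)
    have h4 : ∀ k l : H, lam (k * l) = lam k * lam l := fun k l => smul_left_injective ℂ hw (by
      simp only [← h, Subgroup.coe_mul, map_mul, ContinuousLinearMap.mul_apply]
      rw [h l, map_smul, h k, smul_smul, mul_comm])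
    have h5 := h4 (a.out⁻¹ * b.out) b.out⁻¹
    rw [mul_inv_cancel_right] at h5
    rwa [h5, mul_inv_cancel_right₀ (by
      rw [← norm_ne_zero_iff, norm_eigen hX hw (h _)]; exact one_ne_zero)] at h3

end Unitary

theorem exists_clm_rep {G V E : Type*} [Group G] [AddCommGroup V] [Module ℂ V]
    [NormedAddCommGroup E] [NormedSpace ℂ E] [FiniteDimensional ℂ E] (ρ : Representation ℂ G V)
    (e : V ≃ₗ[ℂ] E) : ∃ X : G →* (E →L[ℂ] E), ∀ g v, X g (e v) = e (ρ g v) :=
  ⟨⟨⟨fun g => LinearMap.toContinuousLinearMap (repCongr ρ e g), by ext v; simp⟩,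
    fun a b => by ext v; simp⟩, fun g v => (repCongr_apply ρ e g _).trans (by simp)⟩

/-- A representation of a finite group is equivalent to a unitary one. -/
theorem exists_unitary {G : Type*} [Group G] [Finite G] {n : ℕ} (ρ : Representation ℂ G (Fin n → ℂ)) :
    ∃ (E : Type) (_ : NormedAddCommGroup E) (_ : InnerProductSpace ℂ E) (_ : FiniteDimensional ℂ E)
      (X : G →* (E →L[ℂ] E)) (e : (Fin n → ℂ) ≃ₗ[ℂ] E),
      (∀ g v, ‖X g v‖ = ‖v‖) ∧ ∀ g v, X g (e v) = e (ρ g v) := by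
  set q := Finite.equivFin G
  let ι : (Fin n → ℂ) →ₗ[ℂ] EuclideanSpace ℂ (Fin (Nat.card G) × Fin n) :=
    (WithLp.linearEquiv 2 ℂ _).symm.toLinearMap ∘ₗ
      LinearMap.pi fun a => LinearMap.proj a.2 ∘ₗ ρ (q.symm a.1)
  have hι : Function.Injective ι := (injective_iff_map_eq_zero ι).2 fun v hv => funext fun i => by
    simpa [ι] using congrArg (fun w : EuclideanSpace ℂ _ => w (q 1, i)) hv
  obtain ⟨X, hX⟩ := exists_clm_rep ρ (LinearEquiv.ofInjective ι hι)
  refine ⟨LinearMap.range ι, inferInstance, inferInstance, inferInstance, X, _, fun g v => ?_, hX⟩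
  obtain ⟨v, rfl⟩ := (LinearEquiv.ofInjective ι hι).surjective v
  rw [hX]
  change ‖ι (ρ g v)‖ = ‖ι v‖
  rw [EuclideanSpace.norm_eq, EuclideanSpace.norm_eq]
  congr 1
  refine Fintype.sum_equiv ((q.symm.trans ((Equiv.mulRight g).trans q)).prodCongr
    (Equiv.refl _)) _ _ fun a => ?_
  simp [ι]

/-- **Jordan–Frobenius.** -/
theorem exists_jordan {G : Type*} [Group G] [Finite G] {χ : G → ℂ} (hχ : IsCharacter G χ)
    (hf : ∀ g : G, χ g = χ 1 → g = 1) : ∃ A : Subgroup G,
    A.Normal ∧ (∀ x ∈ A, ∀ y ∈ A, x * y = y * x) ∧ ∀ H : Subgroup G,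
      (∀ x ∈ H, ∀ y ∈ H, x * y = y * x) → (A.subgroupOf H).index ≤ 12 ^ charDegree χ := by
  obtain ⟨n, ρ, rfl⟩ := hχ
  obtain ⟨E, _, _, _, X, e, h1, h2⟩ := exists_unitary ρ
  have h3 : charDegree ρ.character = finrank ℂ E :=
    Clifford.charDegree_of_eq (by simp [← e.finrank_eq])
  rw [h3]
  refine exists_jordan_of_unitary h1 ((injective_iff_map_eq_one X).2 fun g hg => hf g ?_)
  have : ρ g = 1 := LinearMap.ext fun v => e.injective (by rw [← h2, hg]; rfl)
  simp [Representation.character, this]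

end Cfsg.Lib.Coprime
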