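/-
Blichfeldt's theorem on Hall subgroups of linear groups and the explicit Jordan bound.
-/
import Cfsg.Agent.Lib.Coprime.Jordan
import Cfsg.Agent.Lib.Coprime.Sylow
import Cfsg.Agent.Lib.Clifford.Mono
import Cfsg.Agent.Lib.Clifford.Amb
import Cfsg.Agent.Lib.Amalg.Syl
import Cfsg.Agent.Lib.Core.Frattini
import Cfsg.Agent.Lib.Hall.Product
import Mathlib.NumberTheory.PrimeCounting

set_option autoImplicit false

namespace Cfsg.Lib.Coprime

open Cfsg Cfsg.Lib.Char Cfsg.Lib.Clifford Subgroup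
open Cfsg.Lib.Amalg (Syl exists_syl)

universe u
variable {G : Type u} [Group G] [Finite G] {χ ψ : G → ℂ} {p q n : ℕ} {H K : Subgroup G}

theorem comm_of_large_primes (hχ : IsCharacter G χ) (hf : ∀ g : G, χ g = χ 1 → g = 1)
    (h : ∀ q : ℕ, q.Prime → q ∣ Nat.card H → charDegree χ < q) : ∀ x ∈ H, ∀ y ∈ H, x * y = y * x :=
  fun x hx y hy => by
    have hχ' := charOn_of_isCharacter hχ H
    have := hf _ (hχ'.classOn.eq_of_forall (mul_mem (mul_mem (mul_mem hx hy) (inv_mem hx))
      (inv_mem hy)) fun ψ hψ h0 => by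
        have h1 := irrOn_of_mem hψ
        have h2 := h1.charOn.linOn_of_deg (by
          by_contra h2
          obtain ⟨q, hq, hd⟩ := Nat.exists_prime_and_dvd h2
          exact (h q hq (hd.trans h1.deg_dvd_card)).not_ge
            ((Nat.le_of_dvd h1.deg_pos hd).trans (hχ'.deg_le_of_dot h1 h0)))
        rw [h2.map_commutator hx hy, h2.2])
    rw [← mul_inv_eq_one, ← this]; group

theorem apply_eq_of_pow_eq (hp : p.Prime) (hψ : CharOn K ψ) {x : G} (hx : x ∈ K)
    (ho : orderOf x = p) (hd : charDegree ψ + 1 < p)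
    (h : ∀ k : ℕ, k.Coprime p → ψ (x ^ k) = ψ x) : ψ x = ψ 1 := by
  classical
  have hc : Nat.card (zpowers x) = p := by rw [Nat.card_zpowers, ho]
  have hp0 : (p : ℂ) ≠ 0 := by exact_mod_cast hp.ne_zero
  have e : ∀ y ∈ zpowers x, ψ y = (ψ x • (1 : G → ℂ) +
      ((ψ 1 - ψ x) / p) • ind ⊥ (zpowers x) 1) y := fun y hy => by
    rw [Pi.add_apply, Pi.smul_apply, Pi.smul_apply, ind_bot_apply, hc]
    split_ifs with h1
    · subst h1; simp; field_simp; ring
    · obtain ⟨k, rfl⟩ := (mem_powers_iff_mem_zpowers.2 hy)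
      simpa using h k (hp.coprime_iff_not_dvd.2 fun hk =>
        h1 (orderOf_dvd_iff_pow_eq_one.1 (ho ▸ hk))).symm
  have hx1 : x ∉ (⊥ : Subgroup G) := fun h1 => by
    rw [mem_bot.1 h1, orderOf_one] at ho
    exact hp.one_lt.ne ho
  obtain ⟨lam, h1, h2⟩ := exists_IrrKer_ne bot_le (nrm_of_normal (zpowers x) ⊥) hx1
  have h3 := irrOn_of_mem (mem_IrrKer.1 h1).1
  have h4 := h3.degree_one_of_comm (fun a ha b hb => mul_comm_of_mem ha hb)
  have hψ' := hψ.mono (zpowers_le.2 hx)
  obtain ⟨m, hm⟩ := hψ'.dot_nat h3.charOn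
  obtain ⟨m₁, hm₁⟩ := hψ'.dot_nat (charOn_one _)
  rw [dot_congr_left e, dot_add_left, dot_smul_left, dot_smul_left, dot_ind_bot h3.classOn, h4,
    (irrOn_one _).dot_eq_zero h3 fun h => h2 ((h x (mem_zpowers x)).symm.trans h4.symm)] at hm
  rw [dot_congr_left e, dot_add_left, dot_smul_left, dot_smul_left, dot_ind_bot (classOn_one _),
    (irrOn_one _).dot_self] at hm₁
  simp only [mul_zero, map_one, mul_one, zero_add, Pi.one_apply] at hm hm₁
  rw [hm] at hm₁
  rw [div_eq_iff hp0] at hm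
  have h5 : charDegree ψ + m = m₁ + m * p := by
    have : (charDegree ψ + m : ℂ) = m₁ + m * p := by
      rw [← hψ.one_eq, ← hm, ← hm₁]; ring
    exact_mod_cast this
  obtain rfl : m = 0 := by
    by_contra h0
    obtain ⟨m, rfl⟩ := Nat.exists_eq_succ_of_ne_zero h0
    nlinarith
  exact (sub_eq_zero.1 (by simpa using hm)).symm

theorem pow_eq_or_pow_eq (hψ : IrrOn ⊤ ψ)
    (h : ∀ g : G, (orderOf g).Coprime p ∨ (orderOf g).Coprime q) :
    (∀ x, orderOf x = p → ∀ k : ℕ, k.Coprime p → ψ (x ^ k) = ψ x) ∨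
      ∀ x, orderOf x = q → ∀ k : ℕ, k.Coprime q → ψ (x ^ k) = ψ x := by
  by_contra hne
  push Not at hne
  obtain ⟨⟨x, hx, k, hk, h1⟩, y, hy, l, hl, h2⟩ := hne
  obtain ⟨u, hu⟩ := exists_pi_ringEquiv G (Or.inl hk)
  obtain ⟨w, hw⟩ := exists_pi_ringEquiv G (Or.inl hl)
  have hu := fun x => hu ⊤ ψ hψ.genOn x trivial
  have hw := fun x => hw ⊤ ψ hψ.genOn x trivial
  have a : IrrOn ⊤ fun g => u (ψ g) := irrOn_top.2 ((irrOn_top.1 hψ).map_ringHom (u : ℂ →+* ℂ))
  have b : IrrOn ⊤ fun g => w (ψ g) := irrOn_top.2 ((irrOn_top.1 hψ).map_ringHom (w : ℂ →+* ℂ))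
  have : dot ⊤ (ψ - fun g => u (ψ g)) (ψ - fun g => w (ψ g)) = 0 := by
    unfold dot
    rw [Finset.sum_eq_zero fun g _ => ?_, mul_zero]
    rcases h g with h | h
    · simp [(hu g).2 h]
    · simp [(hw g).2 h]
  obtain ⟨m, hm⟩ := a.charOn.dot_nat b.charOn
  rw [dot_sub_left, dot_sub_right, dot_sub_right, hψ.dot_self, hm,
    hψ.dot_eq_zero b fun e => h2 (((hw y).1 hy.dvd).symm.trans (e y trivial).symm),
    a.dot_eq_zero hψ fun e => h1 (((hu x).1 hx.dvd).symm.trans (e x trivial))] at this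
  have : ((1 + m : ℕ) : ℂ) = 0 := by push_cast; linear_combination this
  simp only [Nat.cast_eq_zero] at this
  omega

/-- Blichfeldt: elements of order `p q`. -/
theorem exists_commute_of_large_primes (hχ : IsCharacter G χ) (hf : ∀ g : G, χ g = χ 1 → g = 1)
    (hp : p.Prime) (hq : q.Prime) (h1 : charDegree χ + 1 < p) (h2 : charDegree χ + 1 < q)
    (h3 : p ∣ Nat.card G) (h4 : q ∣ Nat.card G) :
    ∃ x y : G, orderOf x = p ∧ orderOf y = q ∧ x * y = y * x := by
  by_cases h : ∀ g : G, (orderOf g).Coprime p ∨ (orderOf g).Coprime q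
  · have := Fact.mk hp
    have := Fact.mk hq
    obtain ⟨x, hx⟩ := exists_prime_orderOf_dvd_card' p h3
    obtain ⟨y, hy⟩ := exists_prime_orderOf_dvd_card' q h4
    have hχ' := charOn_top.2 hχ
    refine ⟨x, y, hx, hy, ?_⟩
    have := hf (x * y * x⁻¹ * y⁻¹) (hχ'.classOn.eq_of_forall trivial fun ψ hψ h0 => by
      have h5 := irrOn_of_mem hψ
      have h6 := hχ'.deg_le_of_dot h5 h0
      have h7 := h5.classOn.nrm_kerOn
      refine (h5.charOn.mem_kerOn.1 ?_).2
      rcases pow_eq_or_pow_eq h5 h with h | h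
      · have := h5.charOn.mem_kerOn.2 ⟨trivial, apply_eq_of_pow_eq hp h5.charOn trivial hx
          (by omega) (h x hx)⟩
        simpa [mul_assoc] using mul_mem this (h7 y trivial _ (inv_mem this))
      · have := h5.charOn.mem_kerOn.2 ⟨trivial, apply_eq_of_pow_eq hq h5.charOn trivial hy
          (by omega) (h y hy)⟩
        exact mul_mem (h7 x trivial _ this) (inv_mem this))
    rw [← mul_inv_eq_one, ← this]; group
  · obtain ⟨g, hg⟩ := not_forall.1 h
    obtain ⟨a, b⟩ := not_or.1 hg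
    rw [Nat.coprime_comm, hp.coprime_iff_not_dvd, not_not] at a
    rw [Nat.coprime_comm, hq.coprime_iff_not_dvd, not_not] at b
    exact ⟨_, _, orderOf_pow_orderOf_div (orderOf_pos g).ne' a,
      orderOf_pow_orderOf_div (orderOf_pos g).ne' b, (Commute.refl g).pow_pow _ _⟩

theorem not_central_of_perfect (hχ : IsCharacter G χ) (hf : ∀ g : G, χ g = χ 1 → g = 1)
    (hG : commutator G = ⊤) (hp : p.Prime) (h1 : charDegree χ < p) {z : G} (hz : orderOf z = p) :
    centralizer ({z} : Set G) ≠ ⊤ := fun hc => by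
  have hχ' := charOn_top.2 hχ
  have hc' : ∀ y ∈ zpowers z, ∀ g : G, g * y * g⁻¹ = y := fun y hy g => by
    rw [mul_inv_eq_iff_eq_mul]
    obtain ⟨k, rfl⟩ := mem_zpowers_iff.1 hy
    exact (show Commute g z from mem_centralizer_singleton_iff.1 (hc.ge (mem_top g))).zpow_right k
  have hN : Nrm ⊤ (zpowers z) := fun g _ y hy => by rwa [hc' y hy]
  have := hf z (hχ'.classOn.eq_of_forall trivial fun ψ hψ h0 => by
    have h2 := irrOn_of_mem hψ
    obtain ⟨θ, hθ, h3⟩ := h2.exists_under (le_top : zpowers z ≤ ⊤)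
    have h4 := (irrOn_of_mem hθ).linOn_of_comm fun a ha b hb => mul_comm_of_mem ha hb
    have h5 := fun y => clifford_invOn le_top hN h2 h4.irrOn
      (fun g _ y hy => by rw [hc' y hy]) h3 (n := y)
    have h6 := h2.charOn.detOn_of_eq_smul le_top h4 h5 (mem_zpowers z)
    rw [((linOn_detOn ⊤ ψ).mem_kerOn.1 ((linOn_detOn ⊤ ψ).commutator_le
      (hG.ge (mem_top z)))).2] at h6
    have h7 := h5 1 (one_mem _)
    rw [h4.2, mul_one] at h7
    have h8 := hχ'.deg_le_of_dot h2 h0
    have h9 := h2.deg_pos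
    rw [charDegree_of_eq h7] at h8 h9
    rw [h5 z (mem_zpowers z), h7, eq_one_of_pow_of_coprime
      ((Nat.coprime_of_lt_prime h9.ne' (h8.trans_lt h1) hp)) (by
        rw [← h4.map_pow (mem_zpowers z), ← hz, pow_orderOf_eq_one, h4.2]) h6.symm, mul_one])
  rw [this, orderOf_one] at hz
  exact hp.one_lt.ne hz

/-- **Blichfeldt**: a Hall subgroup for the primes greater than `n + 1`. -/
theorem exists_hall_large_primes (hχ : IsCharacter G χ) (hf : ∀ g : G, χ g = χ 1 → g = 1) :
    ∃ A : Subgroup G, (∀ q : ℕ, q.Prime → q ∣ Nat.card A → charDegree χ + 1 < q) ∧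
      ∀ q : ℕ, q.Prime → q ∣ A.index → q ≤ charDegree χ + 1 := by
  induction hm : Nat.card G using Nat.strong_induction_on generalizing G with
  | _ m ih =>
  set n := charDegree χ
  have IH : ∀ M : Subgroup G, M ≠ ⊤ → ∃ A ≤ M, (∀ q : ℕ, q.Prime → q ∣ Nat.card A → n + 1 < q) ∧
      (∀ q : ℕ, q.Prime → n + 1 < q → q ∣ A.index → q ∣ M.index) ∧
      ∀ q : ℕ, q.Prime → n + 1 < q → ¬ q ∣ A.relIndex M := fun M hM => by
    obtain ⟨A, h1, h2⟩ := ih _ (hm ▸ Finite.card_subtype_lt (not_forall.1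
      (mt (eq_top_iff' M).2 hM)).choose_spec) (χ := res M χ) (charOn_of_isCharacter hχ M)
      (fun g hg => Subtype.ext (hf g hg)) rfl
    refine ⟨A.map M.subtype, map_subtype_le A, by rwa [card_map_of_injective M.subtype_injective],
      fun q hq h3 h4 => ?_, fun q hq h3 h4 => (h2 q hq ?_).not_gt h3⟩
    · rw [index_map_subtype] at h4
      exact (hq.dvd_mul.1 h4).resolve_left fun h => (h2 q hq h).not_gt h3
    · rwa [relIndex, subgroupOf, comap_map_eq_self_of_injective M.subtype_injective] at h4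
  have ab : ∀ A : Subgroup G, (∀ q : ℕ, q.Prime → q ∣ Nat.card A → n + 1 < q) →
      ∀ x ∈ A, ∀ y ∈ A, x * y = y * x := fun A h =>
    comm_of_large_primes hχ hf fun q hq hd => (Nat.lt_succ_self _).trans (h q hq hd)
  have abp : ∀ {p} [Fact p.Prime] {P : Subgroup G}, n + 1 < p → IsPGroup p P →
      ∀ x ∈ P, ∀ y ∈ P, x * y = y * x := fun {p} hp P h hP => ab P fun q hq hd => by
    obtain ⟨k, hk⟩ := IsPGroup.iff_card.1 hP
    rwa [(Nat.prime_dvd_prime_iff_eq hq hp.out).1 (hq.dvd_of_dvd_pow (hk ▸ hd))]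
  by_cases h1 : ∃ M : Subgroup G, M ≠ ⊤ ∧ ∀ q : ℕ, q.Prime → n + 1 < q → ¬ q ∣ M.index
  · obtain ⟨M, hM, h1⟩ := h1
    obtain ⟨A, -, h2, h3, -⟩ := IH M hM
    exact ⟨A, h2, fun q hq h => not_lt.1 fun h4 => h1 q hq h4 (h3 q hq h4 h)⟩
  have h2 : ∀ M : Subgroup G, (∀ q : ℕ, q.Prime → n + 1 < q → ¬ q ∣ M.index) → M = ⊤ :=
    fun M h => not_not.1 fun e => h1 ⟨M, e, h⟩
  by_cases hG : commutator G = ⊤
  · refine ⟨⊥, fun q hq h => (hq.one_lt.ne' (by simpa using h)).elim, fun p hp h => not_lt.1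
      fun h3 => ?_⟩
    rw [index_bot] at h
    have := Fact.mk hp
    have cen : ∀ {q} [Fact q.Prime], n + 1 < q → ∀ {y : G}, orderOf y = q →
        centralizer ({y} : Set G) ≠ ⊤ ∧ ¬ q ∣ (centralizer ({y} : Set G)).index :=
      fun {q} hq h4 y hy => by
        refine ⟨not_central_of_perfect hχ hf hG hq.out (by omega) hy, ?_⟩
        obtain ⟨Q, hQ, h5⟩ := Amalg.exists_syl_ge
          (Amalg.isPGroup_zpowers_of_orderOf (hy.trans (pow_one q).symm)) le_top
        refine fun h6 => hQ.not_dvd_index (h6.trans (index_dvd_of_le fun a ha => ?_))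
        exact mem_centralizer_singleton_iff.2 (abp h4 hQ.isPGroup a ha y (h5 (mem_zpowers y)))
    obtain ⟨P, hP⟩ := exists_syl p (⊤ : Subgroup G)
    obtain ⟨z, hz⟩ := exists_prime_orderOf_dvd_card' p (Amalg.dvd_card_of_isPGroup_ne_bot hP.isPGroup
      (hP.ne_bot (by rwa [card_top])))
    refine (cen h3 ((orderOf_coe z).trans hz)).1 (eq_top_iff.2 ((h2 (centralizer (P : Set G))
      fun q hq h4 h5 => ?_).ge.trans (centralizer_le (Set.singleton_subset_iff.2 z.2))))
    have := Fact.mk hq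
    obtain ⟨x, y, hx, hy, hxy⟩ := exists_commute_of_large_primes hχ hf hp hq h3 h4 h
      (h5.trans (index_dvd_card _))
    obtain ⟨A, a1, a2, a3, a4⟩ := IH _ (cen h4 hy).1
    obtain ⟨w, hw⟩ := exists_prime_orderOf_dvd_card' (G := A) p ((hp.dvd_mul.1 (by
      rw [card_mul_relIndex a1]
      exact hx ▸ orderOf_dvd_natCard _ (mem_centralizer_singleton_iff.2 hxy))).resolve_right
        (a4 p hp h3))
    obtain ⟨B, b1, b2, b3, -⟩ := IH _ (cen h3 ((orderOf_coe w).trans hw)).1
    have h6 : ¬ q ∣ B.index := fun h6 => (cen h4 hy).2 (a3 q hq h4 ((b3 q hq h4 h6).trans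
      (index_dvd_of_le fun a ha => mem_centralizer_singleton_iff.2 (ab A a2 a ha w w.2))))
    have h7 : ¬ p ∣ B.index := fun h6 => (cen h3 ((orderOf_coe w).trans hw)).2 (b3 p hp h3 h6)
    obtain ⟨T, hT⟩ := exists_syl p B
    obtain ⟨g, -, hg⟩ := (hT.of_le_of_not_dvd le_top (by rwa [relIndex_top_right])).exists_conj_le
      hP.isPGroup le_top
    refine h6 (h5.trans ((index_dvd_of_le (H := B.comap (MulAut.conj g).toMonoidHom)
      fun a ha => mem_centralizer_iff.2 fun b hb => ?_).trans (index_comap_of_surjective _ (MulAut.conj g).surjective).dvd))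
    have := ab B b2 _ (hT.le (hg (Amalg.conj_mem_cj g hb))) _ ha
    simpa using this
  · obtain ⟨N, hN, h3⟩ := (eq_top_or_exists_le_coatom (commutator G)).resolve_left hG
    have := Normal.of_commutator_le G h3
    have hr := Core.prime_index_of_isCoatom_of_normal hN
    have := Fact.mk hr
    obtain ⟨A, a1, a2, a3, a4⟩ := IH N hN.1
    have hr' : n + 1 < N.index := not_le.1 fun h => hN.1 (h2 N fun q hq h4 h5 =>
      h4.not_ge ((Nat.le_of_dvd hr.pos h5).trans h))
    have hA : A ≤ A.normalCore := le_of_forall_sylowIn fun p hp hd => by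
      obtain ⟨P, hP⟩ := exists_syl p A
      have h5 := (hP.of_le_of_not_dvd a1 (a4 p hp.out (a2 p hp.out hd))).frattini le_top
        (normalizer_eq_top N).ge
      rw [top_inf_eq] at h5
      have : P.Normal := normalizer_eq_top_iff.1 (h2 _ fun q hq h6 h7 => a4 q hq h6 (by
        rw [← Hall.relIndex_eq_index_of_factor (Hall.factor_of_sup_eq_top' h5)] at h7
        exact h7.trans (relIndex_dvd_of_le_left N fun a ha => centralizer_le_normalizer _
          fun b hb => ab A a2 b (hP.le hb) a ha)))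
      exact ⟨P, ⟨hP.le, hP.isPGroup, hP.not_dvd_relIndex⟩, normal_le_normalCore.2 hP.le⟩
    have : A.Normal := le_antisymm (normalCore_le A) hA ▸ A.normalCore_normal
    obtain ⟨R, hR⟩ := exists_syl N.index (⊤ : Subgroup G)
    refine ⟨A ⊔ R, fun q hq h => ?_, fun q hq h => not_lt.1 fun h4 => ?_⟩
    · rw [← card_mul_relIndex (le_sup_left : A ≤ A ⊔ R), relIndex_sup_left] at h
      refine (hq.dvd_mul.1 h).elim (a2 q hq) fun h => ?_
      obtain ⟨k, hk⟩ := IsPGroup.iff_card.1 hR.isPGroup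
      rwa [(Nat.prime_dvd_prime_iff_eq hq hr).1 (hq.dvd_of_dvd_pow
        (hk ▸ h.trans (relIndex_dvd_card A R)))]
    · have := (Nat.prime_dvd_prime_iff_eq hq hr).1
        (a3 q hq h4 (h.trans (index_dvd_of_le le_sup_left)))
      subst this
      exact hR.not_dvd_index (h.trans (index_dvd_of_le le_sup_right))

omit [Finite G] in
theorem index_normalCore_dvd (H : Subgroup G) [H.FiniteIndex] :
    H.normalCore.index ∣ H.index.factorial := by
  rw [normalCore_eq_ker, index_ker, index_eq_card, ← Nat.card_perm]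
  exact card_subgroup_dvd_card _

theorem exists_normal_index_dvd_factorial [Group.IsNilpotent G] (hχ : IsCharacter G χ) :
    ∃ B : Subgroup G, B.Normal ∧ B.index ∣ (charDegree χ).factorial ∧ Triv ⁅B, B⁆ χ := by
  refine hχ.induction_on ⟨⊤, inferInstance, by simp, fun _ _ => rfl⟩ (fun ψ hψ => ?_)
    fun φ ψ hφ hψ ⟨A, a1, a2, a3⟩ ⟨B, b1, b2, b3⟩ => ⟨A ⊓ B, inferInstance, ?_, fun x hx => ?_⟩
  · obtain ⟨H, -, lam, h1, h2⟩ := (irrOn_top.2 hψ).exists_lin_of_nilpotent
    rw [cut_top] at h2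
    subst h2
    refine ⟨H.normalCore, inferInstance, ?_, Triv.ind ((h1.irrOn.linOn_iff.1 h1).mono
      (commutator_mono (normalCore_le H) (normalCore_le H)))
      ((Subgroup.commutator_le_self _).trans (normalCore_le H)) (nrm_of_normal _ _)⟩
    rw [h1.charOn.deg_ind le_top, h1.deg, mul_one, relIndex_top_right]
    exact index_normalCore_dvd H
  · rw [charDegree_of_eq (n := charDegree φ + charDegree ψ) (by
      rw [Pi.add_apply, (charOn_top.2 hφ).one_eq, (charOn_top.2 hψ).one_eq, Nat.cast_add]),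
      Hall.index_inf_eq]
    exact (mul_dvd_mul ((relIndex_dvd_index_of_normal A B).trans a2) b2).trans
      (Nat.factorial_mul_factorial_dvd_factorial_add _ _)
  · rw [Pi.add_apply, Pi.add_apply, a3 x (commutator_mono inf_le_left inf_le_left hx),
      b3 x (commutator_mono inf_le_right inf_le_right hx)]

theorem prod_pow_factorization_of_le {d m : ℕ} (hd : d ≠ 0) (h : ∀ q : ℕ, q.Prime → q ∣ d → q ≤ m) :
    ∏ q ∈ (m + 1).primesBelow, q ^ d.factorization q = d := by
  conv_rhs => rw [← Nat.prod_factorization_pow_eq_self hd]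
  refine (Finsupp.prod_of_support_subset _ (fun q hq => ?_) _ fun _ _ => pow_zero _).symm
  have := Nat.mem_primeFactors.1 hq
  exact Nat.mem_primesBelow.2 ⟨Nat.lt_succ_of_le (h q this.1 this.2.1), this.1⟩

/-- **Jordan's theorem** with an explicit bound. -/
theorem exists_jordan_index (hχ : IsCharacter G χ) (hf : ∀ g : G, χ g = χ 1 → g = 1) :
    ∃ A : Subgroup G, A.Normal ∧ (∀ x ∈ A, ∀ y ∈ A, x * y = y * x) ∧ A.index ≤
      (charDegree χ).factorial * 12 ^ (charDegree χ * (Nat.primeCounting (charDegree χ + 1) + 1)) := by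
  obtain ⟨A, a1, a2, a3⟩ := exists_jordan hχ hf
  obtain ⟨H, h1, h2⟩ := exists_hall_large_primes hχ hf
  set n := charDegree χ
  refine ⟨A, a1, a2, ?_⟩
  have h3 := a3 H (comm_of_large_primes hχ hf fun q hq hd => (Nat.lt_succ_self _).trans (h1 q hq hd))
  have h4 : ∀ p ∈ (n + 1 + 1).primesBelow, p ^ (H ⊔ A).index.factorization p ≤
      12 ^ n * p ^ n.factorial.factorization p := fun p hp => by
    have hp := Fact.mk (Nat.prime_of_mem_primesBelow hp)
    obtain ⟨P, hP⟩ := exists_syl p (⊤ : Subgroup G)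
    have := hP.isPGroup.isNilpotent
    obtain ⟨B, -, b2, b3⟩ := exists_normal_index_dvd_factorial (charOn_of_isCharacter hχ P)
    have b4 := a3 (B.map P.subtype) (by
      rintro _ ⟨x, hx, rfl⟩ _ ⟨y, hy, rfl⟩
      have := hf _ (b3 _ (commutator_mem_commutator hx hy))
      rw [← commutatorElement_eq_one_iff_mul_comm, ← map_commutatorElement]
      exact this)
    obtain ⟨k, hk⟩ := hP.isPGroup.index B
    have b5 : B.index ≤ p ^ n.factorial.factorization p := Nat.le_of_dvd (pow_pos hp.out.pos _) (by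
      rw [hk] at b2 ⊢
      exact pow_dvd_pow p ((hp.out.pow_dvd_iff_le_factorization (Nat.factorial_ne_zero _)).1 b2))
    refine le_trans (Nat.le_of_dvd (Nat.pos_of_ne_zero (Nat.mul_ne_zero (relIndex_ne_zero _ _)
      Subgroup.index_ne_zero_of_finite)) ?_) (Nat.mul_le_mul b4 b5)
    have b6 : A.relIndex P ∣ A.relIndex (B.map P.subtype) * B.index := by
      have := relIndex_inf_mul_relIndex A (B.map P.subtype) P
      rw [inf_eq_left.2 (map_subtype_le B), show (B.map P.subtype).relIndex P = B.index from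
        congrArg index (comap_map_eq_self_of_injective P.subtype_injective B)] at this
      exact this ▸ relIndex_dvd_of_le_left P inf_le_left
    refine Dvd.dvd.trans ?_ b6
    refine (Nat.Coprime.pow_left _ (hp.out.coprime_iff_not_dvd.2 fun h => hP.not_dvd_index
      (h.trans (index_dvd_of_le (le_sup_left : P ≤ P ⊔ A))))).dvd_of_dvd_mul_right ?_
    rw [← relIndex_sup_right, relIndex_mul_index le_sup_right]
    exact (Nat.ordProj_dvd _ _).trans (index_dvd_of_le le_sup_right)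
  rw [← relIndex_mul_index (le_sup_right : A ≤ H ⊔ A), relIndex_sup_right,
    ← prod_pow_factorization_of_le (d := (H ⊔ A).index) Subgroup.index_ne_zero_of_finite
      fun q hq h => h2 q hq (h.trans (index_dvd_of_le le_sup_left))]
  refine (Nat.mul_le_mul h3 (Finset.prod_le_prod' h4)).trans_eq ?_
  rw [Finset.prod_mul_distrib, Finset.prod_const, Nat.primesBelow_card_eq_primeCounting',
    prod_pow_factorization_of_le (Nat.factorial_ne_zero n) fun q hq h =>
      (hq.dvd_factorial.1 h).trans (Nat.le_succ n), Nat.primeCounting]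
  ring

end Cfsg.Lib.Coprime
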