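/-
The Glauberman correspondence relative to a normal Sylow subgroup.
-/
import Cfsg.Agent.Lib.Coprime.Glaub3

set_option autoImplicit false

namespace Cfsg.Lib.Coprime

open Cfsg Cfsg.Lib.Char Cfsg.Lib.Clifford Finset Subgroup
open Set (BijOn InjOn)
open scoped ComplexConjugate Classical

/-- A matrix of multiplicities that is a signed permutation matrix modulo `p`. -/
structure Match {α β : Type*} (p : ℕ) (A : Set α) (B : Set β) (m : α → β → ℕ) : Prop where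
  ex : ∀ a ∈ A, ∃ b ∈ B, ((m a b : ZMod p) = 1 ∨ (m a b : ZMod p) = -1) ∧
    ∀ c ∈ B, c ≠ b → p ∣ m a c
  inj : ∀ a ∈ A, ∀ a' ∈ A, ∀ b ∈ B, ¬ p ∣ m a b → ¬ p ∣ m a' b → a = a'
  surj : ∀ b ∈ B, ∃ a ∈ A, ¬ p ∣ m a b

section Match
variable {α β α' β' : Type*} {p : ℕ} {A : Set α} {B : Set β} {m : α → β → ℕ} {A' : Set α'}
  {B' : Set β'} {m' : α' → β' → ℕ} {f : α → α'} {g : β → β'}

theorem Match.push (h : Match p A B m) (hf : BijOn f A A') (hg : BijOn g B B')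
    (e : ∀ a ∈ A, ∀ b ∈ B, m' (f a) (g b) = m a b) : Match p A' B' m' where
  ex a' ha' := by
    obtain ⟨a, ha, rfl⟩ := hf.surjOn ha'
    obtain ⟨b, hb, h1, h2⟩ := h.ex a ha
    refine ⟨g b, hg.mapsTo hb, by rwa [e a ha b hb], fun c' hc' hne => ?_⟩
    obtain ⟨c, hc, rfl⟩ := hg.surjOn hc'
    rw [e a ha c hc]
    exact h2 c hc fun e => hne (e ▸ rfl)
  inj a₁ h₁ a₂ h₂ b' hb' := by
    obtain ⟨a, ha, rfl⟩ := hf.surjOn h₁
    obtain ⟨a', ha', rfl⟩ := hf.surjOn h₂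
    obtain ⟨b, hb, rfl⟩ := hg.surjOn hb'
    rw [e a ha b hb, e a' ha' b hb]
    exact fun h1 h2 => by rw [h.inj a ha a' ha' b hb h1 h2]
  surj b' hb' := by
    obtain ⟨b, hb, rfl⟩ := hg.surjOn hb'
    obtain ⟨a, ha, h1⟩ := h.surj b hb
    exact ⟨f a, hf.mapsTo ha, by rwa [e a ha b hb]⟩

theorem Match.pull (h : Match p A' B' m') (hf : BijOn f A A') (hg : BijOn g B B')
    (e : ∀ a ∈ A, ∀ b ∈ B, m' (f a) (g b) = m a b) : Match p A B m where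
  ex a ha := by
    obtain ⟨b', hb', h1, h2⟩ := h.ex _ (hf.mapsTo ha)
    obtain ⟨b, hb, rfl⟩ := hg.surjOn hb'
    refine ⟨b, hb, by rwa [← e a ha b hb], fun c hc hne => ?_⟩
    rw [← e a ha c hc]
    exact h2 _ (hg.mapsTo hc) fun e => hne (hg.injOn hc hb e)
  inj a ha a' ha' b hb h1 h2 := hf.injOn ha ha' (h.inj _ (hf.mapsTo ha) _ (hf.mapsTo ha') _
    (hg.mapsTo hb) (by rwa [e a ha b hb]) (by rwa [e a' ha' b hb]))
  surj b hb := by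
    obtain ⟨a', ha', h1⟩ := h.surj _ (hg.mapsTo hb)
    obtain ⟨a, ha, rfl⟩ := hf.surjOn ha'
    exact ⟨a, ha, by rwa [← e a ha b hb]⟩

theorem Match.exists_bijective [Fact p.Prime] (h : Match p A B m) : ∃ f : A → B,
    Function.Bijective f ∧ ∀ a : A, ((m a (f a) : ZMod p) = 1 ∨ (m a (f a) : ZMod p) = -1) ∧
      ∀ c ∈ B, c ≠ f a → p ∣ m a c := by
  choose F h1 h2 h3 using h.ex
  refine ⟨fun a => ⟨F a a.2, h1 a a.2⟩, ⟨fun a a' e => Subtype.ext (h.inj a a.2 a' a'.2 _ (h1 a a.2)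
    (not_dvd_of_sign (h2 a a.2)) ?_), fun b => ?_⟩, fun a => ⟨h2 a a.2, h3 a a.2⟩⟩
  · rw [show F a a.2 = F a' a'.2 from Subtype.ext_iff.1 e]
    exact not_dvd_of_sign (h2 a' a'.2)
  · obtain ⟨a, ha, h4⟩ := h.surj b b.2
    exact ⟨⟨a, ha⟩, Subtype.ext (not_not.1 fun e => h4 (h3 a ha b b.2 (Ne.symm e)))⟩

end Match

variable {Γ : Type*} [Group Γ] [Finite Γ] {G S C K L N H P Q T U D M : Subgroup Γ}
  {χ χ' ψ φ β γ θ η η' ξ : Γ → ℂ} {p : ℕ}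

theorem Glaub.toMatch (h : Glaub p G S C) (hC : S ≤ centralizer (C : Set Γ)) :
    Match p (IrrInv S G : Set (Γ → ℂ)) (IrrInv S C : Set (Γ → ℂ)) (mult C) := by
  rw [IrrInv_of_le_centralizer hC]
  exact ⟨fun χ hχ => h.ex χ (irrOn_of_mem (mem_IrrInv.1 hχ).1) (mem_IrrInv.1 hχ).2,
    fun χ hχ χ' hχ' β hβ => h.inj χ (mem_IrrInv.1 hχ).1 χ' (mem_IrrInv.1 hχ').1 (mem_IrrInv.1 hχ).2
      (mem_IrrInv.1 hχ').2 β hβ, fun β hβ => by
        obtain ⟨χ, h1, h2, h3⟩ := h.surj β hβ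
        exact ⟨χ, mem_IrrInv.2 ⟨h1, h2⟩, h3⟩⟩

theorem bijOn_invOn {A B : Finset (Γ → ℂ)} {f : (Γ → ℂ) → Γ → ℂ} (hA : A ⊆ Irr T) (hB : B ⊆ Irr K)
    (hT : Nrm S T) (hK : Nrm S K) (hi : InjOn f A) (e : B = A.image f)
    (h : ∀ s ∈ S, ∀ φ ∈ A, cj s φ ∈ A ∧ f (cj s φ) = cj s (f φ)) :
    BijOn f {φ | φ ∈ A ∧ InvOn S T φ} {φ | φ ∈ B ∧ InvOn S K φ} := by
  subst e
  refine ⟨fun φ hφ => ⟨mem_image_of_mem f hφ.1, fun s hs x _ => ?_⟩,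
    hi.mono fun φ hφ => hφ.1, ?_⟩
  · rw [← cj_apply s (f φ), ← (h s hs φ hφ.1).2, cj_eq_of_invOn hT (hA hφ.1) hφ.2 hs]
  · rintro _ ⟨h1, h2⟩
    obtain ⟨φ, hφ, rfl⟩ := Finset.mem_image.1 h1
    refine ⟨φ, ⟨hφ, fun s hs x _ => ?_⟩, rfl⟩
    rw [← cj_apply s φ, hi (h s hs φ hφ).1 hφ
      ((h s hs φ hφ).2.trans (cj_eq_of_invOn hK (hB h1) h2 hs))]

theorem bijOn_comp {Δ : Type*} [Group Δ] [Finite Δ] (f : Δ →* Γ) {L S : Subgroup Δ}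
    (hS : Nrm S L) : BijOn (fun φ => cut L (φ ∘ f)) (IrrInv (S.map f) (L.map f) : Set (Γ → ℂ))
      {η | η ∈ IrrKer L (L ⊓ f.ker) ∧ InvOn S L η} := by
  refine ⟨fun φ hφ => ?_, fun φ hφ ψ hψ e => ?_, fun η hη => ?_⟩
  · obtain ⟨h1, h2⟩ := mem_IrrInv.1 hφ
    exact ⟨mem_IrrKer.2 ⟨(irrOn_of_mem h1).comp.cut_mem, (triv_cut inf_le_left).2 (triv_comp f L φ)⟩,
      (h2.comp f (fun x hx => mem_map_of_mem f hx) fun x hx => mem_map_of_mem f hx).cut' hS _⟩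
  · refine eq_of_mem_Irr (mem_IrrInv.1 hφ).1 (mem_IrrInv.1 hψ).1 ?_
    rintro _ ⟨x, hx, rfl⟩
    exact (cut_of_mem _ hx).symm.trans ((congrFun e x).trans (cut_of_mem _ hx))
  · obtain ⟨h1, h2⟩ := mem_IrrKer.1 hη.1
    obtain ⟨φ, h3, h4⟩ := (irrOn_of_mem h1).exists_comp f h2
    refine ⟨φ, mem_IrrInv.2 ⟨h3, ?_⟩, (cut_congr h4).symm.trans (cut_of_mem_Irr h1)⟩
    rintro _ ⟨s, hs, rfl⟩ _ ⟨x, hx, rfl⟩
    rw [← map_inv, ← map_mul, ← map_mul, ← h4 x hx, ← h4 _ (hS s hs x hx), hη.2 s hs x hx]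

theorem mult_comp {Δ : Type*} [Group Δ] [Finite Δ] (f : Δ →* Γ) {L C : Subgroup Δ} (hCL : C ≤ L)
    (φ ψ : Γ → ℂ) : mult C (cut L (φ ∘ f)) (cut C (ψ ∘ f)) = mult (C.map f) φ ψ := by
  unfold mult
  rw [dot_cut_right, dot_congr_left (fun x hx => cut_of_mem _ (hCL hx)), dot_comp]

theorem dot_mul_ext' (hND : N ≤ D) (hN : Nrm D N) (hη : CharOn D η) (hηN : IrrOn N η)
    (hβ : CharOn D β) (hγ : IrrOn D γ) (ht : Triv N β) (ht' : Triv N γ) :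
    dot D (β * η) (γ * η) = dot D β γ := by
  rw [hβ.classOn.dot_eq_sum γ, dot_congr_left (φ' := ∑ δ ∈ Irr D, dot D β δ • (δ * η))
    (fun x hx => by
      rw [Pi.mul_apply, hβ.classOn.eq_sum hx, Finset.sum_apply, sum_mul]
      exact sum_congr rfl fun δ _ => by simp [mul_assoc]), dot_sum_left]
  refine sum_congr rfl fun δ hδ => ?_
  rw [dot_smul_left]
  by_cases h : dot D β δ = 0
  · rw [h, zero_mul, zero_mul]
  · rw [dot_mul_ext hND hN hη hηN (irrOn_of_mem hδ) hγ (ht.of_dot hβ hND (irrOn_of_mem hδ) h) ht']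

theorem mult_ind_inertia (hNC : N ≤ C) (hCK : C ≤ K) (hN : Nrm K N) (hθ : IrrOn N θ)
    (hψ : ψ ∈ IrrOver (inertia K N θ) N θ) (hξ : ξ ∈ IrrOver (inertia C N θ) N θ) :
    mult C (ind (inertia K N θ) K ψ) (ind (inertia C N θ) C ξ) = mult (inertia C N θ) ψ ξ := by
  have hNK := hNC.trans hCK
  obtain ⟨h1, h2⟩ := mem_IrrOver.1 hψ
  obtain ⟨h3, h4⟩ := mem_IrrOver.1 hξ
  have h5 := irrOn_ind_inertia hNK hN hθ (irrOn_of_mem h1) h2
  have hle : inertia C N θ ≤ inertia K N θ := (inertia_of_le hCK).le.trans inf_le_left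
  have h6 : dot (inertia K N θ) (ind (inertia K N θ) K ψ) ψ = 1 := by
    rw [← dot_ind_right inertia_le h5.classOn, h5.dot_self]
  have : mult C (ind (inertia K N θ) K ψ) (ind (inertia C N θ) C ξ) =
      mult (inertia C N θ) (ind (inertia K N θ) K ψ) ξ := by
    unfold mult
    rw [dot_ind_right inertia_le (h5.classOn.mono' hCK)]
  rw [this, mult_trans (h5.charOn.mono inertia_le) hle (irrOn_of_mem h3).charOn,
    sum_eq_single_of_mem ψ h1 fun φ hφ hne => ?_, mult_of_eq (n := 1) (by simpa using h6), one_mul]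
  by_contra h0
  obtain ⟨a, b⟩ := mul_ne_zero_iff.1 h0
  have hφ' := irrOn_of_mem hφ
  exact hne (eq_of_mem_Irr hφ h1 (eq_of_dot_inertia hNK hN hθ h5 hφ' (irrOn_of_mem h1)
    (CharOn.dot_ne_zero_trans (le_inertia hNC (hN.mono hCK) hθ.classOn) (hφ'.charOn.mono hle)
      (irrOn_of_mem h3) hθ.charOn
      (((hφ'.charOn.mono hle).mult_ne_zero (irrOn_of_mem h3).charOn).1 b) h4) h2
    (((h5.charOn.mono inertia_le).mult_ne_zero hφ'.charOn).1 a) (by rw [h6]; simp)))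

theorem Canon.invOn (h : Canon N T η) (hNT : N ≤ T) (hN : Nrm T N)
    (hc : (N.relIndex T).Coprime (Nat.card N)) (hST : Nrm S T) (hSN : Nrm S N)
    (hi : InvOn S N η) : InvOn S T η := fun s hs =>
  h.unique (η' := cj s η) ⟨h.charOn.cj hST hs, h.irr.cj hSN hs, ordOn_dvd_iff.2 fun x hx => by
    rw [h.charOn.detOn_cj hST hs hx]
    exact ordOn_dvd_iff.1 h.det _ (hST s hs x hx)⟩ hNT hN hc (hi s hs)

theorem cj_mem_IrrOver (hST : Nrm S T) (hSN : Nrm S N) (hi : InvOn S N θ)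
    (hφ : φ ∈ IrrOver T N θ) {s : Γ} (hs : s ∈ S) : cj s φ ∈ IrrOver T N θ :=
  mem_IrrOver.2 ⟨cj_mem_Irr hST (mem_IrrOver.1 hφ).1 hs, by
    rw [← dot_congr_right (ψ := cj s θ) _ (hi s hs), dot_cj hSN hs]
    exact (mem_IrrOver.1 hφ).2⟩

theorem bijOn_ind_inertia (hNK : N ≤ K) (hN : Nrm K N) (hSK : Nrm S K) (hSN : Nrm S N)
    (hθ : IrrOn N θ) (hi : InvOn S N θ) : BijOn (ind (inertia K N θ) K)
      {φ | φ ∈ IrrOver (inertia K N θ) N θ ∧ InvOn S (inertia K N θ) φ}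
      {φ | φ ∈ IrrOver K N θ ∧ InvOn S K φ} :=
  have hST := nrm_inertia hSK hSN hN hi
  bijOn_invOn IrrOver_subset IrrOver_subset hST hSK (ind_inertia_injOn hNK hN hθ)
    (IrrOver_eq_image hNK hN hθ) fun _ hs φ hφ =>
      ⟨cj_mem_IrrOver hST hSN hi hφ hs, (cj_ind hST hSK hs φ).symm⟩

theorem bijOn_mul_ext (hNK : N ≤ K) (hN : Nrm K N) (hSK : Nrm S K) (hSN : Nrm S N)
    (hη : CharOn K η) (hηN : IrrOn N η) (hi : ∀ s ∈ S, cj s η = η) : BijOn (· * η)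
      {φ | φ ∈ IrrKer K N ∧ InvOn S K φ} {φ | φ ∈ IrrOver K N η ∧ InvOn S K φ} :=
  bijOn_invOn IrrKer_subset IrrOver_subset hSK hSK (mul_ext_injOn hNK hN hη hηN)
    (IrrOver_ext hNK hN hη hηN) fun s hs φ hφ =>
      ⟨mem_IrrKer.2 ⟨cj_mem_Irr hSK (mem_IrrKer.1 hφ).1 hs, fun n hn => by
        rw [cj_at_one, cj_apply, (mem_IrrKer.1 hφ).2 _ (hSN s hs n hn)]⟩,
      funext fun x => by
        rw [Pi.mul_apply, ← congrFun (hi s hs) x]; rfl⟩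

section Rel
variable [Q.Normal] (hC : ∀ k, k ∈ C ↔ k ∈ K ∧ ∀ x ∈ P, x * k * x⁻¹ * k⁻¹ ∈ Q)
include hC

omit [Finite Γ] in
theorem map_inf_fix (hQT : Q ≤ T) (hTK : T ≤ K) : (T ⊓ C).map (QuotientGroup.mk' Q) =
    T.map (QuotientGroup.mk' Q) ⊓ centralizer (P.map (QuotientGroup.mk' Q) : Set (Γ ⧸ Q)) := by
  have key : ∀ k x : Γ, x * k * x⁻¹ * k⁻¹ ∈ Q ↔
      QuotientGroup.mk' Q x * QuotientGroup.mk' Q k = QuotientGroup.mk' Q k * QuotientGroup.mk' Q x :=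
    fun k x => by
      rw [← QuotientGroup.eq_one_iff, ← commutatorElement_def, ← QuotientGroup.mk'_apply,
        map_commutatorElement, commutatorElement_eq_one_iff_mul_comm]
  refine le_antisymm ?_ ?_
  · rintro _ ⟨k, hk, rfl⟩
    refine ⟨mem_map_of_mem _ hk.1, ?_⟩
    rintro _ ⟨x, hx, rfl⟩
    exact (key k x).1 (((hC k).1 hk.2).2 x hx)
  · rintro _ ⟨⟨k, hk, rfl⟩, h⟩
    exact mem_map_of_mem _ ⟨hk, (hC k).2 ⟨hTK hk, fun x hx =>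
      (key k x).2 (h _ (mem_map_of_mem _ hx))⟩⟩

omit [Finite Γ] in
theorem le_fix (hQK : Q ≤ K) : Q ≤ C := fun k hk => (hC k).2 ⟨hQK hk, fun x _ =>
  mul_mem (nrm_of_normal ⊤ Q x trivial k hk) (inv_mem hk)⟩

omit [Finite Γ] in
theorem nrm_fix (hQK : Q ≤ K) : Nrm P C := fun x hx k hk => by
  simpa using mul_mem (le_fix hC hQK (((hC k).1 hk).2 x hx)) hk

theorem match_over [Fact p.Prime] (hP : IsPGroup p P) (hPK : Nrm P K) (hQK : Q ≤ K)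
    (hQ : IsPGroup p Q) (hc : ¬ p ∣ Q.relIndex K) (hθ : IrrOn Q θ) (hi : InvOn P Q θ) :
    Match p {φ | φ ∈ IrrOver K Q θ ∧ InvOn P K φ} {φ | φ ∈ IrrOver C Q θ ∧ InvOn P C φ}
      (mult C) := by
  have hCK : C ≤ K := fun k hk => ((hC k).1 hk).1
  have hQC := le_fix hC hQK
  have hPC := nrm_fix hC hQK
  have hQn := fun X => nrm_of_normal X Q
  refine Match.push (m := mult (inertia C Q θ)) ?_ (bijOn_ind_inertia hQK (hQn _) hPK (hQn _) hθ hi)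
    (bijOn_ind_inertia hQC (hQn _) hPC (hQn _) hθ hi) fun ψ hψ ξ hξ =>
      mult_ind_inertia hQC hCK (hQn _) hθ hψ.1 hξ.1
  rw [inertia_of_le hCK]
  set T := inertia K Q θ
  have hQT : Q ≤ T := le_inertia hQK (hQn _) hθ.classOn
  have hPT : Nrm P T := nrm_inertia hPK (hQn _) (hQn _) hi
  have hcT : ¬ p ∣ Q.relIndex T := fun h =>
    hc (h.trans (Dvd.intro _ (relIndex_mul_relIndex Q T K hQT inertia_le)))
  have hc' := coprime_card_of_isPGroup hQ ((Fact.out : p.Prime).coprime_iff_not_dvd.2 hcT).symm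
  obtain ⟨η, h1, h2, h3⟩ := exists_canon hQT (hQn _) hc' hθ (invOn_inertia (hQn _))
  have h4 := h2.invOn hQT (hQn _) hc' hPT (hQn _) (hi.congr (hQn _) fun x hx => (h3 x hx).symm)
  have h5 := fun s (hs : s ∈ P) => cj_eq_of_invOn hPT h1 h4 hs
  rw [← IrrOver_congr h3, ← IrrOver_congr h3]
  have hQD : Q ≤ T ⊓ C := le_inf hQT hQC
  refine Match.push (m := mult (T ⊓ C)) ?_ (bijOn_mul_ext hQT (hQn _) hPT (hQn _) h2.charOn h2.irr h5)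
    (bijOn_mul_ext hQD (hQn _) (hPT.inf hPC) (hQn _) (h2.charOn.mono inf_le_left) h2.irr h5)
    fun β hβ γ hγ => ?_
  · have h6 := ((glaub_pgroup (hP.map (QuotientGroup.mk' Q)) (G := T.map (QuotientGroup.mk' Q)) (by
      rintro _ ⟨s, hs, rfl⟩ _ ⟨x, hx, rfl⟩
      simpa using mem_map_of_mem (QuotientGroup.mk' Q) (hPT s hs x hx))
      (by rwa [PGrp.card_map_mk'])).toMatch (le_centralizer_iff.1 inf_le_right))
    rw [← map_inf_fix hC hQT inertia_le] at h6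
    have := h6.push (m' := mult (T ⊓ C)) (bijOn_comp _ hPT) (bijOn_comp _ (hPT.inf hPC))
      fun φ _ ψ _ => mult_comp _ inf_le_left φ ψ
    rwa [QuotientGroup.ker_mk', inf_eq_right.2 hQT, inf_eq_right.2 hQD] at this
  · obtain ⟨a1, a2⟩ := mem_IrrKer.1 hβ.1
    obtain ⟨b1, b2⟩ := mem_IrrKer.1 hγ.1
    unfold mult
    rw [dot_mul_ext' hQD (hQn _) (h2.charOn.mono inf_le_left) h2.irr
      ((irrOn_of_mem a1).charOn.mono inf_le_left) (irrOn_of_mem b1) a2 b2]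

theorem exists_fix_cj [Fact p.Prime] (hP : IsPGroup p P) (hPK : Nrm P K) (hQK : Q ≤ K)
    (hc : ¬ p ∣ Q.relIndex K) (hθ : θ ∈ Irr Q) (hi : InvOn P Q θ) {k : Γ} (hk : k ∈ K)
    (hi' : InvOn P Q (cj k θ)) : ∃ c ∈ C, cj c θ = cj k θ := by
  have hQn := fun X => nrm_of_normal X Q
  set T := inertia K Q θ
  have hQT : Q ≤ T := le_inertia hQK (hQn _) (irrOn_of_mem hθ).classOn
  have hPT : Nrm P T := nrm_inertia hPK (hQn _) (hQn _) hi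
  have hcT : ¬ p ∣ Q.relIndex T := fun h =>
    hc (h.trans (Dvd.intro _ (relIndex_mul_relIndex Q T K hQT inertia_le)))
  have hP' := hP.map (QuotientGroup.mk' Q)
  obtain ⟨_, ⟨t, ht, rfl⟩, h⟩ := exists_mul_mem_centralizer' (A := P.map (QuotientGroup.mk' Q))
    (S := T.map (QuotientGroup.mk' Q)) (Nrm.le_normalizer (by
      rintro _ ⟨s, hs, rfl⟩ _ ⟨x, hx, rfl⟩
      simpa using mem_map_of_mem (QuotientGroup.mk' Q) (hPT s hs x hx)))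
    (coprime_card_of_isPGroup hP' (by
      rw [PGrp.card_map_mk']; exact ((Fact.out : p.Prime).coprime_iff_not_dvd.2 hcT).symm)).symm
    (Or.inl (isSolvable_of_isPGroup hP')) (k := QuotientGroup.mk' Q k) (by
      rintro _ ⟨a, ha, rfl⟩
      rw [← map_inv, ← map_inv, ← map_mul, ← map_mul, ← map_mul]
      refine mem_map_of_mem _ (mem_inertia'.2 ⟨mul_mem (hPK a ha k hk) (inv_mem hk), ?_⟩)
      rw [cut_of_mem_Irr hθ, ← cj_cj, ← cj_cj, ← cj_cj, cj_eq_of_invOn (hQn _) hθ hi ha,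
        cj_eq_of_invOn (hQn _) (cj_mem_Irr (hQn K) hθ hk) hi' (inv_mem ha), cj_cj, mul_inv_cancel,
        cj_one])
  have hm := mul_mem (inertia_le ht) hk
  obtain ⟨c, hc, e⟩ := (map_inf_fix hC hQK le_rfl).ge 
    ⟨mem_map_of_mem _ hm, map_mul (QuotientGroup.mk' Q) t k ▸ h⟩
  obtain ⟨q, hq, rfl⟩ := (QuotientGroup.mk'_eq_mk' Q).1 e.symm
  refine ⟨t * k, (mul_mem_cancel_right (le_fix hC hQK hq)).1 hc.2, ?_⟩
  have := (mem_inertia'.1 ht).2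
  rw [cut_of_mem_Irr hθ] at this
  rw [← cj_cj, this]

theorem match_fix [hp : Fact p.Prime] (hP : IsPGroup p P) (hPK : Nrm P K) (hQK : Q ≤ K)
    (hQ : IsPGroup p Q) (hc : ¬ p ∣ Q.relIndex K) :
    Match p (IrrInv P K : Set (Γ → ℂ)) (IrrInv P C : Set (Γ → ℂ)) (mult C) := by
  have hCK : C ≤ K := fun k hk => ((hC k).1 hk).1
  have hQC := le_fix hC hQK
  have hPC := nrm_fix hC hQK
  have hQn := fun X => nrm_of_normal X Q
  have hcC : ¬ p ∣ Q.relIndex C := fun h =>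
    hc (h.trans (Dvd.intro _ (relIndex_mul_relIndex Q C K hQC hCK)))
  have hs := isSolvable_of_isPGroup hP
  have under : ∀ χ ∈ IrrInv P K, ∀ β ∈ IrrInv P C, mult C χ β ≠ 0 → ∀ θ ∈ Irr Q, dot Q β θ ≠ 0 →
      dot Q χ θ ≠ 0 := fun χ hχ β hβ h θ hθ h' =>
    have a := (irrOn_of_mem (mem_IrrInv.1 hχ).1).charOn.mono hCK
    have b := irrOn_of_mem (mem_IrrInv.1 hβ).1
    CharOn.dot_ne_zero_trans hQC a b (irrOn_of_mem hθ).charOn ((a.mult_ne_zero b.charOn).1 h) h'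
  have exC : ∀ β ∈ IrrInv P C, ∃ θ ∈ Irr Q, dot Q β θ ≠ 0 ∧ InvOn P Q θ := fun β hβ =>
    exists_invOn_under hPC (hQn _) hQC (hQn _) (coprime_card_of_isPGroup hP
      (hp.out.coprime_iff_not_dvd.2 hcC).symm) (Or.inl hs) (irrOn_of_mem (mem_IrrInv.1 hβ).1)
      (mem_IrrInv.1 hβ).2
  have mo := fun θ (hθ : θ ∈ Irr Q) => match_over hC hP hPK hQK hQ hc (irrOn_of_mem hθ)
  refine ⟨fun χ hχ => ?_, fun χ hχ χ' hχ' β hβ h1 h2 => ?_, fun β hβ => ?_⟩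
  · obtain ⟨a1, a2⟩ := mem_IrrInv.1 hχ
    obtain ⟨θ, hθ, h1, h2⟩ := exists_invOn_under hPK (hQn _) hQK (hQn _) (coprime_card_of_isPGroup hP
      (hp.out.coprime_iff_not_dvd.2 hc).symm) (Or.inl hs) (irrOn_of_mem a1) a2
    obtain ⟨β, hβ, h3, h4⟩ := (mo θ hθ h2).ex χ ⟨mem_IrrOver.2 ⟨a1, h1⟩, a2⟩
    refine ⟨β, mem_IrrInv.2 ⟨(mem_IrrOver.1 hβ.1).1, hβ.2⟩, h3, fun γ hγ hne => ?_⟩
    by_cases h0 : mult C χ γ = 0
    · rw [h0]; exact dvd_zero p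
    obtain ⟨b1, b2⟩ := mem_IrrInv.1 hγ
    refine h4 γ ⟨mem_IrrOver.2 ⟨b1, ?_⟩, b2⟩ hne
    obtain ⟨θ', hθ', h5, h6⟩ := exC γ hγ
    obtain ⟨k, hk, e⟩ := mem_orb.1 (mem_orb_of_dot hQK (hQn _) (irrOn_of_mem a1) (irrOn_of_mem hθ)
      (irrOn_of_mem hθ') h1 (under χ hχ γ hγ h0 θ' hθ' h5))
    rw [cut_of_mem_Irr hθ, cut_of_mem_Irr hθ'] at e
    subst e
    obtain ⟨c, hc', e⟩ := exists_fix_cj hC hP hPK hQK hc hθ h2 hk h6
    rwa [← e, dot_cj_right hQC (hQn _) (irrOn_of_mem b1).classOn hc'] at h5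
  · obtain ⟨θ, hθ, h3, h4⟩ := exC β hβ
    exact (mo θ hθ h4).inj χ ⟨mem_IrrOver.2 ⟨(mem_IrrInv.1 hχ).1, under χ hχ β hβ
      (fun e => h1 (e ▸ dvd_zero p)) θ hθ h3⟩, (mem_IrrInv.1 hχ).2⟩ χ'
      ⟨mem_IrrOver.2 ⟨(mem_IrrInv.1 hχ').1, under χ' hχ' β hβ
      (fun e => h2 (e ▸ dvd_zero p)) θ hθ h3⟩, (mem_IrrInv.1 hχ').2⟩ β
      ⟨mem_IrrOver.2 ⟨(mem_IrrInv.1 hβ).1, h3⟩, (mem_IrrInv.1 hβ).2⟩ h1 h2
  · obtain ⟨θ, hθ, h3, h4⟩ := exC β hβ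
    obtain ⟨χ, hχ, h5⟩ := (mo θ hθ h4).surj β
      ⟨mem_IrrOver.2 ⟨(mem_IrrInv.1 hβ).1, h3⟩, (mem_IrrInv.1 hβ).2⟩
    exact ⟨χ, mem_IrrInv.2 ⟨(mem_IrrOver.1 hχ.1).1, hχ.2⟩, h5⟩

end Rel

/-- The Glauberman correspondence relative to a normal Sylow subgroup `Q`. -/
theorem match_fix' [hp : Fact p.Prime] (hP : IsPGroup p P) (hPK : Nrm P K) (hQK : Q ≤ K)
    (hKQ : Nrm K Q) (hPQ : Nrm P Q) (hQ : IsPGroup p Q) (hc : ¬ p ∣ Q.relIndex K)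
    (hC : ∀ k, k ∈ C ↔ k ∈ K ∧ ∀ x ∈ P, x * k * x⁻¹ * k⁻¹ ∈ Q) :
    Match p (IrrInv P K : Set (Γ → ℂ)) (IrrInv P C : Set (Γ → ℂ)) (mult C) := by
  set D := normalizer (Q : Set Γ)
  have hKD : K ≤ D := hKQ.le_normalizer
  have hPD : P ≤ D := hPQ.le_normalizer
  have hCK : C ≤ K := fun k hk => ((hC k).1 hk).1
  have hC' : ∀ k : D, k ∈ C.subgroupOf D ↔ k ∈ K.subgroupOf D ∧ ∀ x ∈ P.subgroupOf D,
      x * k * x⁻¹ * k⁻¹ ∈ Q.subgroupOf D := fun k => (hC k).trans (and_congr_right fun _ =>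
    ⟨fun h x hx => h x hx, fun h x hx => h ⟨x, hPD hx⟩ hx⟩)
  have hPK' : Nrm (P.subgroupOf D) (K.subgroupOf D) := fun s hs x hx => hPK s hs x hx
  have h1 := match_fix hC' (hP.comap_subtype) hPK' (fun x hx => hQK hx) hQ.comap_subtype
    (by rwa [relIndex_subgroupOf hKD])
  have key : ∀ {L : Subgroup Γ}, L ≤ D → Nrm (P.subgroupOf D) (L.subgroupOf D) →
      BijOn (fun φ => cut (L.subgroupOf D) (φ ∘ D.subtype))
      (IrrInv P L : Set (Γ → ℂ)) (IrrInv (P.subgroupOf D) (L.subgroupOf D) : Set (D → ℂ)) :=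
    fun {L} hL hn => by
      have := bijOn_comp D.subtype hn
      rw [map_subtype_subgroupOf hL, map_subtype_subgroupOf hPD, ker_subtype, inf_bot_eq] at this
      convert this using 1
      ext η
      exact mem_IrrInv.trans (and_congr_left fun _ =>
        (mem_IrrKer.trans (and_iff_left (triv_bot η))).symm)
  refine h1.pull (key hKD hPK') (key (hCK.trans hKD) (nrm_fix hC' fun x hx => hQK hx))
    fun φ _ ψ _ => ?_
  rw [mult_comp (L := K.subgroupOf D) _ (fun x hx => hCK hx), map_subtype_subgroupOf (hCK.trans hKD)]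

end Cfsg.Lib.Coprime
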