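/-
The odd multiplicity correspondence of Isaacs for an abelian section of a group of odd order.
-/
import Cfsg.Agent.Lib.Coprime.Glaub4
import Cfsg.Agent.Lib.Coprime.Action
import Cfsg.Agent.Lib.Clifford.Mono

set_option autoImplicit false

namespace Cfsg.Lib.Coprime

open Cfsg Cfsg.Lib.Char Cfsg.Lib.Clifford Finset Subgroup Cfsg.Lib.BG1
open Set (BijOn InjOn)
open scoped ComplexConjugate Classical commutatorElement

variable {Γ : Type*} [Group Γ] [Finite Γ] {G S C K L N H P R T U D M A X : Subgroup Γ}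
  {χ χ' ψ φ β γ δ θ θ' η η' ξ ν : Γ → ℂ} {p : ℕ}

/-- The `U`-invariant irreducible characters of `X` over `θ`. -/
abbrev OvInv (U X N : Subgroup Γ) (θ : Γ → ℂ) : Set (Γ → ℂ) :=
  {φ | φ ∈ IrrOver X N θ ∧ InvOn U X φ}

/-- Restriction to `D` gives a correspondence modulo `p` of invariant characters over `θ`. -/
abbrev MatchOv (p : ℕ) (U X D N : Subgroup Γ) (θ : Γ → ℂ) : Prop :=
  Match p (OvInv U X N θ) (OvInv U D N θ) (mult D)

theorem MatchOv.congr (h : MatchOv p U X D N θ) (e : ∀ x ∈ N, θ x = φ x) : MatchOv p U X D N φ := by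
  unfold MatchOv OvInv at *
  rwa [← IrrOver_congr e, ← IrrOver_congr e]

theorem bijOn_comp_over {Δ : Type*} [Group Δ] [Finite Δ] (f : Δ →* Γ) {L S N : Subgroup Δ}
    (hS : Nrm S L) (hk : f.ker ≤ N) (hNL : N ≤ L) (hθ : IrrOn (N.map f) θ) :
    BijOn (fun φ => cut L (φ ∘ f)) (OvInv (S.map f) (L.map f) (N.map f) θ) (OvInv S L N (θ ∘ f)) := by
  have b := bijOn_comp f hS
  have e : ∀ φ, dot N (cut L (φ ∘ f)) (θ ∘ f) = dot (N.map f) φ θ := fun φ => by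
    rw [dot_congr_left (fun x hx => cut_of_mem _ (hNL hx)), dot_comp]
  refine ⟨fun φ hφ => ?_, b.injOn.mono fun φ hφ => mem_IrrInv.2 ⟨IrrOver_subset hφ.1, hφ.2⟩,
    fun η hη => ?_⟩
  · have := b.mapsTo (mem_IrrInv.2 ⟨IrrOver_subset hφ.1, hφ.2⟩)
    exact ⟨mem_IrrOver.2 ⟨IrrKer_subset this.1, e φ ▸ (mem_IrrOver.1 hφ.1).2⟩, this.2⟩
  · obtain ⟨h1, h2⟩ := mem_IrrOver.1 hη.1
    obtain ⟨φ, h3, rfl⟩ := b.surjOn ⟨mem_IrrKer.2 ⟨h1, (triv_iff_of_dot hNL (inf_le_right.trans hk)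
      ((nrm_self L).inf (nrm_of_normal _ _)) (irrOn_of_mem h1) hθ.comp h2).2 (triv_comp f L θ)⟩, hη.2⟩
    exact ⟨φ, ⟨mem_IrrOver.2 ⟨(mem_IrrInv.1 h3).1, e φ ▸ h2⟩, (mem_IrrInv.1 h3).2⟩, rfl⟩

theorem matchOv_comp_iff {Δ : Type*} [Group Δ] [Finite Δ] (f : Δ →* Γ) {U X D N : Subgroup Δ}
    (hX : Nrm U X) (hD : Nrm U D) (hk : f.ker ≤ N) (hND : N ≤ D) (hDX : D ≤ X)
    (hθ : IrrOn (N.map f) θ) :
    MatchOv p (U.map f) (X.map f) (D.map f) (N.map f) θ ↔ MatchOv p U X D N (θ ∘ f) :=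
  ⟨fun h => h.push (bijOn_comp_over f hX hk (hND.trans hDX) hθ) (bijOn_comp_over f hD hk hND hθ)
    fun φ _ ψ _ => mult_comp f hDX φ ψ, fun h => h.pull (bijOn_comp_over f hX hk (hND.trans hDX) hθ)
      (bijOn_comp_over f hD hk hND hθ) fun φ _ ψ _ => mult_comp f hDX φ ψ⟩

theorem dot_ne_zero_of_eq_mul (hND : N ≤ D) (hβ : CharOn D β) {c : ℂ} (e : ∀ n ∈ N, β n = c * φ n)
    (hφ : IrrOn N φ) (hδ : IrrOn D δ) (h : dot D β δ ≠ 0) : dot N δ φ ≠ 0 := by
  obtain ⟨ξ, a1, a2⟩ := hδ.exists_under hND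
  have a3 := CharOn.dot_ne_zero_trans hND hβ hδ (irrOn_of_mem a1).charOn h a2
  rw [dot_congr_left (φ' := c • φ) e, dot_smul_left] at a3
  rwa [dot_congr_right _ (hφ.eq_of_dot_ne_zero (irrOn_of_mem a1) (right_ne_zero_of_mul a3))]

theorem bijOn_mul (hNK : N ≤ K) (hN : Nrm K N) (hSK : Nrm S K) (hSN : Nrm S N) (hη : CharOn K η)
    (hφ : IrrOn N φ) (hinv : InvOn K N φ) (hp : IrrOn N (φ * η)) (hi : InvOn S N φ)
    (hi' : InvOn S K η) : BijOn (· * η) (OvInv S K N φ) (OvInv S K N (φ * η)) :=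
  bijOn_invOn IrrOver_subset IrrOver_subset hSK hSK (gallagher_injOn hNK hN hη hφ hinv hp)
    (gallagher_image hNK hN hη hφ hinv hp) fun s hs β hβ =>
      ⟨cj_mem_IrrOver hSK hSN hi hβ hs, funext fun x => by
        rw [Pi.mul_apply, cj_apply, cj_apply, Pi.mul_apply]
        by_cases hx : x ∈ K
        · rw [hi' s hs x hx]
        · rw [zero_of_mem_Irr (IrrOver_subset hβ) (mt (hSK.mem_iff hs x).1 hx), zero_mul, zero_mul]⟩

theorem MatchOv.mul (h : MatchOv p U X D N φ) (hND : N ≤ D) (hDX : D ≤ X) (hN : Nrm X N)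
    (hUX : Nrm U X) (hUD : Nrm U D) (hUN : Nrm U N) (hη : CharOn X η) (hφ : IrrOn N φ)
    (hinv : InvOn X N φ) (hp : IrrOn N (φ * η)) (hi : InvOn U N φ) (hi' : InvOn U X η) :
    MatchOv p U X D N (φ * η) := by
  refine h.push (bijOn_mul (hND.trans hDX) hN hUX hUN hη hφ hinv hp hi hi')
    (bijOn_mul hND (hN.mono hDX) hUD hUN (hη.mono hDX) hφ (hinv.mono hDX le_rfl) hp hi
      (hi'.mono le_rfl hDX)) fun β hβ γ hγ => ?_
  obtain ⟨a1, a2⟩ := mem_IrrOver.1 hβ.1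
  obtain ⟨b1, b2⟩ := mem_IrrOver.1 hγ.1
  have hβ' := (irrOn_of_mem a1).charOn.mono hDX
  unfold mult
  rw [hβ'.classOn.dot_eq_sum γ, dot_congr_left (φ' := ∑ δ ∈ Irr D, dot D β δ • (δ * η))
    (fun x hx => by
      rw [Pi.mul_apply, hβ'.classOn.eq_sum hx, Finset.sum_apply, sum_mul]
      exact sum_congr rfl fun δ _ => by simp [mul_assoc]), dot_sum_left, sum_congr rfl fun δ hδ => ?_]
  rw [dot_smul_left]
  by_cases h : dot D β δ = 0
  · rw [h, zero_mul, zero_mul]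
  · rw [gallagher_dot hND (hN.mono hDX) (hη.mono hDX) hφ (hinv.mono hDX le_rfl) hp (irrOn_of_mem hδ)
      (irrOn_of_mem b1) (dot_ne_zero_of_eq_mul hND hβ' (fun n hn => clifford_invOn (hND.trans hDX)
        hN (irrOn_of_mem a1) hφ hinv a2 hn) hφ (irrOn_of_mem hδ) h) b2]

theorem MatchOv.of_inertia (h : MatchOv p U (inertia X N θ) (inertia D N θ) N θ) (hND : N ≤ D)
    (hDX : D ≤ X) (hN : Nrm X N) (hUX : Nrm U X) (hUD : Nrm U D) (hUN : Nrm U N) (hθ : IrrOn N θ)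
    (hi : InvOn U N θ) : MatchOv p U X D N θ :=
  h.push (bijOn_ind_inertia (hND.trans hDX) hN hUX hUN hθ hi)
    (bijOn_ind_inertia hND (hN.mono hDX) hUD hUN hθ hi) fun _ hψ _ hξ =>
      mult_ind_inertia hND hDX hN hθ hψ.1 hξ.1

theorem match_glue (hNC : N ≤ C) (hCK : C ≤ K) (hN : Nrm K N)
    (exK : ∀ χ ∈ IrrInv U K, ∃ θ ∈ Irr N, dot N χ θ ≠ 0 ∧ InvOn U N θ)
    (exC : ∀ χ ∈ IrrInv U C, ∃ θ ∈ Irr N, dot N χ θ ≠ 0 ∧ InvOn U N θ)
    (hcj : ∀ θ ∈ Irr N, InvOn U N θ → ∀ k ∈ K, InvOn U N (cj k θ) → ∃ c ∈ C, cj c θ = cj k θ)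
    (mo : ∀ θ ∈ Irr N, InvOn U N θ → MatchOv p U K C N θ) :
    Match p (IrrInv U K : Set (Γ → ℂ)) (IrrInv U C : Set (Γ → ℂ)) (mult C) := by
  have under : ∀ χ ∈ IrrInv U K, ∀ β ∈ IrrInv U C, mult C χ β ≠ 0 → ∀ θ ∈ Irr N, dot N β θ ≠ 0 →
      dot N χ θ ≠ 0 := fun χ hχ β hβ h θ hθ h' =>
    have a := (irrOn_of_mem (mem_IrrInv.1 hχ).1).charOn.mono hCK
    have b := irrOn_of_mem (mem_IrrInv.1 hβ).1
    CharOn.dot_ne_zero_trans hNC a b (irrOn_of_mem hθ).charOn ((a.mult_ne_zero b.charOn).1 h) h'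
  refine ⟨fun χ hχ => ?_, fun χ hχ χ' hχ' β hβ h1 h2 => ?_, fun β hβ => ?_⟩
  · obtain ⟨a1, a2⟩ := mem_IrrInv.1 hχ
    obtain ⟨θ, hθ, h1, h2⟩ := exK χ hχ
    obtain ⟨β, hβ, h3, h4⟩ := (mo θ hθ h2).ex χ ⟨mem_IrrOver.2 ⟨a1, h1⟩, a2⟩
    refine ⟨β, mem_IrrInv.2 ⟨(mem_IrrOver.1 hβ.1).1, hβ.2⟩, h3, fun γ hγ hne => ?_⟩
    by_cases h0 : mult C χ γ = 0
    · rw [h0]; exact dvd_zero p
    obtain ⟨b1, b2⟩ := mem_IrrInv.1 hγ
    refine h4 γ ⟨mem_IrrOver.2 ⟨b1, ?_⟩, b2⟩ hne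
    obtain ⟨θ', hθ', h5, h6⟩ := exC γ hγ
    obtain ⟨k, hk, e⟩ := mem_orb.1 (mem_orb_of_dot (hNC.trans hCK) hN (irrOn_of_mem a1)
      (irrOn_of_mem hθ) (irrOn_of_mem hθ') h1 (under χ hχ γ hγ h0 θ' hθ' h5))
    rw [cut_of_mem_Irr hθ, cut_of_mem_Irr hθ'] at e
    subst e
    obtain ⟨c, hc', e⟩ := hcj θ hθ h2 k hk h6
    rwa [← e, dot_cj_right hNC (hN.mono hCK) (irrOn_of_mem b1).classOn hc'] at h5
  · obtain ⟨θ, hθ, h3, h4⟩ := exC β hβ
    exact (mo θ hθ h4).inj χ ⟨mem_IrrOver.2 ⟨(mem_IrrInv.1 hχ).1, under χ hχ β hβ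
      (fun e => h1 (e ▸ dvd_zero p)) θ hθ h3⟩, (mem_IrrInv.1 hχ).2⟩ χ'
      ⟨mem_IrrOver.2 ⟨(mem_IrrInv.1 hχ').1, under χ' hχ' β hβ
      (fun e => h2 (e ▸ dvd_zero p)) θ hθ h3⟩, (mem_IrrInv.1 hχ').2⟩ β
      ⟨mem_IrrOver.2 ⟨(mem_IrrInv.1 hβ).1, h3⟩, (mem_IrrInv.1 hβ).2⟩ h1 h2
  · obtain ⟨θ, hθ, h3, h4⟩ := exC β hβ
    obtain ⟨χ, hχ, h5⟩ := (mo θ hθ h4).surj β
      ⟨mem_IrrOver.2 ⟨(mem_IrrInv.1 hβ).1, h3⟩, (mem_IrrInv.1 hβ).2⟩
    exact ⟨χ, mem_IrrInv.2 ⟨(mem_IrrOver.1 hχ.1).1, hχ.2⟩, h5⟩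

/-- If `S` centralizes `G / K`, all constituents on `K` of an invariant character are invariant. -/
theorem invOn_under_of_comm (hSG : Nrm S G) (hKG : K ≤ G) (hK : Nrm G K)
    (hc : (K.relIndex G).Coprime (Nat.card S)) (h : ∀ s ∈ S, ∀ g ∈ G, s * g * s⁻¹ * g⁻¹ ∈ K)
    (hχ : IrrOn G χ) (hi : InvOn S G χ) (hθ : IrrOn K θ) (hd : dot K χ θ ≠ 0) : InvOn S K θ := by
  have hSK : Nrm S K := fun s hs k hk => by simpa using mul_mem (h s hs k (hKG hk)) hk
  intro s hs x hx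
  have hz := zpowers_le.2 hs
  obtain ⟨φ, hφ, h1, h2⟩ := exists_invOn_under (hSG.mono hz) (hSK.mono hz) hKG hK
    (hc.coprime_dvd_right (card_dvd_of_le hz)) (Or.inl (isSolvable_zpowers s)) hχ (hi.mono hz le_rfl)
  obtain ⟨g, hg, e⟩ := mem_orb.1 (mem_orb_of_dot hKG hK hχ (irrOn_of_mem hφ) hθ h1 hd)
  rw [← cut_of_mem θ hx, ← cut_of_mem θ (hSK s hs x hx), ← e, cut_of_mem_Irr hφ, cj_apply, cj_apply,
    ← h2 s (mem_zpowers s) _ (hK g hg x hx),
    ← (irrOn_of_mem hφ).classOn _ (h s hs g hg) _ (hK g hg _ (hSK s hs x hx))]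
  congr 1; group

/-- If `S` has no fixed points on the abelian section `K / L`, an invariant character of `K` over a
given invariant character of `L` is unique. -/
theorem eq_of_invOn_of_abelian (hSK : Nrm S K) (hSL : Nrm S L) (hLK : L ≤ K) (hab : ⁅K, K⁆ ≤ L)
    (hc : (L.relIndex K).Coprime (Nat.card S)) (hKS : K ≤ L ⊔ ⁅K, S⁆) (hν : IrrOn L ν)
    (hinv : InvOn K L ν) (hθ : IrrOn K θ) (hθ' : IrrOn K θ') (h1 : dot L θ ν ≠ 0)
    (h2 : dot L θ' ν ≠ 0) (hi : InvOn S K θ) (hi' : InvOn S K θ') : ∀ x ∈ K, θ' x = θ x := by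
  have hL := nrm_of_commutator_le hLK hab
  obtain ⟨β, hβ, e⟩ := exists_lin_of_abelian hLK hL hab hν hinv hθ hθ' h1 h2
  have h3 := linOn_of_mem_IrrKer hab hβ
  have h4 : ∀ n ∈ L, β n = 1 := fun n hn => ((mem_IrrKer.1 hβ).2 n hn).trans h3.2
  have h5 : LinOn K (∏ s ∈ elems S, cj s β) := linOn_prod _ fun s hs =>
    ⟨h3.1.cj hSK (mem_elems.1 hs), by rw [cj_at_one, h3.2]⟩
  have h6 : K ≤ kerOn K (∏ s ∈ elems S, cj s β) := hKS.trans (sup_le (fun n hn =>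
    h5.mem_kerOn.2 ⟨hLK hn, by
      rw [Finset.prod_apply]
      exact prod_eq_one fun s hs => h4 _ (hSL s (mem_elems.1 hs) n hn)⟩)
    (commutator_le.2 fun k hk s hs => by
      have a := hSK s hs _ (inv_mem hk)
      have b : ⁅k, s⁆ = k * (s * k⁻¹ * s⁻¹) := by rw [commutatorElement_def]; group
      refine b ▸ h5.mem_kerOn.2 ⟨mul_mem hk a, ?_⟩
      have c : (∏ t ∈ elems S, cj t β) (s * k⁻¹ * s⁻¹) = (∏ t ∈ elems S, cj t β) k⁻¹ := by
        rw [Finset.prod_apply, Finset.prod_apply]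
        refine Eq.trans (prod_congr rfl fun t _ => ?_) (sum_elems_mul_right (M := Additive ℂ) hs
          fun t => Additive.ofMul (cj t β k⁻¹))
        rw [← cj_cj]; rfl
      rw [h5.map_mul hk a, c, ← h5.map_mul hk (inv_mem hk), mul_inv_cancel, h5.2]))
  intro x hx
  rw [e x hx]
  by_cases h0 : θ x = 0
  · rw [h0, mul_zero]
  have h7 := (h5.mem_kerOn.1 (h6 hx)).2
  rw [Finset.prod_apply, prod_congr rfl (g := fun _ => β x) fun s hs => mul_right_cancel₀ h0 (by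
    have hs := mem_elems.1 hs
    rw [← e x hx, ← hi' s hs x hx, e _ (hSK s hs x hx), hi s hs x hx, cj_apply]),
    prod_const, card_elems] at h7
  rw [eq_one_of_pow_of_coprime hc (h3.pow_relIndex hL h4 hx) h7, one_mul]

/-- If `A` centralizes `G / K`, all characters over an invariant character are invariant. -/
theorem invOn_over_of_comm (hKG : K ≤ G) (hK : Nrm G K) (hc : (K.relIndex G).Coprime (Nat.card A))
    (h : ∀ a ∈ A, ∀ g ∈ G, a * g * a⁻¹ * g⁻¹ ∈ K) (hθ : IrrOn K θ) (hi : InvOn A K θ)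
    (hi' : InvOn G K θ) (hχ : IrrOn G χ) (hd : dot K χ θ ≠ 0) : InvOn A G χ := by
  intro a ha g hg
  set M := zpowers g ⊔ K
  have hM : M ≤ G := sup_le (zpowers_le.2 hg) hKG
  have hKM : K ≤ M := le_sup_right
  have hA : ∀ {X}, K ≤ X → X ≤ G → Nrm A X := fun h1 h2 s hs x hx => by
    simpa using mul_mem (h1 (h s hs x (h2 hx))) hx
  have hab : ⁅M, M⁆ ≤ K := commutator_le_of_sup (fun a ha b hb => mul_comm_of_mem ha hb) rfl
    (hK.mono hM) (hK.mono hM) fun g hg x hx => mul_mem (hK g (hM hg) x hx) (inv_mem hx)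
  obtain ⟨η, h1, h2, h3⟩ := exists_invOn_over_of_abelian (hA hKM hM) (hA le_rfl hKG) hKM
    (hK.mono hM) hab (hc.coprime_dvd_left (Dvd.intro _ (relIndex_mul_relIndex K M G hKM hM))) hθ hi
    (hi'.mono hM le_rfl)
  have hgM : g ∈ M := mem_sup_left (mem_zpowers g)
  have hχ' := hχ.charOn.mono hM
  rw [hχ'.classOn.eq_sum hgM, hχ'.classOn.eq_sum (hA hKM hM a ha g hgM)]
  refine sum_congr rfl fun δ hδ => ?_
  by_cases h0 : dot M χ δ = 0
  · rw [h0, zero_mul, zero_mul]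
  obtain ⟨β, hβ, e⟩ := exists_lin_of_abelian hKM (hK.mono hM) hab hθ (hi'.mono hM le_rfl)
    (irrOn_of_mem h1) (irrOn_of_mem hδ) h2 (dot_ne_zero_of_eq_mul hKM hχ'
      (fun n hn => clifford_invOn hKG hK hχ hθ hi' hd hn) hθ (irrOn_of_mem hδ) h0)
  rw [e g hgM, e _ (hA hKM hM a ha g hgM), h3 a ha g hgM, ← (mem_IrrKer.1 hβ).2.mul_left
    (irrOn_of_mem (IrrKer_subset hβ)).charOn hKM (h a ha g hg) hgM, inv_mul_cancel_right]

theorem matchOv_of_involution {t : Γ} (ht : t ^ 2 = 1) (htK : ∀ g ∈ G, t * g * t⁻¹ * g⁻¹ ∈ K)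
    (hU : U ≤ centralizer {t}) (ho : Odd (Nat.card G)) (hLK : L ≤ K) (hKG : K ≤ G) (hLU : L ≤ U)
    (hGK : Nrm G K) (hGL : Nrm G L) (hab : ⁅K, K⁆ ≤ L) (hSU : S ≤ U) (hUG : Nrm U G)
    (hSL : Nrm S L) (hc : (Nat.card G).Coprime (Nat.card S))
    (hGS : ∀ s ∈ S, ∀ g ∈ G, s * g * s⁻¹ * g⁻¹ ∈ K) (hKS : K ≤ L ⊔ ⁅K, S⁆) (hν : IrrOn L ν)
    (hi : InvOn G L ν) : MatchOv 2 U G (G ⊓ centralizer {t}) L ν := by
  have htG : ∀ g ∈ G, t * g * t⁻¹ ∈ G := fun g hg => by simpa using mul_mem (hKG (htK g hg)) hg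
  have htK' : ∀ k ∈ K, t * k * t⁻¹ ∈ K := fun k hk => by simpa using mul_mem (htK k (hKG hk)) hk
  have hSK : Nrm S K := fun s hs k hk => by simpa using mul_mem (hGS s hs k (hKG hk)) hk
  have hLG := hLK.trans hKG
  have hLD : L ≤ G ⊓ centralizer {t} := le_inf hLG (hLU.trans hU)
  have hg := glaub_zpowers (p := 2) (n := 1) htG (by simpa using ht) ho.not_two_dvd_nat
  have hz : ∀ a ∈ zpowers t, a = 1 ∨ a = t := fun a ha => by
    obtain ⟨k, rfl⟩ := mem_powers_iff_mem_zpowers.2 ha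
    rcases Nat.even_or_odd' k with ⟨k, rfl | rfl⟩ <;> simp [pow_succ, pow_mul, ← sq, ht]
  have hcK := hc.coprime_dvd_left (relIndex_dvd_card K G)
  have key : ∀ χ ∈ OvInv U G L ν, InvOn (zpowers t) G χ := fun χ hχ => by
    obtain ⟨a1, a2⟩ := mem_IrrOver.1 hχ.1
    have a1 := irrOn_of_mem a1
    obtain ⟨θ, b1, b2⟩ := a1.exists_under hKG
    have b1 := irrOn_of_mem b1
    have c1 : ∀ {θ}, IrrOn K θ → dot K χ θ ≠ 0 → dot L θ ν ≠ 0 := fun h1 h2 =>
      dot_ne_zero_of_eq_mul hLK (a1.charOn.mono hKG)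
        (fun n hn => clifford_invOn hLG hGL a1 hν hi a2 hn) hν h1 h2
    have c2 : ∀ {θ}, IrrOn K θ → dot K χ θ ≠ 0 → InvOn S K θ := fun h1 h2 =>
      invOn_under_of_comm (hUG.mono hSU) hKG hGK hcK hGS a1 (hχ.2.mono hSU le_rfl) h1 h2
    have c3 : ∀ {θ'}, IrrOn K θ' → dot L θ' ν ≠ 0 → InvOn S K θ' → ∀ x ∈ K, θ' x = θ x :=
      fun h1 h2 h3 => eq_of_invOn_of_abelian hSK hSL hLK hab
        (hc.coprime_dvd_left ((relIndex_dvd_card L K).trans (card_dvd_of_le hKG))) hKS hν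
        (hi.mono hKG le_rfl) b1 h1 (c1 b1 b2) h2 (c2 b1 b2) h3
    have hzK : Nrm (zpowers t) K := fun a ha k hk => by
      rcases hz a ha with rfl | rfl
      · simpa using hk
      · exact htK' k hk
    refine invOn_over_of_comm hKG hGK ?_ (fun a ha g hg => ?_) b1 (invOn_zpowers htK' (c3
      (b1.cj hzK (mem_zpowers t)) ?_ fun s hs x hx => ?_)) (fun g hg => ?_) a1 b2
    · refine (ho.coprime_two_right.coprime_dvd_left
        (relIndex_dvd_card K G)).coprime_dvd_right ?_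
      rw [Nat.card_zpowers]
      exact orderOf_dvd_of_pow_eq_one ht
    · rcases hz a ha with rfl | e
      · simpa using one_mem K
      · exact e ▸ htK g hg
    · rw [dot_congr_left (φ' := θ) fun x hx => by
        rw [← mem_centralizer_singleton_iff.1 (hU (hLU hx)), mul_inv_cancel_right]]
      exact c1 b1 b2
    · have := mem_centralizer_singleton_iff.1 (hU (hSU hs))
      rw [← c2 b1 b2 s hs _ (htK' x hx)]
      congr 1
      calc t * (s * x * s⁻¹) * t⁻¹ = t * s * x * (t * s)⁻¹ := by group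
        _ = _ := by rw [← this]; group
    · have h1 := b1.cj hGK hg
      have h2 : dot K χ (cj g θ) ≠ 0 := by rwa [dot_cj_right hKG hGK a1.classOn hg]
      exact c3 h1 (c1 h1 h2) (c2 h1 h2)
  have hUz : Nrm U (zpowers t) := fun u hu a ha => by
    rcases hz a ha with rfl | rfl
    · simpa using one_mem _
    · rw [mem_centralizer_singleton_iff.1 (hU hu), mul_inv_cancel_right]; exact ha
  have hUD : Nrm U (G ⊓ centralizer {t}) := centralizer_zpowers t ▸ nrm_inf_centralizer hUG hUz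
  refine ⟨fun χ hχ => ?_, fun χ hχ χ' hχ' β hβ => hg.inj χ (IrrOver_subset hχ.1) χ'
    (IrrOver_subset hχ'.1) (key χ hχ) (key χ' hχ') β (IrrOver_subset hβ.1), fun β hβ => ?_⟩
  · obtain ⟨a1, a2⟩ := mem_IrrOver.1 hχ.1
    have a1 := irrOn_of_mem a1
    obtain ⟨β, h1, h2, h3⟩ := hg.ex χ a1 (key χ hχ)
    have h4 := not_dvd_of_sign h2
    refine ⟨β, ⟨mem_IrrOver.2 ⟨h1, dot_ne_zero_of_eq_mul hLD (a1.charOn.mono inf_le_left)
      (fun n hn => clifford_invOn hLG hGL a1 hν hi a2 hn) hν (irrOn_of_mem h1)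
      (((a1.charOn.mono inf_le_left).mult_ne_zero (irrOn_of_mem h1).charOn).1
        fun e => h4 (e ▸ dvd_zero 2))⟩, hg.invOn_right inf_le_left hUD a1 (key χ hχ) hχ.2 h1 h4⟩,
      h2, fun γ hγ => h3 γ (IrrOver_subset hγ.1)⟩
  · obtain ⟨a1, a2⟩ := mem_IrrOver.1 hβ.1
    obtain ⟨χ, h1, h2, h3⟩ := hg.surj β a1
    have h4 := (irrOn_of_mem h1).charOn.mono (inf_le_left : G ⊓ centralizer {t} ≤ G)
    exact ⟨χ, ⟨mem_IrrOver.2 ⟨h1, CharOn.dot_ne_zero_trans hLD h4 (irrOn_of_mem a1) hν.charOn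
      ((h4.mult_ne_zero (irrOn_of_mem a1).charOn).1 fun e => h3 (e ▸ dvd_zero 2)) a2⟩,
      hg.invOn_left hUD hUG hUz h1 h2 a1 hβ.2 h3⟩, h3⟩

/-- An automorphism inverting `K / L` and centralizing the complement `U`. -/
theorem exists_inverting_aut [K.Normal] (hL : L ≤ center Γ) (hLU : L ≤ U) (hLK : L ≤ K)
    (hab : ⁅K, K⁆ ≤ L) (hSU : S ≤ U) (hS : Nrm U S) (hKU : K ⊔ U = ⊤) (hKU' : K ⊓ U ≤ L)
    (hKS : K ≤ L ⊔ ⁅K, S⁆) (hc : (Nat.card K).Coprime (Nat.card S)) :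
    ∃ τ : MulAut Γ, τ ^ 2 = 1 ∧ (∀ u ∈ U, τ u = u) ∧ ∀ k ∈ K, k * τ k ∈ L := by
  have hz : ∀ l ∈ L, ∀ g, g * l = l * g := fun l hl => mem_center_iff.1 (hL hl)
  have hK := nrm_of_normal ⊤ K
  have hLn : Nrm ⊤ L := fun g _ l hl => by rwa [hz l hl, mul_inv_cancel_right]
  have hcm : ∀ a ∈ K, ∀ b ∈ K, a * b * a⁻¹ * b⁻¹ ∈ L := fun a ha b hb =>
    hab (commutator_mem_commutator ha hb)
  let d : Γ →* Γ × Γ := (MonoidHom.id Γ).prod (MonoidHom.id Γ)
  let D : Subgroup (Γ × Γ) :=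
    { carrier := {x | x.1 ∈ K ∧ x.2 ∈ K ∧ x.1 * x.2 ∈ L}
      mul_mem' := fun {x y} hx hy => ⟨mul_mem hx.1 hy.1, mul_mem hx.2.1 hy.2.1, by
        have := mul_mem (mul_mem hx.2.2 (hcm _ (inv_mem hx.2.1) _ hy.1)) hy.2.2
        simpa [mul_assoc] using this⟩
      one_mem' := ⟨one_mem K, one_mem K, by simp⟩
      inv_mem' := fun {x} hx => ⟨inv_mem hx.1, inv_mem hx.2.1, by
        simpa [mul_assoc] using hLn x.2 trivial _ (inv_mem hx.2.2)⟩ }
  have hD : Nrm d.range D := by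
    rintro _ ⟨u, rfl⟩ x hx
    exact ⟨hK u trivial _ hx.1, hK u trivial _ hx.2.1, by
      simpa [d, mul_assoc] using hLn u trivial _ hx.2.2⟩
  have hSD : Nrm (S.map d) D := hD.mono (map_le_range d S)
  have hW : ⁅D, S.map d⁆ ≤ D := commutator_le_of_le_normalizer hSD.le_normalizer
  have hUW : Nrm (U.map d) ⁅D, S.map d⁆ := (hD.mono (map_le_range d U)).commutator (by
    rintro _ ⟨u, hu, rfl⟩ _ ⟨s, hs, rfl⟩
    simpa only [map_mul, map_inv] using mem_map_of_mem d (hS u hu s hs))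
  set T := U.map d ⊔ ⁅D, S.map d⁆
  have hT : ∀ x ∈ T, x.1 ∈ K → ∃ w ∈ ⁅D, S.map d⁆, ∃ l ∈ L, x = w * d l := fun x hx h => by
    obtain ⟨w, hw, _, ⟨u, hu, rfl⟩, rfl⟩ := exists_mul_of_mem_sup_nrm' hUW hx
    exact ⟨w, hw, u, hKU' ⟨(mul_mem_cancel_left (hW hw).1).1 h, hu⟩, rfl⟩
  have hLD : L.map d ≤ D := by
    rintro _ ⟨l, hl, rfl⟩
    exact ⟨hLK hl, hLK hl, mul_mem hl hl⟩
  have : (L.map d).Normal := ⟨by
    rintro _ ⟨l, hl, rfl⟩ g
    refine ⟨l, hl, Prod.ext ?_ ?_⟩ <;> simp [d, hz l hl]⟩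
  set q := QuotientGroup.mk' (L.map d)
  have : IsMulCommutative (D.map q) := ⟨⟨by
    rintro ⟨_, x, hx, rfl⟩ ⟨_, y, hy, rfl⟩
    refine Subtype.ext (commutatorElement_eq_one_iff_mul_comm.1 ((map_commutatorElement q x y).symm.trans
      ((QuotientGroup.eq_one_iff _).2 ⟨_, hcm _ hx.1 _ hy.1, Prod.ext rfl ?_⟩)))
    have a := hz _ hx.2.2
    have b := hz _ hy.2.2
    have c := hz _ (hcm _ hx.1 _ hy.1) (y.1 * x.1)⁻¹
    change x.1 * y.1 * x.1⁻¹ * y.1⁻¹ = x.2 * y.2 * x.2⁻¹ * y.2⁻¹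
    calc x.1 * y.1 * x.1⁻¹ * y.1⁻¹ = (y.1 * x.1)⁻¹ * (x.1 * y.1 * x.1⁻¹ * y.1⁻¹) * (y.1 * x.1) := by
          rw [c]; group
      _ = x.1⁻¹ * y.1⁻¹ * (x.1 * (y.1 * y.2)) * y.2⁻¹ := by group
      _ = x.1⁻¹ * (y.2 * (x.1 * x.2)) * x.2⁻¹ * y.2⁻¹ := by rw [b]; group
      _ = _ := by rw [a]; group⟩⟩
  have h1 : ∀ y, (1, y) ∈ T → y = 1 := fun y hy => by
    obtain ⟨w, hw, l, hl, e⟩ := hT _ hy (one_mem K)
    have h2 : y ∈ L := by
      have := (e ▸ mul_mem (hW hw) (hLD (mem_map_of_mem d hl)) : (1, y) ∈ D).2.2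
      simpa using this
    have h3 := centralizer_inf_commutator_eq_bot (A := (S.map d).map q) (V := D.map q)
      (Nrm.le_normalizer (by
        rintro _ ⟨s, hs, rfl⟩ _ ⟨x, hx, rfl⟩
        simpa only [map_mul, map_inv] using mem_map_of_mem q (hSD s hs x hx)))
      (((Nat.Coprime.mul_left hc hc).coprime_dvd_left ((card_map_dvd _ _).trans (by
        rw [← Nat.card_prod, ← Nat.card_congr (prodEquiv K K).toEquiv]
        exact card_dvd_of_le fun x hx => ⟨hx.1, hx.2.1⟩))).coprime_dvd_right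
          ((card_map_dvd _ _).trans (card_map_dvd _ _))).symm
    have h4 : q (1, y) = q w := by
      rw [e, map_mul, (QuotientGroup.eq_one_iff _).2 (mem_map_of_mem d hl) |> (show q (d l) = 1 from ·),
        mul_one]
    obtain ⟨l', -, h5⟩ := (QuotientGroup.eq_one_iff _).1 (mem_bot.1 (h3.le (show q (1, y) ∈ _ from
      ⟨⟨h4 ▸ mem_map_of_mem q (hW hw), by
        rintro _ ⟨x, -, rfl⟩
        rw [← map_mul, ← map_mul]
        exact congrArg q (Prod.ext (by simp) (hz y h2 x.2))⟩,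
        by rw [← map_commutator, h4]; exact mem_map_of_mem q hw⟩)))
    exact (congrArg Prod.snd h5).symm.trans (congrArg Prod.fst h5)
  have h2 : ⊤ ≤ T.map (MonoidHom.fst Γ Γ) := by
    have hU : U ≤ T.map (MonoidHom.fst Γ Γ) := fun u hu =>
      ⟨d u, mem_sup_left (mem_map_of_mem d hu), rfl⟩
    rw [← hKU]
    refine sup_le (hKS.trans (sup_le (hLU.trans hU) (commutator_le.2 fun k hk s hs => ?_))) hU
    exact ⟨⁅(k, k⁻¹), d s⁆, mem_sup_right (commutator_mem_commutator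
      ⟨hk, inv_mem hk, by simp⟩ (mem_map_of_mem d hs)), rfl⟩
  have h3 : T ≤ T.comap (MulEquiv.prodComm : Γ × Γ ≃* Γ × Γ).toMonoidHom := by
    refine sup_le ?_ (commutator_le.2 fun x hx y hy => ?_)
    · rintro _ ⟨u, hu, rfl⟩
      exact mem_sup_left (mem_map_of_mem d hu)
    · obtain ⟨s, hs, rfl⟩ := hy
      exact mem_sup_right (commutator_mem_commutator (H₁ := D) (g₁ := x.swap) ⟨hx.2.1, hx.1, by
        simpa [mul_assoc] using hLn x.2 trivial _ hx.2.2⟩ (mem_map_of_mem d hs))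
  let e := MulEquiv.ofBijective ((MonoidHom.fst Γ Γ).comp T.subtype)
    ⟨(injective_iff_map_eq_one _).2 fun x hx => Subtype.ext (Prod.ext hx (h1 _ (by
      rw [← show x.1.1 = 1 from hx]; exact x.2))), fun x => by
        obtain ⟨y, hy, e⟩ := h2 (mem_top x)
        exact ⟨⟨y, hy⟩, e⟩⟩
  let f : Γ →* Γ := ((MonoidHom.snd Γ Γ).comp T.subtype).comp e.symm.toMonoidHom
  have h4 : ∀ x y, (x, y) ∈ T → f x = y := fun x y h =>
    congrArg (fun z : T => z.1.2) (e.symm_apply_apply ⟨(x, y), h⟩)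
  have h5 : ∀ x, (x, f x) ∈ T := fun x => by
    have := (e.symm x).2
    rwa [← Prod.mk.eta (p := (e.symm x).1), show (e.symm x).1.1 = x from e.apply_symm_apply x] at this
  have h6 : ∀ x, f (f x) = x := fun x => h4 _ _ (h3 (h5 x))
  refine ⟨MonoidHom.toMulEquiv f f (MonoidHom.ext h6) (MonoidHom.ext h6), MulEquiv.ext h6,
    fun u hu => h4 _ _ (mem_sup_left (mem_map_of_mem d hu)), fun k hk => ?_⟩
  obtain ⟨w, hw, l, hl, e⟩ := hT _ (h5 k) hk
  exact (e ▸ mul_mem (hW hw) (hLD (mem_map_of_mem d hl)) : (k, f k) ∈ D).2.2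

theorem matchOv_of_central [G.Normal] [K.Normal] (hL : L ≤ center Γ) (hLU : L ≤ U) (hLK : L ≤ K)
    (hKG : K ≤ G) (hab : ⁅K, K⁆ ≤ L) (hSU : S ≤ U) (hS : Nrm U S) (hKU : K ⊔ U = ⊤)
    (hKU' : K ⊓ U ≤ L) (hKS : K ≤ L ⊔ ⁅K, S⁆) (hc : (Nat.card G).Coprime (Nat.card S))
    (ho : Odd (Nat.card G)) (hν : IrrOn L ν) : MatchOv 2 U G (G ⊓ U) L ν := by
  obtain ⟨τ, h1, h2, h3⟩ := exists_inverting_aut hL hLU hLK hab hSU hS hKU hKU' hKS
    (hc.coprime_dvd_left (card_dvd_of_le hKG))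
  have hz : ∀ l ∈ L, ∀ g, g * l * g⁻¹ = l := fun l hl g => by
    rw [mem_center_iff.1 (hL hl), mul_inv_cancel_right]
  have hd : ∀ g, ∃ k ∈ K, ∃ u ∈ U, k * u = g := fun g =>
    mem_sup_of_normal_left.1 (hKU.ge (mem_top g))
  have h4 : ∀ k ∈ K, τ k ∈ K := fun k hk => (mul_mem_cancel_left hk).1 (hLK (h3 k hk))
  obtain ⟨Δ, _, _, i, j, h, -, -⟩ := exists_ambient (zpowers τ).subtype
  obtain ⟨φ, h5, h6⟩ := hν.exists_comp i (by
    rw [(MonoidHom.ker_eq_bot_iff i).2 h.inj_i, inf_bot_eq]; exact triv_bot ν)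
  have hn : ∀ {X Y : Subgroup Γ}, Nrm X Y → Nrm (X.map i) (Y.map i) := fun h => by
    rintro _ ⟨a, ha, rfl⟩ _ ⟨b, hb, rfl⟩
    simpa only [map_mul, map_inv] using mem_map_of_mem i (h a ha b hb)
  have hLn : ∀ X, Nrm X L := fun X g _ l hl => by rwa [hz l hl]
  have h7 := matchOv_of_involution (G := G.map i) (K := K.map i) (U := U.map i) (S := S.map i)
    (t := j ⟨τ, mem_zpowers τ⟩) (by rw [← map_pow, ← map_one j]; exact congrArg j (Subtype.ext h1))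
    (by
      rintro _ ⟨g, -, rfl⟩
      obtain ⟨k, hk, u, hu, rfl⟩ := hd g
      rw [h.conj, ← map_inv, ← map_mul]
      exact mem_map_of_mem i (by simpa [h2 u hu] using mul_mem (h4 k hk) (inv_mem hk)))
    (by
      rintro _ ⟨u, hu, rfl⟩
      exact h.mem_centralizer_singleton_iff.2 (h2 u hu))
    (by rwa [h.card_map_i]) (map_mono hLK) (map_mono hKG) (map_mono hLU) (hn (nrm_of_normal _ _))
    (hn (hLn _)) (by rw [← map_commutator]; exact map_mono hab) (map_mono hSU)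
    (hn (nrm_of_normal _ _)) (hn (hLn _)) (by rwa [h.card_map_i, h.card_map_i]) (by
      rintro _ ⟨s, hs, rfl⟩ _ ⟨g, hg, rfl⟩
      obtain ⟨k, hk, u, hu, rfl⟩ := hd g
      have a : u * s⁻¹ * u⁻¹ * s ∈ G ⊓ S := ⟨by
        have := (mul_mem_cancel_left (hKG hk)).1 hg
        simpa [mul_assoc] using mul_mem this (nrm_of_normal ⊤ G s⁻¹ trivial _ (inv_mem this)),
        mul_mem (hS u hu _ (inv_mem hs)) hs⟩
      rw [inf_eq_bot_of_coprime_card hc.symm, mem_bot, mul_eq_one_iff_eq_inv] at a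
      rw [← map_inv, ← map_inv, ← map_mul, ← map_mul, ← map_mul]
      refine mem_map_of_mem i ?_
      rw [show s * (k * u) * s⁻¹ * (k * u)⁻¹ = s * k * (u * s⁻¹ * u⁻¹) * k⁻¹ by group, a]
      exact mul_mem (nrm_of_normal ⊤ K s trivial k hk) (inv_mem hk))
    (by rw [← map_commutator, ← Subgroup.map_sup]; exact map_mono hKS) (irrOn_of_mem h5) (by
      rintro _ ⟨g, -, rfl⟩ _ ⟨l, hl, rfl⟩
      rw [← map_inv, ← map_mul, ← map_mul, hz l hl])
  have h8 : G.map i ⊓ centralizer {j ⟨τ, mem_zpowers τ⟩} = (G ⊓ U).map i := by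
    refine le_antisymm ?_ ?_
    · rintro _ ⟨⟨g, hg, rfl⟩, h8⟩
      obtain ⟨k, hk, u, hu, rfl⟩ := hd g
      have h9 : τ k = k := by simpa [h2 u hu] using h.mem_centralizer_singleton_iff.1 h8
      exact mem_map_of_mem i ⟨hg, mul_mem (hLU (mem_of_sq_mem_of_odd
        (odd_orderOf_of_mem ho (hKG hk)) (by simpa [h9] using h3 k hk))) hu⟩
    · rintro _ ⟨g, hg, rfl⟩
      exact ⟨mem_map_of_mem i hg.1, h.mem_centralizer_singleton_iff.2 (h2 g hg.2)⟩
  rw [h8, matchOv_comp_iff i (nrm_of_normal _ _) ((nrm_of_normal _ _).inf (nrm_self U))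
    (by rw [(MonoidHom.ker_eq_bot_iff i).2 h.inj_i]; exact bot_le) (le_inf (hLK.trans hKG) hLU)
    inf_le_left (irrOn_of_mem h5)] at h7
  exact h7.congr fun x hx => (h6 x hx).symm

theorem coprime_relIndex_kerOn (hν : LinOn L ν) {m : ℕ} (h : (ordOn L ν).Coprime m) :
    ((kerOn L ν).relIndex L).Coprime m := Nat.coprime_of_dvd fun r hr h1 h2 => by
  have := Fact.mk hr
  have := hν.classOn.nrm_kerOn.normal_subgroupOf
  obtain ⟨x, hx⟩ := exists_prime_orderOf_dvd_card' (G := L ⧸ (kerOn L ν).subgroupOf L) r h1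
  obtain ⟨x, rfl⟩ := QuotientGroup.mk_surjective x
  refine hr.one_lt.ne' (Nat.eq_one_of_dvd_coprimes h ?_ h2)
  rw [← hx, orderOf_dvd_iff_pow_eq_one, ← QuotientGroup.mk_pow, QuotientGroup.eq_one_iff]
  exact hν.mem_kerOn.2 ⟨pow_mem x.2 _, (hν.map_pow x.2 _).trans (pow_ordOn x.2)⟩

theorem exists_compl_of_coprime (hLR : L ≤ R) (hL : Nrm R L)
    (hc : (Nat.card L).Coprime (L.relIndex R)) :
    ∃ S, L ⊔ S = R ∧ Nat.card S = L.relIndex R := by
  have := hL.normal_subgroupOf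
  obtain ⟨S, hS⟩ := exists_right_complement'_of_coprime (N := L.subgroupOf R)
    (by rwa [Nat.card_congr (subgroupOfEquivOfLe hLR).toEquiv])
  refine ⟨S.map R.subtype, ?_, by
    rw [card_map_of_injective R.subtype_injective, ← hS.symm.index_eq_card]; rfl⟩
  have := congrArg (Subgroup.map R.subtype) hS.sup_eq_top
  rwa [Subgroup.map_sup, map_subtype_subgroupOf hLR, ← MonoidHom.range_eq_map, range_subtype] at this

theorem matchOv_of_lin [G.Normal] [K.Normal] [L.Normal] (hLK : L ≤ K) (hKG : K ≤ G)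
    (hab : ⁅K, K⁆ ≤ L) (hLR : L ≤ R) (hRU : R ≤ U) (hR : Nrm U R) (hKU : K ⊔ U = ⊤)
    (hKU' : K ⊓ U ≤ L) (hKR : K ≤ L ⊔ ⁅K, R⁆) (hν : LinOn L ν) (hi : InvOn ⊤ L ν)
    (hc : (ordOn L ν * L.relIndex G).Coprime (2 * L.relIndex R)) : MatchOv 2 U G (G ⊓ U) L ν := by
  set Z := kerOn L ν
  have : Z.Normal := (nrm_kerOn (nrm_of_normal ⊤ L) hi).normal
  have hZL : Z ≤ L := kerOn_le
  set q := QuotientGroup.mk' Z
  have hq : Function.Surjective q := QuotientGroup.mk'_surjective Z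
  have hk : q.ker ≤ L := (QuotientGroup.ker_mk' Z).le.trans hZL
  have : (G.map q).Normal := Normal.map inferInstance q hq
  have : (K.map q).Normal := Normal.map inferInstance q hq
  have hLU := hLR.trans hRU
  have hinf : ∀ X, (X ⊓ U).map q = X.map q ⊓ U.map q := fun X => le_antisymm (map_inf_le _ _ _) (by
    rintro _ ⟨⟨x, hx, rfl⟩, h⟩
    exact mem_map_of_mem q ⟨hx, (comap_map_eq_self (hk.trans hLU)).le h⟩)
  have hc1 := coprime_relIndex_kerOn hν hc.coprime_mul_right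
  have hc2 : (Nat.card (G.map q)).Coprime (2 * L.relIndex R) := by
    rw [PGrp.card_map_mk', ← relIndex_mul_relIndex Z L G hZL (hLK.trans hKG)]
    exact hc1.mul_left hc.coprime_mul_left
  have hL : L.map q ≤ center _ := by
    rintro _ ⟨l, hl, rfl⟩
    refine mem_center_iff.2 fun g => ?_
    obtain ⟨g, rfl⟩ := hq g
    rw [← commutatorElement_eq_one_iff_mul_comm, ← map_commutatorElement]
    exact (QuotientGroup.eq_one_iff _).2 (hν.commutator_mem (nrm_of_normal ⊤ L) hi trivial hl)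
  have hz : ∀ l ∈ L.map q, ∀ g, g * l = l * g := fun l hl => mem_center_iff.1 (hL hl)
  have e : (L.map q).relIndex (R.map q) = L.relIndex R := by
    rw [← relIndex_comap, comap_map_eq_self hk]
  obtain ⟨S, h1, h2⟩ := exists_compl_of_coprime (map_mono hLR : L.map q ≤ R.map q)
    (fun g _ l hl => by rwa [hz l hl, mul_inv_cancel_right])
    (by rw [e, PGrp.card_map_mk']; exact hc1.coprime_mul_left_right)
  rw [e] at h2
  have hSR : S ≤ R.map q := h1 ▸ le_sup_right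
  obtain ⟨φ, h3, h4⟩ := hν.irrOn.exists_comp q ((triv_kerOn (K := L)).mono (by simp [q, Z]))
  have h5 := matchOv_of_central (G := G.map q) (K := K.map q) (U := U.map q) (S := S) hL
    (map_mono hLU) (map_mono hLK) (map_mono hKG) (by rw [← map_commutator]; exact map_mono hab)
    (hSR.trans (map_mono hRU)) (fun u hu s hs => PF.mem_of_coprime_of_mem_sup (C := L.map q)
      (fun l hl s hs => by rwa [← hz l hl, mul_inv_cancel_right]) (by
        rw [h1]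
        obtain ⟨u, hu, rfl⟩ := hu
        obtain ⟨r, hr, rfl⟩ := hSR hs
        simpa only [map_mul, map_inv] using mem_map_of_mem q (hR u hu r hr)) (by
        rw [PF.orderOf_conj', PGrp.card_map_mk']
        exact (h2 ▸ hc1.coprime_mul_left_right.symm).coprime_dvd_left (orderOf_dvd_natCard _ hs)))
    (by rw [← Subgroup.map_sup, hKU, map_top_of_surjective q hq]) (hinf K ▸ map_mono hKU')
    ((map_mono hKR).trans (by
      rw [Subgroup.map_sup, map_commutator]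
      refine sup_le_sup_left (commutator_le.2 fun k hk r hr => ?_) _
      obtain ⟨s, hs, l, hl, rfl⟩ := exists_mul_of_mem_sup_nrm (H := S) (N := L.map q)
        (fun g _ l hl => by rwa [hz l hl, mul_inv_cancel_right]) (by rwa [sup_comm, h1])
      rw [show ⁅k, s * l⁆ = ⁅k, s⁆ by
        rw [commutatorElement_def, commutatorElement_def, ← mul_assoc, mul_assoc _ l, ← hz l hl]
        group]
      exact commutator_mem_commutator hk hs))
    (h2 ▸ hc2.coprime_mul_left_right) hc2.coprime_mul_right_right.odd_of_right (irrOn_of_mem h3)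
  rw [← hinf, matchOv_comp_iff q (nrm_of_normal _ _) ((nrm_of_normal _ _).inf (nrm_self U)) hk
    (le_inf (hLK.trans hKG) hLU) inf_le_left (irrOn_of_mem h3)] at h5
  exact h5.congr fun x hx => (h4 x hx).symm

omit [Finite Γ] in
theorem comm_mem_of_sup_cent (hSK : Nrm S K) (hK : Nrm G K)
    (hG : K ⊔ G ⊓ centralizer (S : Set Γ) = G) : ∀ s ∈ S, ∀ g ∈ G, s * g * s⁻¹ * g⁻¹ ∈ K :=
  fun s hs g hg => by
    obtain ⟨k, hk, c, hc, rfl⟩ := exists_mul_of_mem_sup_nrm' (hK.mono inf_le_left)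
      (sup_comm K _ ▸ hG.ge hg)
    rw [show s * (k * c) * s⁻¹ * (k * c)⁻¹ = s * k * (c * s⁻¹) * c⁻¹ * k⁻¹ by group,
      ← hc.2 _ (inv_mem hs)]
    simpa [mul_assoc] using mul_mem (hSK s hs k hk) (inv_mem hk)

theorem matchOv_of_invOn (hSG : Nrm S G) (hc : (Nat.card G).Coprime (Nat.card S))
    (ho : Odd (Nat.card G)) (hLK : L ≤ K) (hKG : K ≤ G) (hK : Nrm G K) (hL : Nrm G L)
    (hSK : Nrm S K) (hSL : Nrm S L) (hab : ⁅K, K⁆ ≤ L) (hs : Group.IsSolvable G)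
    (hG : K ⊔ G ⊓ centralizer (S : Set Γ) = G) (hφ : IrrOn L φ) (hi : InvOn G L φ)
    (hi' : InvOn S L φ) : MatchOv 2 S G (L ⊔ G ⊓ centralizer (S : Set Γ)) L φ := by
  set C := G ⊓ centralizer (S : Set Γ)
  set H := L ⊔ C
  set K₁ := L ⊔ ⁅K, S⁆
  have hLG := hLK.trans hKG
  have hHG : H ≤ G := sup_le hLG inf_le_left
  have hCS : Nrm C S := nrm_of_le_normalizer (inf_le_right.trans (centralizer_le_normalizer _))
  have hSC : Nrm S C := nrm_inf_centralizer hSG (nrm_self S)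
  have hSH : Nrm S H := hSL.sup hSC
  have hcK := hc.coprime_dvd_left (card_dvd_of_le hKG)
  have hKS : ⁅K, S⁆ ≤ K := commutator_le_of_le_normalizer hSK.le_normalizer
  have hK₁ : K₁ ≤ K := sup_le hLK hKS
  have nsup : ∀ {A B X : Subgroup Γ}, Nrm A X → Nrm B X → Nrm (A ⊔ B) X := fun h h' =>
    nrm_of_le_normalizer (sup_le h.le_normalizer h'.le_normalizer)
  have hGK₁ : Nrm G K₁ := hG ▸ nsup (nrm_of_commutator_le hK₁ (hab.trans le_sup_left))
    ((hL.mono inf_le_left).sup ((hK.mono inf_le_left).commutator hCS))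
  have hSK₁ : Nrm S K₁ := hSL.sup (hSK.commutator (nrm_self S))
  have h1 : G ⊓ (H ⊔ S) = H := le_antisymm (fun x hx => by
    obtain ⟨h, hh, s, hs, rfl⟩ := exists_mul_of_mem_sup_nrm' hSH (sup_comm H S ▸ hx.2)
    have : s ∈ G ⊓ S := ⟨(mul_mem_cancel_left (hHG hh)).1 hx.1, hs⟩
    rw [inf_eq_bot_of_coprime_card hc.symm, mem_bot] at this
    rwa [this, mul_one]) (le_inf hHG le_sup_left)
  have h2 : K₁ ⊓ (H ⊔ S) ≤ L := fun x hx => by
    obtain ⟨l, hl, c, hc', rfl⟩ := exists_mul_of_mem_sup_nrm' (hL.mono (inf_le_left : C ≤ G))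
      ((sup_comm L C).le (h1.le ⟨hKG (hK₁ hx.1), hx.2⟩))
    have a := (mul_mem_cancel_left (mem_sup_left hl : l ∈ K₁)).1 hx.1
    have hKL := (hL.mono hKG).le_normalizer
    have := (isMulCommutative_mim_iff (f := qmk L) hKL).2 (by rwa [mker_qmk])
    have b := centralizer_inf_commutator_eq_bot (A := quo L S) (V := quo L K)
      (mim_norm _ hSK.le_normalizer) (coprime_card_mim _ hcK.symm)
    have hcn := hKL (hK₁ a)
    refine mul_mem hl ((qmk_eq_one_iff hcn).1 (mem_bot.1 (b.le ⟨⟨mem_mim_of_mem _ (hK₁ a),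
      mim_cent _ inf_le_right (mem_mim_of_mem hcn hc')⟩, ?_⟩)))
    rw [← mim_commutator hKL hSL.le_normalizer, ← quo_sup_left (hKS.trans hKL)]
    exact mem_mim_of_mem _ a
  have h3 : K₁ ⊔ (H ⊔ S) = G ⊔ S := le_antisymm (sup_le ((hK₁.trans hKG).trans le_sup_left)
    (sup_le_sup_right hHG S)) (sup_le (by
      have hC : C ≤ K₁ ⊔ (H ⊔ S) := le_sup_right.trans (le_sup_left.trans le_sup_right)
      refine hG.ge.trans (sup_le ((commutator_sup_centralizer hSK.le_normalizer hcK.symm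
        (Or.inr (isSolvable_of_le' hKG hs))).ge.trans (sup_le (le_sup_right.trans le_sup_left)
          ((inf_le_inf_right _ hKG).trans hC))) hC)) (le_sup_right.trans le_sup_right))
  have h4 : K₁ ≤ L ⊔ ⁅K₁, L ⊔ S⁆ := sup_le_sup_left ((commutator_commutator_eq hSK.le_normalizer
    hcK.symm).ge.trans (commutator_mono le_sup_right le_sup_right)) L
  have h5 : Nrm (H ⊔ S) (L ⊔ S) := nsup (nsup ((nrm_self _).mono le_sup_left)
    ((hL.mono inf_le_left).sup hCS)) ((nrm_self _).mono le_sup_right)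
  obtain ⟨Δ, _, _, π, τ, ν, c⟩ := exists_cover (hLG.trans le_sup_left) (nsup hL hSL) hφ
    (invOn_sup hL hSL hi hi')
  have hn : ∀ {A X : Subgroup Γ}, Nrm A X → Nrm (A.comap π) (X.comap π) := fun h a ha x hx => by
    simpa only [mem_comap, map_mul, map_inv] using h _ ha _ hx
  have hn' : ∀ {X : Subgroup Γ}, Nrm (G ⊔ S) X → (X.comap π).Normal := fun h =>
    (c.comap_self ▸ hn h).normal
  have := hn' (nsup (nrm_self G) hSG)
  have := hn' (nsup hGK₁ hSK₁)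
  have := hn' (nsup hL hSL)
  have hU : H ⊔ S ≤ G ⊔ S := sup_le_sup_right hHG S
  have hK₁' : K₁ ≤ G ⊔ S := (hK₁.trans hKG).trans le_sup_left
  have hR : L ⊔ S ≤ H ⊔ S := sup_le_sup_right le_sup_left S
  have hLH : L ≤ H := le_sup_left
  have h6 := matchOv_of_lin (G := G.comap π) (K := K₁.comap π) (L := L.comap π)
    (R := (L ⊔ S).comap π) (U := (H ⊔ S).comap π) (comap_mono le_sup_left)
    (comap_mono (hK₁.trans hKG)) (by
      rw [← map_le_iff_le_comap, map_commutator, c.map_comap hK₁']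
      exact (commutator_mono hK₁ hK₁).trans hab) (comap_mono le_sup_left) (comap_mono hR) (hn h5)
    (by rw [comap_sup_eq_of_le_range π (c.range ▸ hK₁') (c.range ▸ hU), h3, c.comap_self])
    (fun x hx => h2 hx) (by
      rw [← sup_eq_left.2 ((c.ker_le L).trans (le_sup_left (b := ⁅K₁.comap π, (L ⊔ S).comap π⁆))),
        ← Subgroup.map_le_map_iff, Subgroup.map_sup, map_commutator, c.map_comap hK₁', c.map_comap c.le,
        c.map_comap (hR.trans hU)]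
      exact h4) c.lin c.inv (by
      rw [c.relIndex_comap L le_sup_left, c.relIndex_comap L (hR.trans hU)]
      have a : (2 * L.relIndex (L ⊔ S)).Coprime (Nat.card G) := ho.coprime_two_left.mul_left
        (hc.symm.coprime_dvd_left (relIndex_sup_dvd hSL))
      refine Nat.Coprime.mul_left (Nat.Coprime.coprime_dvd_left (ordOn_dvd_iff.2 c.ord) ?_)
        (a.symm.coprime_dvd_left (relIndex_dvd_card L G))
      rw [mul_comm (charDegree φ)]
      exact (hφ.coprime_of_hall (a.coprime_dvd_right (card_dvd_of_le hLG))).symm)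
  rw [← comap_inf, h1] at h6
  have hUG : Nrm (H ⊔ S) G := nsup ((nrm_self G).mono hHG) hSG
  have hUH : Nrm (H ⊔ S) H := nsup (nrm_self H) hSH
  have h7 : MatchOv 2 _ _ _ _ (φ ∘ π) := (h6.mul (η := τ) (comap_mono hLH) (comap_mono hHG) (c.nrm_comap _) (hn hUG) (hn hUH)
    (c.nrm_comap _) (c.char.mono le_top) c.lin.irrOn (c.invOn _) c.irr_mul (c.invOn _)
    (c.char.classOn.mono le_top le_top)).congr c.eq
  rw [← matchOv_comp_iff π (hn hUG) (hn hUH) (c.ker_le L) (comap_mono hLH) (comap_mono hHG)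
    (by rwa [c.map_comap c.le]), c.map_comap hU, c.map_comap le_sup_left, c.map_comap c.le,
    c.map_comap (hHG.trans le_sup_left)] at h7
  have h8 : ∀ X, H ≤ X → Nrm S X → OvInv S X L φ = OvInv (H ⊔ S) X L φ := fun X h h' =>
    Set.ext fun χ => and_congr_right fun hχ => ⟨invOn_sup ((nrm_self X).mono h) h'
      ((irrOn_of_mem (IrrOver_subset hχ)).classOn.mono h le_rfl), fun h => h.mono le_sup_right le_rfl⟩
  unfold MatchOv
  rwa [h8 G hHG hSG, h8 H le_rfl hSH]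

/-- **Isaacs' odd multiplicity correspondence** for an abelian section. -/
theorem match_isaacs (hSG : Nrm S G) (hc : (Nat.card G).Coprime (Nat.card S))
    (ho : Odd (Nat.card G)) (hLK : L ≤ K) (hKG : K ≤ G) (hK : Nrm G K) (hL : Nrm G L)
    (hSK : Nrm S K) (hSL : Nrm S L) (hab : ⁅K, K⁆ ≤ L) (hs : Group.IsSolvable G)
    (hG : K ⊔ G ⊓ centralizer (S : Set Γ) = G) :
    Match 2 (IrrInv S G : Set (Γ → ℂ)) (IrrInv S (L ⊔ G ⊓ centralizer (S : Set Γ)) : Set (Γ → ℂ))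
      (mult (L ⊔ G ⊓ centralizer (S : Set Γ))) := by
  have hLG := hLK.trans hKG
  have hHG : L ⊔ G ⊓ centralizer (S : Set Γ) ≤ G := sup_le hLG inf_le_left
  have hSH : Nrm S (L ⊔ G ⊓ centralizer (S : Set Γ)) := hSL.sup (nrm_inf_centralizer hSG (nrm_self S))
  have ex : ∀ X, L ≤ X → X ≤ G → Nrm S X → ∀ χ ∈ IrrInv S X, ∃ θ ∈ Irr L, dot L χ θ ≠ 0 ∧
      InvOn S L θ := fun X h1 h2 h3 χ hχ => exists_invOn_under h3 hSL h1 (hL.mono h2)
    (hc.coprime_dvd_left ((relIndex_dvd_card L X).trans (card_dvd_of_le h2)))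
    (Or.inr (isSolvable_mim _ (isSolvable_of_le' h2 hs))) (irrOn_of_mem (mem_IrrInv.1 hχ).1)
    (mem_IrrInv.1 hχ).2
  refine match_glue le_sup_left hHG hL (ex G hLG le_rfl hSG) (ex _ le_sup_left hHG hSH)
    (fun θ hθ hi k hk hi' => ?_) fun θ hθ hi => ?_
  all_goals
    have hT : inertia G L θ ≤ G := inertia_le
    have hST := nrm_inertia hSG hSL hL hi
    have hcT := hc.coprime_dvd_left (card_dvd_of_le hT)
    have hsT := isSolvable_of_le' hT hs
  · obtain ⟨t, ht, h⟩ := exists_mul_mem_centralizer' hST.le_normalizer hcT.symm (Or.inr hsT) (k := k)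
      fun a ha => mem_inertia'.2 ⟨mul_mem (hSG a ha k hk) (inv_mem hk), by
        rw [cut_of_mem_Irr hθ, ← cj_cj, ← cj_cj, ← cj_cj, cj_eq_of_invOn hSL hθ hi ha,
          cj_eq_of_invOn hSL (cj_mem_Irr hL hθ hk) hi' (inv_mem ha), cj_cj, mul_inv_cancel, cj_one]⟩
    refine ⟨t * k, mem_sup_right ⟨mul_mem (hT ht) hk, h⟩, ?_⟩
    have := (mem_inertia'.1 ht).2
    rw [cut_of_mem_Irr hθ] at this
    rw [← cj_cj, this]
  · have hθ' := irrOn_of_mem hθ
    have hLT := le_inertia hLG hL hθ'.classOn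
    refine MatchOv.of_inertia ?_ le_sup_left hHG hL hSG hSH hSL hθ' hi
    have e : inertia (L ⊔ G ⊓ centralizer (S : Set Γ)) L θ =
        L ⊔ inertia G L θ ⊓ centralizer (S : Set Γ) := by
      rw [inertia_of_le hHG]
      refine le_antisymm (fun x hx => ?_) (sup_le (le_inf hLT le_sup_left)
        (le_inf inf_le_left ((inf_le_inf_right _ hT).trans le_sup_right)))
      obtain ⟨l, hl, c, hc', rfl⟩ := exists_mul_of_mem_sup_nrm' (hL.mono inf_le_left)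
        (sup_comm L _ ▸ hx.2)
      exact mul_mem (mem_sup_left hl) (mem_sup_right ⟨(mul_mem_cancel_left (hLT hl)).1 hx.1, hc'.2⟩)
    rw [e]
    refine matchOv_of_invOn (K := K ⊓ inertia G L θ) hST hcT (ho.of_dvd_nat (card_dvd_of_le hT))
      (le_inf hLK hLT) inf_le_right ((hK.mono hT).inf (nrm_self _)) (hL.mono hT) (hSK.inf hST) hSL
      ((commutator_mono inf_le_left inf_le_left).trans hab) hsT
      (sup_centralizer_eq_of_commutator_le (hSK.inf hST).le_normalizer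
        (hcT.symm.coprime_dvd_right (card_dvd_of_le inf_le_right))
        (Or.inr (isSolvable_of_le' inf_le_right hsT)) inf_le_right (le_inf ?_
          (commutator_le_of_le_normalizer hST.le_normalizer))) hθ' (invOn_inertia hL) hi
    rw [commutator_comm]
    exact commutator_le.2 fun s hs g hg => comm_mem_of_sup_cent hSK hK hG s hs g (hT hg)

end Cfsg.Lib.Coprime
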