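import Cfsg.Agent.Lib.Coprime.EqConj
import Cfsg.Agent.Lib.JTW.Cor
import Cfsg.Agent.Lib.PGrp.Alperin

/-!
# Groups in which abelian subgroups of equal order are conjugate
-/

set_option autoImplicit false

namespace Cfsg.Lib.Coprime

open Subgroup Cfsg.Lib.Core Cfsg.Lib.Amalg Cfsg.Lib.Linear

variable {G : Type*} [Group G] [Finite G] {p : ℕ} [Fact p.Prime]

theorem PC.two_pow_cases (h : PC 2 G) {L : Subgroup G} [L.Normal] (hC : centralizer (L : Set G) = ⊥) (S : Sylow 2 G)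
    (hS : IsElementaryAbelian 2 (S : Subgroup G)) (hL : (S : Subgroup G) ≤ L) {F : Type*} [Field F] [Finite F] {n : ℕ}
    (hF : Nat.card F = 2 ^ n) (hn : 2 ≤ n) (e : L ≃* PSL2 F) : n = 2 ∨ n = 3 ∨ n = 5 := by
  have := Fintype.ofFinite F
  have := BS.charP_two_of_card (Nat.card_eq_fintype_card.symm.trans hF)
  have he : Even (2 ^ n) := (Nat.even_pow' (by omega)).2 even_two
  have c1 : Nat.card L = 2 ^ n * (2 ^ n - 1) * (2 ^ n + 1) := by
    rw [Nat.card_congr e.toEquiv, card_PSL_two_of_even (hF ▸ he), hF]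
  have ho : Odd L.index := Nat.not_even_iff_odd.1 fun e => S.not_dvd_index (e.two_dvd.trans (index_dvd_of_le hL))
  have c2 : Nat.card G = 2 ^ n * (2 ^ n - 1) * (2 ^ n + 1) * L.index := by rw [← c1, L.card_mul_index]
  have c3 : Nat.card S = 2 ^ n := card_sylow_of_eq S (m := (2 ^ n - 1) * (2 ^ n + 1) * L.index) (by rw [c2]; ring)
    (Odd.not_two_dvd_nat (((Nat.Even.sub_odd Nat.one_le_two_pow he odd_one).mul he.add_one).mul ho))
  set N := normalizer ((S : Subgroup G) : Set G) with hN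
  have c4 : N.relIndex L = 2 ^ n + 1 := by
    rw [← Hall.card_sylow_eq_relIndex (Transfer.sylowIn_of_le S hL), card_sylow_equiv e, card_sylow_PSL2, hF]
  have c5 : N.index = 2 ^ n + 1 := by
    rw [Hall.index_eq_mul_relIndex N L, show N ⊔ L = ⊤ from S.normalizer_sup_eq_top' hL, index_top, one_mul, c4]
  have c6 : Nat.card N = 2 ^ n * ((2 ^ n - 1) * L.index) := Nat.eq_of_mul_eq_mul_right (Nat.succ_pos (2 ^ n)) (by
    rw [Nat.succ_eq_add_one, ← c5, N.card_mul_index, c5, c2]; ring)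
  have c7 : Nat.card ((S : Subgroup G).subgroupOf N) = 2 ^ n := (card_subgroupOf_of_le le_normalizer).trans c3
  have c8 := (h.norm S hS.1).klein_count ((syl_top S).of_le le_normalizer le_top).subgroupOf_top
    ((isElemAb_subgroupOf_iff le_normalizer).2 hS) (c7 ▸ Nat.pow_le_pow_right two_pos hn)
  rw [show ((S : Subgroup G).subgroupOf N).index = (2 ^ n - 1) * L.index from
    Nat.eq_of_mul_eq_mul_left (Nat.two_pow_pos n) (by rw [← c6, ← c7, card_mul_index]), c7] at c8
  have c9 : Nat.card (MulAut (PSL2 F)) = 2 ^ n * (2 ^ n - 1) * (2 ^ n + 1) * n := by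
    rw [card_mulAut_PSL_two, card_PGL_two, BS.card_aut hF, hF, mul_comm]
  obtain ⟨φ, hφ⟩ := exists_inj_mulAut hC e
  have d1 := card_dvd_of_injective φ hφ
  rw [c2, c9, Nat.mul_dvd_mul_iff_left (c1 ▸ Nat.card_pos)] at d1
  have := arith_two hn d1 ho c8
  omega

theorem exists_klein_of_simple [IsSimpleGroup G] (hG : ¬ IsMulCommutative G) : ∃ E : Subgroup G, IsKleinFour E := by
  by_contra! h
  obtain ⟨t, ht⟩ := exists_prime_orderOf_dvd_card' (G := G) 2 (FT.even_card_of_simple G fun h => hG ⟨⟨h⟩⟩).two_dvd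
  exact Invol.ne_one_of_two ht ((Small.center_eq_bot_of_simple hG).le
    (Block.z_star_center (Gold.core_of_simple hG) ((Block.uniqInv_of_no_klein h).isolated ht)))

/-- abelian subgroups of the same order are conjugate -/
def AC (G : Type*) [Group G] : Prop := ∀ A B : Subgroup G, IsMulCommutative A → IsMulCommutative B →
  Nat.card A = Nat.card B → ∃ g : G, B = A.map (MulAut.conj g).toMonoidHom

theorem AC.pow_eq_one (h : AC G) {E : Subgroup G} (h1 : IsMulCommutative E) (h2 : Nat.card E = p ^ 2) (h3 : ∀ x ∈ E, x ^ p = 1)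
    {x : G} {k : ℕ} (hx : x ^ p ^ k = 1) : x ^ p = 1 := by
  obtain ⟨j, -, hj⟩ := (Nat.dvd_prime_pow Fact.out).1 (orderOf_dvd_of_pow_eq_one hx)
  by_cases h4 : j ≤ 1
  · exact orderOf_dvd_iff_pow_eq_one.1 (hj ▸ (pow_dvd_pow p h4).trans (pow_one p).dvd)
  obtain ⟨i, rfl⟩ := Nat.exists_eq_add_of_le (show 2 ≤ j by omega)
  have h5 : orderOf (x ^ p ^ i) = p ^ 2 := by
    rw [orderOf_pow_of_dvd (pow_ne_zero _ (Fact.out : p.Prime).ne_zero) (hj ▸ pow_dvd_pow p (by omega)), hj, pow_add,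
      Nat.mul_div_cancel _ (pow_pos (Fact.out : p.Prime).pos _)]
  obtain ⟨g, hg⟩ := h E _ h1 inferInstance (h2.trans (h5.symm.trans (Nat.card_zpowers _).symm))
  obtain ⟨y, hy, e⟩ := hg.le (mem_zpowers _)
  have h6 := orderOf_dvd_of_pow_eq_one (show (x ^ p ^ i) ^ p = 1 by rw [← e, ← map_pow, h3 y hy, map_one])
  rw [h5, sq] at h6
  exact absurd (Nat.dvd_one.1 (Nat.dvd_of_mul_dvd_mul_left (Fact.out : p.Prime).pos (h6.trans (mul_one p).symm.dvd))) (Fact.out : p.Prime).ne_one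

theorem AC.zpowers (h : AC G) {x y : G} (e : orderOf x = orderOf y) : ∃ g, zpowers y = zpowers (g * x * g⁻¹) :=
  let ⟨g, hg⟩ := h _ _ inferInstance inferInstance ((Nat.card_zpowers x).trans (e.trans (Nat.card_zpowers y).symm))
  ⟨g, hg.trans (cj_zpowers g x)⟩

theorem AC.not_ree (h : AC G) {M : Subgroup G} [hM : M.Normal] {S : Subgroup M} (r : JTW.ReeC S) : False := by
  have := Fact.mk Nat.prime_three
  obtain ⟨P, H, q, b⟩ : ∃ (P H : Subgroup M) (q : ℕ), JTW.BN P H q := let ⟨_, _, _, _, _, _, _, _, _, _, _, _, P, H, b, _⟩ := r; ⟨P, H, _, b⟩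
  have h1 := r.not_comm b.syl
  obtain ⟨E, -, h2, h3⟩ := PGrp.exists_elem_card_sq_of_not_isCyclic' (p := 3) (by decide) b.syl.isPGroup fun e => h1 inferInstance
  have h4 : ∀ x ∈ P, x ≠ 1 → orderOf (x : G) = 3 := fun x hx e => by
    obtain ⟨k, hk⟩ := isPGroup_iff_mem.1 b.syl.isPGroup x hx
    have := h2.1
    refine orderOf_eq_prime (h.pow_eq_one (E := E.map M.subtype) (k := k) (map_isMulCommutative _ _)
      ((card_map_of_injective M.subtype_injective).trans h3) ?_ (congrArg Subtype.val hk)) fun e' => e (Subtype.ext e')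
    rintro _ ⟨y, hy, rfl⟩
    exact congrArg Subtype.val (h2.2 y hy)
  have : Nontrivial P := (nontrivial_iff_ne_bot P).2 fun e => h1 (e ▸ inferInstance)
  have := b.syl.isPGroup.center_nontrivial
  obtain ⟨⟨z, hz⟩, z1⟩ := exists_ne (1 : center P)
  have z2 : (z : M) ≠ 1 := fun e => z1 (Subtype.ext (Subtype.ext e))
  refine h1 ⟨⟨fun x y => Subtype.ext (by_cases (fun e : (x : M) = 1 => by simp [e]) fun e => ?_)⟩⟩
  obtain ⟨g, hg⟩ := h.zpowers ((h4 z z.2 z2).trans (h4 x x.2 e).symm)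
  let α := (MulAut.conjNormal (H := M) g).toMonoidHom
  have h5 : P.map α ≤ centralizer {(x : M)} := by
    rintro _ ⟨u, hu, rfl⟩
    obtain ⟨k, hk⟩ := hg.le (mem_zpowers _)
    refine mem_centralizer_singleton_iff.2 (Subtype.ext ?_)
    have h6 : Commute (u : G) z := congrArg (fun a : P => ((a : M) : G)) (mem_center_iff.1 hz ⟨u, hu⟩)
    simpa [← hk, α] using ((h6.map (MulAut.conj g)).zpow_right k).eq
  have h7 := (b.syl.map_top (f := α) (MulAut.conjNormal (H := M) g).surjective).le_of_le_normalizer b.syl.isPGroup le_top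
    (h5.trans (b.cent x x.2 e))
  exact (mem_centralizer_singleton_iff.1 (h5 (h7 y.2))).symm

end Cfsg.Lib.Coprime
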