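import Cfsg.Agent.Lib.Coprime.Spec5

/-!
# The affine group `F² ⋊ SL₂(F)` inside `SL₃(F)`
-/

set_option autoImplicit false
set_option linter.unusedSectionVars false

namespace Cfsg.Lib.Coprime

open Cfsg Subgroup Cfsg.Lib.Exc Matrix

local notation "SL2" => Matrix.SpecialLinearGroup (Fin 2)
local notation "SL3" => Matrix.SpecialLinearGroup (Fin 3)

variable {F : Type*} [Field F]

/-- matrices with last row `(0,0,1)` -/
def affS (F : Type*) [Field F] : Subgroup (SL3 F) where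
  carrier := {M | (M : Matrix (Fin 3) (Fin 3) F) 2 0 = 0 ∧ (M : Matrix (Fin 3) (Fin 3) F) 2 1 = 0 ∧
    (M : Matrix (Fin 3) (Fin 3) F) 2 2 = 1}
  mul_mem' := fun {a b} ⟨h1, h2, h3⟩ ⟨k1, k2, k3⟩ => by
    simp [Matrix.mul_apply, Fin.sum_univ_three, h1, h2, h3, k1, k2, k3]
  one_mem' := by simp
  inv_mem' := fun {a} ⟨h1, h2, h3⟩ => by
    have := a.2
    rw [Matrix.det_fin_three, h1, h2, h3] at this
    change a.1.adjugate 2 0 = 0 ∧ a.1.adjugate 2 1 = 0 ∧ a.1.adjugate 2 2 = 1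
    rw [Matrix.adjugate_fin_three]
    refine ⟨by simp [h1, h2], by simp [h1, h2], ?_⟩
    simp only [Matrix.of_apply, Matrix.cons_val', Matrix.cons_val, Matrix.cons_val_fin_one]
    linear_combination this

theorem closure_affS : Subgroup.closure {M : SL3 F | (M : Matrix (Fin 3) (Fin 3) F) 2 0 = 0 ∧
    (M : Matrix (Fin 3) (Fin 3) F) 2 1 = 0 ∧ (M : Matrix (Fin 3) (Fin 3) F) 2 2 = 1} = affS F :=
  closure_eq (affS F)

/-- the linear part -/
def affB (F : Type*) [Field F] : affS F →* SL2 F where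
  toFun M := ⟨!![M.1.1 0 0, M.1.1 0 1; M.1.1 1 0, M.1.1 1 1], by
    have := M.1.2
    rw [Matrix.det_fin_three, M.2.1, M.2.2.1, M.2.2.2] at this
    rw [Matrix.det_fin_two_of]
    linear_combination this⟩
  map_one' := by ext i j; fin_cases i <;> fin_cases j <;> simp
  map_mul' a b := by
    ext i j
    change !![(a.1.1 * b.1.1) 0 0, (a.1.1 * b.1.1) 0 1; (a.1.1 * b.1.1) 1 0, (a.1.1 * b.1.1) 1 1] i j =
      (!![a.1.1 0 0, a.1.1 0 1; a.1.1 1 0, a.1.1 1 1] * !![b.1.1 0 0, b.1.1 0 1; b.1.1 1 0, b.1.1 1 1]) i j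
    fin_cases i <;> fin_cases j <;> simp [Matrix.mul_apply, Fin.sum_univ_three, Fin.sum_univ_two, b.2.1, b.2.2.1]

/-- the translation part -/
def affC (M : affS F) : Fin 2 → F := ![M.1.1 0 2, M.1.1 1 2]

theorem affC_mul (a b : affS F) : affC (a * b) = affC a + affB F a • affC b := by
  change _ = _ + !![a.1.1 0 0, a.1.1 0 1; a.1.1 1 0, a.1.1 1 1] *ᵥ _
  ext i
  fin_cases i <;> simp [affC, Matrix.mul_apply, Fin.sum_univ_three, b.2.2.2, Matrix.mulVec, dotProduct] <;> ring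

theorem affC_one : affC (1 : affS F) = 0 := by ext i; fin_cases i <;> simp [affC]

theorem aff_ext {a b : affS F} (h1 : affB F a = affB F b) (h2 : affC a = affC b) : a = b := by
  have h3 := fun i j => congrFun (congrFun (congrArg Subtype.val h1) i) j
  ext i j
  fin_cases i <;> fin_cases j
  exacts [h3 0 0, h3 0 1, congrFun h2 0, h3 1 0, h3 1 1, congrFun h2 1, a.2.1.trans b.2.1.symm,
    a.2.2.1.trans b.2.2.1.symm, a.2.2.2.trans b.2.2.2.symm]

theorem exists_aff (A : SL2 F) (x : Fin 2 → F) : ∃ M : affS F, affB F M = A ∧ affC M = x := by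
  refine ⟨⟨⟨!![A.1 0 0, A.1 0 1, x 0; A.1 1 0, A.1 1 1, x 1; 0, 0, 1], ?_⟩, rfl, rfl, rfl⟩, ?_, ?_⟩
  · have := A.2
    rw [Matrix.det_fin_two] at this
    simp [Matrix.det_fin_three, this]
  · ext i j; fin_cases i <;> fin_cases j <;> rfl
  · ext i; fin_cases i <;> rfl

theorem spec_affS [Fintype F] {n : ℕ} (hF : Fintype.card F = 2 ^ n) (m : ℕ) :
    (∃ y : affS F, orderOf y = m) ↔ m ∣ 4 ∨ m ∣ 2 ^ n - 1 ∨ m ∣ 2 ^ n + 1 := by
  classical
  have h1 := Nat.card_eq_fintype_card.trans hF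
  have := Linear.charP_two_of_card h1
  have h2 := Linear.two_le_card_field (F := F)
  obtain ⟨f⟩ := Linear.nonempty_sl_equiv_psl (ι := Fin 2) (F := F)
    (gcd_even h1 (Nat.pos_of_ne_zero fun e => by rw [h1, e] at h2; omega))
  have h4 : ∀ v : affS F, affB F v = 1 → v ^ 2 = 1 := fun v hv => aff_ext (by rw [map_pow, hv, one_pow, map_one]) (by
    rw [sq, affC_mul, hv, one_smul, affC_one, CharTwo.add_self_eq_zero])
  refine ⟨?_, fun h => ?_⟩
  · rintro ⟨y, rfl⟩
    refine (orderOf_ext (affB F) h4 (fun y v hv h5 h6 => ?_) y).elim (fun h =>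
      ((psl2_even_spec hF _).1 ⟨f _, (f.orderOf_eq _).trans h.symm⟩).imp_left fun h => h.trans (by norm_num)) Or.inl
    have h7 := congrArg affC h6.eq
    rw [affC_mul, affC_mul, hv, one_smul, add_comm (affC v), add_right_inj] at h7
    exact sq_eq_one_of_fixed (fun e => h5 (aff_ext (hv.trans (map_one _).symm) (e.trans affC_one.symm))) h7
  by_cases h5 : m = 4
  · obtain ⟨y, e1, e2⟩ := exists_aff (F := F) ⟨!![1, 1; 0, 1], by simp [Matrix.det_fin_two]⟩ ![0, 1]
    have h6 : affB F (y ^ 2) = 1 := by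
      rw [map_pow, e1]
      exact sq_eq_one_of_fixed (v := ![1, 0]) (by simp) (by
        change !![1, 1; 0, 1] *ᵥ _ = _
        ext i; fin_cases i <;> simp)
    refine ⟨y, h5 ▸ orderOf_eq_prime_pow (p := 2) (n := 1) (fun h7 => ?_) ((pow_mul y 2 2).trans (h4 _ h6))⟩
    have h8 := congrArg affC ((sq y).symm.trans h7)
    rw [affC_mul, e1, e2, affC_one] at h8
    have : (![0, 1] + !![1, 1; 0, 1] *ᵥ ![0, 1] : Fin 2 → F) = 0 := h8
    simpa using congrFun this 0
  · obtain ⟨x, hx⟩ := (psl2_even_spec hF m).2 (h.imp_left fun h => by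
      have := Nat.le_of_dvd (by norm_num) h
      interval_cases m <;> omega)
    obtain ⟨y, e1, e2⟩ := exists_aff (f.symm x) 0
    have h6 : ∀ k, affC (y ^ k) = 0 := fun k => by
      induction k with
      | zero => exact affC_one
      | succ k ih => rw [pow_succ', affC_mul, ih, e2, smul_zero, add_zero]
    refine ⟨y, ?_⟩
    rw [← hx, ← f.symm.orderOf_eq, ← e1]
    exact Nat.dvd_antisymm (orderOf_dvd_of_pow_eq_one (aff_ext (by rw [map_pow, pow_orderOf_eq_one, map_one])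
      ((h6 _).trans affC_one.symm))) (orderOf_map_dvd _ _)

theorem spec_affS_four [Fintype F] (hF : Fintype.card F = 4) :
    Set.range (orderOf : affS F → ℕ) = {1, 2, 3, 4, 5} := by
  ext m
  refine (spec_affS (n := 2) hF m).trans ⟨fun h => ?_, fun h => ?_⟩
  · have : m ≤ 5 := by rcases h with h | h | h <;> exact (Nat.le_of_dvd (by norm_num) h).trans (by norm_num)
    interval_cases m <;> simp_all
  · rcases h with rfl | rfl | rfl | rfl | rfl <;> norm_num

end Cfsg.Lib.Coprime
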