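import Cfsg.Agent.Lib.Coprime.Spec
import Cfsg.Agent.Lib.Core.Subnormal
import Cfsg.Agent.Lib.Hall.Supersolvable

/-! Two primes in `(n/2, n]`, and groups with the order and the element orders of an alternating group. -/

set_option autoImplicit false

namespace Cfsg.Lib.Coprime

open Finset Subgroup Cfsg.Lib.Core

theorem two_primes_large {n : ℕ} (hn : 512 ≤ n) : ∃ p q : ℕ, p.Prime ∧ q.Prime ∧ p ≠ q ∧ n < p ∧ n < q ∧ p ≤ 2 * n ∧ q ≤ 2 * n := by
  obtain ⟨r, hr, h1, h2⟩ := Nat.exists_prime_lt_and_le_two_mul n (by omega)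
  by_contra! H
  let S := {p ∈ range (2 * n / 3 + 1) | Nat.Prime p}
  let f x := x ^ n.centralBinom.factorization x
  have hf : ∀ x, f x ≤ 2 * n := fun x => Nat.pow_factorization_choose_le (by omega)
  have h3 : n.centralBinom = f r * ∏ x ∈ S, f x := by
    rw [← prod_insert (by simp [S]; omega), ← n.prod_pow_factorization_centralBinom]
    refine (prod_subset (fun x hx => ?_) fun x hx h => ?_).symm
    · simp only [S, mem_insert, mem_filter, mem_range] at hx ⊢
      omega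
    by_cases hp : x.Prime
    · simp only [S, mem_insert, mem_filter, mem_range, hp, and_true, not_or] at hx h
      have h4 : x ≤ n := by_contra fun h4 => absurd (H x r hp hr h.1 (by omega) h1 (by omega)) (by omega)
      simp only [f, Nat.factorization_centralBinom_of_two_mul_self_lt_three_mul (by omega : 2 < n) h4 (by omega), pow_zero]
    · simp only [f, Nat.factorization_eq_zero_of_not_prime _ hp, pow_zero]
  have h4 : 1 ≤ (2 * n).sqrt := Nat.sqrt_pos.2 (by omega)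
  have h5 : ∏ x ∈ S with x ≤ (2 * n).sqrt, f x ≤ (2 * n) ^ ((2 * n).sqrt - 1) := by
    refine (prod_le_prod' fun p _ => hf p).trans ?_
    rw [prod_const]
    refine pow_right_mono₀ (by omega) ((card_le_card (t := Icc 2 (2 * n).sqrt) fun x hx => ?_).trans (by simp))
    exact mem_Icc.2 ⟨(mem_filter.1 (mem_filter.1 hx).1).2.two_le, (mem_filter.1 hx).2⟩
  have h6 : ∏ x ∈ S with ¬ x ≤ (2 * n).sqrt, f x ≤ 4 ^ (2 * n / 3) := by
    refine le_trans ?_ (primorial_le_four_pow (2 * n / 3))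
    refine (prod_le_prod' fun p hp => (?_ : f p ≤ p)).trans ?_
    · obtain ⟨h1, h2⟩ := mem_filter.1 hp
      refine (pow_right_mono₀ (mem_filter.1 h1).2.one_lt.le ?_).trans (pow_one p).le
      exact Nat.factorization_choose_le_one (Nat.sqrt_lt'.mp <| not_le.1 h2)
    exact prod_le_prod_of_subset_of_one_le' (filter_subset _ _) fun p hp _ => (mem_filter.1 hp).2.one_lt.le
  have h7 := Nat.four_pow_lt_mul_centralBinom n (by omega)
  rw [h3, ← prod_filter_mul_prod_filter_not S (· ≤ (2 * n).sqrt)] at h7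
  refine (h7.trans_le (le_trans ?_ (bertrand_main_inequality hn))).false
  rw [mul_assoc n, ← mul_assoc (f r), ← mul_pow_sub_one (by omega : (2 * n).sqrt ≠ 0) (2 * n)]
  gcongr
  exact hf r

theorem two_primes {n : ℕ} (hn : 11 ≤ n) : ∃ p q : ℕ, p.Prime ∧ q.Prime ∧ p ≠ q ∧ n < 2 * p ∧ n < 2 * q ∧ p ≤ n ∧ q ≤ n := by
  by_cases h : n < 1024
  · have : ∀ n < 1024, 11 ≤ n → ∃ a ∈ [(7, 11), (11, 13), (17, 19), (29, 31), (43, 47), (79, 83), (149, 151), (281, 283),
      (541, 547)], n < 2 * a.1 ∧ a.2 ≤ n := by decide +kernel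
    obtain ⟨a, ha, h1, h2⟩ := this n h hn
    have : a.1.Prime ∧ a.2.Prime ∧ a.1 < a.2 := by
      simp only [List.mem_cons, List.not_mem_nil, or_false] at ha
      rcases ha with rfl | rfl | rfl | rfl | rfl | rfl | rfl | rfl | rfl <;> norm_num
    exact ⟨a.1, a.2, this.1, this.2.1, by omega, h1, by omega, by omega, h2⟩
  · obtain ⟨p, q, h1, h2, h3, h4⟩ := two_primes_large (n := n / 2) (by omega)
    exact ⟨p, q, h1, h2, h3, by omega⟩

theorem add_le_of_mul_dvd_orderOf {α : Type*} [Fintype α] [DecidableEq α] (σ : Equiv.Perm α) {p q : ℕ} (hp : p.Prime)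
    (hq : q.Prime) (hpq : p ≠ q) (h : p * q ∣ orderOf σ) : p + q ≤ Fintype.card α := by
  have key : ∀ {r : ℕ}, r.Prime → r ∣ orderOf σ → ∃ a ∈ σ.cycleType, r ∣ a := fun hr h => by
    rw [← σ.lcm_cycleType] at h
    generalize σ.cycleType = s at h
    induction s using Multiset.induction_on with
    | empty => exact absurd (Nat.dvd_one.1 h) hr.ne_one
    | cons a s ih =>
      rw [Multiset.lcm_cons] at h
      rcases hr.dvd_mul.1 (h.trans (lcm_dvd_mul _ _)) with h | h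
      · exact ⟨a, Multiset.mem_cons_self _ _, h⟩
      · exact (ih h).imp fun b hb => ⟨Multiset.mem_cons_of_mem hb.1, hb.2⟩
  obtain ⟨a, ha, h1⟩ := key hp (dvd_of_mul_right_dvd h)
  obtain ⟨b, hb, h2⟩ := key hq (dvd_of_mul_left_dvd h)
  have h3 : ∀ {c}, c ∈ σ.cycleType → 0 < c := fun hc => zero_lt_two.trans_le (Equiv.Perm.two_le_of_mem_cycleType hc)
  refine le_trans ?_ σ.sum_cycleType_le
  by_cases e : a = b
  · subst e
    exact (Nat.add_le_mul hp.two_le hq.two_le).trans ((Nat.le_of_dvd (h3 ha)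
      (((Nat.coprime_primes hp hq).2 hpq).mul_dvd_of_dvd_of_dvd h1 h2)).trans (Multiset.le_sum_of_mem ha))
  · rw [← Multiset.cons_erase ha, Multiset.sum_cons]
    exact add_le_add (Nat.le_of_dvd (h3 ha) h1) ((Nat.le_of_dvd (h3 hb) h2).trans
      (Multiset.le_sum_of_mem ((Multiset.mem_erase_of_ne (Ne.symm e)).2 hb)))

variable {G : Type*} [Group G] [Finite G]

theorem mul_mem_spec_of_index {p t : ℕ} (hp : p.Prime) (ht : t.Prime) (hpt : p ≠ t) (h1 : ¬ t ∣ p - 1) (K : Subgroup G)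
    [K.Normal] (h2 : p ∣ Nat.card K) (h3 : ¬ p ^ 2 ∣ Nat.card K) (h4 : t ∣ K.index) :
    p * t ∈ Set.range (orderOf : G → ℕ) := by
  have := Fact.mk hp
  have := Fact.mk ht
  obtain ⟨x, hx⟩ := exists_prime_orderOf_dvd_card' p h2
  have h5 : (Nat.card K).factorization p = 1 := by
    have := (hp.pow_dvd_iff_le_factorization Nat.card_pos.ne').not.1 h3
    have := hp.dvd_iff_one_le_factorization Nat.card_pos.ne' |>.1 h2
    omega
  have h6 := Sylow.normalizer_sup_eq_top (Sylow.ofCard (p := p) (zpowers x) (by rw [Nat.card_zpowers, hx, h5, pow_one]))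
  rw [Sylow.coe_ofCard, MonoidHom.map_zpowers] at h6
  change normalizer (zpowers x.1 : Set G) ⊔ K = ⊤ at h6
  rw [← relIndex_top_right, ← h6, relIndex_sup_right] at h4
  obtain ⟨y, hy⟩ := exists_prime_orderOf_dvd_card' t (h4.trans (relIndex_dvd_card _ _))
  have h7 := orderOf_dvd_natCard ((zpowers x.1).normalizerMonoidHom y)
  rw [IsCyclic.card_mulAut, Nat.card_zpowers, orderOf_coe, hx, Nat.totient_prime hp] at h7
  have h8 : y ∈ (zpowers x.1).normalizerMonoidHom.ker := orderOf_eq_one_iff.1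
    (((Nat.dvd_prime ht).1 (hy ▸ orderOf_map_dvd _ y)).resolve_right fun e => h1 (e ▸ h7))
  rw [normalizerMonoidHom_ker] at h8
  refine ⟨x.1 * y.1, ?_⟩
  rw [Commute.orderOf_mul_eq_mul_orderOf_of_coprime (show Commute x.1 y.1 from h8 _ (mem_zpowers _)), orderOf_coe, orderOf_coe, hx, hy]
  rw [orderOf_coe, orderOf_coe, hx, hy]
  exact (Nat.coprime_primes hp ht).2 hpt

theorem exists_simple_section (π : Set ℕ) (h1 : ∀ p ∈ π, p.Prime ∧ p ∣ Nat.card G ∧ ¬ p ^ 2 ∣ Nat.card G)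
    (h2 : ∀ p ∈ π, ∀ t ∈ π, p ≠ t → ¬ t ∣ p - 1 ∧ p * t ∉ Set.range (orderOf : G → ℕ)) {r s : ℕ} (hr : r ∈ π) (hs : s ∈ π)
    (hrs : r ≠ s) : ∃ (N H : Subgroup G) (_ : N.Normal), H.Normal ∧ N < H ∧ IsSimpleGroup (H ⧸ N.subgroupOf H) ∧
      ¬ IsMulCommutative (H ⧸ N.subgroupOf H) ∧ ∀ p ∈ π, p ∣ Nat.card (H ⧸ N.subgroupOf H) := by
  let N := piCore πᶜ G
  let f := QuotientGroup.mk' N
  have hf := QuotientGroup.mk'_surjective N
  have hN : ∀ p ∈ π, ¬ p ∣ Nat.card N := fun p hp h => isPi_piCore πᶜ G p (h1 p hp).1 h hp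
  obtain ⟨M, _, hM, -, hm⟩ := exists_minimal_normal_le (⊤ : Subgroup (G ⧸ N)) fun e => hN r hr (by
    rw [show N = ⊤ by rw [← QuotientGroup.ker_mk' N, ← MonoidHom.comap_bot, ← e, comap_top], card_top]
    exact (h1 r hr).2.1)
  obtain ⟨p, hp, hpM⟩ : ∃ p ∈ π, p ∣ Nat.card M := by_contra fun h => hM (le_bot_iff.1
    ((le_piCore (π := πᶜ) fun p _ h' hp => h ⟨p, hp, h'⟩).trans piCore_quotient_piCore.le))
  have hc : Nat.card (M.comap f) = Nat.card M * Nat.card N := by
    have := (M.comap f).card_mul_index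
    rw [index_comap_of_surjective _ hf, card_eq_card_quotient_mul_card_subgroup N, ← M.card_mul_index,
      mul_right_comm] at this
    exact Nat.eq_of_mul_eq_mul_right (Nat.pos_of_ne_zero index_ne_zero_of_finite) this
  have h3 : ∀ t ∈ π, t ∣ Nat.card M := fun t ht => by
    by_cases e : p = t
    · exact e ▸ hpM
    have h := (h1 t ht).2.1
    rw [← (M.comap f).card_mul_index, (h1 t ht).1.dvd_mul, hc, (h1 t ht).1.dvd_mul] at h
    exact (h.resolve_right fun h => (h2 p hp t ht e).2 (mul_mem_spec_of_index (h1 p hp).1 (h1 t ht).1 e (h2 p hp t ht e).1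
      _ (hc ▸ hpM.mul_right _) (fun h => (h1 p hp).2.2 (h.trans (card_subgroup_dvd_card _))) h)).resolve_right (hN t ht)
  obtain ⟨e⟩ := Hall.nonempty_quotient_subgroupOf_equiv N (M.comap f)
  rw [map_comap_eq_self_of_surjective hf] at e
  have := Fact.mk (h1 r hr).1
  have := Fact.mk (h1 s hs).1
  have : Nontrivial M := (nontrivial_iff_ne_bot M).2 hM
  have : IsSimpleGroup M := ⟨fun K hK => ?_⟩
  · refine ⟨N, M.comap f, inferInstance, inferInstance, lt_of_le_of_ne ((QuotientGroup.ker_mk' N).ge.trans (ker_le_comap _ _))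
      fun e => hN r hr (e ▸ hc ▸ (h3 r hr).mul_right _), e.isSimpleGroup, fun h => ?_,
      fun t ht => Nat.card_congr e.toEquiv ▸ h3 t ht⟩
    obtain ⟨x, hx⟩ := exists_prime_orderOf_dvd_card' r (h3 r hr)
    obtain ⟨y, hy⟩ := exists_prime_orderOf_dvd_card' s (h3 s hs)
    obtain ⟨z, hz⟩ := hf (x * y).1
    refine (h2 r hr s hs hrs).2 (spec_of_dvd ⟨z, rfl⟩ ((Eq.dvd ?_).trans (orderOf_map_dvd f z)))
    rw [hz, orderOf_coe, Commute.orderOf_mul_eq_mul_orderOf_of_coprime, hx, hy]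
    · exact e.symm.injective (by rw [map_mul, map_mul, h.is_comm.comm])
    · rw [hx, hy]; exact (Nat.coprime_primes (h1 r hr).1 (h1 s hs).1).2 hrs
  by_cases h : r ∣ Nat.card K
  · obtain ⟨x, hx⟩ := exists_prime_orderOf_dvd_card' r h
    have h4 := (hm (normalClosure {x.1.1}) inferInstance (normalClosure_le_normal (by simp))).resolve_left fun e =>
      (h1 r hr).1.ne_one (by
        rw [← hx, orderOf_eq_one_iff]; exact Subtype.ext (Subtype.ext (e.le (subset_normalClosure rfl))))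
    refine Or.inr (map_subtype_inj.1 (le_antisymm (map_mono le_top) ?_))
    rw [← MonoidHom.range_eq_map, range_subtype]
    refine h4.ge.trans ((closure_le _).2 fun y hy => ?_)
    obtain ⟨_, rfl, hy⟩ := Group.mem_conjugatesOfSet_iff.1 hy
    obtain ⟨g, rfl⟩ := isConj_iff.1 hy
    have h5 := ‹M.Normal›.conj_mem _ x.1.2 g
    refine ⟨⟨_, h5⟩, (QuotientGroup.eq_one_iff _).1 (orderOf_eq_one_iff.1 (((Nat.dvd_prime (h1 r hr).1).1 ?_).resolve_right
      fun e => (h1 r hr).2.2 ?_)), rfl⟩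
    · refine (orderOf_map_dvd (QuotientGroup.mk' K) _).trans (orderOf_dvd_of_pow_eq_one (Subtype.ext ?_))
      change (g * x.1.1 * g⁻¹) ^ r = 1
      rw [conj_pow, ← hx, ← orderOf_coe, ← orderOf_coe, pow_orderOf_eq_one, mul_one, mul_inv_cancel]
    · refine (Dvd.dvd.trans ?_ (card_subgroup_dvd_card M)).trans (card_quotient_dvd_card N)
      rw [card_eq_card_quotient_mul_card_subgroup K, sq]
      exact mul_dvd_mul (e ▸ orderOf_dvd_natCard _) h
  · have h4 : K.map M.subtype ≤ piCore {r}ᶜ (G ⧸ N) := le_piCore_of_isSubnormal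
      (IsSubnormal.trans' hK.isSubnormal ‹M.Normal›.isSubnormal) fun q _ hq e => h (by
        rwa [Subgroup.card_subtype, e] at hq)
    rcases hm (M ⊓ piCore {r}ᶜ (G ⧸ N)) inferInstance inf_le_left with h5 | h5
    · exact Or.inl ((map_eq_bot_iff_of_injective _ M.subtype_injective).1 (le_bot_iff.1
        (h5 ▸ le_inf (map_subtype_le K) h4)))
    · exact absurd rfl (isPi_piCore {r}ᶜ _ r (h1 r hr).1 ((h3 r hr).trans (card_dvd_of_le (h5.ge.trans inf_le_right))))

theorem alt_not_mem {n p t : ℕ} (hp : p.Prime) (ht : t.Prime) (hpt : p ≠ t) (h : n < p + t) :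
    p * t ∉ Set.range (orderOf : alternatingGroup (Fin n) → ℕ) := fun ⟨x, hx⟩ =>
  absurd (add_le_of_mul_dvd_orderOf x.1 hp ht hpt (by rw [orderOf_coe, hx])) (by simpa using h)

theorem alt_simple_section {n : ℕ} (hn : 5 ≤ n) (hcard : Nat.card G = Nat.card (alternatingGroup (Fin n)))
    (hspec : Set.range (orderOf : G → ℕ) = Set.range (orderOf : alternatingGroup (Fin n) → ℕ))
    (h : ∃ p q : ℕ, p.Prime ∧ q.Prime ∧ p ≠ q ∧ n < 2 * p ∧ n < 2 * q ∧ p ≤ n ∧ q ≤ n) :
    ∃ (N H : Subgroup G) (_ : N.Normal), H.Normal ∧ N < H ∧ IsSimpleGroup (H ⧸ N.subgroupOf H) ∧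
      ¬ IsMulCommutative (H ⧸ N.subgroupOf H) ∧ ∀ p : ℕ, p.Prime → n < 2 * p → p ≤ n → p ∣ Nat.card (H ⧸ N.subgroupOf H) := by
  obtain ⟨r, s, hr, hs, hrs, h1, h2, h3, h4⟩ := h
  have : Nontrivial (Fin n) := Fin.nontrivial_iff_two_le.2 (by omega)
  have hc : 2 * Nat.card G = n.factorial := by
    rw [hcard, two_mul_nat_card_alternatingGroup, Nat.card_perm, Nat.card_fin]
  obtain ⟨N, H, h5, h6, h7, h8, h9, h10⟩ := exists_simple_section (G := G) {p | p.Prime ∧ n < 2 * p ∧ p ≤ n}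
    (fun p ⟨hp, h1, h2⟩ => ⟨hp, ((Nat.coprime_primes hp Nat.prime_two).2 (by omega)).dvd_of_dvd_mul_left
      (hc ▸ hp.dvd_factorial.2 h2), fun h => by
        have h3 := (hp.pow_dvd_factorial_iff (b := 2) (Nat.log_lt_of_lt_pow (by omega) (by nlinarith))).1 (hc ▸ h.mul_left 2)
        rw [Nat.Ico_succ_singleton, sum_singleton, pow_one, Nat.le_div_iff_mul_le hp.pos] at h3
        omega⟩)
    (fun p ⟨hp, h1, h2⟩ t ⟨ht, h3, h4⟩ e => ⟨fun ⟨k, hk⟩ => by
      have := hp.two_le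
      rcases k with _ | _ | k
      · omega
      · have := hp.eq_two_or_odd
        have := ht.eq_two_or_odd
        omega
      · nlinarith [show p - 1 + 1 = p by omega, Nat.zero_le (t * k)], hspec ▸ alt_not_mem hp ht e (by omega)⟩)
    (r := r) (s := s) ⟨hr, h1, h3⟩ ⟨hs, h2, h4⟩ hrs
  exact ⟨N, H, h5, h6, h7, h8, h9, fun p hp h1 h2 => h10 p ⟨hp, h1, h2⟩⟩

end Cfsg.Lib.Coprime
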