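/-
Counting conjugacy classes and `p`-elements.
-/
import Cfsg.Agent.Lib.Hall.KPi2
import Cfsg.Agent.Lib.PGrp.Basic

set_option autoImplicit false

namespace Cfsg.Lib.Coprime

open Cfsg Cfsg.Lib.Core Cfsg.Lib.Hall Finset Subgroup
open scoped Classical

variable {G Q : Type*} [Group G] [Group Q] {π : Set ℕ}

theorem card_eq_card_filter {α : Type*} [Fintype α] (P : α → Prop) [DecidablePred P] :
    Nat.card {x // P x} = #{x | P x} := by
  rw [Nat.card_eq_fintype_card, Fintype.card_subtype]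

theorem sum_piPart [Fintype G] (π : Set ℕ) (F : G → ℕ) : ∑ g, F g =
    ∑ z with IsPiNumber πᶜ (orderOf z), ∑ u with IsPiNumber π (orderOf u) ∧ Commute u z, F (u * z) := by
  rw [sum_sigma']
  refine (sum_bij (fun x _ => x.2 * x.1) (by simp) ?_ (fun g _ => ?_) fun _ _ => rfl).symm
  · rintro ⟨z, u⟩ h ⟨z', u'⟩ h' e
    simp only [mem_sigma, mem_filter, mem_univ, true_and] at h h' e
    have c : ∀ {a b : G}, a ∈ zpowers (u * z) → b ∈ zpowers (u' * z') → Commute a b :=
      fun h1 h2 => commute_of_mem_zpowers h1 (e ▸ h2)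
    have a1 := left_mem_zpowers_mul h.2.2 (h.2.1.coprime_compl h.1)
    have a2 := right_mem_zpowers_mul h.2.2 (h.2.1.coprime_compl h.1)
    have b1 := left_mem_zpowers_mul h'.2.2 (h'.2.1.coprime_compl h'.1)
    have b2 := right_mem_zpowers_mul h'.2.2 (h'.2.1.coprime_compl h'.1)
    have e1 : u'⁻¹ * u = z' * z⁻¹ := by rw [inv_mul_eq_iff_eq_mul, ← mul_assoc, ← e, mul_inv_cancel_right]
    have e2 : orderOf (u'⁻¹ * u) = 1 := IsPiNumber.eq_one_of_compl
      ((h'.2.1.mul h.2.1).of_dvd (by simpa using (c a1 b1).symm.inv_left.orderOf_mul_dvd_mul_orderOf))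
      ((h'.1.mul h.1).of_dvd (by simpa [e1] using (c a2 b2).symm.inv_right.orderOf_mul_dvd_mul_orderOf))
    obtain rfl := inv_mul_eq_one.1 (orderOf_eq_one_iff.1 e2)
    rw [mul_left_cancel e]
  · obtain ⟨x, hx, y, hy, e, h1, h2⟩ := exists_piPart π g
    exact ⟨⟨y, x⟩, mem_sigma.2 ⟨mem_filter.2 ⟨mem_univ _, h2⟩, mem_filter.2
      ⟨mem_univ _, h1, commute_of_mem_zpowers hx hy⟩⟩, e.symm⟩

/-- Commuting pairs over `(b, c)` with first entry a `π`-element. -/
noncomputable def piPairs [Fintype G] (π : Set ℕ) (f : G →* Q) (b c : Q) (H : Subgroup G) : ℕ :=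
  ∑ u with u ∈ H ∧ f u = b ∧ IsPiNumber π (orderOf u), #{v | v ∈ H ∧ f v = c ∧ Commute u v}

theorem sum_piPairs [Fintype G] (f : G →* Q) {b : Q} (hb : IsPiNumber π (orderOf b)) (c : Q)
    (H : Subgroup G) : ∑ z with z ∈ H ∧ f z = 1 ∧ IsPiNumber πᶜ (orderOf z),
      piPairs π f b c (H ⊓ centralizer {z}) =
      ∑ u, ∑ v, if (u ∈ H ∧ f u = b) ∧ (v ∈ H ∧ f v = c) ∧ Commute u v then 1 else 0 := by
  rw [sum_piPart π]
  simp only [piPairs, sum_filter, card_filter, ite_sum_zero, ← ite_and]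
  refine sum_congr rfl fun z _ => sum_congr rfl fun u _ => sum_congr rfl fun v _ => if_congr ?_ rfl rfl
  simp only [Subgroup.mem_inf, mem_cent_iff]
  constructor
  · rintro ⟨⟨h1, h2, h3⟩, ⟨⟨h4, h5⟩, h6, h7⟩, ⟨h8, h9⟩, h10, h11⟩
    exact ⟨h3, ⟨h7, h5⟩, ⟨mul_mem h4 h1, by rw [map_mul, h2, h6, mul_one]⟩, ⟨h8, h10⟩,
      h11.mul_left (Commute.symm h9)⟩
  · rintro ⟨h1, ⟨h2, h3⟩, ⟨h4, h5⟩, ⟨h6, h7⟩, h8⟩
    have a1 := left_mem_zpowers_mul h3 (h2.coprime_compl h1)
    have a2 := right_mem_zpowers_mul h3 (h2.coprime_compl h1)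
    have a3 : f z = 1 := orderOf_eq_one_iff.1 (IsPiNumber.eq_one_of_compl (hb.of_dvd
      (orderOf_dvd_of_mem_zpowers (h5 ▸ MonoidHom.map_zpowers f _ ▸ mem_map_of_mem f a2)))
      (h1.of_dvd (orderOf_map_dvd f z)))
    have c : ∀ {a}, a ∈ zpowers (u * z) → Commute a v := fun h =>
      mem_cent_iff.1 (zpowers_le.2 (mem_cent_iff.2 h8) h)
    exact ⟨⟨zpowers_le.2 h4 a2, a3, h1⟩, ⟨⟨zpowers_le.2 h4 a1, h3⟩, by
      rw [← h5, map_mul, a3, mul_one], h2⟩, ⟨h6, (c a2).symm⟩, h7, c a1⟩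

theorem piPairs_le [Fintype G] (f : G →* Q) (H : Subgroup G) : ∀ {b c : Q}, IsPiNumber π (orderOf b) →
    IsPiNumber π (orderOf c) → piPairs π f b c H ≤ piPairs π f c b H := by
  induction H using WellFoundedLT.induction with | ind H ih =>
  intro b c hb hc
  by_contra! h
  have e := sum_piPairs f hb c H
  rw [sum_comm, sum_congr rfl fun _ _ => sum_congr rfl fun _ _ => if_congr (and_left_comm.trans
    (and_congr_right fun _ => and_congr_right fun _ => Commute.symm_iff)) rfl rfl,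
    ← sum_piPairs f hc] at e
  refine (sum_lt_sum (fun z _ => ?_) ⟨1, by simpa using isPiNumber_one, by
    rwa [cent_eq_top_iff.2 (one_mem _), inf_top_eq]⟩).ne' e
  rcases (inf_le_left : H ⊓ centralizer {z} ≤ H).eq_or_lt with e | e
  · rw [e]; exact h.le
  · exact ih _ e hc hb

theorem card_coset_le [Fintype G] (f : G →* Q) (b : Q) (H : Subgroup G) :
    #{v | v ∈ H ∧ f v = b} ≤ Nat.card (f.ker ⊓ H : Subgroup G) := by
  by_cases h : ∃ w ∈ H, f w = b
  · obtain ⟨w, h1, rfl⟩ := h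
    rw [card_eq_card_filter]
    exact card_le_card_of_injOn (w⁻¹ * ·) (fun v hv => by
      simp only [coe_filter, mem_univ, true_and, Set.mem_setOf_eq] at hv ⊢
      exact ⟨by simp [hv.2], H.mul_mem (H.inv_mem h1) hv.1⟩) (mul_right_injective _).injOn
  · simp [filter_false_of_mem (s := univ) fun v _ hv => h ⟨v, hv⟩]

theorem kpi_le_mul_of_surjective [Finite G] (π : Set ℕ) {f : G →* Q} (hf : Function.Surjective f) :
    kpi π G ≤ kpi π f.ker * kpi π Q := by
  have := Fintype.ofFinite G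
  have := Finite.of_surjective f hf
  have := Fintype.ofFinite Q
  refine Nat.le_of_mul_le_mul_left ?_ (Nat.card_pos (α := G))
  conv_rhs => rw [← f.ker.index_mul_card, index_ker, f.range_eq_top_of_surjective hf, card_top,
    mul_comm (kpi π f.ker), mul_mul_mul_comm,
    kpi, ← sum_card_cent fun g y hy => by simpa [orderOf_conj'] using hy, sum_mul]
  rw [kpi, ← sum_card_cent fun g y hy => by simpa [orderOf_conj'] using hy,
    ← sum_fiberwise_of_maps_to (g := f) (t := {b | b ∈ {x | IsPiNumber π (orderOf x)}}) fun x hx =>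
    mem_filter.2 ⟨mem_univ _, (mem_filter.1 hx).2.of_dvd (orderOf_map_dvd f x)⟩]
  refine sum_le_sum fun b hb => ?_
  refine le_trans ?_ (Nat.mul_le_mul_left _ (le_trans (piPairs_le f ⊤ (mem_filter.1 hb).2
    (c := 1) (by simpa using isPiNumber_one)) ?_))
  · rw [piPairs, mul_sum, filter_filter]
    refine (sum_congr (filter_congr fun x _ => by simp [and_comm]) fun _ _ => rfl).le.trans
      (sum_le_sum fun y hy => ?_)
    obtain ⟨-, -, rfl, -⟩ := mem_filter.1 hy
    rw [← Core.card_inf_mul_relIndex f.ker, relIndex_ker, mul_comm,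
      card_eq_card_filter (· ∈ f.ker ⊓ centralizer {y})]
    exact Nat.mul_le_mul (card_le_of_le (map_cent_le f y)) (card_le_card fun x => by
      simp [mem_cent_iff, commute_iff_eq, eq_comm (a := x * y)])
  · rw [← sum_eq_card_mul_kpi, piPairs]
    refine (sum_congr (by ext; simp) fun _ _ => rfl).le.trans
      (sum_le_sum fun y hy => ?_)
    refine le_trans (card_le_card fun x => ?_) (card_coset_le f b _)
    simp [mem_cent_iff, commute_iff_eq, eq_comm (a := x * y), and_comm]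

theorem kpi_le_mul_quotient [Finite G] (π : Set ℕ) (N : Subgroup G) [N.Normal] :
    kpi π G ≤ kpi π N * kpi π (G ⧸ N) := by
  have := kpi_le_mul_of_surjective π (QuotientGroup.mk'_surjective N)
  rwa [QuotientGroup.ker_mk'] at this

theorem kpi_univ (G : Type*) [Group G] [Finite G] : kpi Set.univ G = Nat.card (ConjClasses G) := by
  rw [← kOf_univ, kpi]; simp [IsPiNumber]

theorem sum_card_cent_inf [Fintype G] (Y : Subgroup G) :
    ∑ x, Nat.card (Y ⊓ centralizer ({x} : Set G) : Subgroup G) =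
      ∑ y with y ∈ Y, Nat.card (centralizer ({y} : Set G)) := by
  simp only [card_eq_card_filter, card_filter, sum_filter, ite_sum_zero, ← ite_and]
  rw [sum_comm]
  simp [mem_cent_iff, eq_comm]

theorem card_conjClasses_bounds [Finite G] (Y : Subgroup G) :
    Nat.card (ConjClasses Y) ≤ Y.index * Nat.card (ConjClasses G) ∧
    Nat.card (ConjClasses G) ≤ Y.index * Nat.card (ConjClasses Y) ∧
    (¬ Y.Normal → Nat.card (ConjClasses G) < Y.index * Nat.card (ConjClasses Y)) := by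
  have := Fintype.ofFinite G
  have e1 := sum_card_cent (G := G) (S := Set.univ) (by simp)
  have e2 := sum_eq_card_mul_kpi Y Set.univ
  simp only [kOf_univ, kpi_univ, IsPiNumber, Set.mem_univ, implies_true, and_true,
    filter_true] at e1 e2
  have h1 : ∀ x : G, Nat.card (centralizer ({x} : Set G)) ≤
      Y.index * Nat.card (Y ⊓ centralizer ({x} : Set G) : Subgroup G) := fun x => by
    rw [← Core.card_inf_mul_relIndex Y, mul_comm]
    exact Nat.mul_le_mul_right _ (relIndex_le_index _ _)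
  have h2 : Nat.card G * Nat.card (ConjClasses G) ≤
      Y.index * ∑ y with y ∈ Y, Nat.card (centralizer ({y} : Set G)) := by
    rw [← e1, ← sum_card_cent_inf, mul_sum]
    exact sum_le_sum fun x _ => h1 x
  have h3 : Y.index * ∑ y with y ∈ Y, Y.index * Nat.card (Y ⊓ centralizer ({y} : Set G) : Subgroup G)
      = Nat.card G * (Y.index * Nat.card (ConjClasses Y)) := by
    rw [← mul_sum, e2, ← Y.index_mul_card]; ring
  refine ⟨Nat.le_of_mul_le_mul_left ?_ (Nat.card_pos (α := Y)), Nat.le_of_mul_le_mul_left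
    (h2.trans (h3 ▸ Nat.mul_le_mul_left _ (sum_le_sum fun x _ => h1 x))) Nat.card_pos, fun h =>
    Nat.lt_of_mul_lt_mul_left (h2.trans_lt (h3 ▸ Nat.mul_lt_mul_of_pos_left (sum_lt_sum
      (fun x _ => h1 x) ?_) (Nat.pos_of_ne_zero FiniteIndex.index_ne_zero)))⟩
  · rw [← mul_assoc, Y.card_mul_index, ← e1, ← e2]
    exact (sum_le_sum fun x _ => card_le_of_le inf_le_right).trans
      (sum_le_sum_of_subset (subset_univ _))
  · by_contra! h'
    refine h ⟨fun y hy g => ?_⟩
    have := h' y (by simpa using hy)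
    rw [← Core.card_inf_mul_relIndex Y (centralizer _), mul_comm] at this
    obtain ⟨a, ha, c, hc, rfl⟩ := factor_symm (factor_iff_relIndex_eq.2 ((relIndex_le_index _ _).antisymm
      (Nat.le_of_mul_le_mul_left this Nat.card_pos))) g
    rw [mul_assoc a, mem_cent_iff.1 hc]
    simpa [mul_assoc] using Y.mul_mem (Y.mul_mem ha hy) (Y.inv_mem ha)

section PElts
open Cfsg.Lib.Transfer
variable [Finite G] {p : ℕ} [hp : Fact p.Prime]

theorem card_sylow_fiber_le {f : G →* Q} (hf : Function.Surjective f) (P : Sylow p G) {b : Q}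
    (hb : ∃ k, orderOf b = p ^ k) : ∃ n, Nat.card {g // (∃ k, orderOf g = p ^ k) ∧ f g = b} = n ∧
      Nat.card ((P : Subgroup G) ⊓ f.ker : Subgroup G) ≤ n ∧
      (f.ker ≤ center G → Nat.card ((P : Subgroup G) ⊓ f.ker : Subgroup G) = n) := by
  have := Finite.of_surjective f hf
  obtain ⟨a, rfl, ha⟩ := exists_lift_isPGroup hf hp.out ((isPGroup_zpowers_iff hp.out).2 hb)
  obtain ⟨R, hR⟩ := ha.exists_le_sylow
  rw [(sylowIn_inf_normal P f.ker).card_eq (sylowIn_inf_normal R f.ker)]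
  let j : ((R : Subgroup G) ⊓ f.ker : Subgroup G) → {g // (∃ k, orderOf g = p ^ k) ∧ f g = f a} :=
    fun n => ⟨a * n, (isPGroup_zpowers_iff hp.out).1 (isPGroup_zpowers_of_mem R.isPGroup'
      (R.mul_mem (hR (mem_zpowers a)) n.2.1)), by rw [map_mul, n.2.2, mul_one]⟩
  have hj : Function.Injective j := fun _ _ e => Subtype.ext (mul_left_cancel (congrArg Subtype.val e))
  refine ⟨_, rfl, Nat.card_le_card_of_injective j hj, fun h => Nat.card_eq_of_bijective j
    ⟨hj, fun ⟨g, ⟨k, h1⟩, h2⟩ => ?_⟩⟩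
  have h3 : a⁻¹ * g ∈ f.ker := by simp [h2]
  obtain ⟨l, hl⟩ := (isPGroup_zpowers_iff hp.out).1 ha
  have c : Commute a⁻¹ g := by
    have := mem_center_iff.1 (h h3) a
    rwa [mul_inv_cancel_left, mul_assoc, eq_inv_mul_iff_mul_eq, ← commute_iff_eq,
      ← Commute.inv_left_iff] at this
  refine ⟨⟨a⁻¹ * g, center_inf_le_sylow R (h h3) ⟨l + k, orderOf_dvd_iff_pow_eq_one.1 ?_⟩, h3⟩,
    Subtype.ext (mul_inv_cancel_left _ _)⟩
  simpa [hl, h1, pow_add] using c.orderOf_mul_dvd_mul_orderOf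

theorem card_pElts_quotient {f : G →* Q} (hf : Function.Surjective f) (P : Sylow p G) (R : Sylow p Q) :
    Nat.card {g : Q // ∃ k, orderOf g = p ^ k} * Nat.card P ≤
      Nat.card {g : G // ∃ k, orderOf g = p ^ k} * Nat.card R ∧ (f.ker ≤ center G →
    Nat.card {g : Q // ∃ k, orderOf g = p ^ k} * Nat.card P =
      Nat.card {g : G // ∃ k, orderOf g = p ^ k} * Nat.card R) := by
  have := Finite.of_surjective f hf
  have := Fintype.ofFinite G
  have := Fintype.ofFinite Q
  have e1 : Nat.card P = Nat.card ((P : Subgroup G) ⊓ f.ker : Subgroup G) * Nat.card R := by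
    have := (sylowIn_top P).map f
    rw [← MonoidHom.range_eq_map, f.range_eq_top_of_surjective hf] at this
    rw [(sylowIn_top R).card_eq this, ← relIndex_ker, inf_comm, Core.card_inf_mul_relIndex]
  have e2 : Nat.card {g : G // ∃ k, orderOf g = p ^ k} = ∑ b : Q with ∃ k, orderOf b = p ^ k,
      Nat.card {g // (∃ k, orderOf g = p ^ k) ∧ f g = b} := by
    simp only [card_eq_card_filter]
    refine (card_eq_sum_card_fiberwise (f := f) fun x hx => ?_).trans
      (sum_congr rfl fun _ _ => by rw [filter_filter])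
    obtain ⟨k, hk⟩ := (mem_filter.1 hx).2
    obtain ⟨l, -, h⟩ := (Nat.dvd_prime_pow hp.out).1 (hk ▸ orderOf_map_dvd f x)
    exact mem_filter.2 ⟨mem_univ _, l, h⟩
  rw [e1, e2, ← mul_assoc, card_eq_card_filter, ← smul_eq_mul #_, ← sum_const]
  refine ⟨Nat.mul_le_mul_right _ (sum_le_sum fun b hb => ?_), fun h =>
    congrArg (· * _) (sum_congr rfl fun b hb => ?_)⟩ <;>
    obtain ⟨_, rfl, h1, h2⟩ := card_sylow_fiber_le hf P (mem_filter.1 hb).2
  exacts [h1, h2 h]

theorem mul_card_sylow_le (P : Sylow p G) (hP : ¬ (P : Subgroup G).Normal) :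
    p * Nat.card P ≤ Nat.card {g : G // ∃ k, orderOf g = p ^ k} := by
  have := Fintype.ofFinite G
  have := Fintype.ofFinite (Sylow p G)
  obtain ⟨A, B, hAB⟩ := not_subsingleton_iff_nontrivial.1 fun h : Subsingleton (Sylow p G) =>
    hP P.normal_of_subsingleton
  obtain ⟨_, ⟨A, B, hAB, rfl⟩, -, hD⟩ := PGrp.exists_maximal_subgroup_ge (fun D => ∃ A B : Sylow p G,
    A ≠ B ∧ (A : Subgroup G) ⊓ B = D) ⟨A, B, hAB, rfl⟩
  set D := (A : Subgroup G) ⊓ B
  let F : Finset (Sylow p G) := {R | D ≤ R}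
  have h1 : p + 1 ≤ #F := by
    have h2 : IsPGroup p D := A.isPGroup'.to_inf_left
    have h3 := (h2.card_modEq_card_fixedPoints (Sylow p G)).symm.trans (card_sylow_modEq_one p G)
    rw [Nat.card_congr (Equiv.subtypeEquivRight fun _ => h2.sylow_mem_fixedPoints_iff),
      card_eq_card_filter] at h3
    have h4 : 1 < #F := one_lt_card.2 ⟨A, by simp [F, D], B, by simp [F, D], hAB⟩
    exact (Nat.le_sub_iff_add_le h4.le).1 (Nat.le_of_dvd (by omega)
      ((Nat.modEq_iff_dvd' h4.le).1 h3.symm))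
  have h2 : ∀ R ∈ F, #{x | x ∈ (R : Subgroup G) ∧ x ∉ D} = Nat.card P - Nat.card D := fun R hR => by
    rw [(sylowIn_top P).card_eq (sylowIn_top R), card_eq_card_filter, card_eq_card_filter,
      ← card_sdiff_of_subset fun x hx => by simpa using (mem_filter.1 hR).2 (by simpa using hx)]
    congr 1; ext; simp
  have h3 : ∀ (R : Sylow p G), ∀ x ∈ (R : Subgroup G), ∃ k, orderOf x = p ^ k := fun R x hx =>
    (isPGroup_zpowers_iff hp.out).1 (isPGroup_zpowers_of_mem R.isPGroup' hx)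
  have h4 := card_le_card (show F.biUnion (fun R => {x | x ∈ (R : Subgroup G) ∧ x ∉ D}) ∪
      ({x | x ∈ D} : Finset G) ⊆ ({g : G | ∃ k, orderOf g = p ^ k} : Finset G) from fun x hx => by
    simp only [mem_union, mem_biUnion, mem_filter, mem_univ, true_and] at hx ⊢
    exact hx.elim (fun ⟨R, _, h, _⟩ => h3 R x h) fun h => h3 A x h.1)
  rw [card_union_of_disjoint (disjoint_left.2 fun x hx h => by
      obtain ⟨R, -, h'⟩ := mem_biUnion.1 hx
      exact (mem_filter.1 h').2.2 (mem_filter.1 h).2),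
    card_biUnion fun R hR S hS h => disjoint_left.2 fun x a b => (mem_filter.1 a).2.2 (hD _
      ⟨R, S, h, rfl⟩ (le_inf (mem_filter.1 hR).2 (mem_filter.1 hS).2) ▸
        ⟨(mem_filter.1 a).2.1, (mem_filter.1 b).2.1⟩),
    sum_congr rfl h2, sum_const, smul_eq_mul, ← card_eq_card_filter (· ∈ D),
    ← card_eq_card_filter (α := G)] at h4
  have h5 := mul_card_inf_le A.isPGroup' (T := B) fun h => hAB (Sylow.ext (A.is_maximal' B.isPGroup' h).symm)
  rw [(sylowIn_top A).card_eq (sylowIn_top P)] at h5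
  obtain ⟨a, ha⟩ := Nat.exists_eq_add_of_le ((Nat.le_mul_of_pos_left _ hp.out.pos).trans h5)
  rw [ha, Nat.add_sub_cancel_left] at h4
  have := Nat.mul_le_mul_right a h1
  rw [ha] at h5 ⊢
  nlinarith

theorem card_pElts_of_compl (P : Sylow p G) (N : Subgroup G) [N.Normal]
    (h : N.IsComplement' (P : Subgroup G)) : Nat.card {g : G // ∃ k, orderOf g = p ^ k} =
      ∑ᶠ x : (P : Subgroup G), Nat.card N / Nat.card (N ⊓ centralizer ({(x : G)} : Set G) : Subgroup G) := by
  have := Fintype.ofFinite P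
  rw [finsum_eq_sum_of_fintype, sum_congr rfl (g := fun x : (P : Subgroup G) =>
    Nat.card {z | ∃ l ∈ N, l * x * l⁻¹ = z}) fun x _ => by
      rw [Nat.card_coe_set_eq, ncard_conj_orbit, ← Core.card_inf_mul_relIndex (centralizer {(x : G)}) N,
        inf_comm, Nat.mul_div_cancel_left _ Nat.card_pos], ← Nat.card_sigma]
  refine (Nat.card_eq_of_bijective (fun z => ⟨z.2.1, by
    obtain ⟨l, -, e⟩ := z.2.2
    rw [← e, orderOf_conj']
    exact (isPGroup_zpowers_iff hp.out).1 (isPGroup_zpowers_of_mem P.isPGroup' z.1.2)⟩) ⟨?_, ?_⟩).symm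
  · rintro ⟨x, _, l, hl, rfl⟩ ⟨y, _, m, hm, rfl⟩ e
    have e : l * x * l⁻¹ = m * y * m⁻¹ := congrArg Subtype.val e
    obtain rfl : x = y := by
      refine Subtype.ext (eq_of_mul_inv_eq_one (disjoint_def.1 h.disjoint ?_
        (P.mul_mem x.2 (P.inv_mem y.2))))
      rw [← QuotientGroup.eq_one_iff] at hl hm ⊢
      simpa [hl, hm, mul_inv_eq_one] using congrArg (QuotientGroup.mk (s := N)) e
    exact congrArg _ (Subtype.ext e)
  · rintro ⟨g, hg⟩
    obtain ⟨y, hy, e⟩ := exists_conj_mem_sylow P ((isPiNumber_singleton_iff hp.out (orderOf_pos g).ne').2 hg)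
    obtain ⟨c, rfl⟩ := isConj_iff.1 e
    obtain ⟨n, hn, u, hu, rfl⟩ := factor_of_sup_eq_top' h.sup_eq_top c
    exact ⟨⟨⟨u * y * u⁻¹, P.mul_mem (P.mul_mem hu hy) (P.inv_mem hu)⟩, _, n, hn, rfl⟩,
      Subtype.ext (by simp [mul_assoc])⟩

end PElts

end Cfsg.Lib.Coprime
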