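import Cfsg.Agent.Lib.Coprime.Sylow
import Cfsg.Agent.Lib.Core.Subnormal
import Cfsg.Agent.Lib.Known.PSL2Char
import Cfsg.Agent.Lib.Clifford.Cover
import Cfsg.Agent.Lib.Clifford.Cd
import Cfsg.Agent.Lib.Clifford.Amb
import Cfsg.Agent.Lib.Clifford.Four
import Cfsg.Agent.Lib.Char.Prod
import Cfsg.Agent.Lib.Transfer.Apps
import Cfsg.Agent.Lib.PGrp.Critical
import Cfsg.Agent.Lib.Hall.System
import Cfsg.Agent.Lib.Linear.AutAlt
import Cfsg.Agent.Lib.Exc.M11a

/-!
# Groups whose order is divisible by a prime to the first power, and their character degrees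
-/

set_option autoImplicit false

namespace Cfsg.Lib.Coprime.DegG

open Cfsg Subgroup Cfsg.Lib.Core Cfsg.Lib.Clifford Cfsg.Lib.Transfer Cfsg.Lib.Small Cfsg.Lib.Char

variable {G : Type*} [Group G] [Finite G]

theorem ito {q : ℕ} (Q : Subgroup G) [Q.Normal] (hc : ∀ a ∈ Q, ∀ b ∈ Q, a * b = b * a) (h : ¬ q ∣ Q.index) :
    q ∉ degreePrimes G := fun ⟨_, _, ⟨χ, e⟩, hd⟩ => h (by
  have := (irrOn_top.2 χ.2).deg_dvd_relIndex_of_comm le_top (nrm_of_normal _ Q) hc
  rw [relIndex_top_right, e] at this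
  exact hd.trans this)

theorem dvd_of_normal (K : Subgroup G) [K.Normal] {d : ℕ} (h : d ∈ charDegrees K) : ∃ e ∈ charDegrees G, d ∣ e := by
  obtain ⟨θ, rfl⟩ := h
  have h1 := irrOn_extendByZero.2 θ.2
  obtain ⟨χ, h2, h3⟩ := h1.exists_over le_top
  have h4 := deg_dvd_of_dot le_top (nrm_of_normal _ K) (mem_Irr.1 h2).1 h1 h3
  refine ⟨_, ⟨⟨χ, irrOn_top.1 (mem_Irr.1 h2).1⟩, rfl⟩, Dvd.dvd.trans (Eq.dvd ?_) h4⟩
  exact congrArg (fun z : ℂ => ⌊z.re⌋₊) (extendByZero_coe θ.1 1).symm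

theorem not_dvd_relIndex {p r : ℕ} (hp : p.Prime) (hr : r.Prime) {N : Subgroup G} (hN : ¬ p ∣ Nat.card N) {x : G}
    (hx : orderOf x = p) (hn : x ∈ normalizer (N : Set G)) (h : ∀ i, 1 ≤ i → r ^ i ∣ Nat.card N → ¬ p ∣ r ^ i - 1) :
    ¬ r ∣ (centralizer (zpowers x : Set G)).relIndex N := fun hd => by
  have := Fact.mk hr
  have hc : (Nat.card (zpowers x)).Coprime (Nat.card N) := by
    rw [Nat.card_zpowers, hx]; exact (Nat.Prime.coprime_iff_not_dvd hp).2 hN
  obtain ⟨R, hR, h1⟩ := exists_invariant_sylowIn (zpowers_le.2 hn) hc (Or.inl (isSolvable_zpowers x)) r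
  have h2 : x ∈ centralizer (R : Set G) := by_contra fun h2 => by
    obtain ⟨i, h3, h4, h5⟩ := Transfer.exists_dvd_pow_sub_one hp (fun e => hN (e ▸ hd.trans (relIndex_dvd_card _ _))) hR.isPGroup
      ⟨1, by rw [pow_one, ← hx, pow_orderOf_eq_one]⟩ (h1 (mem_zpowers x)) h2
    exact h i h3 (h4.trans (card_dvd_of_le hR.le)) h5
  exact (sylowIn_iff.1 hR).2.2 (hd.trans (relIndex_dvd_of_le_left _ (le_centralizer_iff.1 (zpowers_le.2 h2))))

theorem aff {p q a m : ℕ} (hp : p.Prime) (hq : q.Prime) (h2 : ¬ p ^ 2 ∣ Nat.card G) (N : Subgroup G) [N.Normal]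
    (hN : ¬ p ∣ Nat.card N) {x : G} (hx : orderOf x = p) (hn : (N ⊔ zpowers x).Normal)
    (hr : ∀ r i, r.Prime → r ≠ q → r ≠ p → 1 ≤ i → r ^ i ∣ Nat.card G → ¬ p ∣ r ^ i - 1) (ha : Nat.card G = q ^ a * m)
    (hm : ¬ q ∣ m) (hi : ∀ i, 1 ≤ i → i < a → ¬ p ∣ q ^ i - 1) :
    p ∉ degreePrimes G ∨ (q ∉ degreePrimes G ∧ p ∣ q ^ a - 1) := by
  have := Fact.mk hq
  have := Fact.mk hp
  set X := zpowers x
  have hX : Nat.card X = p := by rw [Nat.card_zpowers, hx]
  have hXp : IsPGroup p X := .of_card (n := 1) (by rw [hX, pow_one])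
  have hXN : X ≤ normalizer (N : Set G) := by rw [normalizer_eq_top]; exact le_top
  have hc : (Nat.card X).Coprime (Nat.card N) := hX ▸ (Nat.Prime.coprime_iff_not_dvd hp).2 hN
  have hF : ∀ g : G, ∃ n ∈ N, ∃ b ∈ normalizer (X : Set G), g = n * b := fun g => by
    have h1 : SylowIn p X (N ⊔ X) := sylowIn_iff.2 ⟨le_sup_right, hXp, fun h => h2 (by
      refine Dvd.dvd.trans ?_ (card_subgroup_dvd_card (N ⊔ X))
      rw [← Transfer.card_mul_relIndex le_sup_right, hX, sq]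
      exact mul_dvd_mul_left _ h)⟩
    obtain ⟨n, h3, b, h4, rfl⟩ := h1.frattini (H := ⊤) (by rw [normalizer_eq_top]) (mem_top g)
    obtain ⟨k, h5, c, h6, rfl⟩ := (mem_sup_iff_of_le_normalizer hXN).1 h3
    exact ⟨k, h5, c * b, mul_mem (le_normalizer h6) h4, mul_assoc _ _ _⟩
  obtain ⟨Q, hQ, h1⟩ := exists_invariant_sylowIn hXN hc (Or.inl (isSolvable_zpowers x)) q
  have h3 : ∀ n ∈ N, ∃ u ∈ Q, ∃ c ∈ centralizer (X : Set G), n = u * c := fun n hn => by
    obtain ⟨u, hu, c, hc, e⟩ := Hall.factor_of_coprime_relIndex (A := Q) (B := centralizer (X : Set G))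
      (Nat.coprime_of_dvd' fun r hr' e1 e2 => by
        by_cases e : r = q
        · exact absurd (e ▸ e1) (sylowIn_iff.1 hQ).2.2
        · have e3 := e1.trans (relIndex_dvd_card _ _)
          exact absurd e2 (not_dvd_relIndex hp hr' hN hx (hXN (mem_zpowers x)) fun i a b =>
            hr r i hr' e (fun e => hN (e ▸ e3)) a (b.trans (card_subgroup_dvd_card _)))) n hn
    exact ⟨u, hu.1, c, hc.1, e⟩
  by_cases h4 : Q ≤ centralizer (X : Set G)
  · have : X.Normal := normalizer_eq_top_iff.1 ((eq_top_iff' _).2 fun g => by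
      obtain ⟨n, h5, b, h6, rfl⟩ := hF g
      obtain ⟨u, h7, c, h8, rfl⟩ := h3 n h5
      exact mul_mem (centralizer_le_normalizer _ (mul_mem (h4 h7) h8)) h6)
    exact Or.inl (ito X (by rintro _ ⟨a, rfl⟩ _ ⟨b, rfl⟩; exact zpow_mul_comm _ _ _) fun h => h2 (by
      rw [← X.card_mul_index, hX, sq]; exact mul_dvd_mul_left _ h))
  have h5 : ∀ B ≤ Q, X ≤ normalizer (B : Set G) → ¬ B ≤ centralizer (X : Set G) → Nat.card B = q ^ a ∧ p ∣ q ^ a - 1 :=
    fun B hB e1 e2 => by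
    obtain ⟨i, h6, h7, h8⟩ := Transfer.exists_dvd_pow_sub_one hp (fun e => hN (by
      subst e
      refine Dvd.dvd.trans ?_ (card_dvd_of_le (hB.trans hQ.le))
      obtain ⟨k, hk⟩ := IsPGroup.iff_card.1 (hQ.isPGroup.to_le hB)
      rw [hk]
      refine dvd_pow_self _ fun e => e2 ?_
      rw [e, pow_zero, card_eq_one] at hk
      simp [hk])) (hQ.isPGroup.to_le hB) ⟨1, by rw [pow_one, ← hx, pow_orderOf_eq_one]⟩
      (e1 (mem_zpowers x)) fun e => e2 (le_centralizer_iff.1 (zpowers_le.2 e))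
    obtain ⟨k, hk⟩ := IsPGroup.iff_card.1 (hQ.isPGroup.to_le hB)
    have h9 : k ≤ a := (Nat.pow_dvd_pow_iff_le_right hq.one_lt).1
      ((((Nat.Prime.coprime_iff_not_dvd hq).2 hm).pow_left k).dvd_of_dvd_mul_right (ha ▸ hk ▸ card_subgroup_dvd_card B))
    have h10 : i ≤ k := (Nat.pow_dvd_pow_iff_le_right hq.one_lt).1 (hk ▸ h7)
    obtain rfl : i = a := by by_contra e; exact hi i h6 (by omega) h8
    exact ⟨by rw [hk, show k = i by omega], h8⟩
  obtain ⟨h6, h7⟩ := h5 Q le_rfl h1 h4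
  have h8 : Q ⊓ centralizer (X : Set G) = ⊥ := by
    have e1 := PGrp.card_modEq_card_inf_centralizer hXp h1
    obtain ⟨j, hj⟩ := IsPGroup.iff_card.1 (hQ.isPGroup.to_inf_left (K := centralizer (X : Set G)))
    have e2 : j ≤ a := (Nat.pow_dvd_pow_iff_le_right hq.one_lt).1 (hj ▸ h6 ▸ card_dvd_of_le inf_le_left)
    have e3 : j ≠ a := fun e => h4 (inf_eq_left.1 (eq_of_le_of_card_ge inf_le_left (by rw [hj, h6, e])))
    by_contra e4
    have e5 : j ≠ 0 := fun e => e4 (by rwa [e, pow_zero, card_eq_one] at hj)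
    refine hi j (by omega) (by omega) ((Nat.modEq_iff_dvd' (Nat.one_le_pow _ _ hq.pos)).1 ?_)
    rw [h6, hj] at e1
    exact ((Nat.modEq_iff_dvd' (Nat.one_le_pow _ _ hq.pos)).2 h7).trans e1
  have h9 : Q ≤ centralizer (Q : Set G) := by
    have e1 : Q ≠ ⊥ := fun e => h4 (e ▸ bot_le)
    have e2 := h5 (Q ⊓ centralizer (Q : Set G)) inf_le_left
      (h1.trans (le_normalizer_inf le_rfl (normalizer_le_normalizer_centralizer_set _))) fun e =>
      inf_centralizer_ne_bot_of_isPGroup hQ.isPGroup hQ.isPGroup le_normalizer e1 (le_bot_iff.1 (h8 ▸ le_inf inf_le_left e))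
    exact inf_eq_left.1 (eq_of_le_of_card_ge inf_le_left (by rw [e2.1, h6]))
  have h10 : ⁅N, X⁆ = Q := by
    have e1 := commutator_sup_centralizer h1 (coprime_card_of_le hc le_rfl hQ.le) (Or.inl (isSolvable_zpowers x))
    rw [h8, sup_bot_eq] at e1
    refine le_antisymm (commutator_le.2 fun n hn y hy => ?_) (e1.ge.trans (commutator_mono hQ.le le_rfl))
    obtain ⟨u, hu, c, hc, rfl⟩ := h3 n hn
    have : u * c * y * (u * c)⁻¹ * y⁻¹ = u * (y * u⁻¹ * y⁻¹) := by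
      rw [mul_assoc u c, ← hc y hy]; group
    rw [commutatorElement_def, this]
    exact mul_mem hu (conj_mem h1 hy (inv_mem hu))
  have : Q.Normal := normalizer_eq_top_iff.1 ((eq_top_iff' _).2 fun g => by
    obtain ⟨n, e1, b, e2, rfl⟩ := hF g
    rw [← h10]
    exact mul_mem (normalizer_commutator_ge_left _ _ e1)
      (le_normalizer_commutator (by rw [normalizer_eq_top N]; exact le_top) le_rfl e2))
  refine Or.inr ⟨ito Q (fun a e1 b e2 => (h9 e1 b e2).symm) fun h => hm ?_, h7⟩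
  have e1 := Q.card_mul_index
  rw [h6, ha] at e1
  rwa [Nat.eq_of_mul_eq_mul_left (pow_pos hq.pos a) e1] at h

theorem exists_simple {p : ℕ} (hp : p.Prime) (h1 : p ∣ Nat.card G) (h2 : ¬ p ^ 2 ∣ Nat.card G) (hO : pPrimeCore p G = ⊥) :
    ∃ M : Subgroup G, M.Normal ∧ IsSimpleGroup M ∧ p ∣ Nat.card M := by
  have := Fact.mk hp
  obtain ⟨M, _, hM, -, hm⟩ := exists_minimal_normal_le (⊤ : Subgroup G) fun e => hp.one_lt.ne' (Nat.dvd_one.1 (by
    rwa [← card_top, e, card_bot] at h1))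
  have h3 : p ∣ Nat.card M := by_contra fun h => hM (le_bot_iff.1
    (hO ▸ le_pPrimeCore ((Nat.Prime.coprime_iff_not_dvd hp).2 h).symm))
  have : Nontrivial M := (nontrivial_iff_ne_bot M).2 hM
  refine ⟨M, inferInstance, ⟨fun K hK => ?_⟩, h3⟩
  by_cases h : p ∣ Nat.card K
  · obtain ⟨x, hx⟩ := exists_prime_orderOf_dvd_card' p h
    have h4 := (hm (normalClosure {x.1.1}) inferInstance (normalClosure_le_normal (by simp))).resolve_left fun e =>
      hp.ne_one (by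
        rw [← hx, orderOf_eq_one_iff]; exact Subtype.ext (Subtype.ext (e.le (subset_normalClosure rfl))))
    refine Or.inr (map_subtype_inj.1 (le_antisymm (map_mono le_top) ?_))
    rw [← MonoidHom.range_eq_map, range_subtype]
    refine h4.ge.trans ((closure_le _).2 fun y hy => ?_)
    obtain ⟨_, rfl, hy⟩ := Group.mem_conjugatesOfSet_iff.1 hy
    obtain ⟨g, rfl⟩ := isConj_iff.1 hy
    have h5 := ‹M.Normal›.conj_mem _ x.1.2 g
    refine ⟨⟨_, h5⟩, (QuotientGroup.eq_one_iff _).1 (orderOf_eq_one_iff.1 (((Nat.dvd_prime hp).1 ?_).resolve_right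
      fun e => h2 ?_)), rfl⟩
    · refine (orderOf_map_dvd (QuotientGroup.mk' K) _).trans (orderOf_dvd_of_pow_eq_one (Subtype.ext ?_))
      change (g * x.1.1 * g⁻¹) ^ p = 1
      rw [conj_pow, ← hx, ← orderOf_coe, ← orderOf_coe, pow_orderOf_eq_one, mul_one, mul_inv_cancel]
    · refine Dvd.dvd.trans ?_ (card_subgroup_dvd_card M)
      rw [card_eq_card_quotient_mul_card_subgroup K, sq]
      exact mul_dvd_mul (e ▸ orderOf_dvd_natCard _) h
  · have h4 : K.map M.subtype ≤ pPrimeCore p G := le_pPrimeCore_of_isSubnormal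
      (IsSubnormal.trans' hK.isSubnormal ‹M.Normal›.isSubnormal) (by
        rw [Subgroup.card_subtype]; exact ((Nat.Prime.coprime_iff_not_dvd hp).2 h).symm)
    exact Or.inl ((map_eq_bot_iff_of_injective _ M.subtype_injective).1 (le_bot_iff.1 (hO ▸ h4)))

end Cfsg.Lib.Coprime.DegG
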