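import Cfsg.Agent.Lib.Coprime.DegG
import Cfsg.Agent.Lib.Linear.PSL2Small
import Cfsg.Agent.S0494

/-!
# The simple section attached to a prime dividing the order to the first power
-/

set_option autoImplicit false

namespace Cfsg.Lib.Coprime.DegG

open Cfsg Subgroup Cfsg.Lib.Core Cfsg.Lib.Clifford Cfsg.Lib.Transfer Cfsg.Lib.Small Cfsg.Lib.Char

variable {G : Type*} [Group G] [Finite G]

theorem dich {p q a m n : ℕ} (hp : p.Prime) (hq : q.Prime) (hn : Nat.card G = n) (h1 : p ∣ n) (h2 : ¬ p ^ 2 ∣ n)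
    (ha : n = q ^ a * m) (hm : ¬ q ∣ m) (hd : ∀ d ∈ n.divisors, IsPrimePow d → d ≠ q ^ a → ¬ p ∣ d - 1)
    (hP : p ∈ degreePrimes G) (hQ : p ∣ q ^ a - 1 → q ∈ degreePrimes G) :
    ∃ M : Subgroup (G ⧸ pPrimeCore p G), M.Normal ∧ IsSimpleGroup M ∧ ¬ IsMulCommutative M ∧ p ∣ Nat.card M := by
  subst hn
  have := Fact.mk hp
  have hN := not_dvd_card_pPrimeCore (G := G) hp
  obtain ⟨M, h3, h4, h5⟩ := exists_simple (G := G ⧸ pPrimeCore p G) hp
    (((Nat.Prime.dvd_mul hp).1 (card_eq_card_quotient_mul_card_subgroup (pPrimeCore p G) ▸ h1)).resolve_right hN)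
    (fun h => h2 (h.trans (card_quotient_dvd_card _))) pPrimeCore_quotient_pPrimeCore
  refine ⟨M, h3, h4, fun hc => ?_, h5⟩
  have h6 : Nat.card M = p := ((Nat.prime_dvd_prime_iff_eq hp (by
    by_contra h; exact not_isMulCommutative_of_not_prime h hc)).1 h5).symm
  obtain ⟨y, hy⟩ := exists_prime_orderOf_dvd_card' p h5
  obtain ⟨z, hz⟩ := QuotientGroup.mk'_surjective _ y.1
  have h7 : p ∣ orderOf z := by rw [← hy, ← orderOf_coe, ← hz]; exact orderOf_map_dvd _ z
  have h8 : orderOf (z ^ (orderOf z / p)) = p := orderOf_pow_orderOf_div (orderOf_pos z).ne' h7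
  set x := z ^ (orderOf z / p)
  have h9 : QuotientGroup.mk' (pPrimeCore p G) x ∈ M := by rw [map_pow, hz]; exact pow_mem y.2 _
  have h10 : QuotientGroup.mk' (pPrimeCore p G) x ≠ 1 := fun e =>
    hN (h8.symm.dvd.trans <| Subgroup.orderOf_dvd_natCard _ ((QuotientGroup.eq_one_iff (N := pPrimeCore p G) x).1 e))
  have h11 : pPrimeCore p G ⊔ zpowers x = M.comap (QuotientGroup.mk' _) := by
    rw [← eq_zpowers_of_mem_card_prime h6 h9 h10, ← MonoidHom.map_zpowers, comap_map_eq, QuotientGroup.ker_mk', sup_comm]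
  have h12 : ∀ r i, r.Prime → 1 ≤ i → r ^ i ∣ Nat.card G → r ^ i ≠ q ^ a → ¬ p ∣ r ^ i - 1 := fun r i e1 e2 e3 =>
    hd _ (Nat.mem_divisors.2 ⟨e3, Nat.card_pos.ne'⟩) (e1.isPrimePow.pow (by omega))
  rcases aff hp hq h2 _ hN h8 (h11 ▸ inferInstance) (fun r i e1 e2 _ e3 e4 => h12 r i e1 e3 e4 fun e =>
      e2 ((Nat.prime_dvd_prime_iff_eq e1 hq).1 (e1.dvd_of_dvd_pow (e ▸ dvd_pow_self r (by omega))))) ha hm
    (fun i e1 e2 => h12 q i hq e1 (ha ▸ (pow_dvd_pow q e2.le).mul_right _)
      fun e => e2.ne (Nat.pow_right_injective hq.two_le e)) with h | h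
  exacts [h hP, h.1 (hQ h.2)]

theorem card_or {N : Subgroup G} [N.Normal] (M : Subgroup (G ⧸ N)) [M.Normal] [IsSimpleGroup M] (L : Subgroup G)
    [hL : L.Normal] : Nat.card M ∣ Nat.card L ∨ Nat.card M * Nat.card L ∣ Nat.card G := by
  have := hL.map _ (QuotientGroup.mk'_surjective N)
  rcases (inferInstance : ((L.map (QuotientGroup.mk' N)).subgroupOf M).Normal).eq_bot_or_eq_top with h | h
  · right
    have h1 := card_subgroup_dvd_card (M ⊔ L.map (QuotientGroup.mk' N))
    rw [card_sup_of_disjoint' (by rw [normalizer_eq_top]; exact le_top) (by rwa [subgroupOf_eq_bot, disjoint_comm,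
      disjoint_iff] at h)] at h1
    have h2 : Nat.card L ∣ Nat.card (L.map (QuotientGroup.mk' N)) * Nat.card N := by
      rw [← relIndex_ker, QuotientGroup.ker_mk', ← Transfer.card_mul_relIndex (inf_le_right (a := N) (b := L)),
        inf_relIndex_right, mul_comm]
      exact mul_dvd_mul_left _ (card_dvd_of_le inf_le_left)
    rw [card_eq_card_quotient_mul_card_subgroup N]
    exact (mul_dvd_mul_left _ h2).trans (by rw [← mul_assoc]; exact mul_dvd_mul_right h1 _)
  · exact Or.inl ((card_dvd_of_le (subgroupOf_eq_top.1 h)).trans (card_dvd_of_surjective _ (MonoidHom.subgroupMap_surjective _ L)))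

theorem simple_of_card {N : Subgroup G} [N.Normal] (M : Subgroup (G ⧸ N)) [IsSimpleGroup M] (h : Nat.card M = Nat.card G) :
    IsSimpleGroup G := by
  have h1 := Nat.le_of_dvd Nat.card_pos (card_subgroup_dvd_card M)
  have h2 := Nat.le_of_dvd Nat.card_pos (card_quotient_dvd_card N)
  exact ((MulEquiv.ofBijective (QuotientGroup.mk' N) ((Nat.bijective_iff_surjective_and_card _).2
    ⟨QuotientGroup.mk'_surjective N, by omega⟩)).trans (MulEquiv.ofBijective M.subtype
    ((Nat.bijective_iff_injective_and_card _).2 ⟨M.subtype_injective, by omega⟩)).symm).isSimpleGroup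

theorem dvd_of_section {N : Subgroup G} [N.Normal] (M : Subgroup (G ⧸ N)) [M.Normal] {d : ℕ} (h : d ∈ charDegrees M) :
    ∃ e ∈ charDegrees G, d ∣ e :=
  (dvd_of_normal M h).imp fun _ h => ⟨Known.charDegrees_subset_of_surjective _ (QuotientGroup.mk'_surjective N) h.1, h.2⟩

theorem four_degrees {n : ℕ} (hn : 4 ≤ n) [MulAction G (Fin n)] [MulAction.IsMultiplyPretransitive G (Fin n) 4] {a b c : ℕ}
    (ha : (n : ℂ) - 1 = a) (hb : (n : ℂ) * (n - 1) / 2 - n = b) (hc : (n : ℂ) * (n - 1) / 2 - (n - 1) = c) :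
    a ∈ charDegrees G ∧ b ∈ charDegrees G ∧ c ∈ charDegrees G := by
  obtain ⟨h1, h2, h3⟩ := irr_of_four (G := G) (X := Fin n) (by simpa using hn)
  have h4 : fx (Fin n) (1 : G) = n := by simp [fx]
  have h5 : tw (Fin n) (1 : G) = 0 := by simp [tw]
  exact ⟨Known.mem_charDegrees h1 (by rw [h4, ha]), Known.mem_charDegrees h2 (by rw [h4, h5, ← hb]; simp),
    Known.mem_charDegrees h3 (by rw [h4, h5, ← hc]; simp)⟩

theorem six_S5 : 6 ∈ charDegrees (Equiv.Perm (Fin 5)) :=
  have := Equiv.Perm.isMultiplyPretransitive (Fin 5) 4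
  (four_degrees (G := Equiv.Perm (Fin 5)) (n := 5) (a := 4) (b := 5) (by norm_num) (by norm_num) (by norm_num)
    (by norm_num)).2.2

theorem deg_A7 : 14 ∈ charDegrees (alternatingGroup (Fin 7)) ∧ 15 ∈ charDegrees (alternatingGroup (Fin 7)) :=
  have := alternatingGroup.isMultiplyPretransitive (Fin 7)
  have := MulAction.isMultiplyPretransitive_of_le (G := alternatingGroup (Fin 7)) (α := Fin 7) (m := 4)
    (n := Nat.card (Fin 7) - 2) (by simp) (by simp)
  (four_degrees (G := alternatingGroup (Fin 7)) (n := 7) (a := 6) (by norm_num) (by norm_num) (by norm_num)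
    (by norm_num)).2

theorem three_of_sixty [IsSimpleGroup G] (h : Nat.card G = 60) : ∃ d ∈ charDegrees G, 3 ∣ d := by
  classical
  by_contra hn
  push Not at hn
  have hG : ¬ IsMulCommutative G := not_isMulCommutative_of_not_prime (by rw [h]; norm_num)
  have h1 := sum_deg_sq' (G := G)
  rw [← Finset.add_sum_erase _ _ (Finset.mem_univ (principalIrr G)), deg_principal, h] at h1
  have h2 : ∀ χ ∈ Finset.univ.erase (principalIrr G), charDegree χ.1 = 4 ∨ charDegree χ.1 = 5 := fun χ hχ => by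
    have h3 := Exc.M11.sq_le {χ}
    rw [Finset.sum_singleton, h] at h3
    exact (by decide +kernel : ∀ d ∈ Nat.divisors 60, 2 < d → d ≤ 8 → ¬ 3 ∣ d → d = 4 ∨ d = 5) _
      (Nat.mem_divisors.2 ⟨h ▸ Block2.deg_dvd_card χ.2, by norm_num⟩) (two_lt_deg hG (Finset.ne_of_mem_erase hχ))
      (by push_cast at h3; nlinarith) (hn _ ⟨χ, rfl⟩)
  have h3 := Finset.card_nsmul_le_sum _ (fun χ : IrrCharacter G => (charDegree χ.1 : ℤ) ^ 2) 16 fun χ hχ => by
    rcases h2 χ hχ with e | e <;> simp [e]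
  have h4 := Finset.sum_le_card_nsmul _ (fun χ : IrrCharacter G => (charDegree χ.1 : ℤ) ^ 2) 25 fun χ hχ => by
    rcases h2 χ hχ with e | e <;> simp [e]
  have h5 := Finset.dvd_sum (f := fun χ : IrrCharacter G => (charDegree χ.1 : ℤ) ^ 2 - 16) (a := 9) fun χ hχ => by
    rcases h2 χ hχ with e | e <;> simp [e]
  rw [Finset.sum_sub_distrib, Finset.sum_const] at h5
  simp only [nsmul_eq_mul] at h3 h4 h5
  omega

theorem six_or (hG : Nat.card G = 360) {N : Subgroup G} [N.Normal] (hO : pPrimeCore 5 (G ⧸ N) = ⊥) (M : Subgroup (G ⧸ N))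
    [M.Normal] [IsSimpleGroup M] (hM : Nat.card M = 60) : (∃ d ∈ charDegrees G, 6 ∣ d) ∨ ∀ d ∈ charDegrees G, ¬ 10 ∣ d := by
  have h5 : Nat.Prime 5 := by norm_num
  have := Fact.mk h5
  have hc : ¬ IsMulCommutative M := not_isMulCommutative_of_not_prime (by rw [hM]; norm_num)
  have hq := card_eq_card_quotient_mul_card_subgroup N
  have h1 : Function.Injective (MulAut.conjNormal : G ⧸ N →* MulAut M) := by
    rw [← MonoidHom.ker_eq_bot_iff, eq_bot_iff, ← hO]
    refine le_pPrimeCore ((Nat.Prime.coprime_iff_not_dvd h5).2 fun h => ?_).symm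
    have h2 := (card_subgroup_dvd_card (M ⊔ (MulAut.conjNormal : G ⧸ N →* MulAut M).ker)).trans (card_quotient_dvd_card N)
    rw [card_sup_of_disjoint' (by rw [normalizer_eq_top]; exact le_top) (eq_bot_iff.2 fun x hx => by
      have h3 : (⟨x, hx.1⟩ : M) ∈ center M := mem_center_iff.2 fun g => Subtype.ext (by
        have := congrArg Subtype.val (DFunLike.congr_fun (MonoidHom.mem_ker.1 hx.2) g)
        exact (mul_inv_eq_iff_eq_mul.1 this).symm)
      rw [center_eq_bot_of_simple hc] at h3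
      exact congrArg Subtype.val (mem_bot.1 h3)), hM, hG] at h2
    exact absurd ((mul_dvd_mul_left 60 h).trans h2) (by norm_num)
  obtain ⟨e⟩ := Cfsg.Agent.S0494.result hM
  have e1 : MulAut M ≃* Equiv.Perm (Fin 5) := (MulAut.congr e).trans
    (MulEquiv.ofBijective _ (Linear.conjNormal_alt_bijective (by simp) (by simp))).symm
  have h2 : Nat.card (MulAut M) = 120 := by rw [Nat.card_congr e1.toEquiv, Nat.card_perm]; simp [Nat.factorial]
  have h3 := card_dvd_of_injective _ h1
  have h4 := card_subgroup_dvd_card M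
  rw [h2] at h3
  rw [hM] at h4
  have h6 := Nat.le_of_dvd (by norm_num) h3
  have h7 : 0 < Nat.card (G ⧸ N) := Nat.card_pos
  obtain h8 | h8 : Nat.card (G ⧸ N) = 120 ∨ Nat.card (G ⧸ N) = 60 := by omega
  · refine Or.inl ⟨6, Known.charDegrees_subset_of_surjective (e1.toMonoidHom.comp
      (MulAut.conjNormal.comp (QuotientGroup.mk' N))) (e1.surjective.comp (((Nat.bijective_iff_injective_and_card _).2
        ⟨h1, h8.trans h2.symm⟩).2.comp (QuotientGroup.mk'_surjective N))) six_S5, dvd_rfl⟩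
  have hN : Nat.card N = 6 := by rw [h8, hG] at hq; omega
  have e2 := MulEquiv.ofBijective M.subtype ((Nat.bijective_iff_injective_and_card _).2 ⟨M.subtype_injective, by omega⟩)
  have := e2.symm.isSimpleGroup
  have h9 : N ⊔ centralizer (N : Set G) = ⊤ := by
    obtain ⟨x, hx⟩ := exists_prime_orderOf_dvd_card' (G := G) 5 (by rw [hG]; norm_num)
    have h10 : ∀ r, r.Prime → ¬ r ∣ (centralizer (zpowers x : Set G)).relIndex N := fun r hr =>
      not_dvd_relIndex h5 hr (by rw [hN]; norm_num) hx (by rw [normalizer_eq_top]; trivial) fun i e3 e4 =>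
        (by decide +kernel : ∀ d ∈ Nat.divisors 6, IsPrimePow d → ¬ 5 ∣ d - 1) _
          (Nat.mem_divisors.2 ⟨hN ▸ e4, by norm_num⟩) (hr.isPrimePow.pow (by omega))
    have h11 := le_centralizer_iff.1 (relIndex_eq_one.1 (Nat.eq_one_iff_not_exists_prime_dvd.2 h10)) (mem_zpowers x)
    rcases ((inferInstance : (centralizer (N : Set G)).Normal).map _ (QuotientGroup.mk'_surjective N)).eq_bot_or_eq_top
      with h | h
    · have := Subgroup.orderOf_dvd_natCard N ((QuotientGroup.eq_one_iff x).1 (h.le (mem_map_of_mem _ h11)))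
      rw [hx, hN] at this
      omega
    · have := congrArg (comap (QuotientGroup.mk' N)) h
      rwa [comap_map_eq, QuotientGroup.ker_mk', comap_top, sup_comm] at this
  by_cases h10 : N ≤ centralizer (N : Set G)
  · refine Or.inr fun d ⟨χ, hχ⟩ h11 => ?_
    rw [sup_eq_right.2 h10] at h9
    have h12 := (irrOn_top.2 χ.2).deg_sq_le_of_central (B := ⊥) (D := N) (fun x hx => by rw [mem_bot.1 hx])
      fun d hd _ c _ => by rw [h9.ge (mem_top c) d hd]; simp
    have h13 := Nat.le_of_dvd (hχ ▸ deg_pos χ) h11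
    rw [relIndex_top_right, hχ] at h12
    change _ ≤ Nat.card (G ⧸ N) at h12
    nlinarith
  have h11 : ¬ ∀ a b : N, a * b = b * a := fun h => h10 fun a ha b hb => congrArg Subtype.val (h ⟨b, hb⟩ ⟨a, ha⟩)
  have h12 : center N = ⊥ := by
    have h13 := (center N).card_mul_index
    rw [hN] at h13
    have h14 : ∀ r, r.Prime → (center N).index ≠ r := fun r hr h => by
      have := Fact.mk hr
      have := isCyclic_of_prime_card (α := N ⧸ center N) h
      exact h11 (commutative_of_cyclic_center_quotient (QuotientGroup.mk' (center N)) (by simp))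
    have h15 : (center N).index ≠ 1 := fun h => h11 fun a b => mem_center_iff.1 ((index_eq_one.1 h).ge (mem_top b)) a
    have h16 := h14 2 Nat.prime_two
    have h17 := h14 3 Nat.prime_three
    have h18 := Nat.le_of_dvd (by norm_num) (Dvd.intro_left _ h13)
    rw [← card_eq_one]
    generalize (center N).index = k at *
    interval_cases k <;> omega
  obtain ⟨θ, hθ, h13⟩ : ∃ θ ∈ Irr (⊤ : Subgroup N), charDegree θ ≠ 1 := by
    by_contra h; push Not at h; exact h11 fun a b => comm_of_forall_deg h a trivial b trivial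
  have hθ' := irrOn_top.1 (mem_Irr.1 hθ).1
  have h14 : charDegree θ = 2 := by
    have e3 := (mem_Irr.1 hθ).1.deg_sq_le_of_central (B := ⊥) (D := ⊥) (fun x hx => by rw [mem_bot.1 hx])
      fun d hd _ c _ => by simp [mem_bot.1 hd]
    have e4 := deg_pos (⟨θ, hθ'⟩ : IrrCharacter N)
    rw [relIndex_top_right, index_bot, hN] at e3
    have : charDegree θ ≤ 2 := by nlinarith
    change 0 < charDegree θ at e4
    omega
  obtain ⟨_, h15, k, rfl⟩ := three_of_sixty h8
  obtain ⟨ψ, hψ⟩ := Known.charDegrees_subset_of_surjective ((QuotientGroup.mk' N).comp (centralizer (N : Set G)).subtype)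
    (MonoidHom.range_eq_top.1 (by
      rw [MonoidHom.range_comp, range_subtype, ← map_top_of_surjective _ (QuotientGroup.mk'_surjective N), ← h9,
        Subgroup.map_sup, (map_mk'_eq_bot_iff _ _).2 le_rfl, bot_sup_eq])) h15
  have hcm : ∀ (a : N) (b : centralizer (N : Set G)), Commute (N.subtype a) ((centralizer (N : Set G)).subtype b) :=
    fun a b => b.2 a a.2
  have e3 := MulEquiv.ofBijective (N.subtype.noncommCoprod _ hcm) ⟨(MonoidHom.noncommCoprod_injective _ _ _).2
    ⟨subtype_injective _, subtype_injective _, by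
      rw [range_subtype, range_subtype, disjoint_def]
      intro x e4 e5
      exact congrArg Subtype.val (mem_bot.1 (h12.le (show (⟨x, e4⟩ : N) ∈ center N from
        mem_center_iff.2 fun g => Subtype.ext (e5 g g.2))))⟩,
    MonoidHom.range_eq_top.1 (by rw [MonoidHom.noncommCoprod_range, range_subtype, range_subtype, h9])⟩
  refine Or.inl ⟨6 * k, Known.charDegrees_congr e3 ▸ Known.mem_charDegrees (hθ'.prod ψ.2) ?_, dvd_mul_right _ _⟩
  have e4 := coe_deg (⟨θ, hθ'⟩ : IrrCharacter N)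
  have e5 := coe_deg ψ
  rw [hψ] at e5
  change (charDegree θ : ℂ) = θ 1 at e4
  rw [h14] at e4
  simp only [Prod.fst_one, Prod.snd_one, ← e4, ← e5]
  push_cast
  ring

end Cfsg.Lib.Coprime.DegG
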