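import Cfsg.Agent.Lib.Perm.Sharp2

/-!
# The subgroup generated by the derangements
-/

set_option autoImplicit false
set_option linter.unusedSectionVars false

namespace Cfsg.Lib.Coprime

open MulAction Subgroup

theorem index_dvd_card_of_stabilizer_le {Λ X : Type*} [Group Λ] [MulAction Λ X] [Finite X] {Λ₀ : Subgroup Λ}
    (h : ∀ x : X, stabilizer Λ x ≤ Λ₀) : Λ₀.index ∣ Nat.card X := by
  haveI := Fintype.ofFinite (orbitRel.Quotient Λ X)
  have e := selfEquivSigmaOrbitsQuotientStabilizer Λ X
  haveI := Finite.of_equiv _ e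
  haveI := fun ω => Finite.of_injective _ (sigma_mk_injective (β := fun ω :
    orbitRel.Quotient Λ X => Λ ⧸ stabilizer Λ ω.out) (i := ω))
  rw [Nat.card_congr e, Nat.card_sigma]
  exact Finset.dvd_sum fun ω _ => index_dvd_of_le (h _)

variable {G Ω : Type*} [Group G] [MulAction G Ω]

/-- the subgroup generated by the derangements -/
abbrev derSub (G Ω : Type*) [Group G] [MulAction G Ω] : Subgroup G := Subgroup.closure {g : G | ∀ ω : Ω, g • ω ≠ ω}

theorem derSub_normal : (derSub G Ω).Normal := by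
  refine ⟨fun n hn g => ?_⟩
  induction hn using closure_induction with
  | mem x hx =>
    refine subset_closure fun ω h => hx (g⁻¹ • ω) ?_
    rw [mul_smul, mul_smul, smul_eq_iff_eq_inv_smul] at h
    exact h
  | one => simp
  | mul x y _ _ hx hy => simpa [mul_assoc] using mul_mem hx hy
  | inv x _ hx => simpa [mul_assoc] using inv_mem hx

variable [Finite G] [Finite Ω]

theorem derSub_count [IsPretransitive G Ω] [Nonempty Ω] :
    IsPretransitive (derSub G Ω) Ω ∧ ∀ g, g ∉ derSub G Ω → Nat.card (fixedBy Ω g) = 1 := by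
  classical
  haveI : Fintype G := Fintype.ofFinite _
  haveI : Fintype Ω := Fintype.ofFinite _
  set D := derSub G Ω
  let fx : G → ℕ := fun g => Fintype.card (fixedBy Ω g)
  have h1 : ∑ g, fx g = Fintype.card G := by
    have h := sum_card_fixedBy_eq_card_orbits_mul_card_group G Ω
    haveI : Unique (Quotient (orbitRel G Ω)) := (pretransitive_iff_unique_quotient_of_nonempty G Ω).1 ‹_› |>.some
    rw [Fintype.card_unique, one_mul] at h
    exact h
  have h2 := sum_card_fixedBy_eq_card_orbits_mul_card_group D Ω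
  have h3 : ∑ g : D, Fintype.card (fixedBy Ω g) = ∑ g with g ∈ D, fx g :=
    (Finset.sum_subtype (Finset.univ.filter (· ∈ D)) (by simp) fx).symm
  have h4 : ∀ g ∈ Finset.univ.filter (· ∉ D), 1 ≤ fx g := fun g hg => by
    by_contra h
    have : IsEmpty (fixedBy Ω g) := Fintype.card_eq_zero_iff.1 (by simp only [fx] at h; omega)
    exact (Finset.mem_filter.1 hg).2 (subset_closure fun ω hω => this.elim ⟨ω, hω⟩)
  have h5 : (Finset.univ.filter (· ∉ D)).card • 1 ≤ ∑ g with g ∉ D, fx g := Finset.card_nsmul_le_sum _ _ _ h4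
  have h6 : ∑ g with g ∈ D, fx g + ∑ g with g ∉ D, fx g = ∑ g, fx g :=
    Finset.sum_filter_add_sum_filter_not Finset.univ (· ∈ D) fx
  rw [h3] at h2
  have h7 := Finset.card_filter_add_card_filter_not (s := (Finset.univ : Finset G)) (· ∈ D)
  have h8 : Fintype.card D = (Finset.univ.filter (· ∈ D)).card := Fintype.card_subtype _
  have h9 : 0 < Fintype.card (Quotient (orbitRel D Ω)) :=
    Fintype.card_pos_iff.2 ⟨Quotient.mk _ (Classical.arbitrary Ω)⟩
  have h10 : 0 < Fintype.card D := Fintype.card_pos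
  rw [smul_eq_mul, mul_one] at h5
  rw [Finset.card_univ] at h7
  have h11 : Fintype.card (Quotient (orbitRel D Ω)) = 1 := by
    by_contra h
    have : 2 * Fintype.card D ≤ Fintype.card (Quotient (orbitRel D Ω)) * Fintype.card D :=
      Nat.mul_le_mul_right _ (by omega)
    omega
  refine ⟨(pretransitive_iff_subsingleton_quotient D Ω).2 (Fintype.card_le_one_iff_subsingleton.1 h11.le), fun g hg => ?_⟩
  rw [h11, one_mul] at h2
  have h12 : ∑ g with g ∉ D, 1 = ∑ g with g ∉ D, fx g := by rw [← Finset.card_eq_sum_ones]; omega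
  rw [Nat.card_eq_fintype_card]
  exact ((Finset.sum_eq_sum_iff_of_le h4).1 h12 g (by simpa using hg)).symm

theorem mem_derSub [IsPretransitive G Ω] {g : G} {a b : Ω} (hab : a ≠ b) (ha : g • a = a) (hb : g • b = b) :
    g ∈ derSub G Ω := by
  have : Nonempty Ω := ⟨a⟩
  by_contra h
  have h1 := (derSub_count (G := G) (Ω := Ω)).2 g h
  have := (Nat.card_eq_one_iff_unique.1 h1).1
  exact hab (congrArg Subtype.val (Subsingleton.elim (⟨a, ha⟩ : fixedBy Ω g) ⟨b, hb⟩))

theorem relIndex_derSub [IsPretransitive G Ω] (a : Ω) :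
    (derSub G Ω).relIndex (stabilizer G a) = (derSub G Ω).index := by
  have : Nonempty Ω := ⟨a⟩
  have := derSub_normal (G := G) (Ω := Ω)
  rw [← relIndex_sup_right, ← relIndex_top_right]
  congr 1
  refine eq_top_iff.2 fun g _ => ?_
  obtain ⟨d, hd⟩ := (derSub_count (G := G) (Ω := Ω)).1.exists_smul_eq a (g • a)
  have h1 : (d : G)⁻¹ * g ∈ stabilizer G a := by
    rw [mem_stabilizer_iff, mul_smul, inv_smul_eq_iff]; exact hd.symm
  simpa using mul_mem (mem_sup_right d.2) (mem_sup_left (T := derSub G Ω) h1)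

/-- the index of the derangement subgroup divides the size of every `G_a`-invariant set avoiding `a`. -/
theorem index_derSub_dvd [IsPretransitive G Ω] (a : Ω) (B : Set Ω) (ha : a ∉ B)
    (hB : ∀ g : G, g • a = a → ∀ b ∈ B, g • b ∈ B) : (derSub G Ω).index ∣ B.ncard := by
  let X : SubMulAction (stabilizer G a) Ω := ⟨B, fun g _ hb => hB g g.2 _ hb⟩
  rw [← relIndex_derSub a]
  exact index_dvd_card_of_stabilizer_le (X := X) fun x g hg =>
    mem_derSub (a := a) (b := x) (fun e => ha (e ▸ x.2)) g.2 (congrArg Subtype.val hg)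

end Cfsg.Lib.Coprime
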