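import Cfsg.Agent.Lib.Coprime.AbConj
import Cfsg.Agent.Lib.BG1.Amb
import Cfsg.Agent.Lib.Hall.MinNormal
import Cfsg.Agent.Lib.Hall.Camina

/-!
# Groups in which subgroups of equal order are conjugate: the solvable case
-/

set_option autoImplicit false
set_option linter.unusedSectionVars false

namespace Cfsg.Lib.Coprime.EqC

open Subgroup Cfsg.Lib.Core Cfsg.Lib.Amalg

universe u

/-- subgroups of the same order are conjugate -/
def SC (G : Type*) [Group G] : Prop := ∀ H K : Subgroup G, Nat.card H = Nat.card K → ∃ g : G, K = cj g H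

/-- `p`-subgroups are cyclic -/
def CS (p : ℕ) (G : Type*) [Group G] : Prop := ∀ P : Subgroup G, IsPGroup p P → IsCyclic P

variable {G : Type*} [Group G] [Finite G] {p : ℕ}

theorem SC.rel {Y A B : Subgroup G} (h : SC Y) (hA : A ≤ Y) (hB : B ≤ Y) (e : Nat.card A = Nat.card B) :
    ∃ y ∈ Y, B = cj y A := by
  obtain ⟨y, hy⟩ := h (A.subgroupOf Y) (B.subgroupOf Y) (by
    rw [card_subgroupOf_of_le hA, card_subgroupOf_of_le hB, e])
  refine ⟨y, y.2, ?_⟩
  have := congrArg (Subgroup.map Y.subtype) hy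
  rwa [← cj_map_subtype, subgroupOf_map_subtype, subgroupOf_map_subtype, inf_eq_left.2 hA, inf_eq_left.2 hB] at this

theorem sup_eq_of_map_eq {M H K : Subgroup G} [M.Normal] {g : G}
    (h : K.map (QuotientGroup.mk' M) = cj (QuotientGroup.mk' M g) (H.map (QuotientGroup.mk' M))) :
    K ⊔ M = cj g H ⊔ M := by
  rw [← map_cj] at h
  have := congrArg (Subgroup.comap (QuotientGroup.mk' M)) h
  rwa [comap_map_eq, comap_map_eq, QuotientGroup.ker_mk'] at this

theorem hall_of_sup [Fact p.Prime] {M H : Subgroup G} [M.Normal] (hM : IsPGroup p M) (hH : ¬ p ∣ Nat.card H) :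
    IsPiHallOf {p}ᶜ H (H ⊔ M) := by
  refine BG1.isPiHallOf_mk le_sup_left ((BG1.isPi_compl_iff_not_dvd Fact.out).2 hH) ?_
  rw [compl_compl]
  obtain ⟨k, hk⟩ := hM.exists_card_eq
  have h1 : H.relIndex (H ⊔ M) ∣ p ^ k := by
    have a1 := Core.card_sup_dvd (H := H) (K := M) le_normalizer_of_normal
    rw [← Core.card_mul_relIndex (le_sup_left : H ≤ H ⊔ M), hk] at a1
    exact Nat.dvd_of_mul_dvd_mul_left Nat.card_pos a1
  intro q hq hd
  exact (Nat.prime_dvd_prime_iff_eq hq Fact.out).1 (hq.dvd_of_dvd_pow (hd.trans h1))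

theorem card_hall_eq {π : Set ℕ} {A B H K : Subgroup G} (hA : IsPiHallOf π A H) (hB : IsPiHallOf π B K)
    (e : Nat.card H = Nat.card K) : Nat.card A = Nat.card B := by
  have key : ∀ {A B H K : Subgroup G}, IsPiHallOf π A H → IsPiHallOf π B K → Nat.card H = Nat.card K →
      Nat.card A ∣ Nat.card B := fun {A B H K} hA hB e => by
    have a1 := card_dvd_of_le hA.1
    rw [e, ← Core.card_mul_relIndex hB.1] at a1
    exact ((BG1.isPi_of_hall hA).coprime_compl (BG1.isPi_relIndex_of_hall hB)).dvd_of_dvd_mul_right a1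
  exact Nat.dvd_antisymm (key hA hB e) (key hB hA e.symm)

theorem sup_hall [Fact p.Prime] {M H H1 : Subgroup G} [M.Normal] (hM : Syl p M ⊤) (h : IsPiHallOf {p}ᶜ H1 H) :
    H = (H ⊓ M) ⊔ H1 := by
  have h1 : IsPiHallOf {p} (M ⊓ H) H := BG1.isPiHallOf_singleton_iff.2
    ⟨inf_le_right, hM.isPGroup.to_inf_left, fun U a1 a2 a3 => le_antisymm
      (le_inf (hM.le_of_normal_syl le_normalizer_of_normal a3 le_top) a2) a1⟩
  rw [inf_comm]
  exact (BG1.sup_eq_of_hall h1 h.1 (by simpa using BG1.isPi_relIndex_of_hall h)).symm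

theorem step [Fact p.Prime] [Group.IsSolvable G] {M : Subgroup G} [M.Normal] (hM : IsPGroup p M)
    (h1 : ∀ H K : Subgroup G, Nat.card H = Nat.card K → ∃ g : G, K ⊓ M = cj g (H ⊓ M)) (h2 : SC (G ⧸ M))
    (h3 : ∀ x : G, orderOf x = p → x ∈ M)
    (h4 : ∀ M0 : Subgroup G, M0 ≤ M → M0 ≠ ⊥ → M0 ≠ M → Syl p M ⊤ ∧ ∀ Y, IsPiHallOf {p}ᶜ Y (𝐍 M0) → SC Y) : SC G := by
  suffices key : ∀ H K : Subgroup G, Nat.card H = Nat.card K → K ⊓ M = H ⊓ M → ∃ g : G, K = cj g H by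
    intro H K e
    obtain ⟨g, hg⟩ := h1 H K e
    obtain ⟨g', hg'⟩ := key (cj g H) K (by rw [card_cj, e]) (by rw [hg, cj_inf, cj_normal g M])
    exact ⟨g' * g, by rw [cj_mul, hg']⟩
  intro H K e hi
  have hq : ∃ g : G, K ⊔ M = cj g H ⊔ M := by
    obtain ⟨g, hg⟩ := h2 (H.map (QuotientGroup.mk' M)) (K.map (QuotientGroup.mk' M)) (by
      have a1 := Core.card_map_mk'_mul M H
      have a2 := Core.card_map_mk'_mul M K
      rw [inf_comm, hi, ← e, ← a1, inf_comm] at a2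
      exact (Nat.eq_of_mul_eq_mul_right Nat.card_pos a2).symm)
    obtain ⟨g, rfl⟩ := QuotientGroup.mk'_surjective M g
    exact ⟨g, sup_eq_of_map_eq hg⟩
  by_cases e1 : H ⊓ M = M
  · obtain ⟨g, hg⟩ := hq
    have a1 : M ≤ H := inf_eq_right.1 e1
    have a2 : M ≤ K := inf_eq_right.1 (hi.trans e1)
    refine ⟨g, ?_⟩
    rwa [sup_eq_left.2 a2, sup_eq_left.2 ((cj_normal g M).ge.trans (cj_mono g a1))] at hg
  by_cases e2 : H ⊓ M = ⊥
  · obtain ⟨g, hg⟩ := hq
    have a1 : ¬ p ∣ Nat.card H := fun hd => by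
      obtain ⟨x, hx, ho⟩ := BG1.exists_mem_orderOf_eq_prime Fact.out hd
      have : x = 1 := e2.le ⟨hx, h3 x ho⟩
      rw [this, orderOf_one] at ho
      exact (Fact.out : p.Prime).ne_one ho.symm
    have a2 := hall_of_sup hM (e ▸ a1 : ¬ p ∣ Nat.card K)
    have a3 := hall_of_sup hM ((card_cj g H).symm ▸ a1 : ¬ p ∣ Nat.card (cj g H))
    obtain ⟨l, -, hl⟩ := BG1.exists_cj_eq_of_isPiHallOf inferInstance a3 (hg ▸ a2)
    exact ⟨l * g, by rw [cj_mul, hl]⟩
  obtain ⟨hS, hY⟩ := h4 _ inf_le_right e2 e1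
  obtain ⟨Y, hY1⟩ := BG1.exists_hall {p}ᶜ (H := 𝐍 (H ⊓ M)) inferInstance
  obtain ⟨H1, hH1⟩ := BG1.exists_hall {p}ᶜ (H := H) inferInstance
  obtain ⟨K1, hK1⟩ := BG1.exists_hall {p}ᶜ (H := K) inferInstance
  have n1 : ∀ U : Subgroup G, U ≤ 𝐍 (U ⊓ M) := fun U =>
    le_normalizer_inf le_normalizer le_normalizer_of_normal
  obtain ⟨a, ha, a1⟩ := BG1.exists_cj_le_of_isPiHallOf inferInstance hY1 (hH1.1.trans (n1 H)) (BG1.isPi_of_hall hH1)
  obtain ⟨b, hb, b1⟩ := BG1.exists_cj_le_of_isPiHallOf inferInstance hY1 (hK1.1.trans (hi ▸ n1 K)) (BG1.isPi_of_hall hK1)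
  have c1 : Nat.card H1 = Nat.card K1 := card_hall_eq hH1 hK1 e
  obtain ⟨y, hy, c2⟩ := (hY Y hY1).rel a1 b1 (by rw [card_cj, card_cj, c1])
  have c3 : K1 = cj (b⁻¹ * (y * a)) H1 := by rw [cj_mul, cj_mul, ← c2, cj_inv_cj]
  refine ⟨b⁻¹ * (y * a), ?_⟩
  rw [sup_hall hS hK1, hi, c3]
  conv_rhs => rw [sup_hall hS hH1]
  rw [cj_sup, cj_of_mem_normalizer (mul_mem (inv_mem hb) (mul_mem (hY1.1 hy) ha))]

theorem CS.sub (h : CS p G) (Y : Subgroup G) : CS p Y := fun P hP =>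
  have := h _ (hP.map Y.subtype)
  isCyclic_of_surjective _ (P.equivMapOfInjective _ Y.subtype_injective).symm.surjective

theorem CS.of_not_dvd (hp : p.Prime) (h : ¬ p ∣ Nat.card G) : CS p G := fun P hP => by
  have := Fact.mk hp
  have : P = ⊥ := by_contra fun e => h ((dvd_card_of_isPGroup_ne_bot hP e).trans (card_subgroup_dvd_card P))
  subst this
  infer_instance

theorem CS.quot [Fact p.Prime] (h : CS p G) (N : Subgroup G) [N.Normal] : CS p (G ⧸ N) := fun U hU => by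
  obtain ⟨T, hT⟩ := exists_syl p (U.comap (QuotientGroup.mk' N))
  have a1 := hT.map (QuotientGroup.mk' N)
  rw [map_comap_eq_self_of_surjective (QuotientGroup.mk'_surjective N)] at a1
  rw [← a1.eq_of_isPGroup hU]
  have := h T hT.isPGroup
  exact isCyclic_of_surjective _ ((QuotientGroup.mk' N).subgroupMap_surjective T)

theorem CS.pc [Fact p.Prime] (h : CS p G) : PC p G := fun H K hH hK e => by
  obtain ⟨T, hT, h1⟩ := exists_syl_ge hK (le_top (a := K))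
  obtain ⟨g, -, hg⟩ := hT.exists_conj_le hH le_top
  exact ⟨g, PGrp.eq_of_card_eq_of_isCyclic (h T hT.isPGroup) h1 hg (by rw [card_cj, e])⟩

theorem CS.of_sylow [Fact p.Prime] (h : ∀ P : Sylow p G, IsCyclic P) : CS p G := fun P hP => by
  obtain ⟨S, hS⟩ := hP.exists_le_sylow
  have := h S
  exact isCyclic_of_injective (inclusion hS) (inclusion_injective hS)

theorem pow_eq_one_of [Fact p.Prime] {E : Subgroup G} (h : ∀ x : G, orderOf x = p ^ 2 → ∃ g : G, zpowers x = cj g E)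
    (h3 : ∀ x ∈ E, x ^ p = 1) {x : G} {k : ℕ} (hx : x ^ p ^ k = 1) : x ^ p = 1 := by
  obtain ⟨j, -, hj⟩ := (Nat.dvd_prime_pow Fact.out).1 (orderOf_dvd_of_pow_eq_one hx)
  by_cases h4 : j ≤ 1
  · exact orderOf_dvd_iff_pow_eq_one.1 (hj ▸ (pow_dvd_pow p h4).trans (pow_one p).dvd)
  obtain ⟨i, rfl⟩ := Nat.exists_eq_add_of_le (show 2 ≤ j by omega)
  have h5 : orderOf (x ^ p ^ i) = p ^ 2 := by
    rw [orderOf_pow_of_dvd (pow_ne_zero _ (Fact.out : p.Prime).ne_zero) (hj ▸ pow_dvd_pow p (by omega)), hj, pow_add,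
      Nat.mul_div_cancel _ (pow_pos (Fact.out : p.Prime).pos _)]
  obtain ⟨g, hg⟩ := h _ h5
  obtain ⟨y, hy, e⟩ := hg.le (mem_zpowers _)
  have h6 := orderOf_dvd_of_pow_eq_one (show (x ^ p ^ i) ^ p = 1 by rw [← e, ← map_pow, h3 y hy, map_one])
  rw [h5, sq] at h6
  exact absurd (Nat.dvd_one.1 (Nat.dvd_of_mul_dvd_mul_left (Fact.out : p.Prime).pos (h6.trans (mul_one p).symm.dvd)))
    (Fact.out : p.Prime).ne_one

theorem sq_dvd_of_lt [Fact p.Prime] {M M0 : Subgroup G} (hM : IsPGroup p M) (h1 : M0 ≤ M) (h2 : M0 ≠ ⊥) (h3 : M0 ≠ M) :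
    p ^ 2 ∣ Nat.card M := by
  obtain ⟨k, hk⟩ := hM.exists_card_eq
  obtain ⟨j, hj⟩ := (hM.to_le h1).exists_card_eq
  have a1 : j ≠ 0 := fun e => h2 (card_eq_one.1 (by rw [hj, e, pow_zero]))
  have a2 : j < k := by
    by_contra! hc
    exact h3 (eq_of_le_of_card_ge h1 (by rw [hk, hj]; exact Nat.pow_le_pow_right (Fact.out : p.Prime).pos hc))
  exact hk ▸ pow_dvd_pow p (by omega)

theorem exists_sq_le [Fact p.Prime] {M : Subgroup G} (h : p ^ 2 ∣ Nat.card M) : ∃ E, E ≤ M ∧ Nat.card E = p ^ 2 := by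
  obtain ⟨E, hE⟩ := Sylow.exists_subgroup_card_pow_prime p h
  exact ⟨E.map M.subtype, map_subtype_le E, (card_map_of_injective M.subtype_injective).trans hE⟩

theorem syl_of_exp [Fact p.Prime] {M : Subgroup G} (hM : IsPGroup p M) (h3 : ∀ x : G, orderOf x = p → x ∈ M)
    (h : ∀ (x : G) (k : ℕ), x ^ p ^ k = 1 → x ^ p = 1) : Syl p M ⊤ :=
  ⟨le_top, hM, fun U a1 _ a3 => le_antisymm (fun x hx => by
    obtain ⟨k, hk⟩ := a3 ⟨x, hx⟩
    by_cases e : x = 1
    · exact e ▸ one_mem M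
    · exact h3 x (orderOf_eq_prime (h x k (congrArg Subtype.val hk)) e)) a1⟩

theorem not_cyclic_of_sq [Fact p.Prime] {M : Subgroup G} (h : p ^ 2 ∣ Nat.card M) (h3 : ∀ x ∈ M, x ^ p = 1) :
    ¬ IsCyclic M := fun hc => by
  obtain ⟨x, hx⟩ := hc.exists_ofOrder_eq_natCard
  have h6 := h.trans (hx ▸ orderOf_dvd_of_pow_eq_one (Subtype.ext (h3 x x.2) : x ^ p = 1))
  rw [sq] at h6
  exact absurd (Nat.dvd_one.1 (Nat.dvd_of_mul_dvd_mul_left (Fact.out : p.Prime).pos (h6.trans (mul_one p).symm.dvd)))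
    (Fact.out : p.Prime).ne_one

theorem inf_conj_of_pc [Fact p.Prime] (h : PC p G) {M : Subgroup G} [M.Normal] (hM : IsPGroup p M) (H K : Subgroup G)
    (e : Nat.card H = Nat.card K) : ∃ g : G, K ⊓ M = cj g (H ⊓ M) := by
  have key : ∀ {U T : Subgroup G}, Syl p T U → U ⊓ M = T ⊓ M := fun {U T} hT =>
    le_antisymm (le_inf (hT.le_of_normal hM.to_inf_right inf_le_left
      (le_normalizer_inf le_normalizer le_normalizer_of_normal)) inf_le_right) (inf_le_inf_right _ hT.le)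
  obtain ⟨T, hT⟩ := exists_syl p H
  obtain ⟨U, hU⟩ := exists_syl p K
  obtain ⟨g, hg⟩ := h T U hT.isPGroup hU.isPGroup (by rw [hT.card_eq_pow, hU.card_eq_pow, e])
  exact ⟨g, by rw [key hT, key hU, hg, cj_inf, cj_normal g M]⟩

theorem card_quot_lt {M : Subgroup G} [M.Normal] (h : M ≠ ⊥) : Nat.card (G ⧸ M) < Nat.card G := by
  rw [card_eq_card_quotient_mul_card_subgroup M]
  exact lt_mul_of_one_lt_right Nat.card_pos ((one_lt_card_iff_ne_bot M).2 h)

theorem card_hall_lt [Fact p.Prime] {Y N : Subgroup G} (hY : IsPiHallOf {p}ᶜ Y N) (h : p ∣ Nat.card G) :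
    Nat.card Y < Nat.card G :=
  lt_of_le_of_ne (card_le_card_group Y) fun e =>
    (BG1.isPi_compl_iff_not_dvd Fact.out).1 (BG1.isPi_of_hall hY) (e ▸ h)

theorem sc_of_pc_aux (r n : ℕ) : ∀ (G : Type u) [Group G] [Finite G], Nat.card G = n → Group.IsSolvable G →
    (∀ p : ℕ, p.Prime → PC p G) → (∀ p : ℕ, p.Prime → p ≠ r → CS p G) → SC G := by
  induction n using Nat.strong_induction_on with
  | _ n ih =>
  intro G _ _ hn hs hD hc
  rcases subsingleton_or_nontrivial G with h0 | h0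
  · exact fun H K _ => ⟨1, Subsingleton.elim _ _⟩
  obtain ⟨M, p, hM, hM0, -, -, hp, hMe, hMp⟩ := Hall.exists_minNormal_elementary (G := G)
  have := Fact.mk hp
  obtain ⟨z, hz, hzo⟩ := BG1.exists_mem_orderOf_eq_prime hp (dvd_card_of_isPGroup_ne_bot hMp hM0)
  have h3 : ∀ x : G, orderOf x = p → x ∈ M := fun x hx => (hD p hp).mem hzo hx hz
  refine step hMp (inf_conj_of_pc (hD p hp) hMp) (ih _ (hn ▸ card_quot_lt hM0) _ rfl inferInstance
    (fun q hq => have := Fact.mk hq; (hD q hq).quot M) fun q hq hr => have := Fact.mk hq; (hc q hq hr).quot M) h3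
    fun M0 a1 a2 a3 => ?_
  have b1 := sq_dvd_of_lt hMp a1 a2 a3
  obtain ⟨E, b2, b3⟩ := exists_sq_le b1
  refine ⟨syl_of_exp hMp h3 fun x k hx => pow_eq_one_of (fun x hx => hD p hp E _ (.of_card b3)
    (.of_card ((Nat.card_zpowers x).trans hx)) (b3.trans ((Nat.card_zpowers x).trans hx).symm))
    (fun x hx => hMe x (b2 hx)) hx, fun Y hY => ?_⟩
  have b4 : p = r := by_contra fun e => not_cyclic_of_sq b1 hMe (hc p hp e M hMp)
  have b5 : ∀ q : ℕ, q.Prime → CS q Y := fun q hq => by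
    by_cases e : q = r
    · exact CS.of_not_dvd hq (e ▸ b4 ▸ (BG1.isPi_compl_iff_not_dvd hp).1 (BG1.isPi_of_hall hY))
    · exact (hc q hq e).sub Y
  exact ih _ (hn ▸ card_hall_lt hY (hzo ▸ orderOf_dvd_natCard z)) Y rfl inferInstance
    (fun q hq => have := Fact.mk hq; (b5 q hq).pc) fun q hq _ => b5 q hq

theorem sc_of_pc [Group.IsSolvable G] (r : ℕ) (hD : ∀ p : ℕ, p.Prime → PC p G) (hc : ∀ p : ℕ, p.Prime → p ≠ r → CS p G) :
    SC G := sc_of_pc_aux r _ G rfl inferInstance hD hc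

theorem sc_of_cs [Group.IsSolvable G] (hc : ∀ p : ℕ, p.Prime → CS p G) : SC G :=
  sc_of_pc 0 (fun q hq => have := Fact.mk hq; (hc q hq).pc) fun q hq _ => hc q hq

end Cfsg.Lib.Coprime.EqC
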