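import Cfsg.Agent.Lib.Coprime.EqC1
import Cfsg.Agent.Lib.BS.Cor2

/-!
# Groups in which abelian subgroups of equal order are conjugate: quotients
-/

set_option autoImplicit false
set_option linter.unusedSectionVars false

namespace Cfsg.Lib.Coprime.EqC

open Subgroup Cfsg.Lib.Core Cfsg.Lib.Amalg

universe u

theorem inv_comm (n : ℕ) : ∀ (X : Type u) [Group X] [Finite X], Nat.card X = n → Group.IsSolvable X →
    (∀ x y : X, orderOf x = 2 → orderOf y = 2 → IsConj x y) → ∀ S : Subgroup X, IsPGroup 2 S →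
    ∀ s ∈ S, ∀ t ∈ S, s ^ 2 = 1 → t ^ 2 = 1 → s * t = t * s := by
  induction n using Nat.strong_induction_on with
  | _ n ih =>
  intro X _ _ hn hs hc S hS s h1 t h2 h3 h4
  rcases subsingleton_or_nontrivial X with h0 | h0
  · exact Subsingleton.elim _ _
  obtain ⟨V, q, hV, hV0, -, hVc, hq, hVe, hVp⟩ := Hall.exists_minNormal_elementary (G := X)
  have := Fact.mk hq
  by_cases e : q = 2
  · subst e
    obtain ⟨z, hz, hzo⟩ := BG1.exists_mem_orderOf_eq_prime hq (dvd_card_of_isPGroup_ne_bot hVp hV0)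
    have key : ∀ x : X, x ^ 2 = 1 → x ∈ V := fun x hx => by
      by_cases e : x = 1
      · exact e ▸ one_mem V
      · obtain ⟨g, hg⟩ := isConj_iff.1 (hc z x hzo (orderOf_eq_prime hx e))
        exact hg ▸ hV.conj_mem z hz g
    exact PGrp.isMulCommutative_iff_forall.1 hVc s (key s h3) t (key t h4)
  have ho : Odd q := hq.odd_of_ne_two e
  have lift : ∀ x : X ⧸ V, orderOf x = 2 → ∃ y : X, orderOf y = 2 ∧ (y : X ⧸ V) = x := fun x hx => by
    obtain ⟨y, rfl⟩ := QuotientGroup.mk_surjective x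
    have a1 : (y : X ⧸ V) ^ 2 = 1 := hx ▸ pow_orderOf_eq_one _
    have a2 : ((y ^ q : X) : X ⧸ V) = y := by
      obtain ⟨k, rfl⟩ := ho
      rw [QuotientGroup.mk_pow, pow_succ, pow_mul, a1, one_pow, one_mul]
    refine ⟨y ^ q, orderOf_eq_prime ?_ fun e => ?_, a2⟩
    · rw [← pow_mul, mul_comm, pow_mul]
      exact hVe _ ((QuotientGroup.eq_one_iff _).1 (by rw [QuotientGroup.mk_pow, a1]))
    · rw [e] at a2
      rw [← a2, QuotientGroup.mk_one, orderOf_one] at hx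
      omega
  have a1 := ih _ (hn ▸ card_quot_lt hV0) (X ⧸ V) rfl inferInstance (fun x y hx hy => by
    obtain ⟨x, a1, rfl⟩ := lift x hx
    obtain ⟨y, a2, rfl⟩ := lift y hy
    exact (QuotientGroup.mk' V).map_isConj (hc x y a1 a2)) (S.map (QuotientGroup.mk' V)) (hS.map _)
    _ (mem_map_of_mem _ h1) _ (mem_map_of_mem _ h2) (by rw [← map_pow, h3, map_one]) (by rw [← map_pow, h4, map_one])
  have a2 : (s * t)⁻¹ * (t * s) ∈ S ⊓ V := mem_inf.2 ⟨mul_mem (inv_mem (mul_mem h1 h2)) (mul_mem h2 h1), QuotientGroup.eq.1 a1⟩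
  rw [BG1.inf_eq_bot_of_isPGroup_of_not_dvd Nat.prime_two hS (fun h => by
    obtain ⟨k, hk⟩ := hVp.exists_card_eq
    exact e ((Nat.prime_dvd_prime_iff_eq Nat.prime_two hq).1 (Nat.prime_two.dvd_of_dvd_pow (hk ▸ h))).symm)] at a2
  exact inv_mul_eq_one.1 a2

variable {G : Type u} [Group G] [Finite G] {p : ℕ}

theorem quat_comm (n : ℕ) : (QuaternionGroup.xa 0 * QuaternionGroup.xa 1 : QuaternionGroup n)⁻¹ *
    (QuaternionGroup.xa 1 * QuaternionGroup.xa 0) = QuaternionGroup.a (-2) := by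
  rw [QuaternionGroup.xa_mul_xa, QuaternionGroup.xa_mul_xa, inv_mul_eq_iff_eq_mul, QuaternionGroup.a_mul_a]
  congr 1
  ring

theorem card_le_eight [Group.IsSolvable G] (h : AC G) {M S : Subgroup G} [M.Normal] (hM : Nat.card M = 2)
    (h3 : ∀ x : G, orderOf x = 2 → x ∈ M) (hS : IsPGroup 2 S) (hc : ¬ IsCyclic S) : Nat.card S ≤ 8 := by
  have hMe : ∀ x ∈ M, x ^ 2 = 1 := fun x hx => congrArg Subtype.val (hM ▸ pow_card_eq_one' : (⟨x, hx⟩ : M) ^ 2 = 1)
  have h4 : ∀ x : G, x ^ 2 = 1 → x ∈ M := fun x hx => by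
    by_cases e : x = 1
    · exact e ▸ one_mem M
    · exact h3 x (orderOf_eq_prime hx e)
  have hU : Block.UniqInv G := fun s t hs ht _ => by
    have a1 : zpowers s = M := eq_of_le_of_card_ge (zpowers_le.2 (h3 s hs)) (by rw [Nat.card_zpowers, hs, hM])
    exact Invol.eq_of_mem_zpowers (mem_zpowers s) (a1.ge (h3 t ht)) hs ht
  obtain ⟨m, hm, ⟨e⟩⟩ := (BS.cyc_or_quat hU hS).resolve_left hc
  have o4 : ∀ x : G, orderOf (x : G ⧸ M) = 2 → orderOf x = 4 := fun x hx => by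
    have a1 : x ^ 2 ∈ M := (QuotientGroup.eq_one_iff _).1 (by rw [QuotientGroup.mk_pow, ← hx, pow_orderOf_eq_one])
    refine orderOf_eq_prime_pow (p := 2) (n := 1) (fun e => ?_) (by simpa [← pow_mul] using hMe _ a1)
    rw [(QuotientGroup.eq_one_iff _).2 (h4 x (by simpa using e)), orderOf_one] at hx
    omega
  have a1 := inv_comm _ (G ⧸ M) rfl inferInstance (fun x y hx hy => by
    obtain ⟨x, rfl⟩ := QuotientGroup.mk_surjective x
    obtain ⟨y, rfl⟩ := QuotientGroup.mk_surjective y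
    obtain ⟨g, hg⟩ := h.zpowers ((o4 x hx).trans (o4 y hy).symm)
    have a2 := congrArg (Subgroup.map (QuotientGroup.mk' M)) hg
    rw [MonoidHom.map_zpowers, MonoidHom.map_zpowers] at a2
    exact isConj_iff.2 ⟨(g : G ⧸ M), Invol.eq_of_mem_zpowers (a2.ge (mem_zpowers _)) (mem_zpowers _)
      ((Invol.orderOf_conj (g : G ⧸ M) x).trans hx) hy⟩) (S.map (QuotientGroup.mk' M)) (hS.map _)
  have a2 : ∀ i, (QuotientGroup.mk' M (e.symm (QuaternionGroup.xa i))) ^ 2 = 1 := fun i => by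
    rw [← map_pow]
    refine (QuotientGroup.eq_one_iff _).2 (h4 _ ?_)
    rw [← pow_mul]
    exact congrArg Subtype.val (by rw [← map_pow, QuaternionGroup.xa_pow_four, map_one] : e.symm (QuaternionGroup.xa i) ^ 4 = 1)
  have a3 := hMe _ (QuotientGroup.eq.1 (a1 _ (mem_map_of_mem _ (e.symm (QuaternionGroup.xa 0)).2) _
    (mem_map_of_mem _ (e.symm (QuaternionGroup.xa 1)).2) (a2 0) (a2 1)))
  have a4 : (QuaternionGroup.a (-2) : QuaternionGroup (2 ^ m)) ^ 2 = 1 := by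
    rw [← quat_comm]
    apply e.symm.injective
    rw [map_one]
    simp only [map_pow, map_mul, map_inv]
    exact Subtype.ext a3
  rw [sq, QuaternionGroup.a_mul_a, QuaternionGroup.one_def, QuaternionGroup.a.injEq] at a4
  have a5 : ((4 : ℕ) : ZMod (2 * 2 ^ m)) = 0 := by
    push_cast
    linear_combination -a4
  have a6 := Nat.le_of_dvd (by norm_num) ((ZMod.natCast_eq_zero_iff _ _).1 a5)
  rw [Nat.card_congr e.toEquiv, Nat.card_eq_fintype_card, QuaternionGroup.card]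
  omega

theorem conj_pow_eq {a x m : G} (h : a * x * a⁻¹ = m * x) (hc : a * m = m * a) (k : ℕ) :
    a ^ k * x * (a ^ k)⁻¹ = m ^ k * x := by
  induction k with
  | zero => simp
  | succ k ih =>
    have hk : a * m ^ k = m ^ k * a := (Commute.pow_right hc k)
    calc a ^ (k + 1) * x * (a ^ (k + 1))⁻¹ = a * (a ^ k * x * (a ^ k)⁻¹) * a⁻¹ := by group
      _ = (a * m ^ k) * x * a⁻¹ := by rw [ih]; group
      _ = m ^ k * (a * x * a⁻¹) := by rw [hk]; group
      _ = m ^ (k + 1) * x := by rw [h]; group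

theorem cent_of_card_prime [Fact p.Prime] {M P D : Subgroup G} (hM : Nat.card M = p)
    (h3 : ∀ x : G, orderOf x = p → x ∈ M) (hP : IsPGroup p P) (hne : ¬ P ≤ M) (hD : ¬ p ∣ Nat.card D)
    (hc : ∀ a ∈ D, ∀ x ∈ P, a * x * a⁻¹ * x⁻¹ ∈ M) : D ≤ 𝐂 P := by
  have hp : p.Prime := Fact.out
  have hMe : ∀ x ∈ M, x ^ p = 1 := fun x hx => congrArg Subtype.val (hM ▸ pow_card_eq_one' : (⟨x, hx⟩ : M) ^ p = 1)
  obtain ⟨x, hx, hx'⟩ := SetLike.not_le_iff_exists.1 hne
  obtain ⟨k, hk⟩ := hP.exists_card_eq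
  obtain ⟨j, -, hj⟩ := (Nat.dvd_prime_pow hp).1 (hk ▸ P.orderOf_dvd_natCard hx)
  obtain ⟨i, rfl⟩ : ∃ i, j = i + 2 := by
    rcases j with _ | _ | j
    · exact absurd (orderOf_eq_one_iff.1 (by simpa using hj) ▸ one_mem M) hx'
    · exact absurd (h3 x (by simpa using hj)) hx'
    · exact ⟨j, rfl⟩
  have a1 : orderOf (x ^ p ^ (i + 1)) = p := by
    rw [orderOf_pow_of_dvd (pow_ne_zero _ hp.ne_zero) (hj ▸ pow_dvd_pow p (by omega)), hj, pow_succ p (i + 1),
      Nat.mul_div_cancel_left _ (pow_pos hp.pos _)]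
  have a2 : zpowers (x ^ p ^ (i + 1)) = M := eq_of_le_of_card_ge (zpowers_le.2 (h3 _ a1)) (by rw [Nat.card_zpowers, a1, hM])
  have a3 : ∀ a ∈ D, ∀ m ∈ M, a * m = m * a := fun a ha m hm => by
    have b1 : Commute (a * x * a⁻¹ * x⁻¹) x := by
      obtain ⟨k, hk⟩ := a2.ge (hc a ha x hx)
      rw [← hk]
      exact ((Commute.refl x).pow_left _).zpow_left _
    have b2 : a * x ^ p * a⁻¹ = x ^ p := by
      rw [← conj_pow, show a * x * a⁻¹ = (a * x * a⁻¹ * x⁻¹) * x by group, b1.mul_pow, hMe _ (hc a ha x hx), one_mul]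
    have b3 : Commute a (x ^ p) := mul_inv_eq_iff_eq_mul.1 b2
    obtain ⟨k, rfl⟩ := a2.ge hm
    rw [pow_succ', pow_mul]
    exact (b3.pow_right _).zpow_right k
  intro a ha y hy
  have b1 := conj_pow_eq (a := a) (x := y) (m := a * y * a⁻¹ * y⁻¹) (by group) (a3 a ha _ (hc a ha y hy)) (Nat.card D)
  rw [show a ^ Nat.card D = 1 from congrArg Subtype.val (pow_card_eq_one' : (⟨a, ha⟩ : D) ^ _ = 1)] at b1
  have b2 : (a * y * a⁻¹ * y⁻¹) ^ Nat.card D = 1 := by simpa using b1.symm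
  have b3 := Nat.eq_one_of_dvd_coprimes ((Nat.Prime.coprime_iff_not_dvd hp).2 hD)
    (orderOf_dvd_of_pow_eq_one (hMe _ (hc a ha y hy))) (orderOf_dvd_of_pow_eq_one b2)
  rw [orderOf_eq_one_iff, mul_inv_eq_one, mul_inv_eq_iff_eq_mul] at b3
  exact b3.symm

theorem AC.mem [Fact p.Prime] (h : AC G) {M : Subgroup G} [hM : M.Normal] (h0 : M ≠ ⊥) (hp : IsPGroup p M) {x : G}
    (hx : orderOf x = p) : x ∈ M := by
  obtain ⟨z, hz, hzo⟩ := BG1.exists_mem_orderOf_eq_prime Fact.out (dvd_card_of_isPGroup_ne_bot hp h0)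
  obtain ⟨g, hg⟩ := h.zpowers (hzo.trans hx.symm)
  exact zpowers_le.2 (hM.conj_mem z hz g) (hg ▸ mem_zpowers x)

theorem AC.syl [Fact p.Prime] (h : AC G) {M : Subgroup G} [hM : M.Normal] (hp : IsPGroup p M) (hc : IsMulCommutative M)
    (he : ∀ x ∈ M, x ^ p = 1) (h2 : p ^ 2 ∣ Nat.card M) : Syl p M ⊤ := by
  obtain ⟨E, b2, b3⟩ := exists_sq_le h2
  refine syl_of_exp hp (fun x hx => AC.mem h (fun e => ?_) hp hx) fun x k hx =>
    h.pow_eq_one (PGrp.isMulCommutative_of_le hc b2) b3 (fun x hx => he x (b2 hx)) hx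
  rw [e, card_bot, Nat.dvd_one, Nat.pow_eq_one] at h2
  exact h2.elim (Fact.out : p.Prime).ne_one (by norm_num)

/-- the structure of the preimage of an abelian subgroup of `G ⧸ M` -/
theorem split_comap [Fact p.Prime] {M : Subgroup G} [M.Normal] (hp : IsPGroup p M) (hc : IsMulCommutative M)
    {A : Subgroup (G ⧸ M)} (hA : IsMulCommutative A) : ∃ P D : Subgroup G, Syl p P (A.comap (QuotientGroup.mk' M)) ∧
      IsPiHallOf {p}ᶜ D (A.comap (QuotientGroup.mk' M)) ∧ M ≤ P ∧ IsMulCommutative D ∧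
      A.comap (QuotientGroup.mk' M) = P ⊔ D ∧
      ∀ a ∈ A.comap (QuotientGroup.mk' M), ∀ x ∈ A.comap (QuotientGroup.mk' M), a * x * a⁻¹ * x⁻¹ ∈ M := by
  have h1 : ∀ a ∈ A.comap (QuotientGroup.mk' M), ∀ x ∈ A.comap (QuotientGroup.mk' M), a * x * a⁻¹ * x⁻¹ ∈ M :=
    fun a ha x hx => (QuotientGroup.eq_one_iff _).1 (by
      have := PGrp.isMulCommutative_iff_forall.1 hA _ ha _ hx
      simp only [QuotientGroup.mk'_apply] at this
      simp only [QuotientGroup.mk_mul, QuotientGroup.mk_inv, this]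
      group)
  have : Group.IsSolvable M := Group.isSolvable_of_comm hc.is_comm.comm
  have : Group.IsSolvable A := Group.isSolvable_of_comm hA.is_comm.comm
  obtain ⟨P, hP⟩ := exists_syl p (A.comap (QuotientGroup.mk' M))
  obtain ⟨D, hD⟩ := BG1.exists_hall {p}ᶜ (H := A.comap (QuotientGroup.mk' M)) (isSolvable_comap_mk' M A)
  have h2 := (BG1.isPi_compl_iff_not_dvd Fact.out).1 (BG1.isPi_of_hall hD)
  refine ⟨P, D, hP, hD, hP.le_of_normal hp (fun x hx => ?_) le_normalizer_of_normal,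
    PGrp.isMulCommutative_iff_forall.2 fun x hx y hy => ?_, (BG1.sup_eq_of_hall (BG1.isPiHallOf_singleton_iff.2 hP) hD.1
      (by simpa using BG1.isPi_relIndex_of_hall hD)).symm, h1⟩
  · rw [mem_comap, QuotientGroup.mk'_apply, (QuotientGroup.eq_one_iff _).2 hx]
    exact one_mem A
  · have a1 : x * y * x⁻¹ * y⁻¹ ∈ M ⊓ D := mem_inf.2 ⟨h1 x (hD.1 hx) y (hD.1 hy),
      mul_mem (mul_mem (mul_mem hx hy) (inv_mem hx)) (inv_mem hy)⟩
    rw [BG1.inf_eq_bot_of_isPGroup_of_not_dvd Fact.out hp h2, mem_bot, mul_inv_eq_one, mul_inv_eq_iff_eq_mul] at a1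
    exact a1

theorem AC.quot_min [Fact p.Prime] (h : AC G) {M : Subgroup G} [M.Normal] (h0 : M ≠ ⊥) (hp : IsPGroup p M)
    (hc : IsMulCommutative M) (he : ∀ x ∈ M, x ^ p = 1) (hs : p ≠ 2 ∨ Group.IsSolvable G) : AC (G ⧸ M) := by
  intro A B hA hB e
  suffices key : ∃ g : G, B.comap (QuotientGroup.mk' M) = cj g (A.comap (QuotientGroup.mk' M)) by
    obtain ⟨g, hg⟩ := key
    refine ⟨QuotientGroup.mk' M g, comap_injective (QuotientGroup.mk'_surjective M) ?_⟩
    rw [hg, comap_cj]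
  have h3 : ∀ x : G, orderOf x = p → x ∈ M := fun x hx => AC.mem h h0 hp hx
  obtain ⟨P, D, a1, a2, a3, a4, a5, a6⟩ := split_comap hp hc hA
  obtain ⟨Q, E, b1, b2, b3, b4, b5, b6⟩ := split_comap hp hc hB
  have e1 : Nat.card (A.comap (QuotientGroup.mk' M)) = Nat.card (B.comap (QuotientGroup.mk' M)) := by
    rw [Core.card_comap_mk', Core.card_comap_mk', e]
  have e2 : Nat.card P = Nat.card Q := by rw [a1.card_eq_pow, b1.card_eq_pow, e1]
  obtain ⟨g, hg⟩ := h D E a4 b4 (card_hall_eq a2 b2 e1)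
  by_cases c1 : P ≤ M
  · have c2 : P = M := le_antisymm c1 a3
    have c3 : Q = M := (eq_of_le_of_card_ge b3 (by rw [← e2, c2])).symm
    exact ⟨g, by rw [a5, b5, c2, c3, cj_sup, cj_normal g M, hg]⟩
  have c2 : ¬ Q ≤ M := fun c2 => c1 (eq_of_le_of_card_ge a3 (by rw [e2, le_antisymm c2 b3])).ge
  have c3 : Nat.card M = p := by
    obtain ⟨k, hk⟩ := hp.exists_card_eq
    rcases k with _ | _ | k
    · exact absurd (card_eq_one.1 (by simpa using hk)) h0
    · simpa using hk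
    · exact absurd ((AC.syl h hp hc he (hk ▸ pow_dvd_pow p (by omega))).eq_of_le P a3 le_top a1.isPGroup).le c1
  have d1 := cent_of_card_prime c3 h3 a1.isPGroup c1 ((BG1.isPi_compl_iff_not_dvd Fact.out).1 (BG1.isPi_of_hall a2))
    fun a ha x hx => a6 a (a2.1 ha) x (a1.le hx)
  have d2 := cent_of_card_prime c3 h3 b1.isPGroup c2 ((BG1.isPi_compl_iff_not_dvd Fact.out).1 (BG1.isPi_of_hall b2))
    fun a ha x hx => b6 a (b2.1 ha) x (b1.le hx)
  by_cases c4 : IsMulCommutative P ∧ IsMulCommutative Q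
  · rw [a5, b5] at e1 ⊢
    exact h _ _ (PGrp.isMulCommutative_sup c4.1 a4 d1) (PGrp.isMulCommutative_sup c4.2 b4 d2) e1
  have c5 : p = 2 := by_contra fun e => by
    have key : ∀ {U : Subgroup G}, IsPGroup p U → IsMulCommutative U := fun hU =>
      PGrp.isMulCommutative_of_isCyclic (PGrp.isCyclic_of_forall_mem e hU c3.le fun x _ hx => by
        by_cases e : x = 1
        · exact e ▸ one_mem M
        · exact h3 x (orderOf_eq_prime hx e))
    exact c4 ⟨key a1.isPGroup, key b1.isPGroup⟩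
  subst c5
  have := hs.resolve_left (by simp)
  have key : ∀ {U : Subgroup G}, IsPGroup 2 U → ¬ IsMulCommutative U → Syl 2 U ⊤ := fun {U} hU hn => by
    obtain ⟨S, s1, s2⟩ := exists_syl_ge hU (le_top (a := U))
    have s3 := card_le_eight h c3 h3 s1.isPGroup fun hc =>
      hn (PGrp.isMulCommutative_of_le (PGrp.isMulCommutative_of_isCyclic hc) s2)
    refine s1.of_card_ge hU le_top (s3.trans ?_)
    obtain ⟨k, hk⟩ := hU.exists_card_eq
    have s4 : ¬ k ≤ 2 := fun s4 => hn (PGrp.isMulCommutative_of_card_le_sq hU (hk ▸ Nat.pow_le_pow_right two_pos s4))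
    exact hk ▸ Nat.pow_le_pow_right two_pos (show 3 ≤ k by omega)
  have c6 : Syl 2 P ⊤ ∧ Syl 2 Q ⊤ := by
    rcases not_and_or.1 c4 with c | c
    · exact ⟨key a1.isPGroup c, (key a1.isPGroup c).of_card_ge b1.isPGroup le_top e2.le⟩
    · exact ⟨(key b1.isPGroup c).of_card_ge a1.isPGroup le_top e2.ge, key b1.isPGroup c⟩
  have c7 : cj g P ≤ 𝐂 E := by
    rw [hg, ← cj_centralizer]
    exact cj_mono g (le_centralizer_iff.1 d1)
  obtain ⟨c, c8, c9⟩ := ((c6.1.conj_top g).of_le c7 le_top).exists_conj (c6.2.of_le (le_centralizer_iff.1 d2) le_top)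
  exact ⟨c * g, by rw [a5, b5, cj_mul, cj_sup, cj_sup, c9, ← hg, cj_of_mem_centralizer c8]⟩

theorem AC.of_equiv {H : Type*} [Group H] (h : AC G) (e : G ≃* H) : AC H := fun A B hA hB c => by
  have key : ∀ {U : Subgroup H}, IsMulCommutative U → IsMulCommutative (U.comap e.toMonoidHom) := fun hU =>
    PGrp.isMulCommutative_iff_forall.2 fun x hx y hy => e.injective (by
      rw [map_mul, map_mul]; exact PGrp.isMulCommutative_iff_forall.1 hU _ hx _ hy)
  have k2 : ∀ U : Subgroup H, Nat.card (U.comap e.toMonoidHom) = Nat.card U := fun U => by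
    rw [← card_map_of_injective (f := e.toMonoidHom) e.injective, map_comap_eq_self_of_surjective e.surjective]
  obtain ⟨g, hg⟩ := h _ _ (key hA) (key hB) (by rw [k2, k2, c])
  refine ⟨e.toMonoidHom g, comap_injective (f := e.toMonoidHom) e.surjective ?_⟩
  rw [hg, comap_cj]

theorem ac_quot_aux (n : ℕ) : ∀ (G : Type u) [Group G] [Finite G] (M : Subgroup G) [M.Normal], Nat.card G = n → AC G →
    (Odd (Nat.card M) ∨ Group.IsSolvable G) → AC (G ⧸ M) := by
  induction n using Nat.strong_induction_on with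
  | _ n ih =>
  intro G _ _ M _ hn h hs
  by_cases h0 : M = ⊥
  · subst h0
    exact AC.of_equiv h QuotientGroup.quotientBot.symm
  have : Group.IsSolvable M := hs.elim (FT.odd_order_solvable M) fun _ => inferInstance
  obtain ⟨V, p, hV, hV0, hVM, -, hVc, hp, hVe, hVp⟩ := Hall.exists_minNormal_elementary_le M h0
  have := Fact.mk hp
  have a1 := AC.quot_min h hV0 hVp hVc hVe (hs.imp_left fun ho =>
    BG1.ne_two_of_dvd_odd ho ((dvd_card_of_isPGroup_ne_bot hVp hV0).trans (card_dvd_of_le hVM)))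
  exact AC.of_equiv (ih _ (hn ▸ card_quot_lt hV0) (G ⧸ V) (M.map (QuotientGroup.mk' V)) rfl a1
    (hs.imp (fun ho => ho.of_dvd_nat (card_map_dvd _ _)) fun hs => by have := hs; infer_instance))
    (QuotientGroup.quotientQuotientEquivQuotient V M hVM)

theorem AC.quot (h : AC G) (M : Subgroup G) [M.Normal] (hs : Odd (Nat.card M) ∨ Group.IsSolvable G) : AC (G ⧸ M) :=
  ac_quot_aux _ G M rfl h hs

end Cfsg.Lib.Coprime.EqC
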