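import Cfsg.Agent.Lib.Coprime.EqC2
import Cfsg.Agent.Lib.Forms.Para
import Cfsg.Agent.S3360

/-!
# Solvable linear groups transitive on points and on planes
-/

set_option autoImplicit false
set_option linter.unusedSectionVars false

namespace Cfsg.Lib.Coprime.EqC

open Subgroup Cfsg.Lib.Core Cfsg.Lib.Amalg Cfsg.Lib.BG1

variable {G : Type*} [Group G] [Finite G] {p : ℕ} [Fact p.Prime]

open Classical in
/-- pairs of independent elements -/
noncomputable def prs [Fintype G] (U : Subgroup G) : Finset (Σ _ : G, G) :=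
  ((Finset.univ.filter (· ∈ U)).erase 1).sigma fun x => Finset.univ.filter (· ∈ U) \ Finset.univ.filter (· ∈ zpowers x)

theorem mem_prs [Fintype G] {U : Subgroup G} {t : Σ _ : G, G} :
    t ∈ prs U ↔ (t.1 ≠ 1 ∧ t.1 ∈ U) ∧ t.2 ∈ U ∧ t.2 ∉ zpowers t.1 := by
  simp [prs]

theorem card_prs [Fintype G] {U : Subgroup G} (h : ∀ x ∈ U, x ^ p = 1) :
    (prs U).card = (Nat.card U - 1) * (Nat.card U - p) := by
  classical
  have h1 : ∀ V : Subgroup G, (Finset.univ.filter (· ∈ V)).card = Nat.card V := fun V =>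
    (Nat.subtype_card (Finset.univ.filter (· ∈ V)) (by simp)).symm
  unfold prs
  rw [Finset.card_sigma, Finset.sum_congr rfl (g := fun _ => Nat.card U - p) fun x hx => ?_, Finset.sum_const,
    Finset.card_erase_of_mem (by simp), smul_eq_mul]
  · congr 2
    convert h1 U
  · simp only [Finset.mem_erase, Finset.mem_filter, Finset.mem_univ, true_and] at hx
    rw [Finset.card_sdiff_of_subset fun y hy => by
      simp only [Finset.mem_filter, Finset.mem_univ, true_and] at hy ⊢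
      exact zpowers_le.2 hx.2 hy]
    congr 1
    · convert h1 U
    · convert (h1 (zpowers x)).trans ((Nat.card_zpowers x).trans (orderOf_eq_prime (h x hx.2) hx.1))

theorem card_pair {S : Subgroup G} (hS : IsElementaryAbelian p S) {x y : G} (a1 : x ≠ 1) (a2 : x ∈ S) (a3 : y ∈ S)
    (a4 : y ∉ zpowers x) : Nat.card (zpowers x ⊔ zpowers y : Subgroup G) = p ^ 2 := by
  have b1 : y ∈ 𝐂 (zpowers x) := fun w hw => PGrp.isMulCommutative_iff_forall.1 hS.1 w (zpowers_le.2 a2 hw) _ a3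
  have b2 : y ^ p ∈ zpowers x := by rw [hS.2 _ a3]; exact one_mem _
  rw [PGrp.card_sup_zpowers_of_mem_normalizer (centralizer_le_normalizer _ b1) a4 b2, Nat.card_zpowers,
    orderOf_eq_prime (hS.2 _ a2) a1, sq]

theorem exists_conj_finset (W : Subgroup G) :
    ∃ C : Finset (Subgroup G), (∀ U, U ∈ C ↔ ∃ g : G, U = cj g W) ∧ C.card = (𝐍 W).index := by
  have a1 := Linear.ncard_conj_mul_card_normalizer W
  rw [← (𝐍 W).index_mul_card] at a1
  exact ⟨(Set.toFinite {U | ∃ g : G, U = cj g W}).toFinset, fun U => Set.Finite.mem_toFinset _,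
    (Set.ncard_eq_toFinset_card _ _).symm.trans (Nat.eq_of_mul_eq_mul_right Nat.card_pos a1)⟩

theorem plane_count (h : PC p G) {S W : Subgroup G} [hn : S.Normal] (hS : IsElementaryAbelian p S) (hW : W ≤ S)
    (hc : Nat.card W = p ^ 2) :
    (𝐍 W).index * ((p ^ 2 - 1) * (p ^ 2 - p)) = (Nat.card S - 1) * (Nat.card S - p) := by
  classical
  have := Fintype.ofFinite G
  obtain ⟨C, hC, h1⟩ := exists_conj_finset W
  have h2 : ∀ t ∈ prs S, Nat.card (zpowers t.1 ⊔ zpowers t.2 : Subgroup G) = p ^ 2 := fun t ht =>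
    card_pair hS (mem_prs.1 ht).1.1 (mem_prs.1 ht).1.2 (mem_prs.1 ht).2.1 (mem_prs.1 ht).2.2
  have h4 : ∀ t ∈ prs S, zpowers t.1 ⊔ zpowers t.2 ∈ C := fun t ht =>
    (hC _).2 (h W _ (.of_card hc) (.of_card (h2 t ht)) (hc.trans (h2 t ht).symm))
  have : DecidableEq (Subgroup G) := Classical.decEq _
  have h5 : Set.MapsTo (fun t : (Σ _ : G, G) => zpowers t.1 ⊔ zpowers t.2) (prs S : Set _) C := by
    intro t ht
    exact Finset.mem_coe.2 (h4 t (Finset.mem_coe.1 ht))
  have h3 := Finset.card_eq_sum_card_fiberwise h5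
  refine Eq.symm ((card_prs hS.2).symm.trans (h3.trans ((Finset.sum_const_nat fun U hU => ?_).trans (by rw [h1]))))
  obtain ⟨g, hg⟩ := (hC U).1 hU
  have a1 : U ≤ S := hg.le.trans ((cj_mono g hW).trans (cj_normal g S).le)
  have a2 : Nat.card U = p ^ 2 := by rw [hg, card_cj, hc]
  have a5 := card_prs (U := U) fun x hx => hS.2 x (a1 hx)
  rw [a2] at a5
  rw [← a5]
  refine congrArg Finset.card (Finset.ext fun t => ?_)
  rw [Finset.mem_filter]
  refine ⟨fun ⟨b1, b2⟩ => ?_, fun b1 => ?_⟩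
  · obtain ⟨⟨a1, a2⟩, a3, a4⟩ := mem_prs.1 b1
    exact mem_prs.2 ⟨⟨a1, b2.le (mem_sup_left (mem_zpowers _))⟩, b2.le (mem_sup_right (mem_zpowers _)), a4⟩
  · obtain ⟨⟨c1, c2⟩, c3, c4⟩ := mem_prs.1 b1
    have b2 := mem_prs.2 ⟨⟨c1, a1 c2⟩, a1 c3, c4⟩
    exact ⟨b2, eq_of_le_of_card_ge (sup_le (zpowers_le.2 c2) (zpowers_le.2 c3)) (by rw [h2 t b2, a2])⟩

theorem zmod3_pow : ∀ d : ZMod 3, d ^ 5 = d ^ 1 := by decide

theorem arith13 {k : ℕ} (h : k ≤ 3) (h' : 81 ≡ 3 ^ k [MOD 13]) : k = 1 := by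
  interval_cases k <;> first | rfl | exact absurd h' (by decide)

theorem arith5 {k : ℕ} (h : k ≤ 3) (h' : 81 ≡ 3 ^ k [MOD 5]) : k = 0 := by
  interval_cases k <;> first | rfl | exact absurd h' (by decide)

theorem not_65 {V : Type*} [AddCommGroup V] [Module (ZMod 3) V] [Finite V] (hV : Nat.card V = 81)
    (Γ : Subgroup (V ≃ₗ[ZMod 3] V)) (hs : Group.IsSolvable Γ) (h : 65 ∣ Nat.card Γ) : False := by
  have : Fact (Nat.Prime 3) := ⟨Nat.prime_three⟩
  have : Fact (Nat.Prime 5) := ⟨Nat.prime_five⟩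
  have : Fact (Nat.Prime 13) := ⟨by norm_num⟩
  have : Module.Finite (ZMod 3) V := Module.Finite.of_finite
  have : Finite (V ≃ₗ[ZMod 3] V) := DFunLike.finite _
  have h1 : Module.finrank (ZMod 3) V = 4 := by
    have := Module.natCard_eq_pow_finrank (K := ZMod 3) (V := V)
    rw [hV, Nat.card_zmod] at this
    exact Nat.pow_right_injective (le_refl 3 |>.trans' (by norm_num)) (this.symm.trans (by norm_num))
  have h2 : Nat.card (V ≃ₗ[ZMod 3] V) = 65 * (2 ^ 9 * 3 ^ 6) := by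
    rw [Forms.card_linAut h1, Nat.card_zmod, Fin.prod_univ_four]
    norm_num
  obtain ⟨K, hK⟩ := BG1.exists_hall {q | q ∣ 65} hs
  have h3 : Nat.card K = 65 := by
    refine Nat.dvd_antisymm ?_ ?_
    · refine Nat.Coprime.dvd_of_dvd_mul_right ((BG1.isPi_of_hall hK).coprime_compl fun q hq hd hq' => ?_)
        (h2 ▸ card_subgroup_dvd_card K)
      have a1 := Nat.dvd_gcd hd hq'
      norm_num at a1
      exact hq.ne_one a1
    · rw [← Core.card_mul_relIndex hK.1] at h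
      exact Nat.Coprime.dvd_of_dvd_mul_right (IsPiNumber.coprime_compl (fun q _ hd => hd) (BG1.isPi_relIndex_of_hall hK)) h
  obtain ⟨x, hx⟩ := exists_prime_orderOf_dvd_card' (G := K) 13 (by rw [h3]; norm_num)
  obtain ⟨y, hy⟩ := exists_prime_orderOf_dvd_card' (G := K) 5 (by rw [h3]; norm_num)
  have h4 : (zpowers x).Normal := normal_of_index_eq_minFac_card (by
    have := (zpowers x).card_mul_index
    rw [Nat.card_zpowers, hx, h3] at this
    rw [h3]
    norm_num
    omega)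
  let Fx : K → AddSubgroup V := fun z => (LinearMap.eqLocus (z : V ≃ₗ[ZMod 3] V).toLinearMap LinearMap.id).toAddSubgroup
  have m1 : ∀ z v, v ∈ Fx z ↔ (z : V ≃ₗ[ZMod 3] V) v = v := fun _ _ => Iff.rfl
  have m2 : ∀ (z : K) (v : V), v ∈ Fx z → ∀ w ∈ zpowers z, v ∈ Fx w := fun z v hv w hw =>
    (zpowers_le (H := MulAction.stabilizer K v)).2 hv hw
  have key : ∀ (z : K) (q : ℕ) [Fact q.Prime], orderOf z = q →
      ∃ k ≤ 3, Nat.card (Fx z) = 3 ^ k ∧ 81 ≡ 3 ^ k [MOD q] := fun z q _ hz => by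
    obtain ⟨k, k1, k2⟩ := (Nat.dvd_prime_pow Nat.prime_three (m := 4)).1 (hV ▸ (Fx z).card_addSubgroup_dvd_card)
    have a1 := (Amalg.isPGroup_zpowers_of_orderOf (k := 1) (hz.trans (pow_one q).symm)).card_modEq_card_fixedPoints V
    have a2 : Nat.card (MulAction.fixedPoints (zpowers z) V) = Nat.card (Fx z) :=
      Nat.card_congr (Equiv.subtypeEquivRight fun v => ⟨fun hv => hv ⟨z, mem_zpowers z⟩, fun hv w => m2 z v hv w w.2⟩)
    refine ⟨k, Nat.lt_succ_iff.1 (lt_of_le_of_ne k1 fun e => ?_), k2, by rw [← k2, ← a2, ← hV]; exact a1⟩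
    have a3 : Fx z = ⊤ := AddSubgroup.eq_top_of_card_eq _ (by rw [k2, hV, e]; norm_num)
    have a4 : z = 1 := Subtype.ext (LinearEquiv.ext fun v => (m1 z v).1 (a3 ▸ trivial))
    rw [a4, orderOf_one] at hz
    exact (Fact.out : q.Prime).ne_one hz.symm
  obtain ⟨k, k1, k2, k3⟩ := key x 13 hx
  obtain ⟨j, j1, j2, j3⟩ := key y 5 hy
  obtain rfl := arith13 k1 k3
  obtain rfl := arith5 j1 j3
  obtain ⟨v, hv, hv0⟩ := ((Fx x).bot_or_exists_ne_zero).resolve_left fun e => by simp [e] at k2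
  have b1 : AddSubgroup.zmultiples v = Fx x := AddSubgroup.eq_of_le_of_card_ge (AddSubgroup.zmultiples_le.2 hv) (by
    rw [Nat.card_zmultiples, k2, addOrderOf_eq_prime (p := 3) (by
      rw [← Nat.cast_smul_eq_nsmul (ZMod 3), ZMod.natCast_self, zero_smul]) hv0]; norm_num)
  have b2 : (y : V ≃ₗ[ZMod 3] V) v ∈ Fx x := by
    have := (m1 _ v).1 (m2 x v hv _ (h4.conj_mem' x (mem_zpowers x) y))
    rw [m1]
    conv_rhs => rw [← this]
    simp
  obtain ⟨c, hc⟩ := b1.ge b2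
  have b3 : ∀ i : ℕ, ((y ^ i : K) : V ≃ₗ[ZMod 3] V) v = (c : ZMod 3) ^ i • v := fun i => by
    induction i with
    | zero => simp
    | succ i ih =>
      rw [pow_succ', Subgroup.coe_mul, LinearEquiv.mul_apply, ih, map_smul, ← hc, pow_succ, mul_smul, Int.cast_smul_eq_zsmul]
  have b4 := b3 5
  rw [← hy, pow_orderOf_eq_one, hy] at b4
  rw [zmod3_pow, ← b3 1, pow_one] at b4
  have b6 : Fx y = ⊥ := AddSubgroup.card_eq_one.1 (by simpa using j2)
  exact hv0 (b6.le ((m1 y v).2 b4.symm))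

section
variable {S : Subgroup G} [S.Normal] [hS : Fact (IsElementaryAbelian p S)]

variable (p S) in
/-- the linear action on an elementary abelian normal subgroup -/
def rho : G →* (EV p S ≃ₗ[ZMod p] EV p S) :=
  (LinearMap.GeneralLinearGroup.generalLinearEquiv _ _).toMonoidHom.comp ((autRep p S).comp MulAut.conjNormal).toHomUnits

theorem rho_val (g : G) (v : EV p S) : (rho p S g v).val = g * v.val * g⁻¹ := rfl

theorem arith_dim {n : ℕ} (h2 : p ≠ 2) (h3 : 3 ≤ n) (h81 : p ^ n ≠ 81) {i : ℕ}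
    (h1 : i * ((p ^ 2 - 1) * (p ^ 2 - p)) = (p ^ n - 1) * (p ^ n - p)) (h4 : i * (p - 1) ≤ (p ^ n - 1) * n) : n = 3 := by
  have hp : 3 ≤ p := lt_of_le_of_ne (Fact.out : p.Prime).two_le h2.symm
  obtain ⟨m, rfl⟩ := Nat.exists_eq_add_of_le h3
  have a1 : (p ^ (3 + m) - 1) * (p ^ (3 + m) - p) ≤ (p ^ (3 + m) - 1) * ((3 + m) * ((p ^ 2 - 1) * p)) := by
    rw [← h1, show p ^ 2 - p = p * (p - 1) by rw [sq, Nat.mul_sub_one], ← mul_assoc (p ^ (3 + m) - 1)]
    calc i * ((p ^ 2 - 1) * (p * (p - 1))) = i * (p - 1) * ((p ^ 2 - 1) * p) := by ring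
      _ ≤ _ := Nat.mul_le_mul_right _ h4
  have a2 := Nat.le_of_mul_le_mul_left a1 (Nat.sub_pos_of_lt (Nat.one_lt_pow (by omega) (by omega)))
  have a3 : p ^ m < 3 + m := by
    by_contra! hc
    have b1 : p ^ 2 - 1 + 1 = p ^ 2 := Nat.sub_add_cancel (Nat.one_le_pow _ _ (by omega))
    have b2 : p ^ (3 + m) = p ^ m * (p ^ 2 * p) := by ring
    have b3 : (3 + m) * (p ^ 2 * p) ≤ p ^ (3 + m) := b2 ▸ Nat.mul_le_mul_right _ hc
    rw [← b1] at b3
    have b4 : (3 + m) * ((p ^ 2 - 1 + 1) * p) = (3 + m) * ((p ^ 2 - 1) * p) + (3 + m) * p := by ring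
    have b5 : 3 * p ≤ (3 + m) * p := Nat.mul_le_mul_right _ (by omega)
    omega
  rcases m with _ | _ | m
  · rfl
  · have : p = 3 := by simp at a3; omega
    subst this
    norm_num at h81
  · have b1 := Nat.pow_le_pow_left hp (m + 1 + 1)
    have b2 := Nat.lt_pow_self (n := m) (show 1 < 3 by norm_num)
    rw [pow_succ, pow_succ] at b1
    omega

theorem semi_core [Group.IsSolvable G] (h : PC p G) {n : ℕ} (hn : Nat.card S = p ^ n) (h3 : 3 ≤ n) :
    (∃ (F : Type) (_ : Field F) (_ : Fintype F) (e : EV p S ≃+ F),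
      ∀ g : G, ∃ (a : F) (σ : F ≃+* F), ∀ v, e (rho p S g v) = a * σ (e v)) ∧ (p ≠ 2 → n = 3) := by
  have hp : p.Prime := Fact.out
  obtain ⟨W, hW, hWc⟩ := exists_sq_le (p := p) (M := S) (hn ▸ pow_dvd_pow p (by omega))
  have hpl := plane_count h hS.out hW hWc
  have : Nontrivial (EV p S) := Finite.one_lt_card_iff_nontrivial.1 (by
    rw [EV.card_eq, hn]; exact Nat.one_lt_pow (by omega) hp.one_lt)
  have : Finite (EV p S ≃ₗ[ZMod p] EV p S) := DFunLike.finite _
  have h81 : p ^ n ≠ 81 := fun e => by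
    obtain rfl : p = 3 := (Nat.prime_dvd_prime_iff_eq hp Nat.prime_three).1
      (hp.dvd_of_dvd_pow (n := 4) ((dvd_pow_self p (by omega)).trans e.dvd))
    rw [hn, e] at hpl
    refine not_65 (V := EV 3 S) (hn.trans e) (rho 3 S).range
      (Group.isSolvable_of_surjective (rho 3 S).rangeRestrict_surjective) ?_
    rw [← index_ker]
    refine (show 65 ∣ (𝐍 W).index from ⟨2, by omega⟩).trans (index_dvd_of_le fun g hg => centralizer_le_normalizer _ fun w hw => ?_)
    have := rho_val g (EV.mk 3 ⟨w, hW hw⟩)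
    rw [show rho 3 S g = 1 from hg, eq_mul_inv_iff_mul_eq] at this
    exact this
  let τ : G × (ZMod p)ˣ →* (EV p S ≃ₗ[ZMod p] EV p S) := (rho p S).noncommCoprod
    (DistribMulAction.toModuleAut (ZMod p) (EV p S)) fun g c => LinearEquiv.ext fun v => map_smul (rho p S g) (c : ZMod p) v
  have hτ : ∀ g c v, τ (g, c) v = (c : ZMod p) • rho p S g v := fun g c v => map_smul (rho p S g) (c : ZMod p) v
  have hz : ∀ (k : ℤ) (v : EV p S), ((k : ZMod p) • v).val = v.val ^ k := fun k v => by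
    rw [Int.cast_smul_eq_zsmul]; rfl
  obtain ⟨F, _, _, e, he⟩ := (Cfsg.Agent.S3360.result p (Group.isSolvable_of_surjective τ.rangeRestrict_surjective) τ.range.subtype
    τ.range.subtype_injective fun v w hv hw => by
      obtain ⟨g, hg⟩ := h.zpowers (orderOf_eq_prime (hS.out.2 _ v.val_mem) (EV.val_eq_one.not.2 hv))
        (orderOf_eq_prime (hS.out.2 _ w.val_mem) (EV.val_eq_one.not.2 hw))
      obtain ⟨k, hk⟩ := hg.le (mem_zpowers _)
      have a1 : (k : ZMod p) • rho p S g v = w := EV.ext' ((hz _ _).trans hk)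
      exact ⟨⟨τ (g, Units.mk0 (k : ZMod p) fun e => hw (by rw [← a1, e, zero_smul])), _, rfl⟩, (hτ _ _ _).trans a1⟩).resolve_right
    fun hc => by
      rw [EV.card_eq, hn] at hc
      simp only [Set.mem_insert_iff, Set.mem_singleton_iff] at hc
      have key : ∀ q : ℕ, q.Prime → p ^ n ≠ q ^ 2 := fun q hq e => by
        obtain rfl := (Nat.prime_dvd_prime_iff_eq hp hq).1 (hp.dvd_of_dvd_pow ((dvd_pow_self p (by omega)).trans e.dvd))
        have := Nat.pow_right_injective hp.two_le e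
        omega
      rcases hc with e | e | e | e | e | e
      exacts [key 3 (by norm_num) e, key 5 (by norm_num) e, key 7 (by norm_num) e, key 11 (by norm_num) e,
        key 23 (by norm_num) e, h81 e]
  refine ⟨⟨F, inferInstance, inferInstance, e, fun g => ?_⟩, fun h2 => arith_dim h2 h3 h81 (hn ▸ hpl) ?_⟩
  · obtain ⟨a, σ, h1⟩ := he ⟨τ (g, 1), _, rfl⟩
    exact ⟨a, σ, fun v => by rw [← h1]; exact congrArg e ((hτ g 1 v).trans (one_smul _ _)).symm⟩
  have hF : Nat.card F = p ^ n := (Nat.card_congr e.toEquiv).symm.trans hn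
  have : CharP F p := charP_of_card_eq_prime_pow (Nat.card_eq_fintype_card.symm.trans hF)
  choose a σ he using he
  have a0 : ∀ γ, a γ ≠ 0 := fun γ e0 => one_ne_zero (α := F) (by
    have := he γ (τ.range.subtype γ⁻¹ (e.symm 1))
    rwa [e0, zero_mul, ← LinearEquiv.mul_apply, ← map_mul, mul_inv_cancel, map_one, LinearEquiv.coe_one, id,
      e.apply_symm_apply] at this)
  let f : (G ⧸ 𝐍 W) × (ZMod p)ˣ → Fˣ × (F ≃+* F) := fun t =>
    (Units.mk0 _ (a0 ⟨τ (t.1.out, t.2), _, rfl⟩), σ ⟨τ (t.1.out, t.2), _, rfl⟩)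
  have hf : Function.Injective f := fun ⟨g, c⟩ ⟨k, d⟩ e1 => by
    have b1 : ∀ v, (c : ZMod p) • rho p S g.out v = (d : ZMod p) • rho p S k.out v := fun v => e.injective (by
      have c1 : a _ = a _ := congrArg (fun t : Fˣ × (F ≃+* F) => (t.1 : F)) e1
      have c2 : σ _ = σ _ := congrArg Prod.snd e1
      rw [← hτ, ← hτ]
      exact (he ⟨_, _, rfl⟩ v).trans (by rw [c1, c2]; exact (he ⟨_, _, rfl⟩ v).symm))
    have b2 : cj k.out W ≤ cj g.out W := cj_le_iff'.2 fun w hw => by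
      obtain ⟨j, hj⟩ := ZMod.intCast_surjective ((d⁻¹ * c : (ZMod p)ˣ) : ZMod p)
      have c1 : rho p S k.out (EV.mk p ⟨w, hW hw⟩) = (j : ZMod p) • rho p S g.out (EV.mk p ⟨w, hW hw⟩) := by
        rw [hj, Units.val_mul, mul_smul, b1, ← mul_smul, Units.inv_mul, one_smul]
      have c2 := congrArg EV.val c1
      rw [hz, rho_val, rho_val] at c2
      exact c2 ▸ zpow_mem (conj_mem_cj _ hw) j
    have b3 : g = k := by
      rw [← g.out_eq', ← k.out_eq', QuotientGroup.eq, ← cj_eq_self_iff, cj_mul,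
        eq_of_le_of_card_ge b2 (by rw [card_cj, card_cj]), cj_inv_cj]
    subst b3
    obtain ⟨v, hv⟩ := exists_ne (0 : EV p S)
    exact Prod.ext rfl (Units.ext (smul_left_injective _ ((rho p S g.out).map_ne_zero_iff.2 hv) (b1 v)))
  have b1 := Nat.card_le_card_of_injective f hf
  rwa [Nat.card_prod, Nat.card_prod, Nat.card_units, Nat.card_units, Nat.card_zmod, hF, BS.card_aut hF, ← index_eq_card] at b1

end

end Cfsg.Lib.Coprime.EqC
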