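import Cfsg.Agent.Lib.Coprime.EqC3

/-!
# Solvable groups in which abelian subgroups of equal order are conjugate
-/

set_option autoImplicit false
set_option linter.unusedSectionVars false

namespace Cfsg.Lib.Coprime.EqC

open Subgroup Cfsg.Lib.Core Cfsg.Lib.Amalg Cfsg.Lib.BG1

universe u

section
variable {G : Type*} [Group G] [Finite G] {p r : ℕ} [Fact p.Prime] [Fact r.Prime]

theorem fpf_transfer (h : PC r G) {S : Subgroup G} [hS : S.Normal] {x y : G} (hx : orderOf x = r) (hy : orderOf y = r)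
    (h1 : S ⊓ 𝐂[x] = ⊥) : S ⊓ 𝐂[y] = ⊥ := by
  obtain ⟨g, hg⟩ := h.zpowers hx hy
  refine eq_bot_iff.2 fun v hv => ?_
  obtain ⟨k, hk⟩ := hg.ge (mem_zpowers _)
  have a1 : Commute v (g * x * g⁻¹) := hk ▸ Commute.zpow_right (mem_centralizer_singleton_iff.1 hv.2) k
  have a2 : g⁻¹ * v * g ∈ S ⊓ 𝐂[x] := mem_inf.2 ⟨hS.conj_mem' v hv.1 g, mem_centralizer_singleton_iff.2 (by
    calc g⁻¹ * v * g * x = g⁻¹ * (v * (g * x * g⁻¹)) * g := by group
      _ = x * (g⁻¹ * v * g) := by rw [a1.eq]; group)⟩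
  rw [h1, mem_bot] at a2
  have : v = g * (g⁻¹ * v * g) * g⁻¹ := by group
  rw [this, a2]
  simp

theorem exists_pow_order {R : Subgroup G} (hR : IsPGroup r R) {x : G} (hx : x ∈ R) (h1 : x ≠ 1) :
    ∃ k : ℕ, orderOf (x ^ k) = r := by
  obtain ⟨k, hk⟩ := PGrp.exists_pow_orderOf_eq hR (x := ⟨x, hx⟩) fun e => h1 (congrArg Subtype.val e)
  exact ⟨k, (Subgroup.orderOf_coe ((⟨x, hx⟩ : R) ^ k)).trans hk⟩

theorem regular_of_fpf (h : PC r G) {S R : Subgroup G} [S.Normal] (hR : IsPGroup r R) {x : G} (hx : orderOf x = r)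
    (h1 : S ⊓ 𝐂[x] = ⊥) : Regular S R := fun y hy h2 => by
  obtain ⟨k, hk⟩ := exists_pow_order hR hy h2
  refine eq_bot_iff.2 (le_trans (inf_le_inf_left _ fun v hv => ?_) (fpf_transfer h hx hk h1).le)
  exact mem_centralizer_singleton_iff.2 (Commute.pow_right (mem_centralizer_singleton_iff.1 hv) k)

theorem line_fpf {L : Subgroup G} (hL : Nat.card L = p) {x : G} (hx : x ∉ 𝐂(L)) : L ⊓ 𝐂[x] = ⊥ := by
  rcases (Nat.dvd_prime Fact.out).1 (hL ▸ card_dvd_of_le (inf_le_left : L ⊓ 𝐂[x] ≤ L)) with e | e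
  · exact card_eq_one.1 e
  · exact absurd (fun v hv => mem_centralizer_singleton_iff.1
      ((eq_of_le_of_card_ge inf_le_left (by rw [e, hL])).ge hv).2) hx

theorem cyc_two (h : PC r G) (hr : r ≠ p) {S M0 R : Subgroup G} [S.Normal] (hS : IsElementaryAbelian p S)
    (hc : Nat.card S = p ^ 2) (hR : IsPGroup r R) (hf : R ⊓ 𝐂(S) = ⊥) (h1 : M0 ≤ S) (h2 : M0 ≠ ⊥) (h3 : M0 ≠ S)
    (hn : R ≤ 𝐍(M0)) : IsCyclic R := by
  have hp : p.Prime := Fact.out
  obtain ⟨k, hk⟩ := hR.exists_card_eq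
  obtain ⟨L, a1, a2, a3⟩ := maschke_abelem hp hS (A := R) (fun e => hr ((Nat.prime_dvd_prime_iff_eq hp Fact.out).1
    (hp.dvd_of_dvd_pow (hk ▸ e))).symm) h1 le_normalizer_of_normal hn
  have a4 : L ≤ S := le_sup_right.trans a1.le
  have cm := PGrp.isMulCommutative_iff_forall.1 hS.1
  have a5 : M0 ≤ 𝐍(L) := fun x hx => centralizer_le_normalizer _ fun y hy => cm y (a4 hy) x (h1 hx)
  have a6 : Nat.card M0 = p := by
    obtain ⟨j, j1, j2⟩ := (Nat.dvd_prime_pow hp).1 (hc ▸ card_dvd_of_le h1)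
    interval_cases j
    · exact absurd (card_eq_one.1 (by simpa using j2)) h2
    · simpa using j2
    · exact absurd (eq_of_le_of_card_ge h1 (by rw [hc, j2])) h3
  have a7 : Nat.card L = p := by
    have := Core.card_sup_of_disjoint a5 a2
    rw [a1, hc, a6, sq] at this
    exact (Nat.eq_of_mul_eq_mul_left hp.pos this).symm
  have a8 : 𝐂(M0) ⊓ 𝐂(L) ≤ 𝐂(S) := fun x hx v hv => by
    obtain ⟨a, ha, b, hb, rfl⟩ := (Amalg.mem_sup_of_le_normalizer a5).1 (a1.ge hv)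
    rw [mul_assoc, hx.2 b hb, ← mul_assoc, hx.1 a ha, mul_assoc]
  have a9 : IsMulCommutative R := PGrp.isMulCommutative_iff_forall.2 fun x hx y hy => by
    have b1 := commutator_mem_commutator hx hy
    exact commutatorElement_eq_one_iff_mul_comm.1 (hf.le (mem_inf.2 ⟨commutator_le_self R b1, a8 (mem_inf.2
      ⟨der_norm_le_cent_of_cyclic (isCyclic_of_prime_card a6) hn b1,
        der_norm_le_cent_of_cyclic (isCyclic_of_prime_card a7) a3 b1⟩)⟩))
  have key : ∀ {U : Subgroup G}, Nat.card U = p → R ≤ 𝐍(U) → IsCyclic R ∨ ∃ e ∈ R, e ∈ 𝐂(U) ∧ orderOf e = r :=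
    fun {U} hU hU' => by
      by_cases e : R ⊓ 𝐂(U) = ⊥
      · refine Or.inl (Regular.isCyclic_of_abelian a9 (fun e => ?_) hU' fun x hx h1 =>
          line_fpf hU fun h2 => h1 (e.le (mem_inf.2 ⟨hx, h2⟩)))
        rw [e, card_bot] at hU
        exact hp.ne_one hU.symm
      · obtain ⟨x, hx, ho⟩ := exists_mem_orderOf_eq_prime Fact.out (dvd_card_of_isPGroup_ne_bot hR.to_inf_left e)
        exact Or.inr ⟨x, hx.1, hx.2, ho⟩
  obtain h | ⟨e1, b1, b2, b3⟩ := key a6 hn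
  · exact h
  obtain h | ⟨e2, c1, c2, c3⟩ := key a7 a3
  · exact h
  have n1 : ∀ e : G, orderOf e = r → e ≠ 1 := fun e he e' => (Fact.out : r.Prime).ne_one (by rw [← he, e', orderOf_one])
  have d1 : e1 ∉ 𝐂(L) := fun e => n1 _ b3 (hf.le (mem_inf.2 ⟨b1, a8 (mem_inf.2 ⟨b2, e⟩)⟩))
  have d2 : e2 ∉ 𝐂(M0) := fun e => n1 _ c3 (hf.le (mem_inf.2 ⟨c1, a8 (mem_inf.2 ⟨e, c2⟩)⟩))
  have d3 : Commute e1 e2 := PGrp.isMulCommutative_iff_forall.1 a9 _ b1 _ c1
  have d4 : orderOf (e1 * e2) = r := orderOf_eq_prime (by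
    rw [d3.mul_pow, ← b3, pow_orderOf_eq_one, b3, ← c3, pow_orderOf_eq_one, mul_one])
    fun e => d1 (eq_inv_of_mul_eq_one_left e ▸ inv_mem c2)
  have d5 : S ⊓ 𝐂[e1 * e2] = ⊥ := eq_bot_iff.2 fun v hv => by
    obtain ⟨a, ha, b, hb, rfl⟩ := (Amalg.mem_sup_of_le_normalizer a5).1 (a1.ge hv.1)
    have f1 := mem_centralizer_singleton_iff.1 hv.2
    have f2 : e2 * a * e2⁻¹ ∈ M0 := (mem_normalizer_iff.1 (hn c1) a).1 ha
    have f3 : e1 * b * e1⁻¹ ∈ L := (mem_normalizer_iff.1 (a3 b1) b).1 hb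
    have f4 : a⁻¹ * (e2 * a * e2⁻¹) = b * (e1 * b * e1⁻¹)⁻¹ := by
      have g1 := b2 _ f2
      have g2 := c2 _ hb
      have g3 : a * b = (e2 * a * e2⁻¹) * (e1 * b * e1⁻¹) := by
        calc a * b = (a * b * (e1 * e2)) * e2⁻¹ * e1⁻¹ := by group
          _ = e1 * (e2 * a * (b * e2⁻¹)) * e1⁻¹ := by rw [f1]; group
          _ = (e1 * (e2 * a * e2⁻¹)) * b * e1⁻¹ := by rw [(Commute.inv_right g2).eq]; group
          _ = _ := by rw [← g1]; group
      calc a⁻¹ * (e2 * a * e2⁻¹) = a⁻¹ * ((e2 * a * e2⁻¹) * (e1 * b * e1⁻¹)) * (e1 * b * e1⁻¹)⁻¹ := by group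
        _ = _ := by rw [← g3]; group
    have f5 : a⁻¹ * (e2 * a * e2⁻¹) = 1 := a2.le (mem_inf.2 ⟨mul_mem (inv_mem ha) f2, f4 ▸ mul_mem hb (inv_mem f3)⟩)
    have f6 : a = 1 := (line_fpf a6 d2).le (mem_inf.2 ⟨ha, mem_centralizer_singleton_iff.2
      (eq_mul_inv_iff_mul_eq.1 (inv_mul_eq_one.1 f5))⟩)
    have f7 : b = 1 := (line_fpf a7 d1).le (mem_inf.2 ⟨hb, mem_centralizer_singleton_iff.2
      (eq_mul_inv_iff_mul_eq.1 (mul_inv_eq_one.1 (f4 ▸ f5)))⟩)
    rw [f6, f7, mul_one]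
    exact one_mem _
  exact absurd (eq_bot_iff.2 (le_trans (le_inf h1 fun v hv => mem_centralizer_singleton_iff.2 (b2 v hv))
    (fpf_transfer h d4 b3 d5).le)) h2

theorem cyc_three [Group.IsSolvable G] (hp : PC p G) (h : PC r G) (hr : r ≠ p) {S R : Subgroup G} [S.Normal]
    (hS : IsElementaryAbelian p S) {n : ℕ} (hc : Nat.card S = p ^ n) (h3 : 3 ≤ n) (hR : IsPGroup r R)
    (hf : R ⊓ 𝐂(S) = ⊥) : IsCyclic R := by
  have := Fact.mk hS
  obtain ⟨⟨F, _, _, e, he⟩, h4⟩ := semi_core hp hc h3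
  choose a σ he using he
  have a0 : ∀ γ, a γ ≠ 0 := fun γ e0 => one_ne_zero (α := F) (by
    have := he γ (rho p S γ⁻¹ (e.symm 1))
    rwa [e0, zero_mul, ← LinearEquiv.mul_apply, ← map_mul, mul_inv_cancel, map_one, LinearEquiv.coe_one, id,
      e.apply_symm_apply] at this)
  let θ : G →* (F ≃+* F) := MonoidHom.mk' σ fun x y => (semi_unique (a := Units.mk0 _ (a0 (x * y))) (b := 0) (b' := 0)
    (a' := Units.mk0 (a x * σ x (a y)) (mul_ne_zero (a0 x) (by simpa using a0 y))) fun t => by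
      have := he (x * y) (e.symm t)
      rw [map_mul, LinearEquiv.mul_apply, he, he, e.apply_symm_apply] at this
      simp [← this, mul_assoc]).2.2
  have b1 : ∀ g, θ g = 1 → ∀ v, e (rho p S g v) = a g * e v := fun g hg v => by
    rw [he, show σ g = 1 from hg]; rfl
  have b2 : ∀ g ∈ R, (∀ v, rho p S g v = v) → g = 1 := fun g hg hv => hf.le (mem_inf.2 ⟨hg, fun w hw => by
    have := rho_val g (EV.mk p ⟨w, hw⟩)
    rw [hv, eq_mul_inv_iff_mul_eq] at this
    exact this⟩)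
  by_cases c1 : R ⊓ θ.ker = ⊥
  · have := BS.isCyclic_aut (F := F)
    exact isCyclic_of_injective (θ.comp R.subtype) ((injective_iff_map_eq_one _).2 fun g hg =>
      Subtype.ext (c1.le (mem_inf.2 ⟨g.2, hg⟩)))
  obtain ⟨x, hx, ho⟩ := exists_mem_orderOf_eq_prime Fact.out (dvd_card_of_isPGroup_ne_bot hR.to_inf_left c1)
  have c2 : S ⊓ 𝐂[x] = ⊥ := eq_bot_iff.2 fun v hv => by_contra fun h1 => by
    have d1 : rho p S x (EV.mk p ⟨v, hv.1⟩) = EV.mk p ⟨v, hv.1⟩ := EV.ext' (by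
      rw [rho_val, mul_inv_eq_iff_eq_mul]; exact (mem_centralizer_singleton_iff.1 hv.2).symm)
    have d2 := b1 x hx.2 (EV.mk p ⟨v, hv.1⟩)
    rw [d1, eq_comm, mul_eq_right₀ (by
      rw [Ne, AddEquiv.map_eq_zero_iff, ← EV.val_eq_one]; exact h1)] at d2
    rw [b2 x hx.1 fun w => e.injective (by rw [b1 x hx.2, d2, one_mul]), orderOf_one] at ho
    exact (Fact.out : r.Prime).ne_one ho.symm
  have c3 := regular_of_fpf h hR ho c2
  have c4 : S ≠ ⊥ := fun e => by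
    rw [e, card_bot] at hc
    exact (Nat.one_lt_pow (by omega) (Fact.out : p.Prime).one_lt).ne hc
  obtain ⟨k, hk⟩ := hR.exists_card_eq
  by_cases c5 : r = 2
  swap
  · exact c3.isCyclic_of_pgroup Fact.out hR (hk ▸ ((Fact.out : r.Prime).odd_of_ne_two c5).pow) c4 le_normalizer_of_normal
  subst c5
  obtain rfl := h4 hr.symm
  have hF : Nat.card F = p ^ 3 := (Nat.card_congr e.toEquiv).symm.trans hc
  have : CharP F p := charP_of_card_eq_prime_pow (Nat.card_eq_fintype_card.symm.trans hF)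
  have c6 : ∀ g ∈ R, θ g = 1 := fun g hg => orderOf_eq_one_iff.1 (Nat.eq_one_of_dvd_coprimes
    (Nat.Coprime.pow_left k (show Nat.Coprime 2 3 by norm_num))
    ((orderOf_map_dvd θ g).trans (hk ▸ R.orderOf_dvd_natCard hg)) (BS.card_aut hF ▸ orderOf_dvd_natCard _))
  refine c3.isCyclic_of_abelian (PGrp.isMulCommutative_iff_forall.2 fun x hx y hy => mul_inv_eq_one.1
    (b2 _ (mul_mem (mul_mem hx hy) (inv_mem (mul_mem hy hx))) fun v => ?_)) c4 le_normalizer_of_normal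
  obtain ⟨w, rfl⟩ := (rho p S (y * x)).surjective v
  rw [← LinearEquiv.mul_apply, ← map_mul, inv_mul_cancel_right]
  apply e.injective
  simp only [map_mul, LinearEquiv.mul_apply, b1 x (c6 x hx), b1 y (c6 y hy), mul_left_comm]

theorem exists_order_sq {x : G} {k : ℕ} (h1 : x ^ p ^ k = 1) (h2 : x ^ p ≠ 1) : ∃ y ∈ zpowers x, orderOf y = p ^ 2 := by
  obtain ⟨j, -, hj⟩ := (Nat.dvd_prime_pow Fact.out).1 (orderOf_dvd_of_pow_eq_one h1)
  by_cases h4 : j ≤ 1
  · exact absurd (orderOf_dvd_iff_pow_eq_one.1 (hj ▸ (pow_dvd_pow p h4).trans (pow_one p).dvd)) h2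
  obtain ⟨i, rfl⟩ := Nat.exists_eq_add_of_le (show 2 ≤ j by omega)
  exact ⟨x ^ p ^ i, npow_mem_zpowers _ _, by
    rw [orderOf_pow_of_dvd (pow_ne_zero _ (Fact.out : p.Prime).ne_zero) (hj ▸ pow_dvd_pow p (by omega)), hj, pow_add,
      Nat.mul_div_cancel _ (pow_pos (Fact.out : p.Prime).pos _)]⟩

theorem zpow_pow_eq_one {x : G} {n : ℕ} (h : x ^ n = 1) (j : ℤ) : (x ^ j) ^ n = 1 := by
  rw [← zpow_natCast, ← zpow_mul, mul_comm, zpow_mul, zpow_natCast, h, one_zpow]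

theorem cyc_of_no_sq (hr : r ≠ 2) {R : Subgroup G} (hR : IsPGroup r R)
    (h : ∀ E : Subgroup G, IsMulCommutative E → Nat.card E = r ^ 2 → (∀ x ∈ E, x ^ r = 1) → False) : IsCyclic R := by
  rcases subsingleton_or_nontrivial R with h0 | h0
  · infer_instance
  have := hR.center_nontrivial
  obtain ⟨c, hc⟩ := exists_ne (1 : center R)
  obtain ⟨k, hk⟩ := exists_pow_order hR c.1.2 fun e => hc (Subtype.ext (Subtype.ext e))
  refine PGrp.isCyclic_of_forall_mem hr hR (Z := zpowers ((c.1 : G) ^ k)) (by rw [Nat.card_zpowers, hk])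
    fun x hx h3 => by_contra fun h4 => ?_
  have a1 : Commute ((c.1 : G) ^ k) x :=
    Commute.pow_left (congrArg Subtype.val (mem_center_iff.1 c.2 ⟨x, hx⟩)).symm k
  have a2 : x ∈ 𝐂(zpowers ((c.1 : G) ^ k)) := fun w ⟨j, hj⟩ => hj ▸ (a1.zpow_left j).eq
  have a3 : IsElementaryAbelian r (zpowers ((c.1 : G) ^ k) ⊔ zpowers x : Subgroup G) :=
    ⟨PGrp.isMulCommutative_sup_zpowers inferInstance a2, fun y hy => by
      obtain ⟨a, ⟨j, rfl⟩, i, rfl⟩ := (PGrp.mem_sup_zpowers_of_mem_normalizer (centralizer_le_normalizer _ a2)).1 hy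
      rw [(a1.zpow_zpow j i).mul_pow, zpow_pow_eq_one h3, zpow_pow_eq_one (hk ▸ pow_orderOf_eq_one _), mul_one]⟩
  exact h _ a3.1 (card_pair a3 (fun e => (Fact.out : r.Prime).ne_one (by rw [← hk, e, orderOf_one]))
    (mem_sup_left (mem_zpowers _)) (mem_sup_right (mem_zpowers _)) h4) a3.2

theorem cyc_lift (h : AC G) {O R : Subgroup G} [hO : O.Normal] (hR : IsPGroup r R) (h1 : ¬ R ≤ O)
    (h2 : IsCyclic (R.map (QuotientGroup.mk' O))) : IsCyclic R := by
  by_cases c1 : R ⊓ O = ⊥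
  · refine isCyclic_of_injective ((QuotientGroup.mk' O).subgroupMap R) ((injective_iff_map_eq_one _).2 fun g hg => ?_)
    exact Subtype.ext (c1.le (mem_inf.2 ⟨g.2, (QuotientGroup.eq_one_iff _).1 (congrArg Subtype.val hg)⟩))
  have m1 : ∀ {x y : G}, orderOf x = orderOf y → x ∈ O → y ∈ O := fun e hx => by
    obtain ⟨g, hg⟩ := h.zpowers e
    exact zpowers_le.2 (hO.conj_mem _ hx g) (hg ▸ mem_zpowers _)
  obtain ⟨z, hz, ho⟩ := exists_mem_orderOf_eq_prime Fact.out (dvd_card_of_isPGroup_ne_bot hR.to_inf_left c1)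
  have m2 : ∀ x : G, x ^ r = 1 → x ∈ O := fun x hx => by
    by_cases e : x = 1
    · exact e ▸ one_mem O
    · exact m1 (ho.trans (orderOf_eq_prime hx e).symm) hz.2
  obtain ⟨y, hy, hy'⟩ := SetLike.not_le_iff_exists.1 h1
  obtain ⟨k, hk⟩ := hR ⟨y, hy⟩
  have m3 : ∀ E : Subgroup G, IsMulCommutative E → Nat.card E = r ^ 2 → (∀ x ∈ E, x ^ r = 1) → False := fun E a1 a2 a3 =>
    hy' (m2 y (h.pow_eq_one a1 a2 a3 (congrArg Subtype.val hk)))
  by_cases c2 : r = 2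
  swap
  · exact cyc_of_no_sq c2 hR m3
  subst c2
  have hU : Block.UniqInv G := Block.uniqInv_of_no_klein fun E hE => m3 E IsKleinFour.isMulCommutative hE.card_four
    fun x hx => congrArg Subtype.val (hE.exponent_two ▸ Monoid.pow_exponent_eq_one (⟨x, hx⟩ : E) : (⟨x, hx⟩ : E) ^ 2 = 1)
  refine (BS.cyc_or_quat hU hR).resolve_right fun ⟨m, hm, ⟨e⟩⟩ => ?_
  have o4 : ∀ i, orderOf (e.symm (QuaternionGroup.xa i) : G) = 2 ^ 2 := fun i => by
    rw [Subgroup.orderOf_coe, MulEquiv.orderOf_eq, QuaternionGroup.orderOf_xa]; rfl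
  have m4 : ∀ x ∈ O, orderOf x ≠ 2 ^ 2 := fun x hx h4 => h1 fun g hg => by
    obtain ⟨q, hq⟩ := e.symm.surjective ⟨g, hg⟩
    have b1 := fun i => m1 (h4.trans (o4 i).symm) hx
    rw [show g = e.symm q from congrArg Subtype.val hq.symm]
    rcases q with i | i
    · rw [show QuaternionGroup.a i = (QuaternionGroup.xa 0)⁻¹ * QuaternionGroup.xa i by
        rw [eq_inv_mul_iff_mul_eq, QuaternionGroup.xa_mul_a, zero_add], map_mul, map_inv]
      exact mul_mem (inv_mem (b1 0)) (b1 i)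
    · exact b1 i
  have o2 : ∀ i, orderOf ((QuotientGroup.mk' O).subgroupMap R (e.symm (QuaternionGroup.xa i))) = 2 := fun i =>
    orderOf_eq_prime (Subtype.ext ((QuotientGroup.eq_one_iff ((e.symm (QuaternionGroup.xa i) : G) ^ 2)).2 (m2 _ (by
      rw [← pow_mul, ← sq, ← o4 i, pow_orderOf_eq_one]))))
      fun e' => m4 _ ((QuotientGroup.eq_one_iff _).1 (congrArg Subtype.val e')) (o4 i)
  have b1 : (QuotientGroup.mk' O).subgroupMap R (e.symm (QuaternionGroup.xa 0)) =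
      (QuotientGroup.mk' O).subgroupMap R (e.symm (QuaternionGroup.xa 1)) := by
    obtain ⟨g, hg⟩ := h2.exists_generator
    exact Invol.eq_of_mem_zpowers (hg _) (hg _) (o2 0) (o2 1)
  have b2 : (e.symm (QuaternionGroup.a 1) : G) ∈ O := by
    rw [show QuaternionGroup.a 1 = (QuaternionGroup.xa 0)⁻¹ * QuaternionGroup.xa (1 : ZMod (2 * 2 ^ m)) by
        rw [eq_inv_mul_iff_mul_eq, QuaternionGroup.xa_mul_a, zero_add], map_mul, map_inv]
    exact QuotientGroup.eq.1 (congrArg Subtype.val b1)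
  have b3 : orderOf (e.symm (QuaternionGroup.a 1) : G) = 2 ^ (m + 1) := by
    rw [Subgroup.orderOf_coe, MulEquiv.orderOf_eq, QuaternionGroup.orderOf_a_one, pow_succ']
  obtain ⟨w, w1, w2⟩ := exists_order_sq (p := 2) (b3 ▸ pow_orderOf_eq_one _) fun e' => by
    have := Nat.le_of_dvd two_pos (b3 ▸ orderOf_dvd_of_pow_eq_one e')
    have := Nat.pow_le_pow_right two_pos (show 2 ≤ m + 1 by omega)
    omega
  exact m4 w (zpowers_le.2 b2 w1) w2

theorem cyc_of_norm [Group.IsSolvable G] (h : AC G) (hp : PC p G) (h' : PC r G) (hr : r ≠ p) {S M0 R : Subgroup G} [S.Normal]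
    (hS : IsElementaryAbelian p S) (hT : Syl p S ⊤) (hR : IsPGroup r R) (h1 : M0 ≤ S) (h2 : M0 ≠ ⊥) (h3 : M0 ≠ S)
    (hn : R ≤ 𝐍(M0)) (hc : ¬ R ≤ 𝐂(M0)) : IsCyclic R := by
  have hO : ¬ p ∣ Nat.card (pPrimeCore p G) := not_dvd_card_pPrimeCore Fact.out
  have a1 : pPrimeCore p G ≤ 𝐂(S) := le_cent_of_coprime_of_norm le_normalizer_of_normal le_normalizer_of_normal
    (coprime_of_isPGroup_of_not_dvd Fact.out hT.isPGroup hO).symm
  refine cyc_lift h hR (fun e => hc (e.trans (a1.trans (centralizer_le h1)))) ?_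
  set f := QuotientGroup.mk' (pPrimeCore p G)
  have hf : Function.Surjective f := QuotientGroup.mk'_surjective _
  have a2 : ∀ U ≤ S, Nat.card (U.map f) = Nat.card U := fun U hU => by
    have a1 := Core.card_map_mk'_mul (pPrimeCore p G) U
    rwa [inf_comm, BG1.inf_eq_bot_of_isPGroup_of_not_dvd Fact.out (hT.isPGroup.to_le hU) hO, card_bot, mul_one] at a1
  have : (S.map f).Normal := Normal.map inferInstance f hf
  have a3 : S.map f = pCore p _ := le_antisymm (le_pCore (hT.isPGroup.map f)) (hT.map_top hf).pCore_le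
  have a4 : R.map f ⊓ 𝐂(S.map f) = ⊥ := by
    obtain ⟨k, hk⟩ := (hT.isPGroup.map f).exists_card_eq
    refine eq_bot_iff.2 (le_trans (inf_le_inf_left _ ?_) (BG1.inf_eq_bot_of_isPGroup_of_not_dvd Fact.out (hR.map f)
      (B := S.map f) fun e => hr ((Nat.prime_dvd_prime_iff_eq Fact.out Fact.out).1
        ((Fact.out : r.Prime).dvd_of_dvd_pow (hk ▸ e)))).le)
    rw [a3]
    exact centralizer_pCore_le_of_solvable Fact.out pPrimeCore_quotient_pPrimeCore
  obtain ⟨n, hn'⟩ := hT.isPGroup.exists_card_eq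
  have a5 : 2 ≤ n := (Nat.pow_dvd_pow_iff_le_right (Fact.out : p.Prime).one_lt).1 (hn' ▸ sq_dvd_of_lt hT.isPGroup h1 h2 h3)
  rcases a5.eq_or_lt with rfl | a6
  · exact cyc_two (h'.quot _) hr (elemAb_map hS f) ((a2 S le_rfl).trans hn') (hR.map f) a4 (map_mono h1)
      (fun e => h2 (card_eq_one.1 (by rw [← a2 M0 h1, e, card_bot])))
      (fun e => h3 (eq_of_le_of_card_ge h1 (by rw [← a2 M0 h1, e, a2 S le_rfl])))
      ((map_mono hn).trans (le_normalizer_map f))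
  · exact cyc_three (hp.quot _) (h'.quot _) hr (elemAb_map hS f) ((a2 S le_rfl).trans hn') a6 (hR.map f) a4

theorem core_sup {π : Set ℕ} {A B : Subgroup G} (hA : IsPiNumber π (Nat.card A)) (hB : IsPiNumber πᶜ (Nat.card B))
    (hc : IsMulCommutative (A ⊔ B : Subgroup G)) : piCoreOf π (A ⊔ B) = A := by
  have cm := PGrp.isMulCommutative_iff_forall.1 hc
  refine (eq_piCoreOf_of_isPiHallOf (isPiHallOf_mk le_sup_left hA fun q hq hd => hB q hq (hd.trans ?_))
    fun x hx => centralizer_le_normalizer _ fun y hy => cm y (mem_sup_left hy) x hx).symm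
  have a1 := Core.card_sup_dvd (H := A) (K := B) fun x hx => centralizer_le_normalizer _ fun y hy =>
    cm y (mem_sup_right hy) x (mem_sup_left hx)
  rw [← Core.card_mul_relIndex (le_sup_left : A ≤ A ⊔ B)] at a1
  exact Nat.dvd_of_mul_dvd_mul_left Nat.card_pos a1

theorem ac_hall [Group.IsSolvable G] (h : AC G) (hD : ∀ q : ℕ, q.Prime → PC q G) {S M0 Y : Subgroup G} [hSn : S.Normal]
    (hS : IsElementaryAbelian p S) (hT : Syl p S ⊤) (h1 : M0 ≤ S) (h2 : M0 ≠ ⊥) (h3 : M0 ≠ S)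
    (hY : IsPiHallOf {p}ᶜ Y 𝐍(M0)) : AC Y := by
  have hp : p.Prime := Fact.out
  suffices key : ∀ A B : Subgroup G, A ≤ Y → B ≤ Y → IsMulCommutative A → IsMulCommutative B → Nat.card A = Nat.card B →
      ∃ y ∈ Y, B = cj y A by
    intro A B hA hB e
    obtain ⟨y, hy, e'⟩ := key (A.map Y.subtype) (B.map Y.subtype) (map_subtype_le A) (map_subtype_le B) inferInstance
      inferInstance (by rw [card_map_of_injective Y.subtype_injective, card_map_of_injective Y.subtype_injective, e])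
    exact ⟨⟨y, hy⟩, map_injective Y.subtype_injective (e'.trans (cj_map_subtype ⟨y, hy⟩ A))⟩
  intro A B hA hB cA cB e
  have hYp := (isPi_compl_iff_not_dvd hp).1 (isPi_of_hall hY)
  let π : Set ℕ := {q | q ∣ (𝐂(M0)).relIndex Y}
  have a1 : ∀ q : ℕ, q.Prime → q ∈ π → ∀ P ≤ Y, IsPGroup q P → IsCyclic P := fun q hq hπ P b1 b2 => by
    have := Fact.mk hq
    obtain ⟨R, c1, c2⟩ := exists_syl_ge b2 b1
    have := cyc_of_norm h (hD p hp) (hD q hq) (fun e => hYp (e ▸ hπ.trans (relIndex_dvd_card _ _))) hS hT c1.isPGroup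
      h1 h2 h3 (c1.le.trans hY.1) fun e => c1.not_dvd_relIndex_of_le e hπ
    exact isCyclic_of_injective (inclusion c2) (inclusion_injective c2)
  have a2 : ∀ U ≤ Y, piCoreOf πᶜ U ≤ 𝐂(M0) := fun U hU => le_of_coprime_card_relIndex ((piCoreOf_le' _ _).trans hU)
    (fun g hg => cj_eq_self_iff.1 (by rw [cj_centralizer, cj_of_mem_normalizer (hY.1 hg)]))
    (IsPiNumber.coprime_compl (π := π) (fun q _ hd => hd) (isPi_piCoreOf' _ _)).symm
  have a3 : ∀ U ≤ Y, IsPiNumber {p}ᶜ (Nat.card (piCoreOf πᶜ U)) := fun U hU =>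
    (isPi_compl_iff_not_dvd hp).2 (not_dvd_card_of_le ((piCoreOf_le' _ _).trans hU) hYp)
  have a4 : IsPiNumber {p} (Nat.card M0) := fun q hq hd => by
    obtain ⟨k, hk⟩ := (hT.isPGroup.to_le h1).exists_card_eq
    exact (Nat.prime_dvd_prime_iff_eq hq hp).1 (hq.dvd_of_dvd_pow (hk ▸ hd))
  have a5 : ∀ U ≤ Y, IsMulCommutative U → IsMulCommutative (M0 ⊔ piCoreOf πᶜ U : Subgroup G) := fun U hU cU =>
    PGrp.isMulCommutative_sup (PGrp.isMulCommutative_of_le hS.1 h1) (PGrp.isMulCommutative_of_le cU (piCoreOf_le' _ _))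
      (a2 U hU)
  have a6 : ∀ U ≤ Y, Nat.card (M0 ⊔ piCoreOf πᶜ U : Subgroup G) = Nat.card M0 * Nat.card (piCoreOf πᶜ U) := fun U hU =>
    Core.card_sup_of_disjoint ((le_centralizer_iff.1 (a2 U hU)).trans (centralizer_le_normalizer _))
      (inf_eq_bot_of_isPGroup_of_not_dvd hp (hT.isPGroup.to_le h1) ((isPi_compl_iff_not_dvd hp).1 (a3 U hU)))
  have nA : Group.IsNilpotent A := isNilpotent_of_isMulCommutative A
  have nB : Group.IsNilpotent B := isNilpotent_of_isMulCommutative B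
  have e1 : ∀ ρ : Set ℕ, Nat.card (piCoreOf ρ A) = Nat.card (piCoreOf ρ B) := fun ρ =>
    card_hall_eq (isPiHallOf_piCoreOf_of_nilpotent ρ nA) (isPiHallOf_piCoreOf_of_nilpotent ρ nB) e
  obtain ⟨g, hg⟩ := h _ _ (a5 A hA cA) (a5 B hB cB) (by rw [a6 A hA, a6 B hB, e1])
  have b1 : M0 = cj g M0 := by
    have := congrArg (piCoreOf {p}) hg
    rwa [← cj_piCoreOf, core_sup a4 (a3 A hA) (a5 A hA cA), core_sup a4 (a3 B hB) (a5 B hB cB)] at this
  have b2 : piCoreOf πᶜ B = cj g (piCoreOf πᶜ A) := by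
    have := congrArg (piCoreOf {p}ᶜ) hg
    rwa [← cj_piCoreOf, sup_comm, sup_comm M0, core_sup (a3 A hA) (by rwa [compl_compl]) (sup_comm M0 _ ▸ a5 A hA cA),
      core_sup (a3 B hB) (by rwa [compl_compl]) (sup_comm M0 _ ▸ a5 B hB cB)] at this
  obtain ⟨s, hs, y, hy, rfl⟩ := (Amalg.mem_sup_of_le_normalizer' (K := Y) (hY.1.trans
    (le_normalizer_inf le_normalizer le_normalizer_of_normal))).1 ((sup_hall hT hY).le (cj_eq_self_iff.1 b1.symm))
  have b3 : piCoreOf πᶜ B = cj y (piCoreOf πᶜ A) := by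
    rw [b2, cj_mul]
    refine cj_of_mem_centralizer fun u hu => ?_
    have c1 : u ∈ Y := cj_le_of_le_of_mem ((piCoreOf_le' _ _).trans hA) hy hu
    have c2 : s * u * s⁻¹ ∈ Y := ((piCoreOf_le' _ _).trans hB) (by rw [b2, cj_mul]; exact conj_mem_cj s hu)
    have c3 : s * u * s⁻¹ * u⁻¹ ∈ S ⊓ Y := mem_inf.2 ⟨by
      have := mul_mem hs.2 (hSn.conj_mem _ (inv_mem hs.2) u)
      simpa [mul_assoc] using this, mul_mem c2 (inv_mem c1)⟩
    rw [inf_eq_bot_of_isPGroup_of_not_dvd hp hT.isPGroup hYp, mem_bot, mul_inv_eq_one, mul_inv_eq_iff_eq_mul] at c3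
    exact c3.symm
  obtain ⟨Z, hZ⟩ := exists_hall π (H := Y ⊓ 𝐂(piCoreOf πᶜ B)) inferInstance
  obtain ⟨a, ha, c1⟩ := exists_cj_le_of_isPiHallOf inferInstance hZ (A := cj y (piCoreOf π A)) (le_inf
    (cj_le_of_le_of_mem ((piCoreOf_le' _ _).trans hA) hy) (by
      rw [b3, ← cj_centralizer]; exact cj_mono y (piCoreOf_le_cent_compl π A))) (by
      rw [card_cj]; exact isPi_piCoreOf' _ _)
  obtain ⟨b, hb, c2⟩ := exists_cj_le_of_isPiHallOf inferInstance hZ (A := piCoreOf π B) (le_inf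
    ((piCoreOf_le' _ _).trans hB) (piCoreOf_le_cent_compl π B)) (isPi_piCoreOf' _ _)
  have c3 : SC Z := sc_of_cs fun q hq => by
    by_cases e : q ∈ π
    · intro P hP
      have := a1 q hq e _ ((map_subtype_le P).trans (hZ.1.trans inf_le_left)) (hP.map Z.subtype)
      exact isCyclic_of_surjective _ (P.equivMapOfInjective _ Z.subtype_injective).symm.surjective
    · exact CS.of_not_dvd hq fun hd => e (isPi_of_hall hZ q hq hd)
  obtain ⟨z, hz, c4⟩ := c3.rel c1 c2 (by rw [card_cj, card_cj, card_cj, e1])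
  have c5 : b⁻¹ * (z * a) ∈ Y ⊓ 𝐂(piCoreOf πᶜ B) := mul_mem (inv_mem hb) (mul_mem (hZ.1 hz) ha)
  refine ⟨b⁻¹ * (z * a) * y, mul_mem c5.1 hy, ?_⟩
  conv_lhs => rw [← piCoreOf_sup_compl_of_nilpotent π nB]
  conv_rhs => rw [← piCoreOf_sup_compl_of_nilpotent π nA]
  rw [cj_mul, cj_sup, cj_sup, ← b3, cj_of_mem_centralizer c5.2, cj_mul, cj_mul, ← c4, cj_inv_cj]

theorem pc_of_quot (hr : r ≠ p) {M : Subgroup G} [M.Normal] (hM : IsPGroup p M) (h : SC (G ⧸ M)) : PC r G :=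
  fun H K hH hK e => by
    obtain ⟨k, hk⟩ := hM.exists_card_eq
    have a0 : ¬ r ∣ Nat.card M := fun e => hr ((Nat.prime_dvd_prime_iff_eq Fact.out Fact.out).1
      ((Fact.out : r.Prime).dvd_of_dvd_pow (hk ▸ e)))
    have a1 : ∀ {U : Subgroup G}, IsPGroup r U → Nat.card (U.map (QuotientGroup.mk' M)) = Nat.card U := fun {U} hU => by
      have a1 := Core.card_map_mk'_mul M U
      rwa [inf_comm, BG1.inf_eq_bot_of_isPGroup_of_not_dvd Fact.out hU a0, card_bot, mul_one] at a1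
    have a2 : ∀ {U : Subgroup G}, IsPGroup r U → Syl r U (U ⊔ M) := fun {U} hU => syl_of_not_dvd le_sup_left hU fun hd => by
      have a1 := Core.card_sup_dvd (H := U) (K := M) le_normalizer_of_normal
      rw [← Core.card_mul_relIndex (le_sup_left : U ≤ U ⊔ M)] at a1
      exact a0 (hd.trans (Nat.dvd_of_mul_dvd_mul_left Nat.card_pos a1))
    obtain ⟨g, hg⟩ := h _ _ ((a1 hH).trans (e.trans (a1 hK).symm))
    obtain ⟨g, rfl⟩ := QuotientGroup.mk'_surjective M g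
    obtain ⟨l, -, hl⟩ := (a2 (isPGroup_cj g hH)).exists_conj (sup_eq_of_map_eq hg ▸ a2 hK)
    exact ⟨l * g, by rw [cj_mul, hl]⟩

end

theorem sc_of_ac_aux (n : ℕ) : ∀ (G : Type u) [Group G] [Finite G], Nat.card G = n → Group.IsSolvable G → AC G → SC G := by
  induction n using Nat.strong_induction_on with
  | _ n ih =>
  intro G _ _ hn hs h
  rcases subsingleton_or_nontrivial G with h0 | h0
  · exact fun H K _ => ⟨1, Subsingleton.elim _ _⟩
  obtain ⟨M, p, hM, hM0, -, hMc, hp, hMe, hMp⟩ := Hall.exists_minNormal_elementary (G := G)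
  have := Fact.mk hp
  have h3 : ∀ x : G, orderOf x = p → x ∈ M := fun x hx => AC.mem h hM0 hMp hx
  have h2 : SC (G ⧸ M) := ih _ (hn ▸ card_quot_lt hM0) _ rfl inferInstance (AC.quot h M (Or.inr hs))
  have h4 : Syl p M ⊤ → PC p G := fun hT H K hH hK e =>
    h H K (PGrp.isMulCommutative_of_le hMc (hT.le_of_normal_syl le_normalizer_of_normal hH le_top))
      (PGrp.isMulCommutative_of_le hMc (hT.le_of_normal_syl le_normalizer_of_normal hK le_top)) e
  refine step hMp (fun H K e => ?_) h2 h3 fun M0 a1 a2 a3 => ?_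
  · by_cases c : p ^ 2 ∣ Nat.card M
    · exact inf_conj_of_pc (h4 (AC.syl h hMp hMc hMe c)) hMp H K e
    have key : ∀ U : Subgroup G, U ⊓ M = if p ∣ Nat.card U then M else ⊥ := fun U => by
      split_ifs with d
      · obtain ⟨x, hx, ho⟩ := exists_mem_orderOf_eq_prime hp d
        exact by_contra fun e => c (sq_dvd_of_lt hMp inf_le_right (fun e' => hp.ne_one (by
          rw [← ho, e'.le (mem_inf.2 ⟨hx, h3 x ho⟩), orderOf_one])) e)
      · rw [inf_comm]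
        exact inf_eq_bot_of_isPGroup_of_not_dvd hp hMp d
    refine ⟨1, ?_⟩
    rw [cj_one, key, key, e]
  have b1 := AC.syl h hMp hMc hMe (sq_dvd_of_lt hMp a1 a2 a3)
  refine ⟨b1, fun Y hY => ih _ (hn ▸ card_hall_lt hY ((dvd_card_of_isPGroup_ne_bot hMp hM0).trans
    (card_subgroup_dvd_card M))) Y rfl inferInstance (ac_hall h (fun q hq => ?_) ⟨hMc, hMe⟩ b1 a1 a2 a3 hY)⟩
  have := Fact.mk hq
  by_cases e : q = p
  · exact e ▸ h4 b1
  · exact pc_of_quot e hMp h2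

theorem sc_of_ac {G : Type*} [Group G] [Finite G] (hs : Group.IsSolvable G) (h : AC G) : SC G :=
  sc_of_ac_aux _ G rfl hs h

end Cfsg.Lib.Coprime.EqC
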