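import Cfsg.Agent.Lib.Coprime.SemiAff
import Cfsg.Agent.Lib.Coprime.AbSyl
import Cfsg.Agent.Lib.FG.ONS
import Cfsg.Agent.Lib.Block.IsoElt
import Cfsg.Agent.Lib.Linear.OutPSL
import Cfsg.Agent.Lib.Linear.PUnip
import Cfsg.Agent.Lib.Linear.PSL2Klein
import Cfsg.Agent.Lib.Hall.SylNum
import Cfsg.Agent.S4023

/-!
# Groups in which `p`-subgroups of equal order are conjugate
-/

set_option autoImplicit false

namespace Cfsg.Lib.Coprime

open Subgroup Cfsg.Lib.Core Cfsg.Lib.Amalg Cfsg.Lib.Linear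

/-- `p`-subgroups of the same order are conjugate -/
def PC (p : ℕ) (G : Type*) [Group G] : Prop := ∀ H K : Subgroup G, IsPGroup p H → IsPGroup p K →
  Nat.card H = Nat.card K → ∃ g : G, K = H.map (MulAut.conj g).toMonoidHom

variable {G : Type*} [Group G] [Finite G] {p : ℕ} [Fact p.Prime]

theorem PC.zpowers (h : PC p G) {x y : G} (hx : orderOf x = p) (hy : orderOf y = p) :
    ∃ g, zpowers y = zpowers (g * x * g⁻¹) := by
  obtain ⟨g, hg⟩ := h _ _ (Amalg.isPGroup_zpowers_of_orderOf (k := 1) (hx.trans (pow_one p).symm))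
    (Amalg.isPGroup_zpowers_of_orderOf (k := 1) (hy.trans (pow_one p).symm)) (by rw [Nat.card_zpowers, Nat.card_zpowers, hx, hy])
  exact ⟨g, hg.trans (cj_zpowers g x)⟩

theorem PC.mem (h : PC p G) {x y : G} (hx : orderOf x = p) (hy : orderOf y = p) {N : Subgroup G} [hN : N.Normal]
    (h1 : x ∈ N) : y ∈ N := by
  obtain ⟨g, hg⟩ := h.zpowers hx hy
  exact zpowers_le.2 (hN.conj_mem x h1 g) (hg ▸ mem_zpowers y)

theorem PC.isConj (h : PC 2 G) {x y : G} (hx : orderOf x = 2) (hy : orderOf y = 2) : IsConj x y := by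
  obtain ⟨g, hg⟩ := h.zpowers hx hy
  exact isConj_iff.2 ⟨g, Invol.eq_of_mem_zpowers (hg ▸ mem_zpowers _) (mem_zpowers y) ((Invol.orderOf_conj g x).trans hx) hy⟩

theorem PC.quot (h : PC p G) (N : Subgroup G) [N.Normal] : PC p (G ⧸ N) := fun H K hH hK e => by
  have key : ∀ {U : Subgroup (G ⧸ N)} {T : Subgroup G}, IsPGroup p U → Syl p T (U.comap (QuotientGroup.mk' N)) →
      T.map (QuotientGroup.mk' N) = U := fun hU hT => by
    have := hT.map (QuotientGroup.mk' N)
    rw [map_comap_eq_self_of_surjective (QuotientGroup.mk'_surjective N)] at this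
    exact this.eq_of_isPGroup hU
  obtain ⟨T, hT⟩ := exists_syl p (H.comap (QuotientGroup.mk' N))
  obtain ⟨U, hU⟩ := exists_syl p (K.comap (QuotientGroup.mk' N))
  obtain ⟨g, hg⟩ := h T U hT.isPGroup hU.isPGroup (by
    rw [hT.card_eq_pow, hU.card_eq_pow, Core.card_comap_mk', Core.card_comap_mk', e])
  exact ⟨g, by rw [← key hK hU, ← key hH hT, hg]; exact map_cj _ g T⟩

theorem PC.norm (h : PC p G) (S : Sylow p G) (hc : IsMulCommutative S) : PC p (normalizer ((S : Subgroup G) : Set G)) := by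
  intro H K hH hK e
  have key : ∀ {U : Subgroup (normalizer ((S : Subgroup G) : Set G))}, IsPGroup p U →
      (S : Subgroup G) ≤ normalizer ((U.map (Subgroup.subtype _) : Subgroup G) : Set G) := fun hU =>
    fun x hx => centralizer_le_normalizer _ fun y hy => congrArg Subtype.val (hc.is_comm.comm
      ⟨y, (syl_top S).le_of_le_normalizer' (hU.map _) le_top (map_subtype_le _) hy⟩ ⟨x, hx⟩)
  obtain ⟨g, hg⟩ := h _ _ (hH.map (Subgroup.subtype _)) (hK.map (Subgroup.subtype _)) (by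
    rw [card_map_of_injective (subtype_injective _), card_map_of_injective (subtype_injective _), e])
  obtain ⟨n, h1, d, h2, h3⟩ := (Transfer.sylowIn_top S).burnside_fusion (mem_top g) (key hH)
    ((key hK).trans (by rw [hg]; exact (cj_normalizer g _).ge))
  refine ⟨⟨n, h1.2⟩, map_injective (subtype_injective _) (hg.trans ?_)⟩
  refine Eq.trans ?_ (cj_map_subtype ⟨n, h1.2⟩ H)
  show cj g _ = cj n _
  rw [h3, cj_mul, cj_of_mem_normalizer h2.2]

theorem PC.klein_count (h : PC 2 G) {S : Subgroup G} [S.Normal] (hT : Syl 2 S ⊤) (hS : IsElementaryAbelian 2 S)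
    (h4 : 4 ≤ Nat.card S) : (Nat.card S - 1) * (Nat.card S - 2) ∣ 6 * S.index := by
  classical
  have := Fintype.ofFinite G
  have h1 : ∀ x : G, x * x = 1 → x ∈ S := fun x hx =>
    hT.mem_of_mem_normalizer (k := 1) (by simpa [sq] using hx) trivial (S.normalizer_eq_top.ge trivial)
  have h2 : ∀ x ∈ S, ∀ y ∈ S, x * y = y * x := fun x hx y hy => congrArg Subtype.val (hS.1.is_comm.comm ⟨x, hx⟩ ⟨y, hy⟩)
  have h5 : Nat.card {p : G × G // KPair p.1 p.2} = (Nat.card S - 1) * (Nat.card S - 2) := by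
    let T := (Finset.univ.filter (· ∈ S)).erase 1
    have h3 : T.card = Nat.card S - 1 := by
      rw [Finset.card_erase_of_mem (by simp), Nat.subtype_card (Finset.univ.filter (· ∈ S)) (by simp)]
    rw [Nat.subtype_card T.offDiag fun p => ?_, Finset.offDiag_card, h3, ← Nat.mul_sub_one, Nat.sub_sub]
    simp only [T, Finset.mem_offDiag, Finset.mem_erase, Finset.mem_filter, Finset.mem_univ, true_and]
    exact ⟨fun ⟨a, b, c⟩ => ⟨a.1, b.1, c.symm, by simpa [sq] using hS.2 _ a.2, by simpa [sq] using hS.2 _ b.2, h2 _ a.2 _ b.2⟩,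
      fun a => ⟨⟨a.ne1, h1 _ a.sq1⟩, ⟨a.ne2, h1 _ a.sq2⟩, a.ne.symm⟩⟩
  rw [card_kPair] at h5
  obtain ⟨⟨V, hV⟩⟩ : Nonempty {V : Subgroup G // IsKleinFour V} := by
    refine (Nat.card_pos_iff.1 (Nat.pos_of_ne_zero fun e => ?_)).1
    rw [e, zero_mul, eq_comm, mul_eq_zero] at h5
    omega
  have h6 : ∀ {W : Subgroup G}, IsKleinFour W → IsPGroup 2 W := fun hW => .of_card (n := 2) hW.card_four
  have h7 := ncard_conj_mul_card_normalizer V
  rw [show {W | ∃ g : G, W = V.map (MulAut.conj g).toMonoidHom} = {W : Subgroup G | IsKleinFour W} from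
    Set.ext fun W => ⟨fun ⟨g, e⟩ => e ▸ Linear.isKleinFour_map_conj hV g,
      fun hW => h V W (h6 hV) (h6 hW) (hV.card_four.trans hW.card_four.symm)⟩] at h7
  obtain ⟨k, hk⟩ := card_dvd_of_le (show S ≤ normalizer (V : Set G) from fun x hx => centralizer_le_normalizer _
    fun y hy => h2 y (hT.le_of_le_normalizer' (h6 hV) le_top le_normalizer_of_normal hy) x hx)
  rw [hk, ← S.card_mul_index, mul_left_comm] at h7
  rw [← h5, ← Nat.eq_of_mul_eq_mul_left Nat.card_pos h7, mul_comm _ 6]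
  exact mul_dvd_mul_left 6 (dvd_mul_right _ _)

theorem arith_two {n f : ℕ} (hn : 2 ≤ n) (h1 : f ∣ n) (h2 : Odd f) (h3 : (2 ^ n - 1) * (2 ^ n - 2) ∣ 6 * ((2 ^ n - 1) * f)) :
    (n = 2 ∧ f = 1) ∨ (n = 3 ∧ (f = 1 ∨ f = 3)) ∨ (n = 5 ∧ f = 5) := by
  rw [mul_left_comm] at h3
  have h4 := Nat.dvd_of_mul_dvd_mul_left (Nat.sub_pos_of_lt (Nat.one_lt_two_pow (by omega))) h3
  have h5 := Nat.le_of_dvd (by omega) h1
  have h6 := Nat.le_of_dvd (by have := h2.pos; omega) h4
  have h7 : n < 6 := by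
    by_contra! h
    obtain ⟨k, rfl⟩ := Nat.exists_eq_add_of_le h
    have := Nat.lt_two_pow_self (n := k)
    rw [pow_add] at h6
    omega
  interval_cases n <;> interval_cases f <;> simp_all (config := {decide := true})

theorem card_galois_aut (n : ℕ) (hn : n ≠ 0) : Nat.card (GaloisField 2 n ≃+* GaloisField 2 n) = n :=
  BS.card_aut (GaloisField.card 2 n hn)

/-- the affine case -/
theorem PC.affine (h : PC 2 G) (hO : oddCore G = ⊥) (S : Sylow 2 G) [(S : Subgroup G).Normal]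
    (hS : IsElementaryAbelian 2 (S : Subgroup G)) (h4 : 4 ≤ Nat.card S) :
    Nonempty (G ≃* alternatingGroup (Fin 4)) ∨ (8 ∣ Nat.card G ∧ (Nonempty (G ≃* affineGroup (GaloisField 2 3)) ∨
      Nonempty (G ≃* semiaffineGroup (GaloisField 2 3)) ∨ Nonempty (G ≃* semiaffineGroup (GaloisField 2 5)))) := by
  obtain ⟨n, hn⟩ := S.isPGroup'.exists_card_eq
  have h2 : 2 ≤ n := (Nat.pow_le_pow_iff_right one_lt_two).1 (hn ▸ h4)
  have ho : Odd (S : Subgroup G).index := Nat.not_even_iff_odd.1 fun e => S.not_dvd_index e.two_dvd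
  have hC := centralizer_pCore_le_of_isPSolvable Nat.prime_two (isPSolvable_of_normal_of_quotient Nat.prime_two _
    (isPSolvable_of_isPGroup Nat.prime_two S.isPGroup') (isPSolvable_of_coprime Nat.prime_two ho.coprime_two_right)) hO
  rw [← sylow_eq_pCore_of_normal S] at hC
  have hK := GaloisField.card 2 n (by omega)
  obtain ⟨⟨m, hm⟩, f, hf⟩ := exists_semiaffine_two hS ((one_lt_card_iff_ne_bot _).1 (by omega)) ho hC
    (fun x hx y hy h1 h3 => h.isConj (orderOf_eq_prime (hS.2 x hx) h1) (orderOf_eq_prime (hS.2 y hy) h3)) (hn.trans hK.symm)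
  have h3 := h.klein_count (syl_top S) hS h4
  have h5 : Nat.card G = (2 ^ n - 1) * (2 ^ n * m) := by rw [← (S : Subgroup G).card_mul_index, hm, hn, mul_left_comm]
  have h6 : Nat.card (semiaffineGroup (GaloisField 2 n)) = (2 ^ n - 1) * (2 ^ n * n) := by
    rw [card_semiaffine, Nat.card_units, hK, card_galois_aut n (by omega)]
  have h7 := card_dvd_of_injective f hf
  rw [h5, h6, Nat.mul_dvd_mul_iff_left (Nat.sub_pos_of_lt (Nat.one_lt_two_pow (by omega))),
    Nat.mul_dvd_mul_iff_left (by positivity)] at h7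
  have h8 : m = n → Nonempty (G ≃* semiaffineGroup (GaloisField 2 n)) := fun e =>
    ⟨MulEquiv.ofBijective f ((Nat.bijective_iff_injective_and_card f).2 ⟨hf, by rw [h5, h6, e]⟩)⟩
  rw [hm, hn] at h3
  rcases arith_two h2 h7 ((hm ▸ ho).of_dvd_nat (dvd_mul_left _ _)) h3 with
    ⟨rfl, rfl⟩ | ⟨rfl, rfl | rfl⟩ | ⟨rfl, rfl⟩
  · let φ := (Finite.equivFinOfCardEq (n := 4) hK).permCongrHom.toMonoidHom.comp ((Subgroup.subtype _).comp f)
    have h9 : Function.Injective φ := (Finite.equivFinOfCardEq (n := 4) hK).permCongrHom.injective.comp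
      (Subtype.val_injective.comp hf)
    refine Or.inl ⟨(MonoidHom.ofInjective h9).trans (MulEquiv.subgroupCongr
      (Equiv.Perm.eq_alternatingGroup_of_index_eq_two ?_))⟩
    have := φ.range.card_mul_index
    rw [← Nat.card_congr (MonoidHom.ofInjective h9).toEquiv, h5, Nat.card_perm] at this
    simp only [Nat.card_eq_fintype_card, Fintype.card_fin, Nat.factorial] at this
    omega
  · exact Or.inr ⟨by rw [h5]; decide, Or.inl (equiv_affine f hf (by rw [h5, card_galois_aut 3 (by omega)]; decide)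
      (by rw [h5, Nat.card_units, hK]; rfl))⟩
  · exact Or.inr ⟨by rw [h5]; decide, Or.inr (Or.inl (h8 rfl))⟩
  · exact Or.inr ⟨by rw [h5]; decide, Or.inr (Or.inr (h8 rfl))⟩

theorem exists_two_of_simple {T : Subgroup G} [IsSimpleGroup T] (h : ¬ IsMulCommutative T) : ∃ t ∈ T, orderOf t = 2 := by
  obtain ⟨t, ht⟩ := exists_prime_orderOf_dvd_card' (G := T) 2 (Nat.not_odd_iff_even.1 fun e =>
    Small.not_isSolvable_of_simple h (FT.odd_order_solvable T e)).two_dvd
  exact ⟨t, t.2, (Subgroup.orderOf_coe t).trans ht⟩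

/-- the almost simple case -/
theorem PC.almost_simple [Nontrivial G] (h : PC 2 G) (hO : oddCore G = ⊥) (h2 : pCore 2 G = ⊥) :
    ∃ L : Subgroup G, L.Normal ∧ IsSimpleGroup L ∧ ¬ IsMulCommutative L ∧ centralizer (L : Set G) = ⊥ := by
  have hF := (fitting_eq_pCore_of_pPrimeCore_eq_bot Nat.prime_two hO).trans h2
  by_contra hA
  obtain ⟨T, U, hT, hU, hne⟩ := FG.exists_two_comp hF hA
  have := FG.comp_simple hF hT
  have := FG.comp_simple hF hU
  obtain ⟨t, h1, h3⟩ := exists_two_of_simple (Layer.IsQuasisimple.not_isMulCommutative hT.2)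
  obtain ⟨u, h4, h5⟩ := exists_two_of_simple (Layer.IsQuasisimple.not_isMulCommutative hU.2)
  have h6 := FG.comp_le_cent hT hU hne h4
  have h7 : u ∉ T := fun e => Invol.ne_one_of_two h5 (FG.comp_eq_one hF hT e h6)
  obtain ⟨g, hg⟩ := isConj_iff.1 (h.isConj h3 (y := t * u) (orderOf_eq_prime (by
    rw [Commute.mul_pow (h6 t h1), ← h3, pow_orderOf_eq_one, h3, ← h5, pow_orderOf_eq_one, mul_one])
    fun e => h7 (eq_inv_of_mul_eq_one_right e ▸ inv_mem h1)))
  have h8 : t * u ∈ T.map (MulAut.conj g).toMonoidHom := ⟨t, h1, hg⟩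
  by_cases e : T.map (MulAut.conj g).toMonoidHom = T
  · exact h7 ((mul_mem_cancel_left h1).1 (e ▸ h8))
  · exact Invol.ne_one_of_two h3 (FG.comp_eq_one hF hT h1
      ((mul_mem_cancel_right h6).1 (FG.comp_le_cent hT (Layer.IsComponent.conj hT g) e h8)))

theorem card_sylow_equiv {H : Type*} [Group H] (e : G ≃* H) : Nat.card (Sylow p G) = Nat.card (Sylow p H) := by
  have := Finite.of_equiv _ e.toEquiv
  obtain ⟨P⟩ : Nonempty (Sylow p G) := inferInstance
  have hf : Function.Surjective e.toMonoidHom := e.surjective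
  rw [Hall.card_sylow_eq_index P, Hall.card_sylow_eq_index (P.mapSurjective hf), Sylow.coe_mapSurjective,
    ← index_comap_of_surjective _ hf, comap_normalizer_eq_of_surjective _ hf, comap_map_eq_self_of_injective e.injective]

theorem exists_inj_mulAut {L : Subgroup G} [L.Normal] (hC : centralizer (L : Set G) = ⊥) {X : Type*} [Group X] (e : L ≃* X) :
    ∃ φ : G →* MulAut X, Function.Injective φ :=
  ⟨(MulAut.congr e).toMonoidHom.comp MulAut.conjNormal, (MulAut.congr e).injective.comp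
    ((injective_iff_map_eq_one _).2 fun g hg => hC.le fun x hx =>
      (mul_inv_eq_iff_eq_mul.1 (congrArg Subtype.val (DFunLike.congr_fun hg (⟨x, hx⟩ : L)))).symm)⟩

/-- socle `L₂(2ⁿ)` -/
theorem PC.psl_even (h : PC 2 G) (h3 : PC 3 G) {L : Subgroup G} [L.Normal] (hC : centralizer (L : Set G) = ⊥) (S : Sylow 2 G)
    (hS : IsElementaryAbelian 2 (S : Subgroup G)) (hL : (S : Subgroup G) ≤ L) {F : Type*} [Field F] [Finite F] {n : ℕ}
    (hF : Nat.card F = 2 ^ n) (hn : 2 ≤ n) (e : L ≃* PSL2 F) :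
    Nonempty (G ≃* alternatingGroup (Fin 5)) ∨ (8 ∣ Nat.card G ∧ (Nonempty (G ≃* PSL2 (GaloisField 2 3)) ∨
      Nonempty (G ≃* MulAut (PSL2 (GaloisField 2 5))))) := by
  have := Fintype.ofFinite F
  have := BS.charP_two_of_card (Nat.card_eq_fintype_card.symm.trans hF)
  have he : Even (2 ^ n) := (Nat.even_pow' (by omega)).2 even_two
  have c1 : Nat.card L = 2 ^ n * (2 ^ n - 1) * (2 ^ n + 1) := by
    rw [Nat.card_congr e.toEquiv, card_PSL_two_of_even (hF ▸ he), hF]
  have ho : Odd L.index := Nat.not_even_iff_odd.1 fun e => S.not_dvd_index (e.two_dvd.trans (index_dvd_of_le hL))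
  have c2 : Nat.card G = 2 ^ n * (2 ^ n - 1) * (2 ^ n + 1) * L.index := by rw [← c1, L.card_mul_index]
  have c3 : Nat.card S = 2 ^ n := card_sylow_of_eq S (m := (2 ^ n - 1) * (2 ^ n + 1) * L.index) (by rw [c2]; ring)
    (Odd.not_two_dvd_nat (((Nat.Even.sub_odd Nat.one_le_two_pow he odd_one).mul he.add_one).mul ho))
  set N := normalizer ((S : Subgroup G) : Set G) with hN
  have c4 : N.relIndex L = 2 ^ n + 1 := by
    rw [← Hall.card_sylow_eq_relIndex (Transfer.sylowIn_of_le S hL), card_sylow_equiv e, card_sylow_PSL2, hF]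
  have c5 : N.index = 2 ^ n + 1 := by
    rw [Hall.index_eq_mul_relIndex N L, show N ⊔ L = ⊤ from S.normalizer_sup_eq_top' hL, index_top, one_mul, c4]
  have c6 : Nat.card N = 2 ^ n * ((2 ^ n - 1) * L.index) := Nat.eq_of_mul_eq_mul_right (Nat.succ_pos (2 ^ n)) (by
    rw [Nat.succ_eq_add_one, ← c5, N.card_mul_index, c5, c2]; ring)
  have c7 : Nat.card ((S : Subgroup G).subgroupOf N) = 2 ^ n := (card_subgroupOf_of_le le_normalizer).trans c3
  have c8 := (h.norm S hS.1).klein_count ((syl_top S).of_le le_normalizer le_top).subgroupOf_top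
    ((isElemAb_subgroupOf_iff le_normalizer).2 hS) (c7 ▸ Nat.pow_le_pow_right two_pos hn)
  rw [show ((S : Subgroup G).subgroupOf N).index = (2 ^ n - 1) * L.index from
    Nat.eq_of_mul_eq_mul_left (Nat.two_pow_pos n) (by rw [← c6, ← c7, card_mul_index]), c7] at c8
  have c9 : Nat.card (MulAut (PSL2 F)) = 2 ^ n * (2 ^ n - 1) * (2 ^ n + 1) * n := by
    rw [card_mulAut_PSL_two, card_PGL_two, BS.card_aut hF, hF, mul_comm]
  obtain ⟨φ, hφ⟩ := exists_inj_mulAut hC e
  have d1 := card_dvd_of_injective φ hφ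
  rw [c2, c9, Nat.mul_dvd_mul_iff_left (c1 ▸ Nat.card_pos)] at d1
  have d2 : L.index = 1 → Nonempty (G ≃* PSL2 F) := fun e' =>
    ⟨(topEquiv.symm.trans (MulEquiv.subgroupCongr (index_eq_one.1 e').symm)).trans e⟩
  have d3 : n ≠ 0 → Nonempty (PSL2 F ≃* PSL2 (GaloisField 2 n)) := fun e' =>
    nonempty_psl_equiv_of_card_eq (hF.trans (GaloisField.card 2 n e').symm)
  rcases arith_two hn d1 ho c8 with ⟨rfl, h1⟩ | ⟨rfl, h1 | h1⟩ | ⟨rfl, h1⟩
  · exact Or.inl ⟨(d2 h1).some.trans (psl2_four_equiv hF).some⟩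
  · exact Or.inr ⟨by rw [c2, h1]; decide, Or.inl ⟨(d2 h1).some.trans (d3 (by omega)).some⟩⟩
  · obtain ⟨x, hx⟩ := exists_prime_orderOf_dvd_card' (G := L) 3 (by rw [c1]; decide)
    obtain ⟨y, hy⟩ := exists_prime_orderOf_dvd_card' (G := N) 3 (by rw [c6, h1]; decide)
    rw [← Subgroup.orderOf_coe] at hx hy
    have h4 := hy ▸ (N ⊓ L).orderOf_dvd_natCard (mem_inf.2 ⟨y.2, h3.mem hx hy x.2⟩)
    have h5 := card_inf_mul_relIndex N L
    rw [c4, c1] at h5
    omega
  · exact Or.inr ⟨by rw [c2, h1]; decide, Or.inr ⟨(MulEquiv.ofBijective φ ((Nat.bijective_iff_injective_and_card φ).2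
      ⟨hφ, by rw [c2, c9, h1]⟩)).trans (MulAut.congr (d3 (by omega)).some)⟩⟩

/-- elementary abelian Sylow `2`-subgroups -/
theorem PC.elem (h : PC 2 G) (h3 : PC 3 G) (hO : oddCore G = ⊥) (S : Sylow 2 G)
    (hS : IsElementaryAbelian 2 (S : Subgroup G)) (h4 : 4 ≤ Nat.card S) :
    Nonempty (G ≃* alternatingGroup (Fin 4)) ∨ Nonempty (G ≃* alternatingGroup (Fin 5)) ∨
    (8 ∣ Nat.card G ∧ ((Nonempty (G ≃* affineGroup (GaloisField 2 3)) ∨
      Nonempty (G ≃* semiaffineGroup (GaloisField 2 3)) ∨ Nonempty (G ≃* semiaffineGroup (GaloisField 2 5))) ∨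
      Nonempty (G ≃* PSL2 (GaloisField 2 3)) ∨ Nonempty (G ≃* MulAut (PSL2 (GaloisField 2 5))))) ∨
    ∃ L : Subgroup G, L.Normal ∧ IsSimpleGroup L ∧ ¬ IsMulCommutative L ∧ centralizer (L : Set G) = ⊥ ∧ (S : Subgroup G) ≤ L ∧
      (Gold.IsL2o L ∨ ∃ t E K, Wal.JR ((S : Subgroup G).subgroupOf L) t E K) := by
  have key : ∀ (N : Subgroup G) [N.Normal], ∀ t ∈ N, orderOf t = 2 → (S : Subgroup G) ≤ N := fun N _ t h1 h2 x hx => by
    by_cases e : x = 1
    · exact e ▸ one_mem N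
    · exact h.mem h2 (orderOf_eq_prime (hS.2 x hx) e) h1
  by_cases h2 : pCore 2 G = ⊥
  · have : Nontrivial G := Finite.one_lt_card_iff_nontrivial.1 (lt_of_lt_of_le (by omega) (card_le_card_group (S : Subgroup G)))
    obtain ⟨L, _, _, h5, h6⟩ := h.almost_simple hO h2
    obtain ⟨t, h7, h8⟩ := exists_two_of_simple h5
    have h9 := key L t h7 h8
    rcases Wal.walter h5 ((syl_top S).of_le h9 le_top).subgroupOf_top ((isElemAb_subgroupOf_iff h9).2 hS).1 with
      e | ⟨F, _, _, ⟨n, hn, hF⟩, ⟨e⟩⟩ | e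
    · exact Or.inr (Or.inr (Or.inr ⟨L, ‹_›, ‹_›, h5, h6, h9, Or.inl e⟩))
    · exact Or.inr ((h.psl_even h3 h6 S hS h9 (Nat.card_eq_fintype_card.trans hF) hn e).imp_right
        fun e => Or.inl ⟨e.1, Or.inr e.2⟩)
    · exact Or.inr (Or.inr (Or.inr ⟨L, ‹_›, ‹_›, h5, h6, h9, Or.inr e⟩))
  · obtain ⟨t, ht⟩ := exists_prime_orderOf_dvd_card' 2 (dvd_card_of_isPGroup_ne_bot (isPGroup_pCore 2 G) h2)
    have h5 := key _ t t.2 ((Subgroup.orderOf_coe t).trans ht)
    have : (S : Subgroup G).Normal := ((syl_top S).eq_of_le _ h5 le_top (isPGroup_pCore 2 G)) ▸ inferInstance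
    exact (h.affine hO S hS h4).imp_right fun e => Or.inr (Or.inl ⟨e.1, Or.inl e.2⟩)

theorem cyclic_of_cyclic_sylow (hO : oddCore G = ⊥) (S : Sylow 2 G) (hS : IsCyclic S) : IsCyclic G ∧ IsPGroup 2 G := by
  have h1 : (S : Subgroup G) = ⊤ := by
    by_cases h2 : 2 ∣ Nat.card G
    · have h3 := hS.isComplement' ((Nat.minFac_eq_two_iff _).2 h2)
      have h4 := le_oddCore (N := MonoidHom.ker _) (Nat.not_even_iff_odd.1 fun e =>
        S.not_dvd_index (h3.index_eq_card ▸ e.two_dvd))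
      rw [hO, le_bot_iff] at h4
      simpa [h4] using h3.sup_eq_top
    · have h4 := le_oddCore (N := (⊤ : Subgroup G)) (Nat.not_even_iff_odd.1 fun e => h2 (card_top (G := G) ▸ e.two_dvd))
      exact top_le_iff.1 (h4.trans (hO.le.trans bot_le))
  exact ⟨isCyclic_of_surjective (S : Subgroup G).subtype fun g => ⟨⟨g, h1.ge trivial⟩, rfl⟩,
    (h1 ▸ S.isPGroup' : IsPGroup 2 (⊤ : Subgroup G)).of_equiv topEquiv⟩

theorem quat_reduce (hO : oddCore G = ⊥) (S : Sylow 2 G) (e : S ≃* QuaternionGroup 2) :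
    ∃ z : G, orderOf z = 2 ∧ (∀ t, orderOf t = 2 → t = z) ∧ ∃ _ : (zpowers z).Normal, oddCore (G ⧸ zpowers z) = ⊥ ∧
      ¬ 8 ∣ Nat.card (G ⧸ zpowers z) ∧
      ∃ T : Sylow 2 (G ⧸ zpowers z), IsElementaryAbelian 2 (T : Subgroup (G ⧸ zpowers z)) ∧ Nat.card T = 4 := by
  have h8 : Nat.card S = 8 := by rw [Nat.card_congr e.toEquiv, Nat.card_eq_fintype_card, QuaternionGroup.card]
  have hU : Block.UniqInv G := Block.uniqInv_of_no_klein fun E hE => by
    obtain ⟨g, -, hg⟩ := (syl_top S).exists_conj_le (.of_card (n := 2) hE.card_four : IsPGroup 2 E) le_top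
    obtain ⟨s, t, h1, h2⟩ := exists_kPair (Linear.isKleinFour_map_conj hE g)
    have h3 : ∀ a b : QuaternionGroup 2, a ≠ 1 → b ≠ 1 → a * a = 1 → b * b = 1 → b = a := by decide
    have h4 := h2.le.trans hg
    exact h1.ne (congrArg Subtype.val (e.injective (h3 (e ⟨s, h4 (subset_closure (by simp))⟩)
      (e ⟨t, h4 (subset_closure (by simp))⟩) (by simpa [Subtype.ext_iff] using h1.ne1) (by simpa [Subtype.ext_iff] using h1.ne2)
      (by rw [← map_mul, map_eq_one_iff _ e.injective]; exact Subtype.ext h1.sq1)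
      (by rw [← map_mul, map_eq_one_iff _ e.injective]; exact Subtype.ext h1.sq2))))
  obtain ⟨z, hz⟩ := exists_prime_orderOf_dvd_card' (G := S) 2 (by rw [h8]; decide)
  rw [← Subgroup.orderOf_coe] at hz
  have h1 := Block.z_star_center hO (hU.isolated hz)
  have h2 : ∀ t : G, orderOf t = 2 → t = z := fun t ht => hU _ _ ht hz (mem_center_iff.1 h1 t)
  have hn : (zpowers (z : G)).Normal := PGrp.normal_of_le_center (zpowers_le.2 h1)
  obtain ⟨m, hm⟩ : 8 ∣ Nat.card G := h8 ▸ card_subgroup_dvd_card _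
  have h3 : ¬ 2 ∣ m := fun h => S.not_dvd_index (by
    rwa [show (S : Subgroup G).index = m from Nat.eq_of_mul_eq_mul_left (by norm_num : 0 < 8) (by
      rw [← hm, ← h8, card_mul_index])])
  have h4 := card_eq_card_quotient_mul_card_subgroup (zpowers (z : G))
  rw [Nat.card_zpowers, hz] at h4
  let T := S.mapSurjective (QuotientGroup.mk'_surjective (zpowers (z : G)))
  have h5 : ∀ x ∈ (T : Subgroup (G ⧸ zpowers (z : G))), x ^ 2 = 1 := by
    rintro _ ⟨x, hx, rfl⟩
    rw [← map_pow]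
    refine (QuotientGroup.eq_one_iff _).2 (by_cases (fun e : x ^ 2 = 1 => e ▸ one_mem _) fun e' =>
      h2 _ (orderOf_eq_prime ?_ e') ▸ mem_zpowers _)
    have h6 : ∀ a : QuaternionGroup 2, (a ^ 2) ^ 2 = 1 := by decide
    exact congrArg Subtype.val (e.injective (a₁ := (⟨x, hx⟩ ^ 2) ^ 2) (a₂ := 1) (by rw [map_pow, map_pow, h6, map_one]))
  exact ⟨z, hz, h2, hn, Block.oddCore_quotient_eq_bot hO hz, by omega, T,
    ⟨⟨⟨Commute.of_orderOf_dvd_two fun a => orderOf_dvd_of_pow_eq_one (Subtype.ext (h5 a a.2))⟩⟩, h5⟩,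
    card_sylow_of_eq T (k := 2) (m := m) (by omega) h3⟩

end Cfsg.Lib.Coprime
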