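import Cfsg.Agent.Lib.Coprime.HallNum
import Cfsg.Agent.Lib.Coprime.EqConj
import Cfsg.Agent.Lib.SF.KS
import Cfsg.Agent.Lib.Amalg.CharP
import Cfsg.Agent.S3214

/-!
# Groups in which normalizers of `{p, q}`-subgroups are maximal
-/

set_option autoImplicit false

namespace Cfsg.Lib.Coprime

open Subgroup Cfsg.Lib.Core Cfsg.Lib.Amalg Cfsg.Lib.Linear Cfsg.Lib.Fus2 Cfsg.Lib.Known

/-- at most two prime divisors -/
def TP (n : ℕ) : Prop := ∃ p q : ℕ, p.Prime ∧ q.Prime ∧ ∀ r : ℕ, r.Prime → r ∣ n → r = p ∨ r = q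

/-- normalizers of non-trivial `{p, q}`-subgroups are maximal -/
def MN (G : Type*) [Group G] : Prop := ∀ H : Subgroup G, H ≠ ⊥ → TP (Nat.card H) → IsCoatom (normalizer (H : Set G))

theorem mem_zpowers_sq {G : Type*} [Group G] {z y : G} (hz : z * z = 1) (hy : y ∈ zpowers z) : y = 1 ∨ y = z := by
  obtain ⟨k, rfl⟩ := hy
  have h2 : z ^ (2 : ℤ) = 1 := by rwa [zpow_two]
  obtain ⟨m, rfl | rfl⟩ := Int.even_or_odd' k <;> simp [zpow_add, zpow_mul, h2]

variable {G : Type*} [Group G] [Finite G] {p q : ℕ} [hp : Fact p.Prime] [hq : Fact q.Prime]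

theorem tp_sup {A B : Subgroup G} (hA : IsPGroup p A) (hB : IsPGroup q B) (h : B ≤ normalizer (A : Set G)) :
    TP (Nat.card ↥(A ⊔ B)) := by
  obtain ⟨a, ha⟩ := hA.exists_card_eq
  obtain ⟨b, hb⟩ := hB.exists_card_eq
  refine ⟨p, q, hp.out, hq.out, fun r hr e => ?_⟩
  have h1 := e.mul_right (Nat.card ↥(A ⊓ B))
  rw [Core.card_sup_mul_card_inf' h, ha, hb] at h1
  exact ((hr.dvd_mul).1 h1).imp (fun e => (Nat.prime_dvd_prime_iff_eq hr hp.out).1 (hr.dvd_of_dvd_pow e))
    fun e => (Nat.prime_dvd_prime_iff_eq hr hq.out).1 (hr.dvd_of_dvd_pow e)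

theorem tp_of_isPGroup {A : Subgroup G} (hA : IsPGroup p A) : TP (Nat.card A) := by
  simpa using tp_sup hA hA le_normalizer

theorem normalizer_sup_le (hpq : p ≠ q) {A B : Subgroup G} (hA : IsPGroup p A) (hB : IsPGroup q B)
    (h : B ≤ normalizer (A : Set G)) : normalizer ((A ⊔ B : Subgroup G) : Set G) ≤ normalizer (A : Set G) := by
  have h1 : Syl p A (A ⊔ B) := syl_of_not_dvd le_sup_left hA fun e => by
    obtain ⟨b, hb⟩ := hB.exists_card_eq
    rw [relIndex_sup_of_le_normalizer' h] at e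
    exact hpq ((Nat.prime_dvd_prime_iff_eq hp.out hq.out).1 (hp.out.dvd_of_dvd_pow (hb ▸ e.trans (relIndex_dvd_card _ _))))
  intro g hg
  exact cj_eq_self_iff.1 (((h1.conj_of_mem_normalizer hg).le_of_normal hA le_sup_left (sup_le le_normalizer h)).antisymm'
    (h1.le_of_normal_syl (sup_le le_normalizer h) (h1.conj_of_mem_normalizer hg).2 (h1.conj_of_mem_normalizer hg).1))

theorem MN.coatom (h : MN G) {A : Subgroup G} (hA : IsPGroup p A) (h0 : A ≠ ⊥) : IsCoatom (normalizer (A : Set G)) :=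
  h A h0 (tp_of_isPGroup hA)

theorem MN.ded (h : MN G) (hpq : p ≠ q) {A B : Subgroup G} (hA : IsPGroup p A) (hB : IsPGroup q B) (h0 : A ≠ ⊥)
    (hn : B ≤ normalizer (A : Set G)) : normalizer (A : Set G) = normalizer ((A ⊔ B : Subgroup G) : Set G) :=
  ((h _ (fun e => h0 (eq_bot_iff.2 (e ▸ le_sup_left))) (tp_sup hA hB hn)).le_iff.1 (normalizer_sup_le hpq hA hB hn)).resolve_left
    (h.coatom hA h0).1

theorem MN.eq_of_cent (h : MN G) (hpq : p ≠ q) {A B : Subgroup G} (hA : IsPGroup p A) (hB : IsPGroup q B) (h0 : A ≠ ⊥)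
    (h1 : B ≠ ⊥) (hn : B ≤ centralizer (A : Set G)) : normalizer (A : Set G) = normalizer (B : Set G) := by
  rw [h.ded hpq hA hB h0 (hn.trans (centralizer_le_normalizer _)),
    h.ded hpq.symm hB hA h1 ((le_centralizer_iff.1 hn).trans (centralizer_le_normalizer _)), sup_comm]

theorem MN.sq_mem (h : MN G) {s x r : G} (hs : s * s = 1) (hx : orderOf x = p) (h2 : p ≠ 2) (h1 : s * x * s⁻¹ = x⁻¹)
    (hc : r * x = x * r) (h3 : s * r * s⁻¹ = r⁻¹) : r * r ∈ zpowers x := by
  have hX := Amalg.isPGroup_zpowers_of_orderOf (k := 1) (hx.trans (pow_one p).symm)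
  have hS : IsPGroup 2 (zpowers s) := isPGroup_zpowers_of_pow (k := 1) (by rwa [pow_one, sq])
  have hn : zpowers s ≤ normalizer (zpowers x : Set G) := zpowers_le.2 (PGrp.mem_normalizer_zpowers (h1 ▸ inv_mem (mem_zpowers x)))
  have x1 : x ≠ 1 := fun e => hp.out.ne_one (by rw [← hx, e, orderOf_one])
  have h4 := (h.ded h2 hX hS (by simpa) hn).le (PGrp.mem_normalizer_zpowers (g := r) (by rw [hc]; simp))
  have hs' := mem_sup_right (S := zpowers x) (mem_zpowers s)
  have h5 := mul_mem ((mem_normalizer_iff.1 h4 s).1 hs') (inv_mem hs')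
  rw [show r * s * r⁻¹ * s⁻¹ = r * (s * r * s⁻¹)⁻¹ by group, h3, inv_inv] at h5
  obtain ⟨a, ha, b, hb, e⟩ := (mem_sup_iff_of_le_normalizer hn).1 h5
  rcases mem_zpowers_sq hs hb with rfl | rfl
  · exact e ▸ by simpa using ha
  obtain ⟨k, rfl⟩ := ha
  have h6 : Commute b x := by
    rw [← inv_mul_cancel_left (x ^ k) b, ← e]
    exact ((Commute.refl x).zpow_left k).inv_left.mul_left (Commute.mul_left hc hc)
  rw [h6.eq, mul_inv_cancel_right] at h1
  exact absurd ((Nat.prime_dvd_prime_iff_eq hp.out Nat.prime_two).1 (hx ▸ orderOf_dvd_of_pow_eq_one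
    (by rw [sq, mul_eq_one_iff_eq_inv]; exact h1))) h2

theorem MN.pnil (h : MN G) {z : G} (hz : orderOf z = 2) {H : Subgroup G} (hH : H ≤ centralizer {z}) : Transfer.PNil 2 H := by
  by_contra hn
  obtain ⟨T, hT⟩ := exists_syl 2 H
  obtain ⟨Q, hQ, q, hq, h2, g, hg, ⟨k, hk⟩, h3, h4⟩ := hT.sylowIn.exists_of_not_pnil hn
  have := Fact.mk hq
  have hG := isPGroup_zpowers_of_pow hk
  have h5 := h.eq_of_cent h2.symm (Amalg.isPGroup_zpowers_of_orderOf (k := 1) hz) hG (by simpa using Invol.ne_one_of_two hz)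
    (fun e => h4 (zpowers_eq_bot.1 e ▸ one_mem _)) (zpowers_le.2 (by rw [Core.centralizer_zpowers]; exact hH hg))
  have h6 : Q ≤ normalizer (zpowers g : Set G) := h5 ▸
    ((hQ.trans hT.1).trans hH).trans ((Core.centralizer_zpowers z).ge.trans (centralizer_le_normalizer _))
  exact h4 (BG2.le_centralizer_of_inf_eq_bot (zpowers_le.2 h3) h6 (disjoint_iff.1
    (IsPGroup.disjoint_of_ne q 2 h2 _ _ hG (hT.2.to_le hQ))) (mem_zpowers g))

/-- Sylow `p`-subgroups have trivial intersection -/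
def TIp (p : ℕ) (X : Type*) [Group X] : Prop :=
  ∀ P R : Subgroup X, IsPGroup p P → IsPGroup p R → P ⊓ R ≠ ⊥ → IsPGroup p ↥(P ⊔ R)

variable {X : Type*} [Group X] [Finite X] {φ : X →* G}

theorem MN.ti (h : MN G) (hφ : Function.Injective φ) [hn : φ.range.Normal] (ht : TIp p X) (P : Sylow p X) {u : X}
    (hu : u ∈ P) (u1 : u ≠ 1) {n : X} (h0 : n ∈ normalizer ((P : Subgroup X) : Set X)) : n * u * n⁻¹ ∈ zpowers u := by
  have hP := P.2.map φ
  have h1 : zpowers (φ u) ≤ (P : Subgroup X).map φ := zpowers_le.2 (mem_map_of_mem φ hu)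
  have h2 : zpowers (φ u) ≠ ⊥ := by simpa [hφ.eq_iff' (map_one φ)]
  have h3 : normalizer (zpowers (φ u) : Set G) ≤ normalizer (((P : Subgroup X).map φ : Subgroup G) : Set G) := fun g hg => by
    have h4 : cj g ((P : Subgroup X).map φ) ≤ φ.range := cj_le_iff'.2 fun x hx => hn.conj_mem x (map_le_range φ _ hx) g
    have h5 := (isPGroup_cj g hP).comap_of_injective φ hφ
    have h6 := ht _ _ P.2 h5 fun e => u1 (mem_bot.1 (e.le ⟨hu, mem_cj.2 (h1 ((mem_normalizer_iff''.1 hg _).1 (mem_zpowers _)))⟩))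
    have h7 := map_mono (f := φ) (le_sup_right.trans (P.3 h6 le_sup_left).le)
    rw [map_comap_eq_self h4] at h7
    exact mem_normalizer_of_cj_le h7
  have h4 := ((h.coatom (hP.to_le h1) h2).le_iff.1 h3).resolve_left (h.coatom hP fun e => h2 (eq_bot_iff.2 (e ▸ h1))).1
  have h5 := (mem_normalizer_iff.1 (h4.le (map_le_normalizer_map φ le_rfl (mem_map_of_mem φ h0))) _).1 (mem_zpowers _)
  rwa [← map_inv, ← map_mul, ← map_mul, ← MonoidHom.map_zpowers, mem_map_iff_mem hφ] at h5

theorem MN.not_ti (h : MN G) (hφ : Function.Injective φ) [φ.range.Normal] [IsSimpleGroup X] (hc : ¬ IsMulCommutative X) :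
    ¬ TIp 2 X := fun ht => by
  obtain ⟨z, hz⟩ := exists_prime_orderOf_dvd_card' 2 ((by norm_num : 2 ∣ 4).trans (four_dvd_of_simple hc))
  have z1 := Invol.ne_one_of_two hz
  obtain ⟨P, hP⟩ := (Amalg.isPGroup_zpowers_of_orderOf (p := 2) (k := 1) hz).exists_le_sylow
  have h1 := hP (mem_zpowers z)
  refine z1 (mem_bot.1 (Gold.center_of_simple hc ▸ Block.z_star_center (Gold.core_of_simple hc)
    (Invol.isolated_of_sylow P hz fun g hg => ?_)))
  have h2 := isPGroup_cj g⁻¹ P.2
  have h3 := ht _ _ P.2 h2 fun e => z1 (mem_bot.1 (e.le ⟨h1, mem_cj.2 (by rw [inv_inv]; exact hg)⟩))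
  have h4 := inv_mem (mem_normalizer_of_cj_le (le_sup_right.trans (P.3 h3 le_sup_left).le))
  rw [inv_inv] at h4
  exact (mem_zpowers_sq (sq z ▸ Invol.sq_of_two hz) (h.ti hφ ht P h1 z1 h4)).resolve_left (by simpa [mul_inv_eq_one] using z1)

theorem tIp_psl2 {F : Type*} [Field F] [Finite F] [CharP F p] : TIp p (PSL2 F) := fun P R hP hR h => by
  obtain ⟨P', h1⟩ := hP.exists_le_sylow
  obtain ⟨R', h2⟩ := hR.exists_le_sylow
  obtain rfl : P' = R' := by_contra fun e =>
    h (eq_bot_iff.2 ((inf_le_inf h1 h2).trans (centralP'_PSL.sylow_inf_eq_bot pFix_of_finite e).le))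
  exact P'.2.to_le (sup_le h1 h2)

theorem MN.prime_field (h : MN G) {F : Type*} [Field F] [Finite F] {φ : PSL2 F →* G} (hφ : Function.Injective φ)
    [φ.range.Normal] : (Nat.card F).Prime := by
  obtain ⟨p, hp⟩ := CharP.exists F
  have := Fact.mk (CharP.char_is_prime F p)
  have hc := centralP'_PSL (K := F) (p := p)
  have hx := pU_PSL_ne_bot (K := F) (p := p) PL.inf
  let T : F → SL2 F := Matrix.SpecialLinearGroup.transvection (show (0 : Fin 2) ≠ 1 by decide)
  have hu : ((T 1 : SL2 F) : PSL2 F) ∈ pU hc PL.inf := ⟨(transvection_mem_pU_inf (p := p) 1).1, by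
    rw [← QuotientGroup.mk_pow, transvection_pow_char, QuotientGroup.mk_one]⟩
  have hT : ∀ n : ℤ, T 1 ^ n = T n := fun n => by
    induction n using Int.induction_on with
    | zero => simp [T, Matrix.SpecialLinearGroup.transvection_coeff_zero]
    | succ n ih => rw [zpow_add_one, ih, ← Matrix.SpecialLinearGroup.transvection_add]; simp [T]
    | pred n ih =>
      rw [zpow_sub_one, ih, Matrix.SpecialLinearGroup.transvection_inv, ← Matrix.SpecialLinearGroup.transvection_add]
      simp [T, sub_eq_add_neg]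
  have key : ∀ a : F, a ^ 2 ∈ (⊥ : Subfield F) := fun a => by
    rcases eq_or_ne a 0 with rfl | ha
    · simp
    obtain ⟨n, hn⟩ := h.ti hφ tIp_psl2 (pUSylow hc pFix_of_finite hx) hu
      (fun e => one_ne_zero ((Matrix.SpecialLinearGroup.transvection_mem_center_iff _ _).1 ((QuotientGroup.eq_one_iff _).1 e)))
      (n := ((slMat a 0 0 a⁻¹ (by simp [ha]) : SL2 F) : PSL2 F)) (mem_normalizer_pU_of_smul hc (sl_smul_inf_eq_inf.2 rfl))
    have e : slMat a 0 0 a⁻¹ (by simp [ha]) * T 1 * (slMat a 0 0 a⁻¹ (by simp [ha]))⁻¹ = T (a ^ 2) := by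
      have e : ∀ c, T c = slMat 1 c 0 1 (by simp) := fun c => by
        ext i j
        fin_cases i <;> fin_cases j <;> simp [T, Matrix.SpecialLinearGroup.transvection_coe]
      rw [slMat_inv, e, e, slMat_mul, slMat_mul, slMat_inj]
      simp [ha, sq]
    simp only [← QuotientGroup.mk_zpow, ← QuotientGroup.mk_inv, ← QuotientGroup.mk_mul] at hn
    rw [e, hT, QuotientGroup.eq, Matrix.SpecialLinearGroup.transvection_inv, ← Matrix.SpecialLinearGroup.transvection_add,
      Matrix.SpecialLinearGroup.transvection_mem_center_iff, neg_add_eq_zero] at hn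
    exact hn ▸ intCast_mem _ n
  have e := top_le_iff.1 (subfield_le_of_sq_mem (R := ⊤) fun b _ => key b)
  have e2 := Subfield.card_bot F p
  rw [e, Nat.card_congr Subfield.topEquiv.toEquiv] at e2
  exact e2 ▸ this.out

theorem MN.sq_mem' (h : MN G) (hφ : Function.Injective φ) {s x r : X} (hs : s * s = 1) (hx : orderOf x = p) (h2 : p ≠ 2)
    (h1 : s * x * s⁻¹ = x⁻¹) (hc : r * x = x * r) (h3 : s * r * s⁻¹ = r⁻¹) : r * r ∈ zpowers x := by
  have := h.sq_mem (s := φ s) (x := φ x) (r := φ r) (by rw [← map_mul, hs, map_one]) ((orderOf_injective φ hφ x).trans hx) h2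
    (by simpa using congrArg φ h1) (by simpa using congrArg φ hc) (by simpa using congrArg φ h3)
  rwa [← map_mul, ← MonoidHom.map_zpowers, mem_map_iff_mem hφ] at this

theorem MN.not_A7 (h : MN G) {φ : alternatingGroup (Fin 7) →* G} : ¬ Function.Injective φ := fun hφ => by
  have := Fact.mk Nat.prime_three
  obtain ⟨k, hk⟩ := h.sq_mem' (p := 3) hφ (s := ⟨c[1, 2] * c[4, 5], Equiv.Perm.mem_alternatingGroup.2 (by decide)⟩)
    (x := ⟨c[0, 1, 2], Equiv.Perm.mem_alternatingGroup.2 (by decide)⟩)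
    (r := ⟨c[3, 4, 5], Equiv.Perm.mem_alternatingGroup.2 (by decide)⟩) (by decide) (orderOf_eq_prime (by decide) (by decide)) (by decide) (by decide) (by decide)
    (by decide)
  have h1 := congrArg (fun g : alternatingGroup (Fin 7) => g.1 3) hk
  simp only [SubgroupClass.coe_zpow] at h1
  rw [Equiv.Perm.zpow_apply_eq_self_of_apply_eq_self (by decide)] at h1
  exact absurd h1 (by decide)

theorem MN.not_L34 (h : MN G) {F : Type*} [Field F] [Finite F] (hF : Nat.card F = 4)
    {φ : Matrix.ProjectiveSpecialLinearGroup (Fin 3) F →* G} : ¬ Function.Injective φ := fun hφ => by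
  have := Fact.mk Nat.prime_three
  obtain ⟨w, w1, hw⟩ := exists_cube_root_of_dvd (F := F) (by rw [hF])
  have := Fintype.ofFinite F
  have h2 : (2 : F) = 0 := two_eq_zero_of_card (n := 2) (by rw [← Nat.card_eq_fintype_card, hF]; rfl)
  have h3 : w ^ 3 = 1 := by linear_combination (w - 1) * hw
  let d : Matrix.SpecialLinearGroup (Fin 3) F := ⟨!![1, 0, 0; 0, w, 0; 0, 0, w ^ 2], by
    simp [Matrix.det_fin_three]; linear_combination h3⟩
  let c : Matrix.SpecialLinearGroup (Fin 3) F := ⟨!![0, 1, 0; 0, 0, 1; 1, 0, 0], by simp [Matrix.det_fin_three]⟩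
  let s : Matrix.SpecialLinearGroup (Fin 3) F := ⟨!![1, 0, 0; 0, 0, 1; 0, 1, 0], by
    simp [Matrix.det_fin_three]; linear_combination -h2⟩
  let z : Matrix.SpecialLinearGroup (Fin 3) F := ⟨!![w, 0, 0; 0, w, 0; 0, 0, w], by
    simp [Matrix.det_fin_three]; linear_combination h3⟩
  have e1 : s * s = 1 := Subtype.ext (show s.1 * s.1 = 1 by simp [s, Matrix.one_fin_three])
  have e2 : s * d * s * d = 1 := Subtype.ext (show s.1 * d.1 * s.1 * d.1 = 1 by
    simp [s, d, Matrix.one_fin_three, ← pow_succ, ← pow_succ', h3])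
  have e3 : s * c * s * c = 1 := Subtype.ext (show s.1 * c.1 * s.1 * c.1 = 1 by simp [s, c, Matrix.one_fin_three])
  have e4 : c * d = d * c * z := Subtype.ext (show c.1 * d.1 = d.1 * c.1 * z.1 by simp [c, d, z, ← pow_three', h3, sq])
  have e5 : d * d * d = 1 := Subtype.ext (show d.1 * d.1 * d.1 = 1 by
    simp [d, Matrix.one_fin_three, ← pow_add, ← pow_three', h3, show w ^ 6 = 1 by linear_combination (w ^ 3 + 1) * h3])
  have e6 : ((z : Matrix.SpecialLinearGroup (Fin 3) F) : Matrix.ProjectiveSpecialLinearGroup (Fin 3) F) = 1 :=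
    (QuotientGroup.eq_one_iff _).2 (Matrix.SpecialLinearGroup.mem_center_iff.2 ⟨w, by simpa using h3, by
      ext i j; fin_cases i <;> fin_cases j <;> simp [z]⟩)
  have e7 : s⁻¹ = s := inv_eq_of_mul_eq_one_left e1
  obtain ⟨k, hk⟩ := h.sq_mem' (p := 3) hφ (s := s) (x := d) (r := c) (by rw [← QuotientGroup.mk_mul, e1]; rfl)
    (orderOf_eq_prime (by rw [← QuotientGroup.mk_pow, pow_three', e5]; rfl) fun e => by
      obtain ⟨r, -, hr⟩ := Matrix.SpecialLinearGroup.mem_center_iff.1 ((QuotientGroup.eq_one_iff _).1 e)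
      have a := congrFun (congrFun hr 0) 0
      have b := congrFun (congrFun hr 1) 1
      simp [d] at a b
      exact w1 (b.symm.trans a)) (by decide)
    (by rw [← QuotientGroup.mk_inv, e7, eq_inv_iff_mul_eq_one]; exact congrArg QuotientGroup.mk e2)
    (by rw [← QuotientGroup.mk_mul, e4, QuotientGroup.mk_mul, e6, mul_one, QuotientGroup.mk_mul])
    (by rw [← QuotientGroup.mk_inv, e7, eq_inv_iff_mul_eq_one]; exact congrArg QuotientGroup.mk e3)
  simp only [← QuotientGroup.mk_zpow, ← QuotientGroup.mk_mul] at hk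
  have h4 : Commute d (c * c) := by
    rw [← mul_inv_cancel_left (d ^ k) (c * c)]
    exact ((Commute.refl d).zpow_right k).mul_right (mem_center_iff.1 (QuotientGroup.eq.1 hk) d)
  have h5 := congrFun (congrFun (show d.1 * (c.1 * c.1) = c.1 * c.1 * d.1 from congrArg Subtype.val h4) 1) 0
  simp [c, d] at h5
  exact w1 h5

theorem MN.dih (h : MN G) (hφ : Function.Injective φ) {s r : X} (hs : s * s = 1) (h1 : s * r * s⁻¹ = r⁻¹)
    (h3 : 3 ∣ orderOf r) : orderOf r ∣ 6 := by
  have := Fact.mk Nat.prime_three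
  have h2 := orderOf_pow_orderOf_div (orderOf_pos r).ne' h3
  have h4 := orderOf_dvd_of_mem_zpowers (h.sq_mem' hφ hs h2 (by decide) (by rw [← conj_pow, h1, inv_pow])
    ((Commute.refl r).pow_right _) h1)
  rw [h2, orderOf_dvd_iff_pow_eq_one, ← sq, ← pow_mul] at h4
  exact orderOf_dvd_of_pow_eq_one h4

theorem MN.card_small (h : MN G) {F : Type*} [Field F] [Finite F] {φ : PSL2 F →* G} (hφ : Function.Injective φ)
    [φ.range.Normal] (h3 : 3 < Nat.card F) : Nat.card F = 7 ∨ Nat.card F = 11 ∨ Nat.card F = 13 := by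
  have hp := h.prime_field hφ
  have h2 := hp.eq_two_or_odd.resolve_left (by omega)
  have h7 := (gcd_two_eq (F := F)).resolve_left fun e => by have := e.2.two_dvd; omega
  have h4 : ¬ 3 ∣ Nat.card F := fun e => by have := (Nat.prime_dvd_prime_iff_eq Nat.prime_three hp).1 e; omega
  have h5 : Nat.card F ≠ 5 := fun e => by
    obtain ⟨a⟩ := psl2_five_equiv e
    have h4 : Nat.card (GaloisField 2 2) = 4 := GaloisField.card 2 2 two_ne_zero
    obtain ⟨b⟩ := psl2_four_equiv h4
    let f := (b.trans a.symm).toMonoidHom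
    have : (φ.comp f).range.Normal := by
      rwa [MonoidHom.range_comp, MonoidHom.range_eq_top.2 (b.trans a.symm).surjective, ← MonoidHom.range_eq_map]
    exact absurd (h4 ▸ h.prime_field (φ := φ.comp f) (hφ.comp (b.trans a.symm).injective)) (by norm_num)
  obtain h6 | h6 : Nat.card F % 3 = 1 ∨ Nat.card F % 3 = 2 := by omega
  · obtain ⟨s, r, a1, a2, a3, -⟩ := exists_dihedral_of_isTorus (isTorus_torusS (F := F)) (by rw [Nat.card_units]; omega)
    rw [Nat.card_units, h7.1] at a3
    have := Nat.le_of_dvd (by norm_num) (h.dih hφ a1 a2 (by omega))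
    omega
  · obtain ⟨s, r, a1, a2, a3, -⟩ := exists_dihedral_of_isTorus (isTorus_singerS (F := F)) (by rw [card_U1]; omega)
    rw [card_U1, h7.1] at a3
    have := Nat.le_of_dvd (by norm_num) (h.dih hφ a1 a2 (by omega))
    omega

theorem exists_klein_of_A4 {f : alternatingGroup (Fin 4) →* X} (hf : Function.Injective f) :
    ∃ V : Subgroup X, IsKleinFour V ∧ f.range ≤ normalizer (V : Set X) ∧ Nat.card f.range = 12 := by
  have h4 : Nat.card (Fin 4) = 4 := by simp
  have := alternatingGroup.normal_kleinFour h4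
  refine ⟨_, Invol.isKleinFour_of_equiv (equivMapOfInjective _ f hf).symm (alternatingGroup.kleinFour_isKleinFour h4),
    (MonoidHom.range_eq_map f).le.trans (map_le_normalizer_map f le_normalizer_of_normal), ?_⟩
  rw [← alternatingGroup.card_of_card_eq_four h4]
  exact (Nat.card_congr (MonoidHom.ofInjective hf).toEquiv).symm

theorem psl2_exists_klein {F : Type*} [Field F] [Finite F] (h2 : (2 : F) ≠ 0) :
    ∃ V : Subgroup (PSL2 F), IsKleinFour V ∧ 12 ∣ Nat.card (normalizer (V : Set (PSL2 F))) := by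
  obtain ⟨H, ⟨e⟩⟩ := psl2_exists_A4 (Or.inl h2)
  obtain ⟨V, h1, h3, h4⟩ := exists_klein_of_A4 (f := H.subtype.comp e.symm.toMonoidHom) (H.subtype_injective.comp e.symm.injective)
  exact ⟨V, h1, h4 ▸ card_dvd_of_le h3⟩

theorem MN.idx_two (h : MN G) {F : Type*} [Field F] [Finite F] {φ : PSL2 F →* G} (hφ : Function.Injective φ)
    [hn : φ.range.Normal] (hi : φ.range.index = 2) (h2 : (2 : F) ≠ 0) (h8 : ¬ 8 ∣ Nat.card (PSL2 F)) {s r : PSL2 F}
    (hs : s * s = 1) (h1 : s * r * s⁻¹ = r⁻¹) (hr : orderOf r = 6) : False := by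
  have := Fact.mk Nat.prime_three
  obtain ⟨V, hV, h3⟩ := psl2_exists_klein h2
  have hc := card_map_of_injective (K := V) hφ
  rw [hV.card_four] at hc
  have hp := (Invol.klein_isPGroup hV).map φ
  obtain ⟨S, hS⟩ := hp.exists_le_sylow
  have h4 : V.map φ = (S : Subgroup G) ⊓ φ.range := by
    obtain ⟨k, hk⟩ := (S.2.to_le (inf_le_left (b := φ.range))).exists_card_eq
    refine eq_of_le_of_card_ge (le_inf hS (map_le_range _ _)) (hc ▸ hk ▸ Nat.pow_le_pow_right two_pos (show k ≤ 2 from ?_))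
    by_contra! e
    exact h8 ((pow_dvd_pow 2 e).trans (hk ▸ (card_dvd_of_le inf_le_right).trans
      (Nat.card_congr (MonoidHom.ofInjective hφ).toEquiv).symm.dvd))
  have h5 : normalizer ((S : Subgroup G) : Set G) ≤ normalizer ((V.map φ : Subgroup G) : Set G) :=
    h4 ▸ le_normalizer_inf le_rfl le_normalizer_of_normal
  have V0 : V.map φ ≠ ⊥ := fun e => by simp [e] at hc
  have hN := h.coatom S.2 fun e => V0 (eq_bot_iff.2 (e ▸ hS))
  have h6 := Amalg.inf_center_ne_bot S.2 hS (le_normalizer.trans h5) V0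
  by_cases h7 : V.map φ ≤ centralizer ((S : Subgroup G) : Set G)
  · obtain ⟨⟨a, ha⟩, a3⟩ := exists_prime_orderOf_dvd_card' 3 ((by norm_num : 3 ∣ 12).trans h3)
    rw [Subgroup.orderOf_mk] at a3
    have hA := Amalg.isPGroup_zpowers_of_orderOf (p := 3) (k := 1) ((orderOf_injective φ hφ a).trans a3)
    have h9 := zpowers_le.2 (map_le_normalizer_map φ le_rfl (mem_map_of_mem φ ha))
    have h10 := h9.trans ((hN.le_iff.1 h5).resolve_left (h.coatom hp V0).1).le
    have h11 : (S : Subgroup G) ⊓ centralizer (zpowers (φ a) : Set G) ≠ ⊥ := fun e => by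
      have h12 : Nat.card S = 2 ^ 3 := by
        have := ((V.map φ).subgroupOf S).card_mul_index
        rw [Nat.card_congr (subgroupOfEquivOfLe hS).toEquiv, hc, h4, inf_subgroupOf_left] at this
        have h13 : φ.range.relIndex S ∣ 2 := (relIndex_dvd_index_of_normal φ.range S).trans hi.dvd
        rcases (Nat.dvd_prime Nat.prime_two).1 h13 with e | e
        · exact absurd (hi.symm.dvd.trans (index_dvd_of_le (relIndex_eq_one.1 e))) S.not_dvd_index
        · rw [← this, show (φ.range.subgroupOf S).index = 2 from e]; rfl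
      exact absurd (PGrp.dvd_pow_sub_one_of_card_eq Nat.prime_three (by decide) hA S.2 h10 (k := 3) (by
        rw [e, card_bot, mul_one, h12])) (by decide)
    have h12 := h.eq_of_cent (by decide) hA (S.2.to_le inf_le_left) (by
      simpa [hφ.eq_iff' (map_one φ)] using fun e => by simp [e] at a3) h11 inf_le_right
    have h13 : V.map φ ≤ normalizer (zpowers (φ a) : Set G) := h12 ▸
      (h7.trans (centralizer_le (SetLike.coe_subset_coe.2 inf_le_left))).trans (centralizer_le_normalizer _)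
    have h14 := BG2.le_centralizer_of_inf_eq_bot h9 h13 (disjoint_iff.1 (IsPGroup.disjoint_of_ne 3 2 (by decide) _ _ hA hp))
      (mem_zpowers _)
    have h15 := orderOf_dvd_natCard V (centralizer_klein_le h2 hV fun v hv => hφ (by simpa using h14 _ (mem_map_of_mem φ hv)))
    rw [a3, hV.card_four] at h15
    omega
  obtain ⟨⟨_, ⟨z, hz, rfl⟩, h9⟩, z1⟩ := ne_bot_iff_exists_ne_one.1 h6
  have z2 := Invol.klein_two hV hz fun e => z1 (Subtype.ext (by simp [e]))
  have hZ := Amalg.isPGroup_zpowers_of_orderOf (p := 2) (k := 1) ((orderOf_injective φ hφ z).trans z2)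
  have h10 : zpowers (φ z) = V.map φ ⊓ centralizer ((S : Subgroup G) : Set G) := by
    refine eq_of_le_of_card_ge (zpowers_le.2 ⟨mem_map_of_mem φ hz, h9⟩) ?_
    have a := card_dvd_of_le (inf_le_left : V.map φ ⊓ centralizer ((S : Subgroup G) : Set G) ≤ _)
    have b := card_lt_of_lt (lt_of_le_of_ne inf_le_left fun e => h7 (inf_eq_left.1 e))
    rw [Nat.card_zpowers, orderOf_injective φ hφ, z2]
    rw [hc] at a b
    by_contra! e
    rw [show Nat.card ↥(V.map φ ⊓ centralizer ((S : Subgroup G) : Set G)) = 3 by omega] at a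
    omega
  have h11 := (hN.le_iff.1 (show _ ≤ normalizer (zpowers (φ z) : Set G) from h10 ▸ le_normalizer_inf h5
    (normalizer_le_normalizer_centralizer _))).resolve_left (h.coatom hZ (h10 ▸ h6)).1
  obtain ⟨g, hg⟩ := isConj_iff.1 (psl2_isConj_of_orderOf_two h2 (x := r ^ 3) (by
    rw [orderOf_pow_of_dvd three_ne_zero (hr ▸ by norm_num), hr]) z2)
  have key : ∀ x, x * r ^ 3 = r ^ 3 * x → φ (g * x * g⁻¹) ∈ normalizer ((S : Subgroup G) : Set G) := fun x hx =>
    h11.le (PGrp.mem_normalizer_zpowers (by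
      rw [← map_inv, ← map_mul, ← map_mul, ← hg, conj_mul, hx, ← conj_mul, mul_inv_cancel_right]; exact mem_zpowers _))
  have h12 : r ^ 6 = 1 := hr ▸ pow_orderOf_eq_one r
  have h13 := (syl_top S).mem_of_mem_normalizer (k := 1) (by rw [← map_pow, conj_pow, pow_one, sq, hs]; simp) (mem_top _)
    (key s (by
      rw [← mul_inv_eq_iff_eq_mul, ← conj_pow, h1, inv_pow, inv_eq_iff_mul_eq_one, ← pow_add, h12]))
  have h14 := mul_mem ((mem_normalizer_iff.1 (key r ((Commute.refl r).pow_right 3)) _).1 h13) (inv_mem h13)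
  simp only [← map_inv, ← map_mul] at h14
  rw [show g * r * g⁻¹ * (g * s * g⁻¹) * (g * r * g⁻¹)⁻¹ * (g * s * g⁻¹)⁻¹ = g * (r * (s * r * s⁻¹)⁻¹) * g⁻¹ by group, h1,
    inv_inv, ← sq] at h14
  obtain ⟨k, hk⟩ := IsPGroup.iff_orderOf.1 S.2 ⟨_, h14⟩
  rw [Subgroup.orderOf_mk, orderOf_injective φ hφ, Invol.orderOf_conj, orderOf_pow_of_dvd two_ne_zero (hr ▸ by norm_num), hr] at hk
  exact absurd (Nat.prime_three.dvd_of_dvd_pow hk.dvd) (by decide)

theorem cent_of_norm {z x : G} (hz : orderOf z = 2) (hx : x ∈ normalizer (zpowers z : Set G)) : x ∈ centralizer {z} :=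
  mem_centralizer_singleton_iff.2 (mul_inv_eq_iff_eq_mul.1 ((mem_zpowers_sq (sq z ▸ Invol.sq_of_two hz)
    ((mem_normalizer_iff.1 hx z).1 (mem_zpowers z))).resolve_left (by simpa [mul_inv_eq_one] using Invol.ne_one_of_two hz)))

theorem MN.not_seven (h : MN G) {F : Type*} [Field F] [Finite F] (hF : Nat.card F = 7) {φ : PSL2 F →* G}
    (hφ : Function.Injective φ) [hn : φ.range.Normal] (hi : φ.range.index ∣ 2) : False := by
  have := Fintype.ofFinite F
  have h2 := GW.two_ne_zero_of_odd (F := F) (hF ▸ by decide)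
  have hX := card_PSL_two_of_odd (F := F) (hF ▸ by decide)
  rw [hF] at hX
  obtain ⟨V, hV, -⟩ := psl2_exists_klein h2
  have h3 := card_normalizer_klein h2 (FiniteField.isSquare_two_iff.2 (by rw [← Nat.card_eq_fintype_card, hF]; decide)) hV
  have hp := (Invol.klein_isPGroup hV).map φ
  have V0 : V.map φ ≠ ⊥ := fun e => by
    have := hV.card_four
    simp [(Subgroup.map_eq_bot_iff_of_injective _ hφ).1 e] at this
  have hN := h.coatom hp V0
  have h4 : (normalizer ((V.map φ : Subgroup G) : Set G)).comap φ = normalizer (V : Set (PSL2 F)) := by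
    refine le_antisymm ((le_normalizer_comap φ).trans (by rw [comap_map_eq_self_of_injective hφ])) ?_
    exact map_le_iff_le_comap.1 (map_le_normalizer_map φ le_rfl)
  have h5 : (normalizer ((V.map φ : Subgroup G) : Set G)).relIndex φ.range = 7 := by
    have := (normalizer (V : Set (PSL2 F))).card_mul_index
    rw [← index_comap, h4]
    change 2 * Nat.card (PSL2 F) = _ at hX
    rw [h3] at this
    omega
  have h6 := (hN.le_iff.1 (le_sup_right (a := φ.range))).resolve_right fun e => by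
    rw [relIndex_eq_one.2 (le_sup_left.trans e.le)] at h5
    omega
  obtain ⟨S, hS⟩ := exists_syl 2 (normalizer ((V.map φ : Subgroup G) : Set G))
  have h7 := hS.of_le_of_not_dvd le_top (by rw [← h6, BS.relIndex_sup_eq le_normalizer_of_normal, h5]; decide)
  obtain ⟨⟨_, ⟨z, hz, rfl⟩, h9⟩, z1⟩ := ne_bot_iff_exists_ne_one.1
    (Amalg.inf_center_ne_bot hS.2 (hS.le_of_normal hp le_normalizer le_rfl) hS.1 V0)
  have z2 := Invol.klein_two hV hz fun e => z1 (Subtype.ext (by simp [e]))
  have h8 : IsPGroup 2 (centralizer {φ z}) := by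
    by_contra e
    obtain ⟨⟨g, hg⟩, a, b⟩ := GW.exists_odd_prime_orderOf e
    rw [Subgroup.orderOf_mk] at a b
    obtain ⟨y, rfl⟩ : g ∈ φ.range := Transfer.mem_of_pow_mem_of_coprime ((Nat.coprime_primes a Nat.prime_two).2 b) (by
      obtain ⟨c, hc⟩ := hi
      have := pow_mem (pow_index_mem φ.range g) c
      rwa [← pow_mul, ← hc] at this)
    rw [orderOf_injective φ hφ] at a b
    have c := Commute.orderOf_mul_eq_mul_orderOf_of_coprime (x := y) (y := z)
      (hφ (by simpa using mem_centralizer_singleton_iff.1 hg)) (by rw [z2]; exact (Nat.coprime_primes a Nat.prime_two).2 b)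
    rw [z2] at c
    have d := pgl2_orderOf_le (Matrix.ProjectiveSpecialLinearGroup.toPGL (y * z))
    rw [orderOf_injective _ Matrix.ProjectiveSpecialLinearGroup.toPGL_injective, c, hF] at d
    have f : orderOf y = 3 := by have := a.two_le; have := a.eq_two_or_odd; omega
    have := Fact.mk (by decide : Nat.Prime 7)
    have := charP_of_card_eq_prime (Nat.card_eq_fintype_card.symm.trans hF)
    have := psl2_orderOf_dvd (y * z) (by rw [c, f, Ne, CharP.cast_eq_zero_iff F 7]; decide)
    rw [c, f, hF] at this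
    exact absurd this (by decide)
  have h10 := h7.le_of_le (fun x hx => mem_centralizer_singleton_iff.2 (h9 x hx)) le_top h8
  have h11 := ((h.coatom (Amalg.isPGroup_zpowers_of_orderOf (p := 2) (k := 1) ((orderOf_injective φ hφ z).trans z2))
    fun e => z1 (Subtype.ext (zpowers_eq_bot.1 e))).le_iff.1 (show _ ≤ normalizer ((V.map φ : Subgroup G) : Set G) from
      fun x hx => hS.1 (h10 (cent_of_norm ((orderOf_injective φ hφ z).trans z2) hx)))).resolve_left hN.1
  obtain ⟨k, hk⟩ := ((h8.to_le (h11.le.trans fun x => cent_of_norm ((orderOf_injective φ hφ z).trans z2))).comap_of_injective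
    φ hφ).exists_card_eq
  rw [h4, h3] at hk
  exact absurd (Nat.prime_three.dvd_of_dvd_pow (Dvd.dvd.trans (by decide) hk.dvd)) (by decide)

theorem MN.not_eleven (h : MN G) {F : Type*} [Field F] [Finite F] (hF : Nat.card F = 11) (e : PSL2 F ≃* G) : False := by
  have h2 := GW.two_ne_zero_of_odd (F := F) (hF ▸ by decide)
  have hX : 2 * Nat.card (PSL2 F) = _ := card_PSL_two_of_odd (F := F) (hF ▸ by decide)
  rw [hF] at hX
  obtain ⟨H, ⟨a⟩⟩ := (psl2_exists_A5_iff (F := F)).2 (by rw [hF]; decide)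
  have := Fact.mk Nat.prime_five
  obtain ⟨b⟩ := psl2_five_equiv (Nat.card_zmod 5)
  obtain ⟨K, ⟨c⟩⟩ := psl2_exists_A4 (Or.inl (GW.two_ne_zero_of_odd (F := ZMod 5) (by rw [Nat.card_zmod]; decide)))
  obtain ⟨V, h1, h3, h4⟩ := exists_klein_of_A4 (f := H.subtype.comp ((b.trans a.symm).toMonoidHom.comp
    (K.subtype.comp c.symm.toMonoidHom))) (H.subtype_injective.comp ((b.trans a.symm).injective.comp
      (K.subtype_injective.comp c.symm.injective)))
  have h5 := card_normalizer_klein_le h1 (centralizer_klein_le h2 h1)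
  obtain ⟨k, hk⟩ := h4 ▸ card_dvd_of_le h3
  have h6 := card_subgroup_dvd_card (normalizer (V : Set (PSL2 F)))
  have h7 : k = 1 := by
    rw [hk, show Nat.card (PSL2 F) = 660 by omega] at h6
    have : k ≤ 2 := by omega
    interval_cases k <;> omega
  have h8 : normalizer (V : Set (PSL2 F)) ≤ H := (eq_of_le_of_card_ge h3 (by omega)).ge.trans (by
    rintro _ ⟨x, rfl⟩; exact SetLike.coe_mem _)
  have hH : Nat.card H = 60 := by rw [Nat.card_congr a.toEquiv, nat_card_alternatingGroup]; simp [Nat.factorial]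
  have h9 := h.coatom ((Invol.klein_isPGroup h1).map e.toMonoidHom) fun f => by
    have := h1.card_four
    simp [(Subgroup.map_eq_bot_iff_of_injective _ e.injective).1 f] at this
  rw [← map_equiv_normalizer_eq] at h9
  rcases h9.le_iff.1 (map_mono h8) with f | f <;> have := congrArg (fun K : Subgroup G => Nat.card K) f
  · simp only [card_map_of_injective (f := e.toMonoidHom) e.injective, card_top, ← Nat.card_congr e.toEquiv] at this
    omega
  · simp only [card_map_of_injective (f := e.toMonoidHom) e.injective] at this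
    omega

theorem MN.psl13 [Nontrivial G] (h : MN G) : ∃ (F : Type) (_ : Field F) (_ : Finite F), Nat.card F = 13 ∧
    Nonempty (G ≃* PSL2 F) := by
  have hF : fittingSubgroup G = ⊥ := by_contra fun e => by
    obtain ⟨p, hp, h1⟩ := exists_pCore_ne_bot_of_fitting_ne_bot e
    have := Fact.mk hp
    have := pCore_normal p G
    exact (h.coatom (isPGroup_pCore p G) h1).1 (normalizer_eq_top _)
  obtain ⟨L, _, _, hc, hC⟩ : ∃ L : Subgroup G, L.Normal ∧ IsSimpleGroup L ∧ ¬ IsMulCommutative L ∧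
      centralizer (L : Set G) = ⊥ := by
    by_contra hA
    obtain ⟨T, U, hT, hU, hne⟩ := FG.exists_two_comp hF hA
    have := FG.comp_simple hF hT
    have := FG.comp_simple hF hU
    obtain ⟨t, h1, h3⟩ := exists_two_of_simple (Layer.IsQuasisimple.not_isMulCommutative hT.2)
    exact not_isSolvable_of_simple (Layer.IsQuasisimple.not_isMulCommutative hU.2) (Hall.solvable_of_pnil_two
      (h.pnil h3 ((FG.comp_le_cent hT hU hne).trans (centralizer_le (Set.singleton_subset_iff.2 h1)))))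
  have key : ∀ {Y : Type} [Group Y] (e : L ≃* Y), Function.Injective (L.subtype.comp e.symm.toMonoidHom) ∧
      (L.subtype.comp e.symm.toMonoidHom).range = L := fun e => ⟨L.subtype_injective.comp e.symm.injective, by
    rw [MonoidHom.range_comp, MonoidHom.range_eq_top.2 e.symm.surjective, ← MonoidHom.range_eq_map, range_subtype]⟩
  rcases Agent.S3214.result hc fun t ht => Transfer.hasNormalPComplement_iff.2
    ((Transfer.pnil_map_iff_of_injective L.subtype_injective).1 (h.pnil ((orderOf_injective _ L.subtype_injective t).trans ht) (by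
      rintro _ ⟨x, hx, rfl⟩
      exact mem_centralizer_singleton_iff.2 (congrArg Subtype.val (mem_centralizer_singleton_iff.1 hx))))) with
    ⟨F, _, _, h3, ⟨e⟩⟩ | hs | ⟨⟨e⟩⟩ | ⟨F, _, _, h4, ⟨e⟩⟩
  · obtain ⟨h1, h2⟩ := key e
    rw [← Nat.card_eq_fintype_card] at h3
    have : (L.subtype.comp e.symm.toMonoidHom).range.Normal := h2.symm ▸ inferInstance
    have hp := h.prime_field h1
    have ho := hp.odd_of_ne_two (by omega)
    have hi : L.index ∣ 2 := by
      obtain ⟨ψ, hψ⟩ := exists_inj_mulAut hC e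
      have := Fact.mk hp
      have : Subsingleton (F ≃+* F) := ⟨fun a b => by
        let f := ZMod.ringEquivOfPrime F hp Nat.card_eq_fintype_card.symm
        exact RingEquiv.ext fun x => by simpa using DFunLike.congr_fun (Subsingleton.elim (f.trans a) (f.trans b)) (f.symm x)⟩
      have h5 := card_dvd_of_injective ψ hψ
      rw [card_mulAut_PSL_two, Nat.card_unique (α := F ≃+* F), one_mul, card_PGL_two, ← card_PSL_two_of_odd ho, ← Nat.card_congr e.toEquiv,
        ← L.index_mul_card] at h5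
      exact Nat.dvd_of_mul_dvd_mul_right Nat.card_pos h5
    have h7 := (gcd_two_eq (F := F)).resolve_left fun e => by have := e.2.two_dvd; obtain ⟨k, hk⟩ := ho; omega
    have hX : 2 * Nat.card (PSL2 F) = _ := card_PSL_two_of_odd ho
    have h5 := GW.two_ne_zero_of_odd ho
    rcases h.card_small h1 h3 with h4 | h4
    · exact (h.not_seven h4 h1 (h2.symm ▸ hi)).elim
    rcases (Nat.dvd_prime Nat.prime_two).1 hi with h6 | h6
    · obtain rfl := index_eq_one.1 h6
      exact h4.elim (fun h4 => (h.not_eleven h4 (e.symm.trans topEquiv)).elim)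
        fun h4 => ⟨F, _, inferInstance, h4, ⟨topEquiv.symm.trans e⟩⟩
    rw [← h2] at h6
    rcases h4 with h4 | h4 <;> rw [h4] at hX
    · obtain ⟨s, r, a1, a2, a3, -⟩ := exists_dihedral_of_isTorus (isTorus_singerS (F := F)) (by rw [card_U1]; omega)
      exact (h.idx_two h1 h6 h5 (by omega) a1 a2 (by rw [a3, card_U1, h7.1, h4])).elim
    · obtain ⟨s, r, a1, a2, a3, -⟩ := exists_dihedral_of_isTorus (isTorus_torusS (F := F)) (by rw [Nat.card_units]; omega)
      exact (h.idx_two h1 h6 h5 (by omega) a1 a2 (by rw [a3, Nat.card_units, h7.1, h4])).elim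
  · have : L.subtype.range.Normal := by rwa [range_subtype]
    refine (h.not_ti L.subtype_injective hc ((SF.ty_of_suz (Or.inl hs)).elim And.left fun h1 => (h1 ?_).elim)).elim
    obtain ⟨F, _, _, m, hm, hF, ⟨f⟩⟩ := hs
    rw [Nat.card_congr f.toEquiv, (Agent.S1163.result hm hF).1, ← pow_mul]
    exact ((pow_dvd_pow 2 (by omega : 3 ≤ (2 * m + 1) * 2)).mul_right _).mul_right _
  · exact (h.not_A7 (key e).1).elim
  · exact (h.not_L34 (Nat.card_eq_fintype_card.trans h4) (key e).1).elim

end Cfsg.Lib.Coprime
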