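import Cfsg.Agent.Lib.Coprime.AbConj
import Cfsg.Agent.Lib.Coprime.MaxNorm
import Cfsg.Agent.Lib.GW.Cover
import Cfsg.Agent.Lib.Hall.ClassSize
import Cfsg.Agent.S2065

/-!
# Groups in which `p`-subgroups of equal order are conjugate for all `p`
-/

set_option autoImplicit false

namespace Cfsg.Lib.Coprime

open Subgroup Cfsg.Lib.Core Cfsg.Lib.Amalg Cfsg.Lib.Linear

variable {G : Type*} [Group G] [Finite G] {p : ℕ} [Fact p.Prime]

theorem PC.sq_le (h : PC p G) {P : Subgroup G} [hn : P.Normal] (hP : IsElementaryAbelian p P) (h2 : p ^ 2 ∣ Nat.card P) :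
    Nat.card P * Nat.card P ≤ P.index * (p ^ 2 * p ^ 2) := by
  have hc : ∀ x ∈ P, ∀ y ∈ P, x * y = y * x := fun x hx y hy => congrArg Subtype.val (hP.1.is_comm.comm ⟨x, hx⟩ ⟨y, hy⟩)
  have key : ∀ x y : P, ∃ W : Subgroup G, Nat.card W = p ^ 2 ∧ W ≤ P ∧ (x : G) ∈ W ∧ (y : G) ∈ W := fun x y => by
    have h3 : ∀ x : P, Nat.card (Subgroup.zpowers x) ∣ p := fun x =>
      Nat.card_zpowers x ▸ orderOf_dvd_of_pow_eq_one (Subtype.ext (hP.2 x x.2))
    have := hP.1
    obtain ⟨k, h4, h5⟩ := (Nat.dvd_prime_pow Fact.out).1 (((card_sup_dvd (H := Subgroup.zpowers x) (K := Subgroup.zpowers y)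
      le_normalizer_of_normal).trans (mul_dvd_mul (h3 x) (h3 y))).trans (sq p).symm.dvd)
    obtain ⟨W, h6, h7⟩ := Sylow.exists_subgroup_card_pow_prime_le p h2 _ h5 h4
    exact ⟨W.map P.subtype, (card_map_of_injective P.subtype_injective).trans h6, map_subtype_le W,
      ⟨x, h7 (mem_sup_left (mem_zpowers x)), rfl⟩, ⟨y, h7 (mem_sup_right (mem_zpowers y)), rfl⟩⟩
  obtain ⟨V, h3, h4, -⟩ := key 1 1
  let f : (G ⧸ P) × V × V → P × P := fun a =>
    (⟨_, hn.conj_mem _ (h4 a.2.1.2) a.1.out⟩, ⟨_, hn.conj_mem _ (h4 a.2.2.2) a.1.out⟩)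
  have h5 : Function.Surjective f := fun ⟨x, y⟩ => by
    obtain ⟨W, h5, -, h6, h7⟩ := key x y
    obtain ⟨g, rfl⟩ := h V W (.of_card h3) (.of_card h5) (h3.trans h5.symm)
    obtain ⟨a, ha, e1⟩ := mem_cj'.1 h6
    obtain ⟨b, hb, e2⟩ := mem_cj'.1 h7
    obtain ⟨c, e3⟩ := QuotientGroup.mk_out_eq_mul P g
    have h8 : ∀ a ∈ V, g * c * a * (g * c)⁻¹ = g * a * g⁻¹ := fun a ha => by
      rw [mul_assoc g, hc c c.2 a (h4 ha)]; group
    exact ⟨(g, ⟨a, ha⟩, ⟨b, hb⟩), Prod.ext (Subtype.ext (by simp only [f, e3, h8 a ha, e1]))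
      (Subtype.ext (by simp only [f, e3, h8 b hb, e2]))⟩
  simpa only [Nat.card_prod, h3, index_eq_card] using Nat.card_le_card_of_surjective f h5

theorem exists_out_of_klein {L V : Subgroup G} [L.Normal] (hV : IsKleinFour V) (h1 : Syl 2 V ⊤) (h2 : V ≤ L)
    (h3 : L ⊓ 𝐂 V ≤ V) {x : G} (h4 : x ∈ L ⊓ 𝐍 V) (h5 : orderOf x = 3) {r : ℕ} (hr : r.Prime) (hd : r ∣ L.index) :
    ∃ y, orderOf y = r ∧ y ∉ L := by
  have := Fact.mk hr
  have hc : V ≤ 𝐂 V := le_centralizer_iff_isMulCommutative.2 IsKleinFour.isMulCommutative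
  have h6 : 𝐍 V ≤ L ⊔ 𝐂 V := by
    let φ := V.normalizerMonoidHom
    have a1 : Nat.card φ.range ≤ 6 := (card_le_card_group _).trans (card_mulAut_klein_le V)
    have a2 : ¬ 2 ∣ Nat.card φ.range := by
      rw [← index_ker, normalizerMonoidHom_ker]
      exact (h1.of_le le_normalizer le_top).not_dvd_relIndex_of_le hc
    have a3 : orderOf (φ ⟨x, h4.2⟩) = 3 := orderOf_eq_prime (by
      rw [← map_pow, show (⟨x, h4.2⟩ : 𝐍 V) ^ 3 = 1 from Subtype.ext (h5 ▸ pow_orderOf_eq_one x), map_one]) fun e => by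
        have := V.orderOf_dvd_natCard (h3 ⟨h4.1, (normalizerMonoidHom_ker V).le e⟩)
        rw [h5, hV.card_four] at this; omega
    have a4 := a3 ▸ φ.range.orderOf_dvd_natCard ⟨_, rfl⟩
    have a5 : zpowers (φ ⟨x, h4.2⟩) = φ.range := eq_of_le_of_card_ge (zpowers_le.2 ⟨_, rfl⟩) (by
      rw [Nat.card_zpowers, a3]; omega)
    intro g hg
    obtain ⟨k, hk⟩ := a5.ge ⟨⟨g, hg⟩, rfl⟩
    have a6 : (x ^ k)⁻¹ * g ∈ 𝐂 V := (normalizerMonoidHom_ker V).le (show (⟨x, h4.2⟩ ^ k)⁻¹ * ⟨g, hg⟩ ∈ φ.ker by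
      rw [MonoidHom.mem_ker, map_mul, map_inv, map_zpow, inv_mul_eq_one]; exact hk)
    simpa using mul_mem_sup (zpow_mem (mem_inf.1 h4).1 k) a6
  have h7 : L ⊔ 𝐂 V = ⊤ := top_le_iff.1 (((h1.of_le h2 le_top).frattini le_top le_normalizer_of_normal).ge.trans
    (sup_le le_sup_left (inf_le_right.trans h6)))
  obtain ⟨y, hy⟩ := exists_prime_orderOf_dvd_card' (G := 𝐂 V) r (hd.trans (by
    rw [← relIndex_top_right, ← h7, relIndex_sup_left]; exact relIndex_dvd_card _ _))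
  refine ⟨y, (Subgroup.orderOf_coe y).trans hy, fun e => ?_⟩
  have h8 := V.orderOf_dvd_natCard (h3 ⟨e, y.2⟩)
  rw [Subgroup.orderOf_coe, hy, hV.card_four] at h8
  exact h1.not_dvd_index (((Nat.prime_dvd_prime_iff_eq hr Nat.prime_two).1 (hr.dvd_of_dvd_pow (n := 2) h8) ▸ hd).trans
    (index_dvd_of_le h2))

theorem arith_odd {n f : ℕ} (hn : 5 ≤ n) (hp : 3 ≤ p) (h1 : f ≤ n) (h : 2 * (p ^ n * p ^ n) ≤ (p ^ n - 1) * f * (p ^ 2 * p ^ 2)) :
    False := by
  obtain ⟨k, rfl⟩ := Nat.exists_eq_add_of_le hn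
  have h2 : 5 + k ≤ 2 * p ^ (k + 1) := by
    have := Nat.lt_pow_self (n := k) (show 1 < p by omega)
    rw [pow_succ]; nlinarith
  have h3 : p ^ (5 + k) = p ^ (k + 1) * (p ^ 2 * p ^ 2) := by ring
  have h4 : 0 < p ^ (5 + k) := by positivity
  have h5 : 0 < p ^ 2 * p ^ 2 := by positivity
  have h6 : (p ^ (5 + k) - 1) * f < p ^ (5 + k) * (2 * p ^ (k + 1)) :=
    lt_of_le_of_lt (Nat.mul_le_mul_left _ (h1.trans h2)) (Nat.mul_lt_mul_of_pos_right (by omega) (by omega))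
  have := Nat.mul_lt_mul_of_pos_right h6 h5
  nlinarith

/-- socle `L₂(q)`, `q ≡ ±3 (mod 8)` -/
theorem pc_psl_odd (h : ∀ p : ℕ, p.Prime → PC p G) {L : Subgroup G} [L.Normal] (hC : centralizer (L : Set G) = ⊥) (S : Sylow 2 G)
    (hL : (S : Subgroup G) ≤ L) (e : Gold.IsL2o L) : ∃ (p : ℕ) (_ : Fact p.Prime), (p % 8 = 3 ∨ p % 8 = 5) ∧
      (Nonempty (G ≃* PSL2 (ZMod p)) ∨ Nonempty (G ≃* PSL2 (GaloisField p 3))) := by
  obtain ⟨F, _, _, h1, h2, ⟨e⟩⟩ := e
  obtain ⟨p, _, ⟨n, n0⟩, hp, hF⟩ := FiniteField.card' F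
  have := Fact.mk hp
  rw [← Nat.card_eq_fintype_card] at h1 h2 hF
  simp only [PNat.mk_coe] at hF
  have hq : Odd (Nat.card F) := Nat.odd_iff.2 (by omega)
  have p2 : Odd p := (hF ▸ hq).of_dvd_nat (dvd_pow_self p n0.ne')
  have p3 : p ^ 2 % 8 = 1 := by obtain ⟨k, rfl⟩ := p2; have := Nat.even_mul_succ_self k; obtain ⟨j, hj⟩ := this; rw [
    show (2 * k + 1) ^ 2 = 4 * (k * (k + 1)) + 1 by ring, hj]; omega
  obtain ⟨m, rfl⟩ : Odd n := Nat.not_even_iff_odd.1 (by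
    rintro ⟨m, rfl⟩
    rw [hF, ← two_mul, pow_mul, Nat.pow_mod, p3] at h1
    simp at h1)
  have p4 : p % 8 = 3 ∨ p % 8 = 5 := by
    rwa [hF, pow_succ, pow_mul, Nat.mul_mod, Nat.pow_mod, p3, one_pow, Nat.one_mod_eq_one.2 (by decide), one_mul, Nat.mod_mod] at h1
  have t2 : (2 : F) ≠ 0 := fun e => by
    have := (CharP.cast_eq_zero_iff F p 2).1 e
    rw [Nat.prime_dvd_prime_iff_eq hp Nat.prime_two] at this
    omega
  have c1 : 2 * Nat.card L = Nat.card F * (Nat.card F - 1) * (Nat.card F + 1) := by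
    rw [Nat.card_congr e.toEquiv, card_PSL_two_of_odd hq]
  have ho : ¬ 2 ∣ L.index := fun e => S.not_dvd_index (e.trans (index_dvd_of_le hL))
  obtain ⟨φ, hφ⟩ := exists_inj_mulAut hC e
  have d1 := card_dvd_of_injective φ hφ
  rw [card_mulAut_PSL_two, card_PGL_two, BS.card_aut hF, ← c1, ← L.card_mul_index, mul_comm 2 (Nat.card L), mul_left_comm,
    Nat.mul_dvd_mul_iff_left Nat.card_pos] at d1
  replace d1 := (Nat.coprime_two_right.2 (Nat.odd_iff.2 (by omega))).dvd_of_dvd_mul_right d1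
  let j := L.subtype.comp e.symm.toMonoidHom
  have hj : Function.Injective j := L.subtype_injective.comp e.symm.injective
  obtain ⟨V, hV, h3⟩ := psl2_exists_klein t2
  have := Fact.mk Nat.prime_three
  obtain ⟨x, hx⟩ := exists_prime_orderOf_dvd_card' 3 ((by decide : 3 ∣ 12).trans h3)
  have key : ∀ r : ℕ, r.Prime → r ∣ L.index → ¬ r ∣ Nat.card L := fun r hr a1 a2 => by
    have := Fact.mk hr
    have a3 : Nat.card (V.map j) = 4 := (card_map_of_injective hj).trans hV.card_four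
    have a4 : V.map j ≤ L := by rintro _ ⟨v, -, rfl⟩; exact (e.symm v).2
    have a7 : ¬ 2 ^ 3 ∣ Nat.card L := fun e => by
      have : Nat.card F * (Nat.card F - 1) * (Nat.card F + 1) % 16 = 8 := by
        obtain ⟨k, hk⟩ : ∃ k, Nat.card F = k + 1 := ⟨Nat.card F - 1, by omega⟩
        have : k % 16 = 2 ∨ k % 16 = 4 ∨ k % 16 = 10 ∨ k % 16 = 12 := by omega
        rw [hk, Nat.add_sub_cancel]
        rcases this with e | e | e | e <;> simp [Nat.mul_mod, Nat.add_mod, e]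
      omega
    obtain ⟨y, a5, a6⟩ := exists_out_of_klein (L := L) (V := V.map j) (x := j x) (r := r)
      ⟨a3, (Monoid.exponent_eq_of_mulEquiv (V.equivMapOfInjective j hj)).symm.trans hV.exponent_two⟩
      ((syl_top S).of_card_ge (.of_card (n := 2) a3) le_top (by
        obtain ⟨k, hk⟩ := S.isPGroup'.exists_card_eq
        rw [a3, hk]
        exact Nat.pow_le_pow_right two_pos (Nat.le_of_not_lt fun e => a7 ((pow_dvd_pow 2 e).trans (hk ▸ card_dvd_of_le hL)))))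
      a4 (fun g hg => ⟨e ⟨g, hg.1⟩, centralizer_klein_le t2 hV fun v hv => hj (by
          simpa [j] using hg.2 _ ⟨v, hv, rfl⟩), by simp [j]⟩)
      ⟨(e.symm x).2, le_normalizer_map j ⟨x, x.2, rfl⟩⟩ (by rw [orderOf_injective j hj, Subgroup.orderOf_coe, hx]) hr a1
    obtain ⟨z, hz⟩ := exists_prime_orderOf_dvd_card' r a2
    exact a6 ((h r hr).mem ((Subgroup.orderOf_coe z).trans hz) a5 z.2)
  have q1 : Nat.card F ∣ Nat.card L := hq.coprime_two_right.dvd_of_dvd_mul_left (c1 ▸ (dvd_mul_right _ _).mul_right _)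
  have hm : m ≤ 1 := by
    by_contra! hm
    obtain ⟨P, a2⟩ := Hall.exists_sylow_le_of_not_dvd_index fun e => key p hp e ((char_dvd_card (K := F)).trans q1)
    have a3 := ((syl_top P).of_le a2 le_top).subgroupOf_top.map_top (f := e.toMonoidHom) e.surjective
    have a4 : Nat.card P = p ^ (2 * m + 1) := by
      rw [← card_subgroupOf_of_le a2, ← card_map_of_injective (f := e.toMonoidHom) e.injective, ← hF]
      exact card_sylow_subgroup_PSL2 a3.toSylowTop
    have a5 : IsElementaryAbelian p (P : Subgroup G) := by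
      obtain ⟨v, hv⟩ := exists_le_pU centralP'_PSL pFix_of_finite a3.isPGroup
      have b1 : ∀ a (ha : a ∈ (P : Subgroup G)), _ := fun a ha => (mem_pU _).1 (hv ⟨⟨a, a2 ha⟩, ha, rfl⟩)
      refine ⟨⟨⟨fun a b => Subtype.ext ?_⟩⟩, fun a ha => ?_⟩
      · exact congrArg (fun x : L => (x : G)) (e.injective (a₁ := ⟨a, a2 a.2⟩ * ⟨b, a2 b.2⟩) (a₂ := ⟨b, a2 b.2⟩ * ⟨a, a2 a.2⟩) (by
          rw [map_mul, map_mul]; exact centralP'_PSL.commute (b1 a a.2).1 (b1 b b.2).1))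
      · exact congrArg Subtype.val (e.injective (a₁ := ⟨a, a2 ha⟩ ^ p) (a₂ := 1) (by rw [map_pow, map_one]; exact (b1 a ha).2))
    set N := normalizer ((P : Subgroup G) : Set G) with hN
    have c4 : N.relIndex L = Nat.card F + 1 := by
      rw [← Hall.card_sylow_eq_relIndex (Transfer.sylowIn_of_le P a2), card_sylow_equiv e, card_sylow_PSL2]
    have c5 : N.index = Nat.card F + 1 := by
      rw [Hall.index_eq_mul_relIndex N L, show N ⊔ L = ⊤ from P.normalizer_sup_eq_top' a2, index_top, one_mul, c4]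
    have c7 : Nat.card ((P : Subgroup G).subgroupOf N) = Nat.card F := (card_subgroupOf_of_le le_normalizer).trans (a4.trans hF.symm)
    have c8 := ((h p hp).norm P a5.1).sq_le ((isElemAb_subgroupOf_iff le_normalizer).2 a5) (c7 ▸ hF ▸ pow_dvd_pow p (by omega))
    have c9 : 2 * ((P : Subgroup G).subgroupOf N).index = (Nat.card F - 1) * L.index :=
      Nat.eq_of_mul_eq_mul_left (show 0 < Nat.card F * (Nat.card F + 1) by positivity) (by
        calc _ = 2 * (Nat.card ((P : Subgroup G).subgroupOf N) * ((P : Subgroup G).subgroupOf N).index * N.index) := by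
              rw [c7, c5]; ring
          _ = 2 * Nat.card L * L.index := by rw [card_mul_index, card_mul_index, mul_assoc, card_mul_index]
          _ = _ := by rw [c1]; ring)
    refine arith_odd (p := p) (n := 2 * m + 1) (by omega) (by omega) (Nat.le_of_dvd n0 d1) ?_
    rw [← hF, ← c9, ← c7, mul_assoc]
    exact Nat.mul_le_mul_left 2 c8
  have d2 : L.index = 1 := by
    interval_cases m
    · exact Nat.dvd_one.1 d1
    · exact ((Nat.dvd_prime Nat.prime_three).1 d1).resolve_right fun e' => key 3 Nat.prime_three e'.symm.dvd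
        (Nat.card_congr e.toEquiv ▸ ((by decide : 3 ∣ 12).trans h3).trans (card_subgroup_dvd_card _))
  have f := (topEquiv.symm.trans (MulEquiv.subgroupCongr (index_eq_one.1 d2).symm)).trans e
  refine ⟨p, ‹_›, p4, ?_⟩
  interval_cases m
  · exact Or.inl ⟨f.trans (nonempty_psl_equiv_of_card_eq (by simpa using hF)).some⟩
  · exact Or.inr ⟨f.trans (nonempty_psl_equiv_of_card_eq (hF.trans (GaloisField.card p 3 (by decide)).symm)).some⟩

theorem eq_top_of_isoJ1 {L : Subgroup G} [L.Normal] (hC : centralizer (L : Set G) = ⊥) (e : Spor.IsoJ1 L) : L = ⊤ :=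
  (eq_top_iff' L).2 fun g => by
    obtain ⟨e⟩ := e
    have := (Nat.card_eq_one_iff_unique.1 Cfsg.Agent.S2065.result).1
    obtain ⟨a, ha⟩ : MulAut.congr e (MulAut.conjNormal g) ∈ Inn Spor.J1 := (QuotientGroup.eq_one_iff _).1 (Subsingleton.elim _ _)
    refine (mul_mem_cancel_left (inv_mem (e.symm a).2)).1 ((hC.le.trans bot_le : _ ≤ L) fun x hx => ?_)
    have := congrArg (fun b => (e.symm b : G)) (DFunLike.congr_fun ha (e ⟨x, hx⟩))
    simp only [MulAut.conj_apply, map_mul, map_inv, MulEquiv.symm_apply_apply, coe_mul, InvMemClass.coe_inv, MulAut.congr_apply,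
      MulEquiv.trans_apply, MulAut.conjNormal_apply] at this
    calc _ = ((e.symm a : G))⁻¹ * (e.symm a * x * (e.symm a : G)⁻¹) * g := by group
      _ = _ := by rw [this]; group

/-- elementary abelian Sylow `2`-subgroups -/
theorem pc_elem (h : ∀ p : ℕ, p.Prime → PC p G) (hO : oddCore G = ⊥) (S : Sylow 2 G)
    (hS : IsElementaryAbelian 2 (S : Subgroup G)) (h4 : 4 ≤ Nat.card S) :
    (8 ∣ Nat.card G ∧ (((Nonempty (G ≃* affineGroup (GaloisField 2 3)) ∨
      Nonempty (G ≃* semiaffineGroup (GaloisField 2 3)) ∨ Nonempty (G ≃* semiaffineGroup (GaloisField 2 5))) ∨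
      Nonempty (G ≃* PSL2 (GaloisField 2 3)) ∨ Nonempty (G ≃* MulAut (PSL2 (GaloisField 2 5)))) ∨ IsJ1 G)) ∨
    ∃ (p : ℕ) (_ : Fact p.Prime), (p % 8 = 3 ∨ p % 8 = 5) ∧
      (Nonempty (G ≃* PSL2 (ZMod p)) ∨ Nonempty (G ≃* PSL2 (GaloisField p 3))) := by
  have := Fact.mk Nat.prime_three
  have := Fact.mk Nat.prime_five
  rcases (h 2 Nat.prime_two).elem (h 3 Nat.prime_three) hO S hS h4 with ⟨⟨e⟩⟩ | ⟨⟨e⟩⟩ | e | ⟨L, _, _, h0, h1, h2, e | ⟨t, E, K, j⟩⟩
  · exact Or.inr ⟨3, ‹_›, by decide, Or.inl ⟨e.trans (psl2_three_equiv (Nat.card_zmod 3)).some.symm⟩⟩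
  · exact Or.inr ⟨5, ‹_›, by decide, Or.inl ⟨e.trans (psl2_five_equiv (Nat.card_zmod 5)).some.symm⟩⟩
  · exact Or.inl (e.imp_right Or.inl)
  · exact Or.inr (pc_psl_odd h h1 S h2 e)
  · rcases JTW.jr_cases j with e | e
    · obtain rfl := eq_top_of_isoJ1 h1 e
      have h3 := JTW.isJ1 (G := G) ⟨topEquiv.symm.trans e.some⟩
      exact Or.inl ⟨by rw [h3.2]; decide, Or.inr h3⟩
    · exfalso
      obtain ⟨P⟩ : Nonempty (Sylow 3 G) := inferInstance
      have h3 := ((syl_top P).inf_normal_top L).subgroupOf_top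
      have h5 : ¬ IsMulCommutative P := fun e' => e.not_comm h3 (by
        exact ⟨⟨fun a b => Subtype.ext (Subtype.ext (congrArg (fun x : P => (x : G)) (e'.is_comm.comm ⟨a, a.2.1⟩ ⟨b, b.2.1⟩)))⟩⟩)
      obtain ⟨t, K, F, _, _, m, -, h6, h7, -, -, -, Q, H, b, -⟩ := e
      rcases Cfsg.Agent.S4023.result (h 3 Nat.prime_three) P with e | e | e | e
      · exact h5 inferInstance
      · exact h5 e.1
      · omega
      · have h8 := card_le_of_le (inf_le_left : (P : Subgroup G) ⊓ L ≤ P)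
        rw [← card_subgroupOf_of_le inf_le_right, h3.card_eq b.syl, b.card, h7, e.2.2.1, ← pow_mul,
          Nat.pow_le_pow_iff_right (by decide)] at h8
        omega

end Cfsg.Lib.Coprime
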