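/-
The Neumann–Vaughan-Lee bound for the average size of fixed point spaces in solvable groups.
-/
import Cfsg.Agent.Lib.Coprime.Basic
import Cfsg.Agent.Lib.Clifford.Mono
import Cfsg.Agent.Lib.Amalg.Syl
import Cfsg.Agent.Lib.PGrp.Basic

set_option autoImplicit false

namespace Cfsg.Lib.Coprime

open Cfsg.Lib.Clifford Subgroup

variable {Γ : Type*} [Group Γ] [Finite Γ] {B U V W Q : Subgroup Γ} {g x : Γ}

/-- The number of elements of `W` commuting with `x`. -/
noncomputable def fx (W : Subgroup Γ) (x : Γ) : ℕ := Nat.card (W ⊓ centralizer {x} : Subgroup Γ)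

theorem fx_sup_le (hx : x ∈ B) (hU : Nrm B U) (hV : Nrm B V) (hUV : Nrm V U) (h : U ⊓ V = ⊥) :
    fx (U ⊔ V) x ≤ fx U x * fx V x := by
  have hn : V ⊓ centralizer {x} ≤ normalizer (U ⊓ centralizer {x} : Subgroup Γ) :=
    ((hUV.mono inf_le_left).inf ((nrm_self _).mono inf_le_right)).le_normalizer
  rw [fx, fx, fx, ← card_sup_of_disjoint' hn
    (eq_bot_iff.2 ((inf_le_inf inf_le_left inf_le_left).trans h.le))]
  refine card_le_of_le fun w hw => ?_
  obtain ⟨u, hu, v, hv, rfl⟩ := (mem_sup_iff_of_le_normalizer hUV.le_normalizer).1 hw.1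
  have e := mem_centralizer_singleton_iff.1 hw.2
  have e1 : u⁻¹ * (x * u * x⁻¹) = v * (x * v * x⁻¹)⁻¹ := by
    rw [inv_mul_eq_iff_eq_mul, ← mul_assoc, eq_mul_inv_iff_mul_eq,
      show x * u * x⁻¹ * (x * v * x⁻¹) = x * (u * v) * x⁻¹ by group, ← e, mul_inv_cancel_right]
  have e2 : u⁻¹ * (x * u * x⁻¹) = 1 := mem_bot.1 (h.le ⟨mul_mem (U.inv_mem hu) (hU x hx u hu),
    e1 ▸ V.mul_mem hv (V.inv_mem (hV x hx v hv))⟩)
  have hu' : u ∈ centralizer {x} := mem_centralizer_singleton_iff.2 (by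
    rw [← mul_inv_eq_iff_eq_mul.1 (inv_mul_eq_one.1 e2).symm])
  exact mul_mem (mem_sup_left ⟨hu, hu'⟩) (mem_sup_right ⟨hv, (mul_mem_cancel_left hu').1 hw.2⟩)

theorem prod_fx_coset [Fintype Q] (hQ : Nrm (Q ⊔ zpowers g) Q) (W : Subgroup Γ)
    (hW : IsMulCommutative W) (hn : Nrm (Q ⊔ zpowers g) W) (hc : (Nat.card Q).Coprime (Nat.card W))
    (hab : ⁅Q, Q⁆ ≤ centralizer W) (h0 : W ⊓ centralizer Q = ⊥) :
    ∏ a : Q, fx W (g * a) ^ 2 ≤ Nat.card W ^ Nat.card Q := by
  induction W using WellFoundedLT.induction with | ind W ih =>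
  have hx : ∀ a : Q, g * a ∈ Q ⊔ zpowers g := fun a =>
    mul_mem (mem_sup_right (mem_zpowers g)) (mem_sup_left a.2)
  by_cases hQW : Q ≤ centralizer W
  · obtain rfl : W = ⊥ := by rwa [inf_eq_left.2 (le_centralizer_iff.1 hQW)] at h0
    simp [fx]
  obtain ⟨E, ⟨hEQ, hE, hEW⟩, hm⟩ := wellFounded_lt.has_min
    {E | E ≤ Q ∧ Nrm (Q ⊔ zpowers g) E ∧ ¬ E ≤ centralizer W} ⟨Q, le_rfl, hQ, hQW⟩
  obtain ⟨d, hd, hdW⟩ := SetLike.not_le_iff_exists.1 hEW
  have hEn := (hn.mono (hEQ.trans le_sup_left)).le_normalizer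
  have hc' := hc.coprime_dvd_left (card_dvd_of_le hEQ)
  have hV : ⁅W, E⁆ ≤ W := commutator_le_of_le_normalizer hEn
  have hU : Nrm (Q ⊔ zpowers g) (W ⊓ centralizer E) := hn.inf (nrm_of_le_normalizer
    (hE.le_normalizer.trans (normalizer_le_normalizer_centralizer_set _)))
  have h1 := centralizer_inf_commutator_eq_bot hEn hc'
  have hWW : ∀ {X Y : Subgroup Γ}, X ≤ W → Y ≤ W → Nrm X Y := fun h h' a ha b hb => by
    rwa [mul_comm_of_mem (h ha) (h' hb), mul_inv_cancel_right]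
  have h2 : ∀ a : Q, fx ⁅W, E⁆ (g * a) * fx ⁅W, E⁆ (g * (a * d)) ≤ Nat.card (⁅W, E⁆ : Subgroup Γ) :=
    fun a => by
    set T := (⁅W, E⁆ ⊓ centralizer {g * a}) ⊓ (⁅W, E⁆ ⊓ centralizer {g * (a * d)})
    have hT : T ≤ W := inf_le_left.trans (inf_le_left.trans hV)
    have a1 : g * a ∈ centralizer (T : Set Γ) := fun t ht => mem_centralizer_singleton_iff.1 ht.1.2
    have a2 : d ∈ centralizer (T : Set Γ) := (mul_mem_cancel_left a1).1 fun t ht => by
      rw [mul_assoc g]; exact mem_centralizer_singleton_iff.1 ht.2.2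
    have a3 : Q ≤ normalizer (E ⊓ centralizer T : Subgroup Γ) :=
      Nrm.le_normalizer fun q hq e he => ⟨hE q (mem_sup_left hq) e he.1,
        (mul_mem_cancel_right ((centralizer (T : Set Γ)).inv_mem he.2)).1
          (centralizer_le hT (hab (commutator_mem_commutator hq (hEQ he.1))))⟩
    have a4 : g * a ∈ normalizer (E ⊓ centralizer T : Subgroup Γ) :=
      inf_normalizer_le_normalizer_inf ⟨hE.le_normalizer (hx a), le_normalizer a1⟩
    have a5 : E ≤ centralizer T := by_contra fun h => hm (E ⊓ centralizer T)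
      ⟨inf_le_left.trans hEQ, nrm_of_le_normalizer (sup_le a3 (zpowers_le.2
        ((mul_mem_cancel_right (a3 a.2)).1 a4))), fun h' => hdW (h' ⟨hd, a2⟩)⟩
      (inf_lt_left.2 h)
    rw [fx, fx, ← card_sup_of_disjoint' (hWW (inf_le_left.trans hV)
      (inf_le_left.trans hV)).le_normalizer (eq_bot_iff.2 (le_trans (le_inf (le_inf hT
        (le_centralizer_iff.1 a5)) (inf_le_left.trans inf_le_left)) h1.le))]
    exact card_le_of_le (sup_le inf_le_left inf_le_left)
  have h3 := ih (W ⊓ centralizer E) (inf_lt_left.2 fun h => hEW (le_centralizer_iff.1 h))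
    (PGrp.isMulCommutative_of_le hW inf_le_left) hU (hc.coprime_dvd_right (card_dvd_of_le inf_le_left))
    (hab.trans (centralizer_le inf_le_left)) (eq_bot_iff.2 ((inf_le_inf_right _ inf_le_left).trans
      h0.le))
  have h4 : ∏ a : Q, fx ⁅W, E⁆ (g * a) ^ 2 ≤ Nat.card (⁅W, E⁆ : Subgroup Γ) ^ Nat.card Q := by
    simp only [sq, Finset.prod_mul_distrib]
    nth_rewrite 2 [← Equiv.prod_comp (Equiv.mulRight (⟨d, hEQ hd⟩ : Q))]
    rw [← Finset.prod_mul_distrib, Nat.card_eq_fintype_card (α := Q), ← Finset.card_univ]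
    exact Finset.prod_le_pow_card _ _ _ fun a _ => h2 a
  rw [card_eq_card_centralizer_mul_card_commutator hEn hc', mul_pow]
  refine le_trans ?_ (Nat.mul_le_mul h3 h4)
  rw [← Finset.prod_mul_distrib]
  refine Finset.prod_le_prod' fun a _ => ?_
  rw [← mul_pow]
  nth_rewrite 1 [← centralizer_sup_commutator_eq hEn hc']
  exact Nat.pow_le_pow_left (fx_sup_le (hx a) hU (hn.commutator hE) (hWW hV inf_le_left) h1) 2

theorem prod_fx_chief {G : Type*} [Group G] [Fintype G] {π : G →* Γ} (hπ : Function.Surjective π)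
    [Group.IsSolvable Γ] (hV : Chief ⊤ V ⊥) (hz : centralizer (V : Set Γ) ≠ ⊤) :
    ∏ g, fx V (π g) ^ 2 ≤ Nat.card V ^ Nat.card G := by
  have := hV.nK.normal
  obtain ⟨A, -, hA⟩ := exists_chief_above hz.lt_top le_rfl (nrm_of_normal ⊤ _) (nrm_self ⊤)
  have hab := hA.abelian (solvMod_of_isSolvable _ _)
  obtain ⟨q, hq, -, k, -, hk⟩ := hA.exists_prime hab
  have hVab := hV.abelian (solvMod_of_isSolvable _ _)
  obtain ⟨r, hr, -, l, -, hl⟩ := hV.exists_prime hVab
  have : Fact q.Prime := ⟨hq⟩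
  obtain ⟨Q, hQ⟩ := Amalg.exists_syl q A
  have := Fintype.ofFinite Q
  have e := hQ.sup_eq_of_relIndex_pow hA.lt.le hk
  have := hA.nK.normal
  have h0 : V ⊓ centralizer Q = ⊥ := by
    rcases hV.max (V ⊓ centralizer A) bot_le inf_le_left (nrm_of_normal _ _) with h | h
    · exact eq_bot_iff.2 ((le_inf inf_le_left (le_centralizer_iff.1 (e ▸ sup_le
        (centralizer_le inf_le_left) (le_centralizer_iff.1 inf_le_right)))).trans h.le)
    · exact (hA.lt.not_ge (le_centralizer_iff.1 (inf_eq_left.1 h))).elim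
  rw [relIndex_bot_left] at hl
  have hc : (Nat.card Q).Coprime (Nat.card V) := by
    rw [hQ.card_eq_pow, hl]
    refine ((Nat.coprime_primes hq hr).2 ?_).pow _ _
    rintro rfl
    exact Amalg.inf_center_ne_bot ((IsPGroup.of_card hl).to_sup_of_normal_left hQ.isPGroup) le_sup_left
      (nrm_of_normal _ V).le_normalizer hV.lt.ne' (eq_bot_iff.2 ((inf_le_inf_left _
        (centralizer_le (SetLike.coe_subset_coe.2 le_sup_right))).trans h0.le))
  have h1 : ∀ y, ∏ a : Q, fx V (y * a) ^ 2 ≤ Nat.card V ^ Nat.card Q := fun y => by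
    obtain ⟨n, hn, b, hb, rfl⟩ := hQ.frattini_mem (g := y) ((nrm_of_normal ⊤ A).le_normalizer trivial)
    obtain ⟨c, hc', a, ha, rfl⟩ := mem_sup_of_normal_left.1 (e.ge hn)
    refine le_of_eq_of_le (Finset.prod_congr rfl fun d _ => ?_) (prod_fx_coset (g := a * b)
      (nrm_of_le_normalizer (sup_le le_normalizer (zpowers_le.2 (mul_mem (le_normalizer ha) hb))))
      V ⟨⟨fun x y => Subtype.ext (commutatorElement_eq_one_iff_mul_comm.1
        (hVab (commutator_mem_commutator x.2 y.2)))⟩⟩ (nrm_of_normal _ _) hc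
      ((commutator_mono hQ.le hQ.le).trans hab) h0)
    refine congrArg (fun X : Subgroup Γ => Nat.card X ^ 2) (Subgroup.ext fun v => ?_)
    refine and_congr_right fun hv => ?_
    change v ∈ centralizer _ ↔ v ∈ centralizer _
    rw [mem_centralizer_singleton_iff, mem_centralizer_singleton_iff, mul_assoc c, mul_assoc c,
      ← mul_assoc v, hc' v hv, mul_assoc c, mul_assoc c, mul_right_inj]
  refine (Nat.pow_le_pow_iff_left (Nat.card_pos (α := Q)).ne').1 ?_
  rw [← pow_mul, mul_comm, pow_mul, Nat.card_eq_fintype_card (α := G), ← Finset.card_univ]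
  refine le_of_eq_of_le ?_ (Finset.prod_le_pow_card _ _ _ fun g _ => h1 (π g))
  rw [Finset.prod_comm, Nat.card_eq_fintype_card, ← Finset.card_univ, ← Finset.prod_const]
  refine Finset.prod_congr rfl fun a _ => ?_
  obtain ⟨b, hb⟩ := hπ a
  rw [← Equiv.prod_comp (Equiv.mulRight b), ← hb]
  simp

end Cfsg.Lib.Coprime
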