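import Mathlib

/-! Normal bases for free actions on semilocal rings; free modules over a Frobenius complement. -/

set_option autoImplicit false

namespace Cfsg.Lib.FreeMod

open scoped Pointwise

theorem field_nb {H K : Type*} [Group H] [Fintype H] [Field K] [MulSemiringAction H K] [FaithfulSMul H K] :
    ∃ θ : K, ∀ a : H → K, (∀ t : H, ∑ s, a s * (s * t) • θ = 0) → a = 0 := by
  let L := FixedPoints.subfield H K
  let b := IsGalois.normalBasis L K
  refine ⟨b 1, fun a ha => ?_⟩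
  have h1 : ∀ e, ∑ s, a s * s • b e = 0 := fun e => by
    obtain ⟨t, rfl⟩ := FixedPoints.toAlgAut_surjective H K e
    rw [IsGalois.normalBasis_apply]
    simpa [mul_smul] using ha t
  have key : ∀ x : K, ∑ s, a s * s • x = 0 := by
    intro x
    rw [← b.sum_repr x]
    simp only [Finset.smul_sum, Finset.mul_sum]
    rw [Finset.sum_comm]
    refine Finset.sum_eq_zero fun e _ => ?_
    have h2 : ∀ s : H, a s * s • (b.repr x e • b e) = (b.repr x e : K) * (a s * s • b e) := fun s => by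
      rw [Subfield.smul_def, smul_eq_mul, smul_mul', (b.repr x e).2 s]; ring
    simp only [h2, ← Finset.mul_sum, h1, mul_zero]
  have li := (linearIndependent_monoidHom K K).comp (fun s : H => (MulSemiringAction.toRingHom H K s : K →* K))
    fun s t e => eq_of_smul_eq_smul fun x : K => DFunLike.congr_fun e x
  exact funext (Fintype.linearIndependent_iff.1 li a (funext fun x => by simpa using key x))

theorem ring_nb {H R : Type*} [Group H] [Fintype H] [DecidableEq H] [CommRing R] [Finite (MaximalSpectrum R)]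
    [MulSemiringAction H R] (hfree : ∀ m : Ideal R, m.IsMaximal → ∀ h : H, (∀ x, h • x - x ∈ m) → h = 1) :
    ∃ θ : R, IsUnit (Matrix.of fun g h : H => (g * h) • θ).det := by
  classical
  have loc : ∀ m : MaximalSpectrum R, ∃ θ : R, ∀ a : MulAction.stabilizer H m.1 → R,
      (∀ t : MulAction.stabilizer H m.1, ∑ s, a s * ((s : H) * t) • θ ∈ m.1) → ∀ s, a s ∈ m.1 := fun m => by
    haveI := m.2
    letI := Ideal.Quotient.field m.1
    letI := MulSemiringAction.compHom (R ⧸ m.1) (Ideal.Quotient.stabilizerHom m.1 (m.1.under ℤ) H)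
    have hs : ∀ (s : MulAction.stabilizer H m.1) (x : R),
        s • (Ideal.Quotient.mk m.1 x) = Ideal.Quotient.mk m.1 ((s : H) • x) := fun _ _ => rfl
    haveI : FaithfulSMul (MulAction.stabilizer H m.1) (R ⧸ m.1) := ⟨fun {s t} h => by
      have := hfree m.1 m.2 ((t⁻¹ * s : MulAction.stabilizer H m.1) : H) fun x => by
        rw [← Ideal.Quotient.eq, ← hs, mul_smul, h, inv_smul_smul]
      exact (inv_mul_eq_one.1 (Subtype.ext this)).symm⟩
    obtain ⟨θ, hθ⟩ := field_nb (H := MulAction.stabilizer H m.1) (K := R ⧸ m.1)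
    obtain ⟨θ, rfl⟩ := Ideal.Quotient.mk_surjective θ
    refine ⟨θ, fun a ha s => Ideal.Quotient.eq_zero_iff_mem.1 (congrFun (hθ (fun s => Ideal.Quotient.mk _ (a s)) fun t => ?_) s)⟩
    have := Ideal.Quotient.eq_zero_iff_mem.2 (ha t)
    simpa [hs] using this
  choose θ hθ using loc
  let rep : Ideal R → Ideal R := fun m => (Quotient.mk (MulAction.orbitRel H (Ideal R)) m).out
  have hrep : ∀ m, ∃ g : H, g • m = rep m := fun m => Quotient.mk_out (s := MulAction.orbitRel H (Ideal R)) m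
  have hrep' : ∀ (m : Ideal R) (g : H), rep (g • m) = rep m := fun m g =>
    congrArg Quotient.out (Quotient.sound ⟨g, rfl⟩)
  have hmax : ∀ (m : Ideal R) (g : H), m.IsMaximal → (g • m).IsMaximal := fun m g h =>
    Ideal.map_isMaximal_of_equiv (MulSemiringAction.toRingEquiv H R g)
  obtain ⟨x, hx⟩ := Ideal.exists_forall_sub_mem_ideal (I := fun m : MaximalSpectrum R => m.1)
    (fun m n h => Ideal.isCoprime_iff_sup_eq.2 (m.2.coprime_of_ne n.2 fun e => h (MaximalSpectrum.ext e)))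
    fun m => if rep m.1 = m.1 then θ m else 0
  refine ⟨x, ?_⟩
  set M := Matrix.of fun g h : H => (g * h) • x with hM
  have key : ∀ m : MaximalSpectrum R, rep m.1 = m.1 → M.det ∉ m.1 := fun m hm hd => by
    haveI := m.2
    letI := Ideal.Quotient.field m.1
    rw [← Ideal.Quotient.eq_zero_iff_mem, RingHom.map_det] at hd
    obtain ⟨a, ha0, ha⟩ := Matrix.exists_vecMul_eq_zero_iff.2 hd
    choose b hb using fun g => Ideal.Quotient.mk_surjective (a g)
    refine ha0 (funext fun g₀ => ?_)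
    have := hθ m (fun s => b (s * g₀)) (fun t => by
      have h1 := congrFun ha (g₀⁻¹ * t)
      simp only [Matrix.vecMul, dotProduct, RingHom.mapMatrix_apply, Matrix.map_apply, hM, Matrix.of_apply, ← hb,
        ← map_mul, ← map_sum, Pi.zero_apply, Ideal.Quotient.eq_zero_iff_mem] at h1
      rw [← Equiv.sum_comp (Equiv.mulRight g₀),
        ← Fintype.sum_subtype_add_sum_subtype (· ∈ MulAction.stabilizer H m.1)] at h1
      simp only [Equiv.coe_mulRight, mul_assoc, mul_inv_cancel_left] at h1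
      have h2 : ∑ i : {i // i ∉ MulAction.stabilizer H m.1}, b (i * g₀) * ((i : H) * t) • x ∈ m.1 :=
        Ideal.sum_mem _ fun i _ => Ideal.mul_mem_left _ _ (by
          have h3 := hx ⟨((i : H) * t)⁻¹ • m.1, hmax _ _ m.2⟩
          rw [if_neg, sub_zero] at h3
          · exact Ideal.mem_inv_pointwise_smul_iff.1 h3
          · rw [hrep', hm, eq_inv_smul_iff]
            exact fun e => i.2 ((Subgroup.mul_mem_cancel_right _ t.2).1 e))
      have h3 := (Ideal.add_mem_iff_left _ h2).1 h1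
      have h4 : ∑ s : MulAction.stabilizer H m.1, b (s * g₀) * ((s : H) * t) • (x - θ m) ∈ m.1 :=
        Ideal.sum_mem _ fun s _ => Ideal.mul_mem_left _ _ (by
          have h5 := hx m
          rw [if_pos hm] at h5
          have h6 := Ideal.smul_mem_pointwise_smul ((s : H) * t) _ _ h5
          rwa [show ((s : H) * t) • m.1 = m.1 from (s * t).2] at h6)
      have h5 := sub_mem h3 h4
      rw [← Finset.sum_sub_distrib] at h5
      simpa [smul_sub, mul_sub] using h5) 1
    simpa [← hb, Ideal.Quotient.eq_zero_iff_mem] using this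
  by_contra hu
  obtain ⟨m, hm, hd⟩ := exists_max_ideal_of_mem_nonunits hu
  obtain ⟨g, hg⟩ := hrep m
  refine key ⟨g • m, hmax m g hm⟩ ((hrep' m g).trans hg.symm) ?_
  have h1 : g • M.det = Equiv.Perm.sign (Equiv.mulLeft g) * M.det := by
    rw [← Matrix.det_permute]
    refine ((MulSemiringAction.toRingHom H R g).map_det M).trans (congrArg _ ?_)
    ext i j
    simp [hM, mul_smul]
  have h2 := Ideal.smul_mem_pointwise_smul g _ _ hd
  rw [h1] at h2
  rcases Int.units_eq_one_or (Equiv.Perm.sign (Equiv.mulLeft g)) with e | e <;> simpa [e] using h2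

variable {k A V : Type*} [Field k] [Group A] [AddCommGroup V] [Module k V]

/-- The subspace `U` is a free module for `H`. -/
def Fr (ρ : Representation k A V) (H : Subgroup A) [Fintype H] (U : Submodule k V) : Prop :=
  ∃ W ≤ U, (∀ w : H → V, (∀ h, w h ∈ W) → ∑ h : H, ρ h (w h) = 0 → w = 0) ∧
    ∀ v ∈ U, ∃ w : H → V, (∀ h, w h ∈ W) ∧ ∑ h : H, ρ h (w h) = v

theorem sum_fixed (ρ : Representation k A V) (Z : Subgroup A) [Fintype Z] (v : V) {z : A} (hz : z ∈ Z) :
    ρ z (∑ y : Z, ρ y v) = ∑ y : Z, ρ y v := by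
  rw [map_sum, ← Equiv.sum_comp (Equiv.mulLeft (⟨z, hz⟩ : Z)) fun y : Z => ρ y v]
  simp

open scoped IsMulCommutative in
theorem fr_of_comm [FiniteDimensional k V] (ρ : Representation k A V) (H Z : Subgroup A) [Fintype H] [Finite Z]
    [hZ : Z.Normal] (hk : (Nat.card Z : k) ≠ 0) (hc : ∀ x ∈ Z, ∀ y ∈ Z, ρ x * ρ y = ρ y * ρ x)
    (h0 : ∀ v, (∀ z ∈ Z, ρ z v = v) → v = 0)
    (hf : ∀ h ∈ H, h ≠ 1 → ∀ z ∈ Z, ∃ y ∈ Z, z = y⁻¹ * (h * y * h⁻¹)) : Fr ρ H ⊤ := by
  classical
  haveI := Fintype.ofFinite Z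
  let R := Algebra.adjoin k (ρ '' Z)
  haveI : IsMulCommutative R := Algebra.isMulCommutative_adjoin k (by
    rintro _ ⟨x, hx, rfl⟩ _ ⟨y, hy, rfl⟩; exact hc x hx y hy)
  have hinv : ∀ g : A, ρ g⁻¹ * ρ g = 1 := fun g => by rw [← map_mul, inv_mul_cancel, map_one]
  have hmem : ∀ (g : A) (r : Module.End k V), r ∈ R → ρ g * r * ρ g⁻¹ ∈ R := fun g r hr => by
    induction hr using Algebra.adjoin_induction with
    | mem x hx =>
      obtain ⟨x, hx, rfl⟩ := hx
      exact Algebra.subset_adjoin ⟨_, hZ.conj_mem x hx g, by simp only [map_mul]⟩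
    | algebraMap c =>
      rw [← Algebra.commutes, mul_assoc, ← map_mul, mul_inv_cancel, map_one, mul_one]
      exact R.algebraMap_mem c
    | add x y _ _ hx hy => rw [mul_add, add_mul]; exact add_mem hx hy
    | mul x y _ _ hx hy =>
      have := mul_mem hx hy
      rwa [mul_assoc, ← mul_assoc (ρ g⁻¹), ← mul_assoc (ρ g⁻¹), hinv, one_mul, ← mul_assoc, mul_assoc (ρ g)] at this
  letI : MulSemiringAction H R :=
    { smul := fun h r => ⟨ρ h * r * ρ (h : A)⁻¹, hmem h r r.2⟩
      one_smul := fun r => Subtype.ext (show ρ (1 : A) * r * ρ (1 : A)⁻¹ = r by simp)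
      mul_smul := fun g h r => Subtype.ext (show ρ (g * h : A) * r * ρ (g * h : A)⁻¹ =
        ρ g * (ρ h * r * ρ (h : A)⁻¹) * ρ (g : A)⁻¹ by simp only [mul_inv_rev, map_mul, mul_assoc])
      smul_zero := fun h => Subtype.ext (show ρ h * 0 * ρ (h : A)⁻¹ = 0 by simp)
      smul_add := fun h r s => Subtype.ext (show ρ h * (r + s) * ρ (h : A)⁻¹ =
        ρ h * r * ρ (h : A)⁻¹ + ρ h * s * ρ (h : A)⁻¹ by rw [mul_add, add_mul])
      smul_one := fun h => Subtype.ext (show ρ h * 1 * ρ (h : A)⁻¹ = 1 by rw [mul_one, ← map_mul]; simp)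
      smul_mul := fun h r s => Subtype.ext (show ρ h * (r * s) * ρ (h : A)⁻¹ =
        ρ h * r * ρ (h : A)⁻¹ * (ρ h * s * ρ (h : A)⁻¹) by
          rw [mul_assoc _ (ρ (h : A)⁻¹), ← mul_assoc (ρ (h : A)⁻¹), ← mul_assoc (ρ (h : A)⁻¹), hinv]
          simp only [mul_assoc, one_mul]) }
  have hs : ∀ (h : H) (r : R), ((h • r : R) : Module.End k V) = ρ h * r * ρ (h : A)⁻¹ := fun _ _ => rfl
  haveI : IsArtinianRing R := IsArtinianRing.of_finite k R
  let e : Z → R := fun z => ⟨ρ z, Algebra.subset_adjoin ⟨z, z.2, rfl⟩⟩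
  obtain ⟨θ, hθ⟩ := ring_nb (H := H) (R := R) fun m hm h hh => by
    by_contra h1
    have h2 : ∀ z : Z, e z - 1 ∈ m := fun z => by
      obtain ⟨y, hy, ez⟩ := hf h h.2 (fun e => h1 (Subtype.ext e)) z z.2
      have := m.mul_mem_left (e ⟨y⁻¹, inv_mem hy⟩) (hh (e ⟨y, hy⟩))
      convert this using 1
      refine Subtype.ext ?_
      show ρ z - 1 = ρ y⁻¹ * (ρ h * ρ y * ρ (h : A)⁻¹ - ρ y)
      rw [ez, mul_sub, hinv]; simp only [map_mul]
    have h3 := m.sum_mem (t := Finset.univ) fun z _ => h2 z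
    have h4 : ∑ z, e z = 0 := Subtype.ext (LinearMap.ext fun v => h0 _ fun z hz => by
      simpa [e] using sum_fixed ρ Z v hz)
    rw [Finset.sum_sub_distrib, h4, zero_sub, neg_mem_iff, Finset.sum_const, Finset.card_univ,
      ← Nat.card_eq_fintype_card, ← Nat.cast_smul_eq_nsmul k, ← Algebra.algebraMap_eq_smul_one] at h3
    exact hm.ne_top (m.eq_top_of_isUnit_mem h3 ((IsUnit.mk0 _ hk).map _))
  set M := Matrix.of fun g h : H => (g * h) • θ with hM
  have mulv : ∀ (P Q : Matrix H H R) (w : H → V) i,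
      ∑ g, (P i g : Module.End k V) (∑ h, (Q g h : Module.End k V) (w h)) = ∑ h, ((P * Q) i h : Module.End k V) (w h) :=
    fun P Q w i => by
      simp only [map_sum, Matrix.mul_apply, AddSubmonoidClass.coe_finsetSum, LinearMap.sum_apply]
      rw [Finset.sum_comm]; rfl
  have one : ∀ (w : H → V) i, ∑ h, (((1 : Matrix H H R) i h : R) : Module.End k V) (w h) = w i := fun w i => by
    rw [Finset.sum_eq_single i (fun j _ hj => by simp [Matrix.one_apply_ne hj.symm]) (by simp)]; simp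
  have inj : ∀ w : H → V, (∀ g, ∑ h, (M g h : Module.End k V) (w h) = 0) → w = 0 := fun w hw => funext fun i => by
    rw [← one w i, ← Matrix.nonsing_inv_mul M hθ, ← mulv]; simp [hw]
  have act : ∀ (g h i : H) (v : V), ρ g ((M h i : Module.End k V) v) = (M (g * h) i : Module.End k V) (ρ g v) :=
    fun g h i v => by
      simp only [hM, Matrix.of_apply, mul_assoc g, mul_smul g, hs g, Module.End.mul_apply]
      rw [← Module.End.mul_apply (ρ (g : A)⁻¹), hinv]; rfl
  have act' : ∀ (h : H) (v : V), (∀ g : H, ρ g v = v) → ρ h (θ.1 v) = (M 1 h : Module.End k V) v := fun h v hv => by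
    simp only [hM, Matrix.of_apply, one_mul, hs, Module.End.mul_apply]
    rw [← Subgroup.coe_inv, hv]
  let C : Submodule k V := ⨅ g : H, LinearMap.eqLocus (ρ g) LinearMap.id
  have hC : ∀ v, v ∈ C ↔ ∀ g : H, ρ g v = v := fun v => by simp [C]
  refine ⟨C.map θ.1, le_top, fun w hw h => ?_, fun v _ => ?_⟩
  · choose u hu eu using hw
    have := inj u fun g => by
      have h1 := congrArg (ρ g) h
      simp only [← eu, act' _ _ ((hC _).1 (hu _)), map_sum, act, (hC _).1 (hu _), mul_one, map_zero] at h1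
      exact h1
    exact funext fun i => by simp [← eu, this]
  · let u : H → V := fun i => ∑ g, (M⁻¹ i g : Module.End k V) (ρ g v)
    have h1 : ∀ g, ∑ h, (M g h : Module.End k V) (u h) = ρ g v := fun g => by
      rw [mulv, Matrix.mul_nonsing_inv M hθ, one]
    have h2 : ∀ i, u i ∈ C := fun i => (hC _).2 fun σ => sub_eq_zero.1 (congrFun (inj (fun h => ρ σ (u h) - u h) fun g => by
      have h3 := congrArg (ρ σ) (h1 (σ⁻¹ * g))
      simp only [map_sum, act, mul_inv_cancel_left] at h3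
      simp only [map_sub, Finset.sum_sub_distrib, h3, h1]
      rw [← Module.End.mul_apply, ← map_mul]; simp) i)
    refine ⟨fun i => θ.1 (u i), fun i => Submodule.mem_map_of_mem (h2 i), ?_⟩
    simp only [act' _ _ ((hC _).1 (h2 _)), h1]
    simp

theorem Fr.of_sub {ρ : Representation k A V} {H : Subgroup A} [Fintype H] {U : Submodule k V}
    {hU : ∀ g, U ≤ U.comap (ρ g)} (h : Fr (ρ.subrepresentation U hU) H ⊤) : Fr ρ H U := by
  obtain ⟨W, -, h1, h2⟩ := h
  have e : ∀ w : H → U, ((∑ h : H, ρ.subrepresentation U hU h (w h) : U) : V) = ∑ h : H, ρ h (w h) := fun w => by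
    simp [Representation.subrepresentation]
  refine ⟨W.map U.subtype, Submodule.map_subtype_le _ _, fun w hw h => ?_, fun v hv => ?_⟩
  · choose u hu eu using hw
    have := h1 u hu (Subtype.ext (by rw [e]; simpa [← eu] using h))
    exact funext fun i => by simp [← eu, this]
  · obtain ⟨w, hw, ew⟩ := h2 ⟨v, hv⟩ trivial
    exact ⟨fun i => w i, fun i => Submodule.mem_map_of_mem (hw i), by rw [← e, ew]⟩

theorem Fr.sup {ρ : Representation k A V} {H : Subgroup A} [Fintype H] {U U' : Submodule k V}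
    (hU : ∀ g, U ≤ U.comap (ρ g)) (hU' : ∀ g, U' ≤ U'.comap (ρ g)) (hd : Disjoint U U') (h : Fr ρ H U) (h' : Fr ρ H U') :
    Fr ρ H (U ⊔ U') := by
  obtain ⟨W, hW, h1, h2⟩ := h
  obtain ⟨W', hW', h1', h2'⟩ := h'
  refine ⟨W ⊔ W', sup_le_sup hW hW', fun w hw h => ?_, fun v hv => ?_⟩
  · choose a ha b hb e using fun i => Submodule.mem_sup.1 (hw i)
    simp only [← e, map_add, Finset.sum_add_distrib] at h
    have m1 : ∑ h : H, ρ h (a h) ∈ U := U.sum_mem fun i _ => hU _ (hW (ha i))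
    have m2 : ∑ h : H, ρ h (b h) ∈ U' := U'.sum_mem fun i _ => hU' _ (hW' (hb i))
    have z1 : ∑ h : H, ρ h (a h) = 0 :=
      Submodule.disjoint_def.1 hd _ m1 (by rw [eq_neg_of_add_eq_zero_left h]; exact neg_mem m2)
    rw [z1, zero_add] at h
    exact funext fun i => by simp [← e, h1 a ha z1, h1' b hb h]
  · obtain ⟨a, ha, b, hb, rfl⟩ := Submodule.mem_sup.1 hv
    obtain ⟨w, hw, rfl⟩ := h2 a ha
    obtain ⟨w', hw', rfl⟩ := h2' b hb
    exact ⟨w + w', fun i => Submodule.add_mem_sup (hw i) (hw' i), by simp [Finset.sum_add_distrib]⟩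

open Subgroup in
theorem fr_of_solvable [Finite A] [FiniteDimensional k V] (ρ : Representation k A V) (H : Subgroup A) [Fintype H]
    (n : ℕ) : ∀ (Z : Subgroup A) [Z.Normal], Nat.card Z = n → Group.IsSolvable Z → (Nat.card Z : k) ≠ 0 →
    (∀ h ∈ H, h ≠ 1 → ∀ z ∈ Z, Commute h z → z = 1) → ∀ U : Submodule k V, (∀ g, U ≤ U.comap (ρ g)) →
    (∀ v ∈ U, (∀ z ∈ Z, ρ z v = v) → v = 0) → Fr ρ H U := by
  classical
  induction n using Nat.strong_induction_on with | _ n ih => ?_
  intro Z hZ hn hs hk hf U hU h0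
  by_cases hb : Z = ⊥
  · refine ⟨⊥, bot_le, fun w hw _ => funext fun i => hw i, fun v hv => ⟨0, fun _ => rfl, ?_⟩⟩
    simp [h0 v hv fun z hz => by rw [hb, mem_bot] at hz; simp [hz]]
  have hlt : ⁅Z, Z⁆ < Z := by
    haveI := (nontrivial_iff_ne_bot Z).2 hb
    refine lt_of_le_of_ne (commutator_le_left _ _) fun e => (Group.IsSolvable.commutator_lt_top_of_nontrivial Z).ne ?_
    refine map_injective Z.subtype_injective ?_
    rw [map_subtype_commutator, e, ← MonoidHom.range_eq_map, range_subtype]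
  set Y := ⁅Z, Z⁆ with hY
  haveI := Fintype.ofFinite Y
  have hkY : (Nat.card Y : k) ≠ 0 := fun e => hk (by
    obtain ⟨c, hc⟩ := card_dvd_of_le hlt.le
    rw [hc, Nat.cast_mul, e, zero_mul])
  let e : Module.End k V := ∑ y : Y, ρ y
  have he : ∀ v, e v = ∑ y : Y, ρ y v := fun v => by simp [e]
  have hcm : ∀ g v, e (ρ g v) = ρ g (e v) := fun g v => by
    rw [he, he, map_sum, ← Equiv.sum_comp (MulAut.conjNormal (H := Y) g).toEquiv]
    refine Finset.sum_congr rfl fun y _ => ?_
    rw [← Module.End.mul_apply, ← Module.End.mul_apply, ← map_mul, ← map_mul]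
    simp
  have hfx : ∀ v, (∀ y ∈ Y, ρ y v = v) → e v = (Nat.card Y : k) • v := fun v hv => by
    rw [he, Finset.sum_congr rfl fun y _ => hv y.1 y.2]
    simp [Nat.cast_smul_eq_nsmul]
  let C : Submodule k V := ⨅ y : Y, LinearMap.eqLocus (ρ y) LinearMap.id
  have hC : ∀ v, v ∈ C ↔ ∀ y ∈ Y, ρ y v = v := fun v => by simp [C]
  have i1 : ∀ g, U ⊓ C ≤ (U ⊓ C).comap (ρ g) := fun g v hv => ⟨hU g hv.1, (hC _).2 fun y hy => by
    have := (hC v).1 hv.2 _ ((inferInstance : Y.Normal).conj_mem' y hy g)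
    rw [← Module.End.mul_apply, ← map_mul, show y * g = g * (g⁻¹ * y * g) by group, map_mul, Module.End.mul_apply, this]⟩
  have i2 : ∀ g, U ⊓ LinearMap.ker e ≤ (U ⊓ LinearMap.ker e).comap (ρ g) := fun g v hv =>
    ⟨hU g hv.1, by rw [SetLike.mem_coe, LinearMap.mem_ker, hcm, LinearMap.mem_ker.1 hv.2, map_zero]⟩
  have z : ∀ v, (∀ y ∈ Y, ρ y v = v) → e v = 0 → v = 0 := fun v h1 h2 =>
    (smul_eq_zero.1 ((hfx v h1).symm.trans h2)).resolve_left hkY
  have hsup : U ⊓ C ⊔ U ⊓ LinearMap.ker e = U := le_antisymm (sup_le inf_le_left inf_le_left) fun v hv => by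
    have m1 : e v ∈ U := he v ▸ U.sum_mem fun y _ => hU _ hv
    have m2 : ∀ y ∈ Y, ρ y (e v) = e v := fun y hy => by rw [he, sum_fixed ρ Y v hy]
    refine Submodule.mem_sup.2 ⟨(Nat.card Y : k)⁻¹ • e v, Submodule.smul_mem _ _ ⟨m1, (hC _).2 m2⟩,
      v - (Nat.card Y : k)⁻¹ • e v, ⟨sub_mem hv (U.smul_mem _ m1), ?_⟩, by simp⟩
    rw [SetLike.mem_coe, LinearMap.mem_ker, map_sub, map_smul, hfx _ m2, inv_smul_smul₀ hkY, sub_self]
  rw [← hsup]
  refine Fr.sup i1 i2 (Submodule.disjoint_def.2 fun v h1 h2 => z v ((hC v).1 h1.2) h2.2)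
    (Fr.of_sub (hU := i1) (fr_of_comm _ H Z hk (fun x hx y hy => LinearMap.ext fun v => Subtype.ext ?_)
      (fun v hv => Subtype.ext (h0 v v.2.1 fun z hz => congrArg Subtype.val (hv z hz))) fun h hh h1 z hz => ?_))
    (ih _ (hn ▸ lt_of_le_of_ne (card_le_of_le hlt.le) fun he => hlt.ne (eq_of_le_of_card_ge hlt.le he.ge)) Y rfl (Group.isSolvable_of_isSolvable_injective (inclusion_injective hlt.le)) hkY
      (fun h hh h1 z hz => hf h hh h1 z (hlt.le hz)) _ i2 fun v hv h => z v h hv.2)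
  · show ρ x (ρ y v) = ρ y (ρ x v)
    have := (hC v).1 v.2.2 _ (commutator_mem_commutator (inv_mem hx) (inv_mem hy))
    conv_rhs => rw [← this]
    simp only [← Module.End.mul_apply, ← map_mul, commutatorElement_def]
    congr 2; group
  · let f : Z → Z := fun y => ⟨y⁻¹ * (h * y * h⁻¹), mul_mem (inv_mem y.2) (hZ.conj_mem _ y.2 h)⟩
    have : Function.Injective f := fun a b e => by
      have e1 : (a : A)⁻¹ * (h * a * h⁻¹) = (b : A)⁻¹ * (h * b * h⁻¹) := congrArg Subtype.val e
      have := hf h hh h1 (b * (a : A)⁻¹) (mul_mem b.2 (inv_mem a.2)) (by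
        calc h * (b * (a : A)⁻¹) = b * ((b : A)⁻¹ * (h * b * h⁻¹)) * h * (a : A)⁻¹ := by group
          _ = b * (a : A)⁻¹ * (h * a * h⁻¹) * h * (a : A)⁻¹ := by rw [← e1]; group
          _ = _ := by group)
      exact Subtype.ext (mul_inv_eq_one.1 this).symm
    obtain ⟨y, hy⟩ := Finite.surjective_of_injective this ⟨z, hz⟩
    exact ⟨y, y.2, (congrArg Subtype.val hy).symm⟩

theorem Fr.isInternal {ρ : Representation k A V} {H : Subgroup A} [Fintype H] [DecidableEq H] (h : Fr ρ H ⊤) :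
    ∃ W : Submodule k V, DirectSum.IsInternal fun h : H => W.map (ρ (h : A)) := by
  obtain ⟨W, -, h1, h2⟩ := h
  refine ⟨W, (DirectSum.isInternal_submodule_iff_iSupIndep_and_iSup_eq_top _).2 ⟨?_, eq_top_iff.2 fun v _ => ?_⟩⟩
  · refine (iSupIndep_iff_finsetSum_eq_zero_imp_eq_zero _).2 fun s v hv h i hi => ?_
    choose! w hw e using hv
    have := h1 (fun j => if j ∈ s then w j else 0) (fun j => by split_ifs with c; exacts [hw j c, W.zero_mem]) (by
      rw [← Finset.sum_subset (Finset.subset_univ s) (fun j _ c => by simp [c]), ← h]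
      exact Finset.sum_congr rfl fun j c => by simp [c, e j c])
    have := congrFun this i
    simp only [hi, if_true, Pi.zero_apply] at this
    rw [← e i hi, this, map_zero]
  · obtain ⟨w, hw, rfl⟩ := h2 v trivial
    exact Submodule.sum_mem _ fun i _ => Submodule.mem_iSup_of_mem i (Submodule.mem_map_of_mem (hw i))

end Cfsg.Lib.FreeMod
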