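/-
Characters of abelian sections of absolute value one off the identity; fixed point free cyclic
operator groups.
-/
import Cfsg.Agent.Lib.Coprime.Glaub3

set_option autoImplicit false

namespace Cfsg.Lib.Coprime

open Cfsg Cfsg.Lib.Char Cfsg.Lib.Clifford Finset Subgroup
open scoped ComplexConjugate Classical

theorem exists_almost_const {ι : Type*} (I : Finset ι) (hI : I.Nonempty) (a : ι → ℤ)
    (h : I.card * ∑ i ∈ I, a i ^ 2 = (∑ i ∈ I, a i) ^ 2 + (I.card - 1)) :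
    ∃ j ∈ I, ∃ c ε : ℤ, (ε = 1 ∨ ε = -1) ∧ a j = c + ε ∧ ∀ i ∈ I, i ≠ j → a i = c := by
  have h1 : ∑ i ∈ I, ∑ j ∈ I, (a j - a i) ^ 2 = 2 * (I.card - 1) := by
    simp only [sub_sq, sum_add_distrib, sum_sub_distrib, sum_const, nsmul_eq_mul, ← mul_sum,
      ← sum_mul]
    linear_combination 2 * h
  obtain ⟨i, hi, h2⟩ : ∃ i ∈ I, ∑ j ∈ I, (a j - a i) ^ 2 < 2 := exists_lt_of_sum_lt (by
    rw [h1, sum_const, nsmul_eq_mul]; linarith)
  by_cases h3 : ∀ j ∈ I, a j = a i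
  · rw [sum_congr rfl fun j hj => sum_eq_zero fun k hk => by rw [h3 j hj, h3 k hk]; simp,
      sum_const_zero] at h1
    obtain ⟨j, rfl⟩ := card_eq_one.1 (by omega : I.card = 1)
    exact ⟨j, mem_singleton_self j, a j - 1, 1, Or.inl rfl, by ring, fun i hi h =>
      (h (Finset.mem_singleton.1 hi)).elim⟩
  push Not at h3
  obtain ⟨j, hj, h3⟩ := h3
  have h4 := sq_pos_of_ne_zero (sub_ne_zero.2 h3)
  rw [← add_sum_erase _ _ hj] at h2
  have h5 := sum_nonneg fun k (_ : k ∈ I.erase j) => sq_nonneg (a k - a i)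
  refine ⟨j, hj, a i, a j - a i, sq_eq_one_iff.1 (by omega), by ring,
    fun k hk e => sub_eq_zero.1 (pow_eq_zero_iff two_ne_zero |>.1 ?_)⟩
  exact (sum_eq_zero_iff_of_nonneg fun k _ => sq_nonneg (a k - a i)).1 (by omega) k
    (mem_erase.2 ⟨e, hk⟩)

variable {Γ : Type*} [Group Γ] [Finite Γ] {G S C K L N H P T U D M : Subgroup Γ}
  {χ χ' ψ φ β γ θ η η' ξ : Γ → ℂ} {p : ℕ}

/-- A character of an abelian section `H / N` of absolute value one off `N` is a multiple of the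
regular character plus or minus a linear character. -/
theorem exists_almost_regular (hNH : N ≤ H) (hab : ⁅H, H⁆ ≤ N) (hψ : CharOn H ψ) (ht : Triv N ψ)
    (h : ∀ x ∈ H, x ∉ N → ψ x * conj (ψ x) = 1) : ∃ μ ∈ IrrKer H N, ∃ c ε : ℤ, (ε = 1 ∨ ε = -1) ∧
      (charDegree ψ : ℤ) = N.relIndex H * c + ε ∧ ∀ x ∈ H, x ∉ N → ψ x = ε * μ x := by
  have hN := nrm_of_commutator_le hNH hab
  have hc := card_IrrKer_of_abelian hNH hN hab
  have h0 : ∀ β ∈ Irr H, β ∉ IrrKer H N → mult H ψ β = 0 := fun β hβ h1 => by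
    by_contra h2
    exact h1 (mem_IrrKer.2 ⟨hβ, ht.of_dot hψ hNH (irrOn_of_mem hβ)
      ((hψ.mult_ne_zero (irrOn_of_mem hβ).charOn).1 h2)⟩)
  have h1 : ∀ x ∈ H, ψ x = ∑ β ∈ IrrKer H N, ((mult H ψ β : ℤ) : ℂ) * β x := fun x hx => by
    rw [hψ.classOn.eq_sum hx, ← sum_subset IrrKer_subset fun β hβ h1 => by
      rw [hψ.dot_eq_mult (irrOn_of_mem hβ).charOn, h0 β hβ h1]; simp]
    exact sum_congr rfl fun β hβ => by
      rw [hψ.dot_eq_mult (irrOn_of_mem (IrrKer_subset hβ)).charOn]; simp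
  have h2 : (charDegree ψ : ℤ) = ∑ β ∈ IrrKer H N, (mult H ψ β : ℤ) := by
    have := h1 1 (one_mem H)
    rw [hψ.one_eq, sum_congr rfl fun β hβ => by rw [(linOn_of_mem_IrrKer hab hβ).2, mul_one]] at this
    exact_mod_cast this
  have h3 : (N.relIndex H : ℤ) * ∑ β ∈ IrrKer H N, (mult H ψ β : ℤ) ^ 2 =
      (charDegree ψ : ℤ) ^ 2 + (N.relIndex H - 1) := by
    have a := hψ.mult_eq_sum hψ
    rw [← sum_subset IrrKer_subset fun β hβ h1 => by rw [h0 β hβ h1, mul_zero]] at a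
    have b := hψ.dot_eq_mult hψ
    rw [a, dot, ← sum_sdiff (elems_mono hNH), sum_congr rfl fun x hx => h x
      (mem_elems.1 (mem_sdiff.1 hx).1) (mt mem_elems.2 (mem_sdiff.1 hx).2),
      sum_congr (s₁ := elems N) rfl fun x hx => by rw [ht x (mem_elems.1 hx), hψ.one_eq],
      sum_const, sum_const, card_sdiff_of_subset (elems_mono hNH), card_elems, card_elems,
      nsmul_eq_mul, nsmul_eq_mul, Nat.cast_sub (card_le_of_le hNH), ← card_mul_relIndex hNH] at b
    have c := Clifford.card_ne_zero N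
    have d : (N.relIndex H : ℂ) ≠ 0 := by exact_mod_cast relIndex_ne_zero N H
    push_cast at b
    field_simp at b
    rw [map_natCast] at b
    have : (N.relIndex H : ℂ) * ∑ β ∈ IrrKer H N, (mult H ψ β : ℂ) ^ 2 =
        (charDegree ψ : ℂ) ^ 2 + (N.relIndex H - 1) := by linear_combination -b
    exact_mod_cast this
  obtain ⟨μ, hμ, c, ε, a1, a2, a3⟩ := exists_almost_const (IrrKer H N)
    ⟨_, cut_one_mem_IrrKer hNH⟩ (fun β => mult H ψ β) (by rw [hc, h3, h2])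
  have h4 : ∀ f : (Γ → ℂ) → ℂ, ∑ β ∈ IrrKer H N, ((mult H ψ β : ℤ) : ℂ) * f β =
      c * ∑ β ∈ IrrKer H N, f β + ε * f μ := fun f => by
    rw [← add_sum_erase _ _ hμ, ← add_sum_erase _ _ hμ, a2, sum_congr rfl fun β hβ => by
      rw [a3 β (mem_erase.1 hβ).2 (mem_erase.1 hβ).1], ← mul_sum]
    push_cast; ring
  refine ⟨μ, hμ, c, ε, a1, ?_, fun x hx hx' => ?_⟩
  · have := h4 fun _ => 1
    simp only [mul_one, sum_const, hc, nsmul_eq_mul] at this
    rw [h2, mul_comm]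
    exact_mod_cast this
  · have := sum_IrrKer_mul_apply hNH hN x
    rw [if_neg hx', sum_congr rfl fun β hβ => by
      rw [(linOn_of_mem_IrrKer hab hβ).2, one_mul]] at this
    rw [h1 x hx, h4 fun β => β x, this, mul_zero, zero_add]

/-- Averaging over a coset on which an element acts without fixed points modulo `N`. -/
theorem avg_eq_of_fpf [N.Normal] (hNG : N ≤ G) {x : Γ} (hx : ∀ k ∈ G, x * k * x⁻¹ ∈ G)
    (hf : ∀ g ∈ G, x * g * x⁻¹ * g⁻¹ ∈ N → g ∈ N) {f : Γ → ℂ}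
    (h : ∀ k ∈ G, ∀ y, f (k * y * k⁻¹) = f y) : PF.avg G x f = PF.avg N x f := by
  set q := QuotientGroup.mk' N
  set F : Γ ⧸ N → ℂ := fun y => ∑ n ∈ elems N, f (n * y.out * x)
  have hF : ∀ g, F (q g) = ∑ n ∈ elems N, f (n * g * x) := fun g => by
    obtain ⟨m, e⟩ := QuotientGroup.mk_out_eq_mul N g
    simp only [F, q, QuotientGroup.mk'_apply, e]
    rw [← sum_elems_mul_right (nrm_of_normal ⊤ N g trivial m m.2) fun n => f (n * g * x)]
    exact sum_congr rfl fun n _ => by congr 1; group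
  have h1 : ∑ y ∈ elems (G.map q), F (y * q x * y⁻¹ * (q x)⁻¹) = ∑ y ∈ elems (G.map q), F y := by
    have a : ∀ y ∈ elems (G.map q), y * q x * y⁻¹ * (q x)⁻¹ ∈ elems (G.map q) := fun y hy => by
      obtain ⟨g, hg, rfl⟩ := mem_elems.1 hy
      simpa [mul_assoc] using mem_elems.2 (mem_map_of_mem q (mul_mem hg (hx _ (inv_mem hg))))
    have b : ∀ y ∈ elems (G.map q), ∀ z ∈ elems (G.map q), y * q x * y⁻¹ * (q x)⁻¹ =
        z * q x * z⁻¹ * (q x)⁻¹ → y = z := fun y hy z hz e => by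
      obtain ⟨g, hg, rfl⟩ := mem_elems.1 hy
      obtain ⟨k, hk, rfl⟩ := mem_elems.1 hz
      refine QuotientGroup.eq.2 (hf _ (mul_mem (inv_mem hg) hk) ((QuotientGroup.eq_one_iff _).1 ?_))
      change q _ = 1
      simp only [map_mul, map_inv]
      calc q x * ((q g)⁻¹ * q k) * (q x)⁻¹ * ((q g)⁻¹ * q k)⁻¹ = q x * (q g)⁻¹ *
          (q k * q x * (q k)⁻¹ * (q x)⁻¹ * q x)⁻¹ * q g := by group
        _ = 1 := by rw [← e]; group
    exact sum_bij (fun y _ => y * q x * y⁻¹ * (q x)⁻¹) a (fun y hy z hz => b y hy z hz)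
      (fun z hz => by
        obtain ⟨y, hy, e⟩ := surj_on_of_inj_on_of_card_le _ a (fun y z hy hz => b y hy z hz)
          le_rfl z hz
        exact ⟨y, hy, e.symm⟩) fun _ _ => rfl
  have h2 := sum_elems_comp q G fun y => F (y * q x * y⁻¹ * (q x)⁻¹)
  rw [h1, ← sum_elems_comp] at h2
  simp only [← map_inv, ← map_mul, hF] at h2
  rw [sum_congr rfl fun k hk => (sum_elems_conj (nrm_of_normal ⊤ N) (mem_top k) _).symm,
    sum_congr rfl (g := fun _ => ∑ n ∈ elems N, f (n * x)) fun k hk => sum_congr rfl fun n _ => by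
      rw [← h k (mem_elems.1 hk) (n * x)]; congr 1; group, sum_comm (t := elems N) (f := fun g n => f (n * g * x)),
    sum_congr rfl fun n hn => sum_elems_mul_left (hNG (mem_elems.1 hn)) fun g => f (g * x),
    sum_const, sum_const, card_elems, card_elems, nsmul_eq_mul, nsmul_eq_mul] at h2
  have := Clifford.card_ne_zero N
  have := Clifford.card_ne_zero G
  unfold PF.avg
  field_simp
  rw [h2, mul_comm]

/-- Isaacs: a fully ramified section under a cyclic Frobenius complement. -/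
theorem exists_deg_of_fully_ramified [N.Normal] [G.Normal] (hNG : N ≤ G) {y : Γ}
    (hy : zpowers y ⊔ G = ⊤) (hG : G ≠ ⊤)
    (hf : ∀ x ∉ G, ∀ g ∈ G, x * g * x⁻¹ * g⁻¹ ∈ N → g ∈ N) (hθ : IrrOn N θ) (hi : InvOn ⊤ N θ)
    (hχ : IrrOn G χ) {e : ℕ} (h : ∀ g ∈ G, ind N G θ g = e * χ g) :
    ∃ c ε : ℤ, (ε = 1 ∨ ε = -1) ∧ (e : ℤ) = G.index * c + ε := by
  have hn := fun X => nrm_of_normal X N
  have hind := ind_of_invOn hNG (hn G) (hi.mono le_top le_rfl)
  have he : (e : ℂ) ≠ 0 := fun h0 => by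
    have := h 1 (one_mem G)
    rw [h0, zero_mul, ind_one hNG] at this
    exact mul_ne_zero (by exact_mod_cast relIndex_ne_zero N G) hθ.one_ne_zero this
  have h1 : dot N χ θ = e := dot_comm_of_nat (by
    rw [← dot_ind_left hNG θ hχ.classOn, dot_congr_left (φ' := (e : ℂ) • χ) h, dot_smul_left,
      hχ.dot_self, mul_one])
  have h2 : InvOn ⊤ G χ := fun g _ x hx => mul_left_cancel₀ he (by
    rw [← h x hx, ← h _ (nrm_of_normal ⊤ G g trivial x hx), hind, Pi.smul_apply, Pi.smul_apply,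
      hi.cut (hn ⊤) trivial])
  obtain ⟨η, h3, h4⟩ := exists_ext_of_zpowers hy (nrm_of_normal ⊤ G) hχ h2
  set H := zpowers y ⊔ N
  have hNH : N ≤ H := le_sup_right
  obtain ⟨τ, h5, h6⟩ := exists_ext_of_zpowers rfl (hn H) hθ (hi.mono le_top le_rfl)
  have hτ := (irrOn_of_mem h5).charOn
  have hτN : IrrOn N τ := hθ.congr fun x hx => (h6 x hx).symm
  have hη := (irrOn_of_mem h3).charOn
  have hηN : ∀ n ∈ N, η n = e * τ n := fun n hn' => by
    rw [h4 n (hNG hn'), clifford_invOn hNG (hn G) hχ hθ (hi.mono le_top le_rfl) (h1 ▸ he) hn',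
      mult_of_eq h1, h6 n hn']
  have hyG : y ∉ G := fun h => hG (by rw [← hy, sup_eq_right.2 (zpowers_le.2 h)])
  have hHG : ∀ x ∈ H, x ∈ G → x ∈ N := fun x hx hx' => by
    obtain ⟨_, ⟨k, rfl⟩, n, hn', rfl⟩ := mem_sup_of_normal_right.1 hx
    refine mul_mem (hf y hyG _ ((mul_mem_cancel_right (hNG hn')).1 hx') ?_) hn'
    simp [(Commute.refl y).zpow_right k |>.eq]
  have key : ∀ δ ∈ Irr H, ∃ β, CharOn H β ∧ Triv N β ∧
      ∀ x ∈ H, dot H η δ * δ x = β x * τ x := fun δ hδ => by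
    by_cases h0 : dot H η δ = 0
    · exact ⟨0, charOn_zero H, fun _ _ => rfl, fun x _ => by simp [h0]⟩
    obtain ⟨φ, a1, a2⟩ := (irrOn_of_mem hδ).exists_under hNH
    have a3 := CharOn.dot_ne_zero_trans hNH (hη.mono le_top) (irrOn_of_mem hδ)
      (irrOn_of_mem a1).charOn h0 a2
    rw [dot_congr_left (φ' := (e : ℂ) • τ) hηN, dot_smul_left] at a3
    rw [← dot_congr_right _ (hτN.eq_of_dot_ne_zero (irrOn_of_mem a1) (right_ne_zero_of_mul a3))] at a2
    obtain ⟨β, b1, b2⟩ := exists_mul_ext hNH (hn H) hτ hτN (irrOn_of_mem hδ) a2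
    refine ⟨(mult H η δ : ℂ) • β, (irrOn_of_mem (IrrKer_subset b1)).charOn.smul _, fun n hn' => by
      simp [(mem_IrrKer.1 b1).2 n hn'], fun x hx => ?_⟩
    rw [(hη.mono le_top).dot_eq_mult (irrOn_of_mem hδ).charOn, b2 x hx]
    simp [mul_assoc]
  choose! B b1 b2 b3 using key
  have hψ := charOn_sum _ b1
  have ht : Triv N (∑ δ ∈ Irr H, B δ) := fun n hn' => by
    rw [Finset.sum_apply, Finset.sum_apply]
    exact sum_congr rfl fun δ hδ => b2 δ hδ n hn'
  have h7 : ∀ x ∈ H, η x = (∑ δ ∈ Irr H, B δ) x * τ x := fun x hx => by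
    rw [(hη.mono le_top).classOn.eq_sum hx, Finset.sum_apply, sum_mul]
    exact sum_congr rfl fun δ hδ => b3 δ hδ x hx
  set ψ := ∑ δ ∈ Irr H, B δ
  obtain ⟨-, -, c, ε, a1, a2, -⟩ := exists_almost_regular hNH (commutator_le_of_sup
    (fun a ha b hb => mul_comm_of_mem ha hb) rfl (hn H) (hn H) fun g hg x hx =>
      mul_mem (hn H g hg x hx) (inv_mem hx)) hψ ht fun x hx hx' => by
    have a1 := avg_mul_star_self le_top (nrm_of_normal ⊤ G) hη
      (hχ.congr fun x hx => (h4 x hx).symm) (mem_top x)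
    have a2 := avg_mul_star_self hNH (hn H) hτ hτN hx
    rw [avg_eq_of_fpf hNG (nrm_of_normal ⊤ G x trivial) (hf x (mt (hHG x hx) hx')) fun k _ y =>
      (hη.mul hη.star).classOn k trivial y trivial] at a1
    unfold PF.avg at a1 a2
    rw [sum_congr rfl (g := fun n => ψ x * conj (ψ x) * (τ * star τ) (n * x)) fun n hn' => by
      have := mem_elems.1 hn'
      simp only [Pi.mul_apply, Pi.star_apply, h7 _ (mul_mem (hNH this) hx),
        ht.mul_left hψ hNH this hx, star_mul', RCLike.star_def]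
      ring, ← mul_sum, mul_left_comm, a2, mul_one] at a1
    exact a1
  refine ⟨c, ε, a1, ?_⟩
  rw [charDegree_of_eq (mul_right_cancel₀ hτN.one_ne_zero
    ((h7 1 (one_mem H)).symm.trans (hηN 1 (one_mem N))))] at a2
  rw [a2, ← relIndex_top_right, ← hy, relIndex_sup_right, relIndex_sup_right,
    ← inf_relIndex_right G, ← inf_relIndex_right N, le_antisymm (inf_le_inf_right (zpowers y) hNG)
      fun x hx => ⟨hHG x (mem_sup_left hx.2) hx.1, hx.2⟩]

theorem Canon.sign_pow (h : Canon G L η) (hGL : G ≤ L) (hN : Nrm L G) {s : Γ} (hs : s ∈ L)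
    (hc : (orderOf s).Coprime (Nat.card G))
    (hf : ∀ x ∈ zpowers s, x ≠ 1 → G ⊓ centralizer {x} = C) (hβ : β ∈ Irr C)
    (e : ∃ ε : ℤ, (ε = 1 ∨ ε = -1) ∧ ∀ c ∈ C, η (c * s) = ε * β c) (k : ℕ) (hk : s ^ k ≠ 1) :
    ∃ ε : ℤ, (ε = 1 ∨ ε = -1) ∧ ∀ c ∈ C, η (c * s ^ k) = ε * β c := by
  induction k using induction_on_primes with
  | zero => exact (hk (pow_zero s)).elim
  | one => rwa [pow_one]
  | prime_mul q a hq ih =>
  have := Fact.mk hq
  have hm := fun k => pow_mem (mem_zpowers s) k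
  obtain ⟨ε, h1, h2⟩ := ih fun h => hk (by rw [mul_comm, pow_mul, h, one_pow])
  obtain ⟨γ, hγ, ε', h3, h4⟩ := h.exists_sign hGL hN (pow_mem hs (q * a))
    (hc.coprime_dvd_left (orderOf_pow_dvd _))
  have hC := hf _ (hm _) hk
  rw [hC] at hγ h4
  by_cases h5 : γ = β
  · exact ⟨ε', h3, h5 ▸ h4⟩
  have h6 := charOn_intCast_eq (p := q) 1 (charOn_slice h.charOn (hC ▸ inf_le_left.trans hGL)
    (zpowers_le.2 (pow_mem hs a)) (fun c hc t ht => by
      obtain ⟨k, rfl⟩ := mem_zpowers_iff.1 ht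
      refine Commute.zpow_right (mem_centralizer_singleton_iff.1 ?_) k
      exact ((hf _ (hm a) fun h => hk (by rw [mul_comm, pow_mul, h, one_pow])).ge hc).2)
    (irrOn_of_mem hβ).charOn) (mem_zpowers _) (a := ε) (b := 0)
    (by rw [slice_of_eq h2, (irrOn_of_mem hβ).dot_self, mul_one])
    (by rw [pow_one, ← pow_mul, mul_comm, slice_of_eq h4, dot_irr_of_ne hγ hβ h5]; simp)
  rcases h1 with rfl | rfl <;> simp at h6

end Cfsg.Lib.Coprime
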