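import Cfsg.Agent.Lib.Coprime.S4Free
import Cfsg.Agent.Lib.Coprime.AbSyl
import Cfsg.Agent.Lib.FG.ONS
import Cfsg.Agent.Lib.Layer.PTerm
import Cfsg.Agent.Lib.Layer.PTerm2
import Cfsg.Agent.Lib.Linear.PUnip
import Cfsg.Agent.Lib.Linear.DicksonFin
import Cfsg.Agent.Lib.Linear.PSL2Small
import Cfsg.Agent.Lib.Hall.FC6
import Cfsg.Agent.Lib.Amalg.Bridge
import Cfsg.Agent.Lib.BG2.Rank
import Cfsg.Agent.Lib.PGrp.Critical

/-!
# Hall numbers
-/

set_option autoImplicit false

namespace Cfsg.Lib.Coprime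

open Subgroup Cfsg.Lib.Core Cfsg.Lib.Amalg Cfsg.Lib.Linear Cfsg.Lib.Fus2

universe u

variable {G : Type u} [Group G] [Finite G]

theorem exists_card_eq_of_pi {m : ℕ} (hd : m ∣ Nat.card G) (hc : m.Coprime (Nat.card G / m)) {H : Subgroup G}
    (h1 : m ∣ Nat.card H) (h2 : ∀ p, p.Prime → p ∣ Nat.card H → p ∣ m) : Nat.card H = m := by
  refine Nat.dvd_antisymm (Nat.Coprime.dvd_of_dvd_mul_right (n := Nat.card G / m) ?_ ?_) h1
  · exact Nat.Coprime.symm (Nat.coprime_of_dvd fun p hp h3 h4 =>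
      hp.one_lt.ne' (Nat.eq_one_of_dvd_coprimes hc (h2 p hp h4) h3))
  · rw [Nat.mul_div_cancel' hd]
    exact card_subgroup_dvd_card H

theorem exists_card_eq_of_solvable {m : ℕ} (hd : m ∣ Nat.card G) (hc : m.Coprime (Nat.card G / m)) (K : Subgroup G)
    (hK : Group.IsSolvable K) (h : m.Coprime K.index) : ∃ H : Subgroup G, Nat.card H = m := by
  obtain ⟨H, hH⟩ := Hall.exists_isPiHall (G := K) {p | p ∣ m}
  have e := card_map_of_injective (K := H) K.subtype_injective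
  exact ⟨H.map K.subtype, exists_card_eq_of_pi hd hc (e ▸ Hall.dvd_card_of_isPiHall hH (fun _ _ h => h)
    (h.dvd_of_dvd_mul_right (K.card_mul_index ▸ hd))) fun p hp h3 => hH.1 p hp (e ▸ h3)⟩

theorem four_dvd_of_simple [IsSimpleGroup G] (h : ¬ IsMulCommutative G) : 4 ∣ Nat.card G :=
  Layer.four_dvd_card_of_simple h (FT.even_card_of_simple G fun e => h ⟨⟨e⟩⟩).two_dvd

theorem solvable_of_not_four_dvd (h : ¬ 4 ∣ Nat.card G) : Group.IsSolvable G :=
  solvable_of_simple_sections fun X _ _ _ e => by_contra fun hc => h ((four_dvd_of_simple hc).trans (card_dvd_of_involves e))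

/-- a `2`-subgroup of order at least `4` whose normalizer has order divisible by `3` -/
def R43 (G : Type*) [Group G] : Prop := ∃ Q : Subgroup G, IsPGroup 2 Q ∧ 4 ∣ Nat.card Q ∧ 3 ∣ Nat.card (normalizer (Q : Set G))

theorem R43.lift {X : Type*} [Group X] (h : Involves X G) (hX : R43 X) : R43 G := by
  have := finite_of_involves h
  obtain ⟨H, f, hf⟩ := involves_iff.1 h
  obtain ⟨V, hp, hV, h3⟩ := hX
  obtain ⟨T, hT⟩ := exists_syl 2 (V.comap f)
  have hn : (normalizer (V : Set X)).comap f ≤ normalizer (V.comap f : Set H) := le_normalizer_comap f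
  have h1 := hT.frattini (comap_mono le_normalizer) hn
  have h2 : 3 ∣ (V.comap f).relIndex ((normalizer (V : Set X)).comap f) := by
    rw [relIndex_comap, map_comap_eq_self_of_surjective hf]
    obtain ⟨k, hk : Nat.card (V.subgroupOf _) = _⟩ := (hp.comap_subtype (K := normalizer (V : Set X))).exists_card_eq
    rw [← (V.subgroupOf _).card_mul_index, hk] at h3
    exact (Nat.Coprime.pow_right k (by norm_num)).dvd_of_dvd_mul_left h3
  refine ⟨T.map H.subtype, hT.2.map _, ?_, ?_⟩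
  · rw [card_map_of_injective H.subtype_injective]
    refine Layer.Syl.pow_dvd hT (n := 2) ?_
    have := card_map_dvd (V.comap f) f
    rw [map_comap_eq_self_of_surjective hf] at this
    exact hV.trans this
  · refine Dvd.dvd.trans ?_ (card_dvd_of_le (map_le_normalizer_map H.subtype le_rfl))
    rw [card_map_of_injective H.subtype_injective]
    rw [← h1, relIndex_sup_of_le_normalizer' (inf_le_left.trans hn)] at h2
    exact h2.trans ((relIndex_dvd_card _ _).trans (card_dvd_of_le inf_le_right))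

theorem R43.alt : R43 (alternatingGroup (Fin 4)) := by
  have h4 : Nat.card (Fin 4) = 4 := by simp
  have := alternatingGroup.normal_kleinFour h4
  have hV := alternatingGroup.kleinFour_card_of_card_eq_four h4
  refine ⟨_, IsPGroup.of_card (n := 2) hV, hV.ge.antisymm hV.le ▸ dvd_rfl, ?_⟩
  rw [normalizer_eq_top, card_top, alternatingGroup.card_of_card_eq_four h4]
  norm_num

theorem solvable_of_index {K : Type*} [Group K] [Finite K] (Q : Subgroup K) [Q.Normal] (h : Group.IsSolvable Q)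
    (h4 : ¬ 4 ∣ Q.index) : Group.IsSolvable K :=
  have := solvable_of_not_four_dvd (G := K ⧸ Q) h4
  Group.isSolvable_of_ker_le_range Q.subtype (QuotientGroup.mk' Q) (by simp)

theorem R43.exists_solvable (h : R43 G) (h16 : ¬ 16 ∣ Nat.card G) (h9 : ¬ 9 ∣ Nat.card G) :
    ∃ K : Subgroup G, Group.IsSolvable K ∧ Nat.Coprime 6 K.index := by
  obtain ⟨Q, h1, h2, h3⟩ := h
  obtain ⟨S, hS⟩ := h1.exists_le_sylow
  have h4 : ∀ K : Subgroup G, Q ≤ K → ¬ 4 ∣ Q.relIndex K := fun K hK e => h16 <|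
    (Nat.mul_dvd_mul h2 e).trans (by
      rw [← Nat.card_congr (subgroupOfEquivOfLe hK).toEquiv, relIndex, card_mul_index]; exact card_subgroup_dvd_card K)
  have h5 : (S : Subgroup G) ≤ normalizer Q := by
    obtain ⟨k, hk⟩ := (S.2.index (Q.subgroupOf S))
    have h6 := h4 S hS
    rw [relIndex, hk] at h6
    have : k = 0 ∨ k = 1 := by
      by_contra! e
      exact h6 (pow_dvd_pow 2 (by omega : 2 ≤ k))
    rw [← normal_subgroupOf_iff_le_normalizer hS]
    rcases this with rfl | rfl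
    · rw [index_eq_one.1 hk]; infer_instance
    · exact normal_of_index_eq_two hk
  have : Group.IsNilpotent (Q.subgroupOf _) := (h1.comap_subtype (K := normalizer (Q : Set G))).isNilpotent
  refine ⟨_, solvable_of_index (Q.subgroupOf (normalizer (Q : Set G))) IsNilpotent.to_isSolvable (h4 _ le_normalizer),
    Nat.Coprime.mul_left (m := 2) (n := 3) ?_ ?_⟩
  · exact (Nat.prime_two.coprime_iff_not_dvd).2 fun e => S.not_dvd_index (e.trans (index_dvd_of_le h5))
  · exact (Nat.prime_three.coprime_iff_not_dvd).2 fun e => h9 ((normalizer (Q : Set G)).card_mul_index ▸ Nat.mul_dvd_mul h3 e)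

theorem R43.psl {F : Type*} [Field F] [Finite F] (h : (2 : F) ≠ 0 ∨ 3 ∣ Nat.card F - 1) : R43 (PSL2 F) := by
  obtain ⟨H, ⟨e⟩⟩ := psl2_exists_A4_iff.2 h
  exact R43.alt.lift (involves_of_subgroup ((involves_congr_right e).2 (involves_refl _)))

theorem two_ne_zero_of_odd {F : Type*} [Field F] [Fintype F] (h : Fintype.card F % 8 = 3 ∨ Fintype.card F % 8 = 5) :
    (2 : F) ≠ 0 := fun e => by
  have := FiniteField.even_card_of_char_two (F := F) (ringChar.eq_iff.2 (CharTwo.of_one_ne_zero_of_two_eq_zero one_ne_zero e))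
  omega

theorem R43.of_comm [IsSimpleGroup G] (hc : ¬ IsMulCommutative G) (h16 : ¬ 16 ∣ Nat.card G) (h9 : ¬ 9 ∣ Nat.card G)
    (S : Sylow 2 G) (hS : IsMulCommutative S) : R43 G := by
  rcases walter' hc S hS with ⟨F, _, _, h4, h, ⟨e⟩⟩ | ⟨t, K, -, -, -, -, -, F, _, _, h, -, ⟨e⟩⟩
  · refine R43.lift ((involves_congr_right e).2 (involves_refl _)) (R43.psl ?_)
    rcases h with h | h | ⟨n, h⟩
    · exact Or.inl (two_ne_zero_of_odd (Or.inl h))
    · exact Or.inl (two_ne_zero_of_odd (Or.inr h))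
    rw [← Nat.card_eq_fintype_card] at h h4
    obtain ⟨k, rfl⟩ : ∃ k, n = k + 2 := Nat.exists_eq_add_of_le' (by
      by_contra! e
      rw [h] at h4
      interval_cases n <;> omega)
    rw [Nat.card_congr e.toEquiv, card_PSL_two_of_even (h ▸ ⟨2 ^ (k + 1), by ring⟩), h] at h16 h9
    rw [h]
    rcases k with _ | _ | k
    · norm_num
    · norm_num at h9
    · exact absurd (dvd_mul_of_dvd_left (dvd_mul_of_dvd_left ⟨2 ^ k, by ring⟩ _) _) h16
  · exact R43.lift (involves_of_subgroup ((involves_congr_right e).2 (involves_refl _))) (R43.psl (Or.inl (two_ne_zero_of_odd h)))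

theorem R43.of_simple [IsSimpleGroup G] (hc : ¬ IsMulCommutative G) (h16 : ¬ 16 ∣ Nat.card G) (h9 : ¬ 9 ∣ Nat.card G) :
    R43 G := by
  obtain ⟨S⟩ : Nonempty (Sylow 2 G) := inferInstance
  obtain ⟨Q, hQ, q, hq, hq2, g, -, ⟨j, hj⟩, hn, hg⟩ := (syl_top S).sylowIn.exists_of_not_pnil
    (Transfer.not_pnil_of_simple (by by_contra! e; exact hc ⟨⟨e⟩⟩) ((by norm_num : 2 ∣ 4).trans (four_dvd_of_simple hc)))
  have := Fact.mk hq
  have hA : IsPGroup q (zpowers g) := IsPGroup.iff_card.2 <| by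
    obtain ⟨i, -, hi⟩ := (Nat.dvd_prime_pow hq).1 (orderOf_dvd_of_pow_eq_one hj)
    exact ⟨i, (Nat.card_zpowers g).trans hi⟩
  have key : ∀ Z ≤ Q, g ∈ normalizer (Z : Set G) → ¬ Z ≤ centralizer (zpowers g : Set G) →
      ∃ k, (k = 2 ∧ q = 3 ∨ k = 3 ∧ q = 7) ∧ Nat.card Z = 2 ^ k * Nat.card ↥(Z ⊓ centralizer (zpowers g : Set G)) := by
    intro Z hZ h1 h2
    have hp := S.2.to_le (hZ.trans hQ)
    obtain ⟨k, hk⟩ := hp.index ((Z ⊓ centralizer (zpowers g : Set G)).subgroupOf Z)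
    have h3 := ((Z ⊓ centralizer (zpowers g : Set G)).subgroupOf Z).card_mul_index
    rw [hk, Nat.card_congr (subgroupOfEquivOfLe inf_le_left).toEquiv, mul_comm] at h3
    have h4 := PGrp.dvd_pow_sub_one_of_card_eq hq hq2 hA hp (zpowers_le.2 h1) h3.symm
    refine ⟨k, ?_, h3.symm⟩
    rcases k with _ | _ | _ | _ | k
    · exact absurd (inf_eq_left.1 (eq_of_le_of_card_ge inf_le_left (by omega))) h2
    · exact absurd (Nat.dvd_one.1 h4) hq.ne_one
    · exact Or.inl ⟨rfl, (Nat.prime_dvd_prime_iff_eq hq Nat.prime_three).1 h4⟩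
    · exact Or.inr ⟨rfl, (Nat.prime_dvd_prime_iff_eq hq (by norm_num : Nat.Prime 7)).1 h4⟩
    · exact absurd ((dvd_mul_of_dvd_left ⟨2 ^ k, by ring⟩ _).trans (h3 ▸ card_subgroup_dvd_card Z)) h16
  have h1 : ¬ Q ≤ centralizer (zpowers g : Set G) := fun e => hg (le_centralizer_iff.1 e (mem_zpowers g))
  obtain ⟨k, ⟨rfl, rfl⟩ | ⟨rfl, rfl⟩, hk⟩ := key Q le_rfl hn h1
  · refine ⟨Q, S.2.to_le hQ, hk ▸ dvd_mul_right _ _, Dvd.dvd.trans ?_ (card_dvd_of_le (zpowers_le.2 hn))⟩
    exact (hA.card_eq_or_dvd.resolve_left fun e => hg (mem_bot.1 ((card_eq_one.1 e).le (mem_zpowers g)) ▸ one_mem _))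
  have h8 : ∀ Z ≤ (S : Subgroup G), ∀ c, Nat.card Z = 2 ^ 3 * c → c = 1 ∧ Z = S := fun Z hZ c e => by
    obtain ⟨n, hn⟩ := S.2.exists_card_eq
    have h2 := card_subgroup_dvd_card (S : Subgroup G)
    have h3 : n ≤ 3 := by
      by_contra! e
      exact h16 ((pow_dvd_pow 2 e).trans (hn ▸ h2))
    have h4 := Nat.pow_le_pow_right two_pos h3
    have h5 := card_le_of_le hZ
    have h6 : 0 < Nat.card Z := Nat.card_pos
    exact ⟨by omega, eq_of_le_of_card_ge hZ (by omega)⟩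
  obtain ⟨h2, rfl⟩ := h8 Q hQ _ hk
  have h3 := BG2.center_ne_bot_of_isPGroup S.2 (fun e => h1 (e ▸ bot_le))
  obtain ⟨k, ⟨-, h⟩ | ⟨rfl, -⟩, h4⟩ := key _ inf_le_left
    (BG2.normalizer_le_normalizer_center _ hn) fun e => h3 (eq_bot_iff.2
      ((le_inf inf_le_left e).trans (card_eq_one.1 h2).le))
  · omega
  exact R43.of_comm hc h16 h9 S (le_centralizer_iff_isMulCommutative.1 (inf_eq_left.1 (h8 _ inf_le_left _ h4).2))

theorem exists_solvable_six (h16 : ¬ 16 ∣ Nat.card G) (h9 : ¬ 9 ∣ Nat.card G) :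
    ∃ K : Subgroup G, Group.IsSolvable K ∧ Nat.Coprime 6 K.index := by
  by_cases h : ∀ (X : Type u) [Group X] [Finite X] [IsSimpleGroup X], Involves X G → IsMulCommutative X
  · have := solvable_of_simple_sections h
    exact ⟨⊤, inferInstance, by simp⟩
  push Not at h
  obtain ⟨X, _, _, _, h1, h2⟩ := h
  have h3 := card_dvd_of_involves h1
  exact (R43.lift h1 (R43.of_simple h2 (fun e => h16 (e.trans h3)) fun e => h9 (e.trans h3))).exists_solvable h16 h9

theorem involves_A5 [IsSimpleGroup G] (hc : ¬ IsMulCommutative G) (h8 : ¬ 8 ∣ Nat.card G) (h5 : 5 ∣ Nat.card G) :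
    Involves (alternatingGroup (Fin 5)) G := by
  obtain ⟨S⟩ : Nonempty (Sylow 2 G) := inferInstance
  have hS : Nat.card S = 2 ^ 2 := by
    obtain ⟨n, hn⟩ := S.2.exists_card_eq
    have h1 := (Nat.pow_dvd_pow_iff_le_right one_lt_two).1 (hn ▸ S.pow_dvd_card_of_pow_dvd_card (n := 2) (four_dvd_of_simple hc))
    have h2 : n < 3 := by
      by_contra! e
      exact h8 ((pow_dvd_pow 2 e).trans (hn ▸ card_subgroup_dvd_card (S : Subgroup G)))
    rw [hn, show n = 2 by omega]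
  rcases walter' hc S ⟨⟨(IsPGroup.commGroupOfCardEqPrimeSq hS).mul_comm⟩⟩ with ⟨F, _, _, -, -, ⟨e⟩⟩ | ⟨t, K, -, -, -, -, h, -⟩
  · obtain ⟨H, ⟨f⟩⟩ := psl2_exists_A5_iff.2 ((Nat.card_congr e.toEquiv ▸ h5).trans card_PSL_two_dvd)
    exact (involves_congr_right e).2 (involves_of_subgroup ((involves_congr_right f).2 (involves_refl _)))
  · omega

theorem exists_solvable_thirty (h8 : ¬ 8 ∣ Nat.card G) (h9 : ¬ 9 ∣ Nat.card G) (hA : ¬ Involves (alternatingGroup (Fin 5)) G) :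
    ∃ K : Subgroup G, Group.IsSolvable K ∧ Nat.Coprime 30 K.index := by
  induction hn : Nat.card G using Nat.strong_induction_on generalizing G with
  | _ n ih =>
  by_cases hF : fittingSubgroup G = ⊥
  swap
  · have := fitting_normal (G := G)
    have h1 := card_quotient_dvd_card (fittingSubgroup G)
    obtain ⟨K, h2, h3⟩ := ih _ (hn ▸ card_quotient_lt hF) (fun e => h8 (e.trans h1)) (fun e => h9 (e.trans h1))
      (fun e => hA (involves_of_quotient _ e)) rfl
    refine ⟨K.comap (QuotientGroup.mk' _), ?_, by rwa [index_comap_of_surjective _ (QuotientGroup.mk'_surjective _)]⟩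
    have := isNilpotent_fitting G
    exact isSolvable_comap_mk' _ _
  rcases subsingleton_or_nontrivial G with h0 | h0
  · exact ⟨⊤, inferInstance, by simp⟩
  by_cases h : ∃ T : Subgroup G, T.Normal ∧ IsSimpleGroup T ∧ ¬ IsMulCommutative T ∧ centralizer (T : Set G) = ⊥
  swap
  · obtain ⟨T, U, hT, hU, hne⟩ := FG.exists_two_comp hF h
    have := FG.comp_simple hF hT
    have := FG.comp_simple hF hU
    have h1 := FG.comp_le_cent hT hU hne
    have h2 : T ⊓ U = ⊥ := eq_bot_iff.2 fun z hz => FG.comp_eq_one hF hT hz.1 (h1 hz.2)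
    refine absurd ((Nat.mul_dvd_mul (four_dvd_of_simple (Layer.IsQuasisimple.not_isMulCommutative hT.2))
      ((by norm_num : 2 ∣ 4).trans (four_dvd_of_simple (Layer.IsQuasisimple.not_isMulCommutative hU.2)))).trans ?_) h8
    rw [← Core.card_sup_mul_card_inf' (h1.trans (centralizer_le_normalizer _)), h2, card_bot, mul_one]
    exact card_subgroup_dvd_card _
  obtain ⟨L, _, _, hc, -⟩ := h
  have h1 := card_subgroup_dvd_card L
  have h16 : ¬ 16 ∣ Nat.card G := fun e => h8 ((by norm_num : 8 ∣ 16).trans e)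
  obtain ⟨Q, hQ, h4, h3⟩ := R43.of_simple hc (fun e => h16 (e.trans h1)) fun e => h9 (e.trans h1)
  have e := card_map_of_injective (K := Q) L.subtype_injective
  have h6 : ¬ 2 ∣ (Q.map L.subtype).index := fun h => h8 ((Q.map L.subtype).card_mul_index ▸ Nat.mul_dvd_mul (e ▸ h4) h)
  have hS : Syl 2 (Q.map L.subtype) ⊤ := syl_of_not_dvd le_top (hQ.map _) (by rwa [relIndex_top_right])
  have h7 := (hS.of_le (map_subtype_le Q) le_top).frattini le_top le_normalizer_of_normal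
  rw [top_inf_eq] at h7
  set T := Q.map L.subtype
  have : Group.IsNilpotent (T.subgroupOf _) := (hS.2.comap_subtype (K := normalizer (T : Set G))).isNilpotent
  refine ⟨normalizer (T : Set G), solvable_of_index (T.subgroupOf _) IsNilpotent.to_isSolvable fun h =>
    (hS.of_le le_normalizer le_top).not_dvd_relIndex ((by norm_num : 2 ∣ 4).trans h), ?_⟩
  refine Nat.Coprime.mul_left (m := 6) (n := 5) (Nat.Coprime.mul_left (m := 2) (n := 3) ?_ ?_) ?_
  · exact (Nat.prime_two.coprime_iff_not_dvd).2 fun h => h6 (h.trans (index_dvd_of_le le_normalizer))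
  · refine (Nat.prime_three.coprime_iff_not_dvd).2 fun h => h9 ((normalizer (T : Set G)).card_mul_index ▸
      Nat.mul_dvd_mul (h3.trans ?_) h)
    rw [← card_map_of_injective L.subtype_injective]
    exact card_dvd_of_le (map_le_normalizer_map _ le_rfl)
  · refine (Nat.prime_five.coprime_iff_not_dvd).2 fun h => hA (involves_of_subgroup (involves_A5 hc (fun e => h8 (e.trans h1))
      (h.trans ?_)))
    rw [← relIndex_top_right, ← h7]
    exact Layer.relIndex_sup_dvd le_normalizer_of_normal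

theorem hall_number_of {m : ℕ} (h : IsPrimePow m ∨ m % 4 = 2 ∨ m = 12 ∨ m = 24 ∨ m = 60) (hd : m ∣ Nat.card G)
    (hc : m.Coprime (Nat.card G / m)) : ∃ H : Subgroup G, Nat.card H = m := by
  have key : ∀ p k, p.Prime → p ∣ m → ¬ p ^ k ∣ m → ¬ p ^ k ∣ Nat.card G := fun p k hp h1 h2 e =>
    h2 (Nat.Coprime.dvd_of_dvd_mul_right (Nat.Coprime.pow_left k (hc.coprime_dvd_left h1)) (by rwa [Nat.mul_div_cancel' hd]))
  rcases h with h | h | rfl | rfl | rfl
  · obtain ⟨p, k, hp, -, rfl⟩ := (isPrimePow_nat_iff m).1 h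
    have := Fact.mk hp
    exact Sylow.exists_subgroup_card_pow_prime p hd
  · have := solvable_of_not_four_dvd (key 2 2 Nat.prime_two (by omega) (by omega))
    exact exists_card_eq_of_solvable hd hc ⊤ inferInstance (by simp)
  · obtain ⟨K, h1, h2⟩ := exists_solvable_six (key 2 4 Nat.prime_two (by norm_num) (by norm_num))
      (key 3 2 Nat.prime_three (by norm_num) (by norm_num))
    exact exists_card_eq_of_solvable hd hc K h1 ((h2.pow_left 3).coprime_dvd_left (by norm_num))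
  · obtain ⟨K, h1, h2⟩ := exists_solvable_six (key 2 4 Nat.prime_two (by norm_num) (by norm_num))
      (key 3 2 Nat.prime_three (by norm_num) (by norm_num))
    exact exists_card_eq_of_solvable hd hc K h1 ((h2.pow_left 3).coprime_dvd_left (by norm_num))
  by_cases hA : Involves (alternatingGroup (Fin 5)) G
  · obtain ⟨H, f, hf, h1⟩ := exists_lift_coprime hA
    have h2 : Nat.card (alternatingGroup (Fin 5)) = 60 := by rw [nat_card_alternatingGroup]; simp [Nat.factorial]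
    exact ⟨H, exists_card_eq_of_pi hd hc (h2 ▸ card_dvd_of_surjective f hf) fun p hp h3 => by_contra fun e =>
      (hp.coprime_iff_not_dvd).1 (h1 p (h2 ▸ (hp.coprime_iff_not_dvd).2 e)) h3⟩
  · obtain ⟨K, h1, h2⟩ := exists_solvable_thirty (key 2 3 Nat.prime_two (by norm_num) (by norm_num))
      (key 3 2 Nat.prime_three (by norm_num) (by norm_num)) hA
    exact exists_card_eq_of_solvable hd hc K h1 ((h2.pow_left 2).coprime_dvd_left (by norm_num))

theorem psl2_no_subgroup {q a b : ℕ} [hq : Fact q.Prime] (h3a : 3 ≤ a) (h3b : 3 ≤ b) (hlt : a * b < q)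
    (ha : a ∣ q - 1) (hb : b ∣ q + 1) (h12 : a * b ≠ 12) (h24 : a * b ≠ 24) (h60 : a * b ≠ 60)
    (H : Subgroup (PSL2 (ZMod q))) : Nat.card H ≠ a * b := by
  intro hH
  have hF : Nat.card (ZMod q) = q := Nat.card_zmod q
  have h1 := hq.out.one_lt
  have h2 : ¬ a * b ∣ q + 1 := fun e => by
    have := Nat.le_of_dvd two_pos (show a ∣ 2 by
      have := Nat.dvd_sub (dvd_of_mul_right_dvd e) ha
      rwa [show q + 1 - (q - 1) = 2 by omega] at this)
    omega
  have h3 : ¬ a * b ∣ q - 1 := fun e => by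
    have := Nat.le_of_dvd two_pos (show b ∣ 2 by
      have := Nat.dvd_sub hb (dvd_of_mul_left_dvd e)
      rwa [show q + 1 - (q - 1) = 2 by omega] at this)
    omega
  have h4 : ¬ q ∣ a * b := fun e => absurd (Nat.le_of_dvd (by positivity) e) (by omega)
  have hodd : q % 2 = 1 := hq.out.eq_two_or_odd.resolve_left (by nlinarith)
  have hg : Nat.gcd 2 (q - 1) = 2 := Nat.gcd_eq_left (by omega)
  have h5 : ∀ k, k ∣ (q + 1) / 2 ∨ k ∣ (q - 1) / 2 → ¬ a * b ∣ 2 * k := fun k hk e => hk.elim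
    (fun h => h2 (e.trans ((Nat.dvd_div_iff_mul_dvd (by omega)).1 h))) fun h => h3 (e.trans ((Nat.dvd_div_iff_mul_dvd (by omega)).1 h))
  have hA : Nat.card (alternatingGroup (Fin 5)) = 60 := by rw [nat_card_alternatingGroup]; simp [Nat.factorial]
  rcases dickson_psl2 q H with ⟨k, hk, ⟨-, h⟩ | ⟨⟨e⟩⟩⟩ | ⟨P, h⟩ | ⟨-, ⟨⟨e⟩⟩ | ⟨⟨e⟩⟩ | ⟨⟨e⟩⟩⟩ | ⟨-, ⟨e⟩⟩ | ⟨R, h⟩
  · rw [hF, hg] at hk
    exact h5 k hk (hH ▸ h ▸ dvd_mul_left _ _)
  · rw [hF, hg] at hk
    exact h5 k hk (by rw [← hH, Nat.card_congr e.toEquiv, DihedralGroup.nat_card])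
  · have := card_normalizer_sylow_PSL2 P
    rw [hF] at this
    exact h3 (((hq.out.coprime_iff_not_dvd).2 h4).symm.dvd_of_dvd_mul_left
      (this ▸ dvd_mul_of_dvd_right (hH ▸ card_dvd_of_le h) _))
  · exact h12 (by rw [← hH, Nat.card_congr e.toEquiv, alternatingGroup.card_of_card_eq_four (by simp)])
  · exact h24 (by rw [← hH, Nat.card_congr e.toEquiv, Nat.card_perm]; simp [Nat.factorial])
  · exact h60 (by rw [← hH, Nat.card_congr e.toEquiv, hA])
  · exact h60 (by rw [← hH, Nat.card_congr e.toEquiv, hA])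
  have h6 : q ∣ Nat.card R := by
    have := Fintype.ofFinite R
    obtain ⟨n, -, hn⟩ := FiniteField.card R q
    rw [Nat.card_eq_fintype_card, hn]
    exact dvd_pow_self q n.ne_zero
  rcases h with ⟨⟨e⟩⟩ | ⟨h, ⟨e⟩⟩
  · exact h4 (by rw [← hH, Nat.card_congr e.toEquiv, card_PGL_two, mul_assoc]; exact h6.mul_right _)
  · refine h4 (Nat.Coprime.dvd_of_dvd_mul_left ((Nat.coprime_primes hq.out Nat.prime_two).2 (by omega)) ?_)
    rw [← hH, Nat.card_congr e.toEquiv, card_PSL_two_of_odd h, mul_assoc]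
    exact h6.mul_right _

theorem exists_prime_hall {a b : ℕ} (hab : a.Coprime b) (h0 : 2 ≤ a) (hb : Odd b) (ha : Odd a ∨ 4 ∣ a) :
    ∃ q w : ℕ, q.Prime ∧ a * b < q ∧ a ∣ q - 1 ∧ b ∣ q + 1 ∧ q * (q - 1) * (q + 1) = 2 * (a * b * w) ∧ (a * b).Coprime w := by
  obtain ⟨b, rfl⟩ : ∃ c, b = c + 1 := ⟨b - 1, by obtain ⟨k, hk⟩ := hb; omega⟩
  obtain ⟨c, h1, h2⟩ := Nat.chineseRemainder (hab.pow 2 2) (1 + a) b
  obtain ⟨q, hq, hp, h3⟩ := Nat.forall_exists_prime_gt_and_modEq (a * (b + 1) + a + b) (q := a ^ 2 * (b + 1) ^ 2) (a := c)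
    (by positivity) (Nat.Coprime.mul_right (Nat.Coprime.symm (by
      rw [Nat.Coprime, Nat.gcd_comm, h1.gcd_eq]; exact Nat.Coprime.pow_right 2 (by simp)))
      (Nat.Coprime.symm (by rw [Nat.Coprime, Nat.gcd_comm, h2.gcd_eq]; exact Nat.Coprime.pow_right 2 (by simp))))
  obtain ⟨s, hs⟩ := (Nat.modEq_iff_dvd' (by omega)).1 ((h3.of_mul_right _).trans h1).symm
  obtain ⟨t, ht⟩ := (Nat.modEq_iff_dvd' (by omega)).1 ((h3.of_mul_left _).trans h2).symm
  have e1 : q - 1 = a * (1 + a * s) := by rw [mul_add, ← mul_assoc, ← sq, ← hs]; omega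
  have e2 : q + 1 = (b + 1) * (1 + (b + 1) * t) := by rw [mul_add, ← mul_assoc, ← sq, ← ht]; omega
  have hodd : q % 2 = 1 := hp.eq_two_or_odd.resolve_left (by nlinarith)
  have cu : a.Coprime (1 + a * s) := by simp
  have cv : (b + 1).Coprime (1 + (b + 1) * t) := by simp
  generalize 1 + a * s = u at *
  generalize 1 + (b + 1) * t = v at *
  generalize b + 1 = b at *
  have key : ∀ p, p.Prime → p ∣ a * b → p ∣ q * u * v → p = 2 ∧ 2 ∣ a := fun p h4 h5 h6 => by
    have h7 : ¬ p ∣ q := fun e => absurd (Nat.le_of_dvd (Nat.mul_pos (by omega) hb.pos)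
      ((Nat.prime_dvd_prime_iff_eq h4 hp).1 e ▸ h5)) (by omega)
    have h8 : p ∣ q - 1 → p ∣ q + 1 → p = 2 := fun e f => (Nat.prime_dvd_prime_iff_eq h4 Nat.prime_two).1 (by
      have := Nat.dvd_sub f e
      rwa [show q + 1 - (q - 1) = 2 by omega] at this)
    rw [mul_assoc] at h6
    rcases (h4.dvd_mul).1 h5 with h | h <;> rcases (h4.dvd_mul).1 (((h4.dvd_mul).1 h6).resolve_left h7) with h' | h'
    · exact absurd (Nat.eq_one_of_dvd_coprimes cu h h') h4.ne_one
    · obtain rfl := h8 (e1 ▸ h.mul_right _) (e2 ▸ h'.mul_left _)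
      exact ⟨rfl, h⟩
    · obtain rfl := h8 (e1 ▸ h'.mul_left _) (e2 ▸ h.mul_right _)
      exact absurd h hb.not_two_dvd_nat
    · exact absurd (Nat.eq_one_of_dvd_coprimes cv h h') h4.ne_one
  rcases ha with ha | ha
  · obtain ⟨u, rfl⟩ : 2 ∣ u := (ha.coprime_two_left).dvd_of_dvd_mul_left (e1 ▸ by omega)
    refine ⟨q, q * u * v, hp, by omega, ⟨_, e1⟩, ⟨_, e2⟩, by rw [e1, e2]; ring, Nat.coprime_of_dvd fun p h4 h5 h6 => ?_⟩
    exact ha.not_two_dvd_nat (key p h4 h5 (h6.trans ⟨2, by ring⟩)).2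
  · obtain ⟨v, rfl⟩ : 2 ∣ v := (hb.coprime_two_left).dvd_of_dvd_mul_left (e2 ▸ by omega)
    refine ⟨q, q * u * v, hp, by omega, ⟨_, e1⟩, ⟨_, e2⟩, by rw [e1, e2]; ring, Nat.coprime_of_dvd fun p h4 h5 h6 => ?_⟩
    obtain ⟨rfl, h7⟩ := key p h4 h5 (h6.trans ⟨2, by ring⟩)
    have h8 : 4 ∣ q - 1 := e1 ▸ ha.mul_right _
    rcases (h4.dvd_mul).1 h6 with h | ⟨v, rfl⟩
    · rcases (h4.dvd_mul).1 h with h | h
      · omega
      · exact h4.ne_one (Nat.eq_one_of_dvd_coprimes cu h7 h)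
    · have : 4 ∣ q + 1 := ⟨b * v, by rw [e2]; ring⟩
      omega

theorem of_hall_number {m : ℕ} (hm : 2 ≤ m) (h : ∀ (G : Type) [Group G] [Finite G], m ∣ Nat.card G →
    m.Coprime (Nat.card G / m) → ∃ H : Subgroup G, Nat.card H = m) :
    IsPrimePow m ∨ m % 4 = 2 ∨ m = 12 ∨ m = 24 ∨ m = 60 := by
  by_contra! hn
  obtain ⟨h1, h2, h3, h4, h5⟩ := hn
  have hp := Nat.minFac_prime (by omega : m ≠ 1)
  obtain ⟨k, b, hb, e⟩ := Nat.exists_eq_pow_mul_and_not_dvd (by omega : m ≠ 0) _ hp.ne_one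
  have hk : k ≠ 0 := by
    rintro rfl
    rw [pow_zero, one_mul] at e
    exact hb (e ▸ Nat.minFac_dvd m)
  have h6 : b ≠ 1 := by
    rintro rfl
    exact h1 (e ▸ by simpa using (hp.isPrimePow).pow hk)
  have h7 : Odd b := by
    by_contra h
    have h := (Nat.not_odd_iff_even.1 h).two_dvd
    exact hb (le_antisymm (Nat.minFac_le_of_dvd le_rfl (e ▸ h.mul_left _)) hp.two_le ▸ h)
  generalize m.minFac = p at *
  have h8 : Odd (p ^ k) ∨ 4 ∣ p ^ k := by
    rcases hp.eq_two_or_odd' with rfl | h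
    · rcases k with _ | _ | k
      · omega
      · obtain ⟨c, hc⟩ := h7
        omega
      · exact Or.inr ⟨2 ^ k, by ring⟩
    · exact Or.inl h.pow
  have h9 : 2 ≤ p ^ k := Nat.one_lt_pow hk hp.one_lt
  obtain ⟨q, w, hq, hlt, ha, hb', hc, hw⟩ := exists_prime_hall (((hp.coprime_iff_not_dvd).2 hb).pow_left k) h9 h7 h8
  have := Fact.mk hq
  subst e
  have hodd : Odd q := hq.odd_of_ne_two (by omega)
  have hG := card_PSL_two_of_odd (F := ZMod q) (by rwa [Nat.card_zmod])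
  rw [Nat.card_zmod, hc, Nat.mul_right_inj two_ne_zero] at hG
  obtain ⟨H, hH⟩ := h (PSL2 (ZMod q)) ⟨w, hG⟩ (by rwa [hG, Nat.mul_div_cancel_left _ (by omega)])
  refine psl2_no_subgroup ?_ ?_ hlt ha hb' h3 h4 h5 H hH
  · rcases h8 with ⟨c, hc⟩ | ⟨c, hc⟩ <;> omega
  · obtain ⟨c, hc⟩ := h7
    rcases c with _ | c <;> omega

end Cfsg.Lib.Coprime
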