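import Cfsg.Agent.Lib.JR.Mat
import Cfsg.Agent.Lib.Coprime.Spec

/-! The element orders of the first Janko group, from the fixed point numbers on 266 points. -/

set_option autoImplicit false
set_option maxRecDepth 100000

namespace Cfsg.Lib.Coprime

open Finset Subgroup Cfsg.Lib.Comp

/-- Number of fixed points below `n` of the value of a word. -/
noncomputable def fxN (nets : List Net) (n : ℕ) (w : List ℕ) : ℕ :=
  ∑ i ∈ range n, if (wimg nets w (2 ^ i)).testBit i then 1 else 0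

theorem fxc_ev {N n : ℕ} {nets : List Net} (hN : NetsOK N nets) {G : Subgroup (Equiv.Perm ℕ)}
    (h : ∀ (g : G) i, i < n → G.subtype g i < n) {w : List ℕ} (hw : ∀ x ∈ w, gp nets x ∈ G) :
    fxc (toFin G.subtype n h (ev (sval G (gp nets)) w)) = fxN nets n w := by
  rw [fxN, ← Fin.sum_univ_eq_sum_range (fun i => if (wimg nets w (2 ^ i)).testBit i then 1 else 0), ← card_filter, fxc]
  congr 1
  ext i
  simp only [mem_compl, Equiv.Perm.notMem_support, mem_filter, mem_univ, true_and, testBit_wimg hN, Nat.testBit_two_pow,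
    decide_eq_true_eq, Fin.ext_iff, toFin_apply, Equiv.Perm.eq_inv_iff_eq, coe_subtype, coe_ev_sval hw]

theorem factorization_eq_of_dvd {n p k : ℕ} (hp : p.Prime) (h1 : p ^ k ∣ n) (h2 : ¬ p ^ (k + 1) ∣ n) :
    n.factorization p = k := by
  have hn : n ≠ 0 := fun e => h2 (e ▸ dvd_zero _)
  rw [hp.pow_dvd_iff_le_factorization hn] at h1 h2
  omega

theorem card_sylow_seven {G : Type*} [Group G] [Finite G] (hG : Nat.card G = 175560) {g : G} (hg : orderOf g = 133)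
    (h : ∀ r ∈ ({2, 3, 5, 11} : Finset ℕ), 7 * r ∉ Set.range (orderOf : G → ℕ)) : False := by
  have := Fact.mk (by norm_num : Nat.Prime 7)
  have hx : orderOf (g ^ 19) = 7 := by rw [orderOf_pow, hg]; rfl
  let P := Sylow.ofCard (p := 7) (zpowers (g ^ 19)) (by
    rw [Nat.card_zpowers, hx, hG, factorization_eq_of_dvd (k := 1) (by norm_num) (by norm_num) (by norm_num)]; rfl)
  let C := centralizer (P : Set G)
  obtain ⟨k, hk⟩ : 133 ∣ Nat.card C := hg ▸ Subgroup.orderOf_dvd_natCard C fun y hy => by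
    obtain ⟨i, rfl⟩ : y ∈ zpowers (g ^ 19) := hy
    exact (((Commute.refl g).pow_left 19).zpow_left i).eq
  have h1 : k = 1 := Nat.eq_one_iff_not_exists_prime_dvd.2 fun r hr hk' => by
    have := Fact.mk hr
    have h2 : r ∣ 2 ^ 3 * 3 * 5 * 11 := hk'.trans (Nat.dvd_of_mul_dvd_mul_left (by norm_num : 0 < 133)
      (hk ▸ (hG ▸ card_subgroup_dvd_card C : Nat.card C ∣ 175560)))
    have h3 : r ∈ ({2, 3, 5, 11} : Finset ℕ) := by
      simp only [hr.dvd_mul, hr.dvd_of_dvd_pow, mem_insert, mem_singleton] at h2 ⊢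
      rcases h2 with ((h2 | h2) | h2) | h2
      · exact Or.inl ((Nat.prime_dvd_prime_iff_eq hr (by norm_num)).1 (hr.dvd_of_dvd_pow h2))
      all_goals simp [(Nat.prime_dvd_prime_iff_eq hr (by norm_num)).1 h2]
    obtain ⟨y, hy⟩ := exists_prime_orderOf_dvd_card' (G := C) r (hk ▸ hk'.mul_left _)
    refine h r h3 ⟨g ^ 19 * y, ?_⟩
    rw [Commute.orderOf_mul_eq_mul_orderOf_of_coprime (y.2 _ (mem_zpowers _)), hx, orderOf_coe, hy]
    rw [hx, orderOf_coe, hy]
    simp only [mem_insert, mem_singleton] at h3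
    rcases h3 with rfl | rfl | rfl | rfl <;> norm_num
  have h2 := card_sylow_modEq_one 7 G
  rw [P.card_eq_index_normalizer] at h2
  have h3 := (normalizer (P : Set G)).index_mul_card
  have h4 := (P.1.normalizerMonoidHom).ker.index_mul_card
  have h5 := card_subgroup_dvd_card (P.1.normalizerMonoidHom).range
  have : IsCyclic P.1 := inferInstanceAs (IsCyclic (zpowers (g ^ 19)))
  rw [IsCyclic.card_mulAut, ← index_ker, show Nat.card P.1 = 7 from (Nat.card_zpowers _).trans hx,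
    Nat.totient_prime (by norm_num)] at h5
  rw [normalizerMonoidHom_ker, Nat.card_congr (subgroupOfEquivOfLe (centralizer_le_normalizer _)).toEquiv] at h4
  rw [normalizerMonoidHom_ker] at h5
  change _ * Nat.card C = _ at h4
  change _ * Nat.card (normalizer (P.1 : Set G)) = _ at h3
  rw [← h4, hk, h1, hG] at h3
  have h6 := Nat.le_of_dvd (by norm_num) h5
  change (normalizer (P : Set G)).index % 7 = 1 at h2
  generalize ((centralizer (P.1 : Set G)).subgroupOf _).index = e at h3 h5 h6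
  interval_cases e <;> omega

theorem spec_J1_aux {G α : Type*} [Group G] [Finite G] [Fintype α] [DecidableEq α] (f : G →* Equiv.Perm α)
    (hG : Nat.card G = 175560) (h4 : 4 ∉ Set.range (orderOf : G → ℕ))
    (h : ∀ x, ∀ r ∈ [(2, 10), (3, 5), (5, 6), (7, 0), (11, 2), (19, 0)], orderOf x = r.1 → fxc (f x) = r.2) (g : G) :
    orderOf g ∈ ({1, 2, 3, 5, 6, 7, 10, 11, 15, 19} : Finset ℕ) := by
  have h0 : ∀ (x : G) {n : ℕ}, orderOf x = n → ∀ k, ∀ r ∈ [(2, 10), (3, 5), (5, 6), (7, 0), (11, 2), (19, 0)],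
      n = k * r.1 → fxc (f x ^ k) = r.2 := fun x n hx k r hr e => by
    have hk : 0 < k := Nat.pos_of_ne_zero fun h => (orderOf_pos x).ne' (by rw [hx, e, h, zero_mul])
    rw [← map_pow]
    exact h _ r hr (by rw [orderOf_pow, hx, e, Nat.gcd_mul_right_left, Nat.mul_div_cancel_left _ hk])
  have h1 : ∀ r ∈ [(2, 10), (3, 5), (5, 6), (7, 0), (11, 2), (19, 0)], ∀ s ∈ [(7, 0), (11, 2), (19, 0)],
      r.1 < s.1 → r.1 * s.1 ≠ 133 → r.1 * s.1 ∉ Set.range (orderOf : G → ℕ) := fun r hr s hs e1 e2 ⟨x, hx⟩ => by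
    have a1 := h0 x hx r.1 s (List.mem_of_mem_drop (i := 3) hs) rfl
    have a2 := h0 x hx s.1 r hr (mul_comm _ _)
    have a3 := fxc_le_pow (f x) r.1
    have a4 := fxc_le_pow (f x) s.1
    have a0 : ∀ r ∈ [(2, 10), (3, 5), (5, 6), (7, 0), (11, 2), (19, 0)], Nat.Prime r.1 := by decide
    have a5 := fxc_pow_modEq (f x) (a0 r hr)
    have a6 := fxc_pow_modEq (f x) (a0 s (List.mem_of_mem_drop (i := 3) hs))
    rw [a1] at a3 a5
    rw [a2] at a4 a6
    simp only [List.mem_cons, List.not_mem_nil, or_false, Nat.ModEq] at hr hs a5 a6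
    rcases hr with rfl | rfl | rfl | rfl | rfl | rfl <;> rcases hs with rfl | rfl | rfl <;>
      dsimp only at * <;> omega
  have h2 : 30 ∉ Set.range (orderOf : G → ℕ) := fun ⟨x, hx⟩ => by
    have a1 := h0 x hx 15 (2, 10) (by decide) rfl
    have a2 := h0 x hx 10 (3, 5) (by decide) rfl
    have a3 := h0 x hx 6 (5, 6) (by decide) rfl
    have b1 := fxc_pow_modEq (f x ^ 5) Nat.prime_two
    have b2 := fxc_pow_modEq (f x ^ 5) Nat.prime_three
    have b3 := fxc_le_pow (f x ^ 5) 2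
    have b4 := fxc_pow_modEq (f x ^ 3) Nat.prime_two
    have b5 := fxc_pow_modEq (f x ^ 3) Nat.prime_five
    have b6 := fxc_le_pow (f x ^ 3) 2
    have b7 := fxc_pow_modEq (f x) Nat.prime_five
    have b8 := fxc_le_pow (f x) 3
    simp only [← pow_mul, a1, a2, a3, Nat.ModEq] at *
    omega
  have h3 : 133 ∉ Set.range (orderOf : G → ℕ) := fun ⟨x, hx⟩ => card_sylow_seven hG hx fun r hr => by
    simp only [mem_insert, mem_singleton] at hr
    rcases hr with rfl | rfl | rfl | rfl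
    exacts [h1 (2, 10) (by decide) (7, 0) (by decide) (by decide) (by decide),
      h1 (3, 5) (by decide) (7, 0) (by decide) (by decide) (by decide),
      h1 (5, 6) (by decide) (7, 0) (by decide) (by decide) (by decide),
      h1 (7, 0) (by decide) (11, 2) (by decide) (by decide) (by decide)]
  have key : ∀ a ∈ Nat.divisors 120, ∀ b ∈ Nat.divisors 1463, ¬ 4 ∣ a * b → ¬ 30 ∣ a * b → ¬ 133 ∣ a * b →
      (∀ r ∈ [(2, 10), (3, 5), (5, 6), (7, 0), (11, 2), (19, 0)], ∀ s ∈ [(7, 0), (11, 2), (19, 0)],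
        r.1 < s.1 → r.1 * s.1 ≠ 133 → ¬ r.1 * s.1 ∣ a * b) →
      a * b ∈ ({1, 2, 3, 5, 6, 7, 10, 11, 15, 19} : Finset ℕ) := by decide +kernel
  obtain ⟨a, b, ha, hb, e⟩ := (Nat.dvd_mul (m := 120) (n := 1463)).1 (hG ▸ orderOf_dvd_natCard g)
  have h5 : ∀ {m}, m ∉ Set.range (orderOf : G → ℕ) → ¬ m ∣ a * b := fun h1 h2 => h1 (spec_of_dvd ⟨g, e.symm⟩ h2)
  exact e ▸ key a (Nat.mem_divisors.2 ⟨ha, by norm_num⟩) b (Nat.mem_divisors.2 ⟨hb, by norm_num⟩) (h5 h4) (h5 h2) (h5 h3)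
    fun r hr s hs e1 e2 => h5 (h1 r hr s hs e1 e2)

open JRa

theorem j1_fx (g : cl (gp nets) L) (i : ℕ) (hi : i < 266) : (cl (gp nets) L).subtype g i < 266 :=
  (fx_of_fxB (k := 9) nets_ok (by norm_num) (by norm_num) (by decide +kernel) g.2).lt hi

/-- Words, the orders of their values, and the numbers of fixed points. -/
def j1W : List (List ℕ × ℕ × ℕ) := [([1], 1, 10), ([7], 1, 10), ([8], 1, 10), ([1, 7], 1, 10), ([1, 8], 1, 10),
  ([7, 8], 1, 10), ([1, 7, 8], 1, 10), ([4], 2, 5), ([6, 8], 4, 6), ([2], 6, 0), ([1, 2, 2, 6], 10, 2), ([1, 2, 6, 2], 18, 0),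
  ([1, 4], 5, 1), ([1, 6, 8], 9, 0), ([2, 6], 14, 0)]

theorem j1W_ok : ∀ r ∈ j1W, (∀ x ∈ r.1, x ∈ L) ∧ fxN nets 266 r.1 = r.2.2 ∧
    ∀ p ∈ Nat.divisors (r.2.1 + 1), p ≠ 1 → fxN nets 266 (pw r.1 ((r.2.1 + 1) / p - 1)) ≠ 266 := by decide +kernel

theorem j1W_spec (r : List ℕ × ℕ × ℕ) (hr : r ∈ j1W) :
    orderOf (ev (sval (cl (gp nets) L) (gp nets)) r.1) = r.2.1 + 1 ∧
      fxc (toFin _ 266 j1_fx (ev (sval (cl (gp nets) L) (gp nets)) r.1)) = r.2.2 := by
  obtain ⟨h1, h2, h3⟩ := j1W_ok r hr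
  have h4 : Rels (gp nets) (j1W.map fun r => (r.1, r.2.1)) := rels_of_relsB (k := 9) nets_ok (by norm_num) (by decide +kernel)
  refine ⟨orderOf_eq_of_pow_and_pow_div_prime (Nat.succ_pos _) (Subtype.ext ?_) fun p hp hd e => ?_,
    (fxc_ev nets_ok _ fun x hx => mem_cl (h1 x hx)).trans h2⟩
  · rw [Subgroup.coe_pow, coe_ev_sval fun x hx => mem_cl (h1 x hx)]
    exact h4 _ (List.mem_map_of_mem hr)
  refine h3 p (Nat.mem_divisors.2 ⟨hd, Nat.succ_ne_zero _⟩) hp.ne_one ?_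
  rw [← fxc_ev nets_ok j1_fx, ev_pw, Nat.sub_add_cancel (Nat.div_pos (Nat.le_of_dvd (Nat.succ_pos _) hd) hp.pos), e, map_one]
  · simp [fxc]
  · generalize (r.2.1 + 1) / p - 1 = n
    induction n with
    | zero => exact fun x hx => mem_cl (h1 x hx)
    | succ n ih => exact fun x hx => (List.mem_append.1 (pw_succ r.1 n ▸ hx)).elim (fun h => mem_cl (h1 x h)) (ih x)

theorem eq_or_of_mem_zpowers_two {G : Type*} [Group G] {a : G} (h : orderOf a = 2) (x : zpowers a) : x.1 = 1 ∨ x.1 = a := by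
  obtain ⟨_, i, rfl⟩ := x
  have h1 : a ^ (2 : ℤ) = 1 := by rw [zpow_ofNat, ← h, pow_orderOf_eq_one]
  rcases Int.even_or_odd' i with ⟨k, rfl | rfl⟩ <;> simp [zpow_add, zpow_mul, h1]

theorem spec_J1 : Set.range (orderOf : Spor.J1 → ℕ) = ({1, 2, 3, 5, 6, 7, 10, 11, 15, 19} : Finset ℕ) := by
  obtain ⟨e⟩ := JR.model_equiv
  have := nets_ok.finite L
  rw [← spec_congr e]
  set γ := sval (cl (gp nets) L) (gp nets)
  set f := toFin _ 266 j1_fx
  have h1 : ∀ r ∈ j1W.take 7, orderOf (ev γ r.1) = 2 ∧ fxc (f (ev γ r.1)) = 10 := fun r hr => by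
    have h := j1W_spec r (List.mem_of_mem_take hr)
    rwa [show r.2 = (1, 10) by clear h; revert r; decide] at h
  simp only [j1W, List.take, List.mem_cons, List.not_mem_nil, or_false, forall_eq_or_imp, forall_eq, ev_cons, ev_nil,
    mul_one] at h1
  obtain ⟨ha, hb, hc, hab, hac, hbc, habc⟩ := h1
  have hcm : ∀ {x y : cl (gp nets) L}, orderOf x = 2 → orderOf y = 2 → orderOf (x * y) = 2 → ∀ (a : zpowers x) (b : zpowers y),
      Commute a.1 b.1 := fun {x y} hx hy hxy ⟨_, i, rfl⟩ ⟨_, j, rfl⟩ => by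
    refine Commute.zpow_zpow ?_ i j
    have h1 := pow_orderOf_eq_one x
    have h2 := pow_orderOf_eq_one y
    have h3 := pow_orderOf_eq_one (x * y)
    rw [hx, hy, hxy, sq, mul_eq_one_iff_eq_inv] at *
    rw [Commute, SemiconjBy, h3, mul_inv_rev, ← h1, ← h2]
  let φ := (zpowers (γ 1)).subtype.noncommCoprod ((zpowers (γ 7)).subtype.noncommCoprod (zpowers (γ 8)).subtype
    (hcm hb.1 hc.1 hbc.1)) fun a b => (hcm ha.1 hb.1 hab.1 a b.1).mul_right (hcm ha.1 hc.1 hac.1 a b.2)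
  have h2 : ∀ t, t = 1 ∨ orderOf (φ t) = 2 ∧ fxc (f (φ t)) = 10 := fun ⟨a, b, c⟩ => by
    change _ ∨ orderOf (a.1 * (b.1 * c.1)) = 2 ∧ fxc (f (a.1 * (b.1 * c.1))) = 10
    rcases eq_or_of_mem_zpowers_two ha.1 a with h1 | h1 <;> rcases eq_or_of_mem_zpowers_two hb.1 b with h2 | h2 <;>
      rcases eq_or_of_mem_zpowers_two hc.1 c with h3 | h3 <;>
      simp only [Prod.ext_iff, Subtype.ext_iff, h1, h2, h3, one_mul, mul_one]
    · exact Or.inl ⟨rfl, rfl, rfl⟩
    all_goals exact Or.inr ‹_›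
  have h3 : Nat.card φ.range = 2 ^ (Nat.card (cl (gp nets) L)).factorization 2 := by
    rw [← Nat.card_congr (MonoidHom.ofInjective ((injective_iff_map_eq_one φ).2 fun t ht => (h2 t).resolve_right fun h => by
      simp [ht] at h)).toEquiv, JRa.card, factorization_eq_of_dvd (k := 3) (by norm_num) (by norm_num) (by norm_num)]
    simp [ha.1, hb.1, hc.1]
  have h4 : ∀ x : cl (gp nets) L, x ^ 2 ^ 2 = 1 → x = 1 ∨ orderOf x = 2 ∧ fxc (f x) = 10 := fun x hx => by
    obtain ⟨g, t, ht⟩ := exists_conj_mem_of_card Nat.prime_two h3 hx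
    refine (h2 t).imp (fun h => by simpa [h] using ht.symm) fun h => ?_
    rwa [ht, map_mul, map_mul, map_inv, fxc_conj, ← (show SemiconjBy g x (g * x * g⁻¹) by simp [SemiconjBy]).orderOf_eq] at h
  refine Set.Subset.antisymm (Set.range_subset_iff.2 (spec_J1_aux f JRa.card (fun ⟨x, hx⟩ => ?_) fun x r hr hx => ?_)) fun m hm => ?_
  · rcases h4 x (by rw [← pow_orderOf_eq_one x, hx]; rfl) with h | h <;> simp [h] at hx
  · rcases List.mem_cons.1 hr with rfl | hr
    · exact ((h4 x (orderOf_dvd_iff_pow_eq_one.1 (hx ▸ by norm_num))).resolve_left fun h => by simp [h] at hx).2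
    obtain ⟨s, hs, e1, e2, e3, e4, e5⟩ : ∃ s ∈ j1W, s.2.1 + 1 = r.1 ∧ s.2.2 = r.2 ∧ r.1.Prime ∧ r.1 ^ 1 ∣ 175560 ∧
      ¬ r.1 ^ (1 + 1) ∣ 175560 := by clear hx; revert r; decide +kernel
    exact (fxc_eq_of_prime f e3 (JRa.card ▸ factorization_eq_of_dvd e3 e4 e5) hx ((j1W_spec s hs).1.trans e1)).trans
      ((j1W_spec s hs).2.trans e2)
  obtain ⟨s, hs, e⟩ : ∃ s ∈ j1W, m ∣ s.2.1 + 1 := by revert m; decide +kernel
  exact spec_of_dvd ⟨_, (j1W_spec s hs).1⟩ e

end Cfsg.Lib.Coprime
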