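import Cfsg.Agent.Lib.Coprime.SzSq3
import Cfsg.Agent.Lib.Coprime.SpecJ1
import Cfsg.Agent.Lib.Coprime.EqConj2
import Cfsg.Agent.Lib.Exc.CIT7

/-!
# Groups whose element orders are those of `J₁ × J₁`: the spectrum and the simple sections
-/

set_option autoImplicit false
set_option linter.unusedSectionVars false

namespace Cfsg.Lib.Coprime

open Subgroup Cfsg.Lib.BG1 Cfsg.Lib.Core Cfsg.Lib.Amalg Cfsg.Lib.Linear

universe u

/-- the spectrum of `J₁ × J₁` -/
def jw : Finset ℕ := {1, 2, 3, 5, 6, 7, 10, 11, 14, 15, 19, 21, 22, 30, 33, 35, 38, 42, 55, 57, 66, 70, 77, 95, 105, 110, 114, 133, 165,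
  190, 209, 285}

def JW (X : Type*) [Group X] : Prop := ∀ g : X, orderOf g ∈ jw

theorem jw_dvd {n d : ℕ} (h : n ∈ jw) (hd : d ∣ n) : d ∈ jw :=
  (by decide +kernel : ∀ n ∈ jw, n ≠ 0 ∧ ∀ d ∈ n.divisors, d ∈ jw) n h |>.elim fun h0 h1 => h1 d (Nat.mem_divisors.2 ⟨hd, h0⟩)

theorem jw_sq {p : ℕ} (hp : p.Prime) : p ^ 2 ∉ jw := fun h =>
  hp.ne_one ((by decide +kernel : ∀ n ∈ jw, ∀ d ∈ n.divisors, d ^ 2 = n → d = 1) _ h p
    (Nat.mem_divisors.2 ⟨dvd_pow_self p two_ne_zero, pow_ne_zero 2 hp.ne_zero⟩) rfl)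

variable {X Y S : Type*} [Group X] [Finite X] [Group Y] [Group S] [Finite S] {f : X →* Y} {p q r n : ℕ} {H : Subgroup X}

theorem JW.of_surj (h : JW X) (hf : Function.Surjective f) : JW Y := fun y => by
  obtain ⟨x, rfl⟩ := hf y
  exact jw_dvd (h x) (orderOf_map_dvd f x)

theorem JW.sub (h : JW X) (H : Subgroup X) : JW H := fun x => by simpa using h x

theorem JW.of_inj {f : Y →* X} (h : JW X) (hf : Function.Injective f) : JW Y := fun y => orderOf_injective f hf y ▸ h _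

theorem JW.not_dvd (h : JW X) (hn : n ∉ jw) (g : X) : ¬ n ∣ orderOf g := fun e => hn (jw_dvd (h g) e)

theorem JW.t3 (h : JW X) (h1 : p.Coprime q ∧ p.Coprime r ∧ q.Coprime r ∧ p * q * r ∉ jw) : T3 X p q r :=
  t3_of_ord h1.1 h1.2.1 h1.2.2.1 fun g e => h1.2.2.2 (e ▸ h g)

theorem JW.pow_eq_one (h : JW X) (hp : p.Prime) {x : X} {k : ℕ} (hx : x ^ p ^ k = 1) : x ^ p = 1 := by
  obtain ⟨j, -, hj⟩ := (Nat.dvd_prime_pow hp).1 (orderOf_dvd_of_pow_eq_one hx)
  refine orderOf_dvd_iff_pow_eq_one.1 ?_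
  by_cases h2 : 2 ≤ j
  · exact (h.not_dvd (jw_sq hp) x (hj ▸ pow_dvd_pow p h2)).elim
  · simpa [hj] using pow_dvd_pow p (show j ≤ 1 by omega)

theorem JW.pg_pow (h : JW X) (hp : p.Prime) (hH : IsPGroup p H) {x : X} (hx : x ∈ H) : x ^ p = 1 :=
  let ⟨_, hk⟩ := hH ⟨x, hx⟩; h.pow_eq_one hp (congrArg Subtype.val hk)

theorem JW.nc (h : JW X) (hp : p.Prime) (hd : p ^ 2 ∣ Nat.card H) : ∃ A ≤ H, NC p A := by
  have := Fact.mk hp
  obtain ⟨A, hA⟩ := Sylow.exists_subgroup_card_pow_prime p hd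
  have h1 : Nat.card (A.map H.subtype) = p ^ 2 := (card_map_of_injective H.subtype_injective).trans hA
  refine ⟨_, map_subtype_le A, IsPGroup.isMulCommutative_of_card_eq_prime_sq h1, fun a => h.pg_pow hp (.of_card h1), fun e => ?_⟩
  obtain ⟨g, hg⟩ := e.exists_ofOrder_eq_natCard
  exact jw_sq hp (h1 ▸ hg ▸ h.sub _ g)

theorem JW.f4 (h : JW X) (hp : p = 2 ∨ p = 3 ∨ p = 5) : F4 X p 7 11 19 := by
  rcases hp with rfl | rfl | rfl <;>
  exact ⟨by norm_num, by norm_num, by norm_num, by norm_num, by decide, by decide, by decide, by decide, by decide, by decide,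
    h.t3 (by decide +kernel), h.t3 (by decide +kernel), h.t3 (by decide +kernel), h.t3 (by decide +kernel)⟩

theorem JW.sol (h : JW X) (hp : p = 2 ∨ p = 3 ∨ p = 5) (hs : Group.IsSolvable H) (h1 : p ^ 2 ∣ Nat.card H) (h2 : 7 ^ 2 ∣ Nat.card H)
    (h3 : 11 ^ 2 ∣ Nat.card H) (h4 : 19 ^ 2 ∣ Nat.card H) : False :=
  (h.f4 hp).elim_nc hs (h.nc (h.f4 hp).hp h1) (h.nc (by norm_num) h2) (h.nc (by norm_num) h3) (h.nc (by norm_num) h4)

theorem JW.prime_mem (h : JW X) (hp : p.Prime) (hd : p ∣ Nat.card X) : p ∈ jw :=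
  have := Fact.mk hp
  let ⟨x, hx⟩ := exists_prime_orderOf_dvd_card' p hd; hx ▸ h x

theorem JW.psl2 {F : Type*} [Field F] [Fintype F] (h : JW (PSL2 F)) (h4 : 4 ≤ Fintype.card F) :
    Fintype.card F = 4 ∨ Fintype.card F = 5 ∨ Fintype.card F = 11 := by
  obtain ⟨⟨x, hx⟩, y, hy⟩ := Exc.psl2_orders F
  have h1 := FiniteField.isPrimePow_card F
  have h2 := card_PSL_two (F := F)
  rw [Nat.card_eq_fintype_card] at hx hy h2
  have h3 := h x
  have h5 := h y
  generalize orderOf x = a at hx h3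
  generalize orderOf y = b at hy h5
  have h6 : ∀ p : ℕ, p.Prime → p ≠ 2 → p = Fintype.card F → p ∈ jw := fun p hp p2 e => h.prime_mem hp
    (((Nat.Prime.dvd_mul hp).1 (by rw [h2, ← e]; exact (dvd_mul_right _ _).mul_right _)).resolve_left fun e =>
      p2 ((Nat.prime_dvd_prime_iff_eq hp Nat.prime_two).1 (e.trans (Nat.gcd_dvd_left _ _))))
  generalize Fintype.card F = q at *
  rcases (Nat.dvd_prime Nat.prime_two).1 (Nat.gcd_dvd_left 2 (q - 1)) with e | e <;> rw [e] at hx hy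
  · have := (by decide +kernel : ∀ a ∈ jw, a + 2 ∈ jw → a % 2 = 1 → 3 ≤ a → IsPrimePow (a + 1) → a = 3) a h3 (by
      rwa [show a + 2 = b by omega]) (by have := Nat.coprime_two_left.1 e; rw [Nat.odd_iff] at this; omega) (by omega) (by
      rwa [show a + 1 = q by omega])
    omega
  · have := (by decide +kernel : ∀ a ∈ jw, a + 1 ∈ jw → 2 ≤ a → IsPrimePow (2 * a + 1) →
      ((2 * a + 1).Prime → 2 * a + 1 ∈ jw) → a = 2 ∨ a = 5) a h3 (by rwa [show a + 1 = b by omega]) (by omega) (by rwa [hx])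
      fun e => h6 _ e (by omega) hx
    omega

theorem card_conj_range [IsSimpleGroup S] (hn : ¬ IsMulCommutative S) : Nat.card (Inn S) = Nat.card S := by
  refine (Nat.card_congr (MonoidHom.ofInjective ((MonoidHom.ker_eq_bot_iff _).1 ?_)).toEquiv).symm
  refine (Subgroup.Normal.eq_bot_or_eq_top inferInstance).resolve_right fun e => hn ⟨⟨fun a b => ?_⟩⟩
  exact mul_inv_eq_iff_eq_mul.1 (DFunLike.congr_fun (MonoidHom.mem_ker.1 (e ▸ mem_top a : a ∈ (MulAut.conj : S →* _).ker)) b)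

theorem out_of_card [IsSimpleGroup S] (hn : ¬ IsMulCommutative S) (h : Nat.card (MulAut S) = 2 * Nat.card S) (α : MulAut S) :
    ∃ s, α ^ 2 = MulAut.conj s := by
  have h1 := (Inn S).card_mul_index
  rw [card_conj_range hn, h, mul_comm] at h1
  obtain ⟨s, hs⟩ := sq_mem_of_index_two (Nat.eq_of_mul_eq_mul_right Nat.card_pos h1) α
  exact ⟨s, hs.symm⟩

theorem j1_out (e : Spor.IsoJ1 S) (α : MulAut S) : ∃ s, α = MulAut.conj s := by
  obtain ⟨e⟩ := e
  have := (Nat.card_eq_one_iff_unique.1 Cfsg.Agent.S2065.result).1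
  obtain ⟨a, ha⟩ : MulAut.congr e α ∈ Inn Spor.J1 := (QuotientGroup.eq_one_iff _).1 (Subsingleton.elim _ _)
  exact ⟨e.symm a, MulEquiv.ext fun x => e.injective (by simpa using (DFunLike.congr_fun ha (e x)).symm)⟩

theorem j1_card (e : Spor.IsoJ1 S) : Nat.card S = 175560 := (Nat.card_congr e.some.toEquiv).trans JR.j1_card

/-- the simple sections: `A₅`, `L₂(11)`, `J₁` -/
structure JD (S : Type*) [Group S] : Prop where
  simple : IsSimpleGroup S
  nc : ¬ IsMulCommutative S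
  out : ∀ α : MulAut S, ∃ s, α ^ 2 = MulAut.conj s
  card : Nat.card S = 60 ∨ Nat.card S = 660 ∨ Spor.IsoJ1 S

theorem JW.jd_psl [IsSimpleGroup S] (h : JW S) (hn : ¬ IsMulCommutative S) {F : Type} [Field F] [Fintype F] (h4 : 4 ≤ Fintype.card F)
    (e : S ≃* PSL2 F) : JD S := by
  have h1 := (h.of_surj (f := e.toMonoidHom) e.surjective).psl2 h4
  have h2 := card_PSL_two (F := F)
  have h3 := card_mulAut_PSL_two (F := F)
  obtain ⟨p, _, n, hp, hF⟩ := FiniteField.card' F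
  have := Fact.mk hp
  rw [card_PGL_two, BS.card_aut (Nat.card_eq_fintype_card.trans hF), ← Nat.card_congr (MulAut.congr e).toEquiv] at h3
  rw [← Nat.card_congr e.toEquiv] at h2
  rw [Nat.card_eq_fintype_card (α := F)] at h2 h3
  rcases h1 with h1 | h1 | h1 <;> rw [h1] at h2 h3 hF <;> norm_num at h2
  · have h5 := Nat.Prime.pow_inj' hp Nat.prime_two n.ne_zero two_ne_zero hF.symm
    exact ⟨‹_›, hn, out_of_card hn (by rw [h3, h5.2]; omega), Or.inl (by omega)⟩
  · have h5 := (Nat.Prime.pow_eq_iff Nat.prime_five).1 hF.symm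
    exact ⟨‹_›, hn, out_of_card hn (by rw [h3, h5.2]; omega), Or.inl (by omega)⟩
  · have h5 := (Nat.Prime.pow_eq_iff (by norm_num : Nat.Prime 11)).1 hF.symm
    exact ⟨‹_›, hn, out_of_card hn (by rw [h3, h5.2]; omega), Or.inr (Or.inl (by omega))⟩

theorem JW.jd {S : Type u} [Group S] [Finite S] [IsSimpleGroup S] (h : JW S) (hn : ¬ IsMulCommutative S) : JD S := by
  obtain ⟨P, hP⟩ := exists_syl 2 (⊤ : Subgroup S)
  rcases JTW.abel hn hP (comm_of_sq fun x hx => pow_two x ▸ h.pg_pow Nat.prime_two hP.isPGroup hx) with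
    ⟨F, _, _, -, h1, ⟨e⟩⟩ | ⟨F, _, _, ⟨n, h1, h2⟩, ⟨e⟩⟩ | e | ⟨t, K, F, _, _, m, -, h1, h2, ⟨e⟩, -⟩
  · exact h.jd_psl hn (by omega) e
  · exact h.jd_psl hn (h2 ▸ Nat.pow_le_pow_right two_pos h1) e
  · exact ⟨‹_›, hn, fun α => j1_out e _, Or.inr (Or.inr e)⟩
  · have h3 : 3 ^ 3 ≤ Fintype.card F := h2 ▸ Nat.pow_le_pow_right three_pos (by omega)
    have := ((h.sub K).of_surj (f := e.toMonoidHom) e.surjective).psl2 (by omega)
    omega

theorem JD.card' (d : JD S) : Nat.card S = 60 ∨ Nat.card S = 660 ∨ Nat.card S = 175560 := d.card.imp_right (Or.imp_right j1_card)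

theorem JD.sixty (d : JD S) : 60 ∣ Nat.card S := by rcases d.card' with e | e | e <;> rw [e] <;> decide

theorem JD.not_sq (d : JD S) (h : r = 7 ∨ r = 11 ∨ r = 19) : ¬ r ^ 2 ∣ Nat.card S := by
  rcases d.card' with e | e | e <;> rcases h with rfl | rfl | rfl <;> rw [e] <;> decide

theorem JD.iso (d : JD S) (h : r = 7 ∨ r = 19) (hd : r ∣ Nat.card S) : Spor.IsoJ1 S := by
  rcases d.card with e | e | e
  · rcases h with rfl | rfl <;> omega
  · rcases h with rfl | rfl <;> omega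
  · exact e

theorem j1_ord (e : Spor.IsoJ1 S) (g : S) : orderOf g ∈ ({1, 2, 3, 5, 6, 7, 10, 11, 15, 19} : Finset ℕ) := by
  rw [← e.some.orderOf_eq, ← Finset.mem_coe, ← spec_J1]
  exact ⟨_, rfl⟩

/-- `K ⋊ ⟨x⟩` is a Frobenius group with `q`-kernel and complement of order `m` -/
structure FD (q m : ℕ) (K : Subgroup S) (x : S) : Prop where
  hq : q.Prime
  pg : IsPGroup q K
  ne : K ≠ ⊥
  nm : x ∈ 𝐍(K)
  ord : orderOf x = m
  fpf : ∀ i : ℕ, x ^ i ≠ 1 → K ⊓ 𝐂[x ^ i] = ⊥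

theorem FD.pow {m k : ℕ} {K : Subgroup S} {x : S} (d : FD q (k * m) K x) : FD q m K (x ^ k) :=
  have h : k ≠ 0 := left_ne_zero_of_mul (d.ord ▸ (orderOf_pos x).ne')
  ⟨d.hq, d.pg, d.ne, pow_mem d.nm k, by rw [orderOf_pow_of_dvd h (d.ord ▸ dvd_mul_right k m), d.ord, Nat.mul_div_cancel_left _
    (Nat.pos_of_ne_zero h)], fun i => by simpa only [← pow_mul] using d.fpf (k * i)⟩

theorem exists_fd {m d : ℕ} (hq : q.Prime) (hS : Nat.card S = q * m) (hm : ¬ q ∣ m) (h : ∀ g : S, q ∣ orderOf g → orderOf g = q)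
    (hd : m % q = d) (d1 : d ≠ 1) : ∃ (K : Subgroup S) (x : S), FD q d K x := by
  have := Fact.mk hq
  obtain ⟨y, hy⟩ := exists_prime_orderOf_dvd_card' q (hS ▸ dvd_mul_right q m)
  have hc : Nat.card (zpowers y) = q := (Nat.card_zpowers y).trans hy
  have hs : Syl q (zpowers y) ⊤ := syl_top (Sylow.ofCard (zpowers y) (by
    rw [hc, hS, Nat.factorization_mul hq.ne_zero (by rintro rfl; simp at hm)]
    simp [hq.factorization_self, Nat.factorization_eq_zero_of_not_dvd hm]))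
  have h1 : ∀ g, Commute g y → g ∈ zpowers y := fun g hg => by
    by_cases h2 : q ∣ orderOf g
    · exact hs.mem_of_mem_normalizer (k := 1) (by rw [pow_one, ← h g h2, pow_orderOf_eq_one]) (mem_top g)
        (centralizer_le_normalizer _ (cent_zp (x := y) ▸ mc1.2 hg))
    · have h3 := hg.orderOf_mul_eq_mul_orderOf_of_coprime (hy ▸ ((Nat.Prime.coprime_iff_not_dvd hq).2 h2).symm)
      rw [hy, h _ (h3 ▸ hy ▸ dvd_mul_left _ _)] at h3
      rw [orderOf_eq_one_iff.1 (Nat.eq_of_mul_eq_mul_right hq.pos (h3.symm.trans (one_mul q).symm))]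
      exact one_mem _
  have h2 : ∀ g, ∀ z ∈ zpowers y, z ≠ 1 → Commute g z → Commute g y := fun g z hz z1 hg => by
    obtain ⟨k, rfl⟩ : y ∈ zpowers z := (BG2.eq_zpowers_of_card_eq hc hz z1).ge (mem_zpowers y)
    exact hg.zpow_right k
  have h3 : 𝐂(zpowers y) = zpowers y := le_antisymm (fun g hg => h1 g (mcc hg (mem_zpowers y))) (le_centralizer _)
  let φ := (zpowers y).normalizerMonoidHom
  have : IsCyclic (MulAut (zpowers y)) := by
    have : IsCyclic (ZMod (Nat.card (zpowers y)))ˣ := hc.symm ▸ inferInstance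
    exact isCyclic_of_injective (IsCyclic.mulAutMulEquiv _).toMonoidHom (IsCyclic.mulAutMulEquiv _).injective
  obtain ⟨⟨_, x, rfl⟩, hx⟩ := IsCyclic.exists_ofOrder_eq_natCard (α := φ.range)
  replace hx : orderOf (φ x) = _ := (orderOf_mk _ _).symm.trans hx
  have h4 : Nat.card φ.range < q := (card_le_card_group _).trans_lt (by rw [IsCyclic.card_mulAut, hc]; exact Nat.totient_lt q hq.one_lt)
  have h5 : m = Nat.card φ.range * (𝐍(zpowers y)).index := by
    rw [← index_ker, normalizerMonoidHom_ker, h3]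
    refine Nat.eq_of_mul_eq_mul_left hq.pos ?_
    rw [← hS, ← (zpowers y).card_mul_index, hc, ← relIndex_mul_index (le_normalizer (H := zpowers y))]
    rfl
  have h6 := JR.Syl.relIndex_norm hs
  rw [relIndex_top_right] at h6
  have h7 : Nat.card φ.range = d := by
    rw [← hd, h5, (h6.mul_left _ : _ = _), mul_one, Nat.mod_eq_of_lt h4]
  have h8 : ∀ i : ℕ, x.1 ^ i ∈ zpowers y ↔ d ∣ i := fun i => by
    rw [← h7, ← hx, orderOf_dvd_iff_pow_eq_one, ← map_pow, ← MonoidHom.mem_ker, normalizerMonoidHom_ker, h3]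
    rfl
  have h9 : x.1 ^ d = 1 := by_contra fun e => d1 (Nat.dvd_one.1 ((h8 1).1 (h1 _ (h2 _ _ ((h8 d).2 dvd_rfl) e
    ((Commute.refl _).pow_pow 1 d)))))
  refine ⟨_, x, hq, pg_zp hy, by simpa using ne_one_of_ord hq hy, x.2, Nat.dvd_antisymm (orderOf_dvd_of_pow_eq_one h9)
    ((h8 _).1 (pow_orderOf_eq_one x.1 ▸ one_mem _)), fun i hi => eq_bot_iff.2 fun z hz => by_contra fun e => hi ?_⟩
  obtain ⟨k, rfl⟩ := (h8 i).1 (h1 _ (h2 _ z hz.1 e (mc1.1 hz.2).symm))
  rw [pow_mul, h9, one_pow]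

theorem j1_fd11 (e : Spor.IsoJ1 S) : ∃ (K : Subgroup S) (x : S), FD 11 10 K x :=
  exists_fd (m := 15960) (by norm_num) (j1_card e) (by decide) (fun g =>
    (by decide : ∀ n ∈ ({1, 2, 3, 5, 6, 7, 10, 11, 15, 19} : Finset ℕ), 11 ∣ n → n = 11) _ (j1_ord e g)) rfl (by decide)

theorem j1_fd19 (e : Spor.IsoJ1 S) : ∃ (K : Subgroup S) (x : S), FD 19 6 K x :=
  exists_fd (m := 9240) (by norm_num) (j1_card e) (by decide) (fun g =>
    (by decide : ∀ n ∈ ({1, 2, 3, 5, 6, 7, 10, 11, 15, 19} : Finset ℕ), 19 ∣ n → n = 19) _ (j1_ord e g)) rfl (by decide)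

instance j1_finite : Finite Spor.J1 := Nat.finite_of_card_ne_zero (by rw [JR.j1_card]; decide)

theorem j1_fd2 : ∃ (K : Subgroup Spor.J1) (x : Spor.J1), FD 2 7 K x := by
  have := JR.j1_simple
  obtain ⟨t, ht, ⟨i⟩⟩ := JR.j1_cent
  obtain ⟨F, j⟩ := JR.jz_of_equiv ht (by
    have := (centralizer {t}).card_mul_index
    rw [Nat.card_congr i.toEquiv, Nat.card_prod, nat_card_alternatingGroup, JR.j1_card, Nat.card_eq_fintype_card,
      Fintype.card_multiplicative, ZMod.card, Nat.card_eq_fintype_card, Fintype.card_fin] at this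
    rw [Nat.odd_iff]
    norm_num [Nat.factorial] at this
    omega) i
  obtain ⟨K, k, hk⟩ := j.exists_JS
  obtain ⟨x, hx, h7, -⟩ := j.exists_rx k hk
  refine ⟨K, x, Nat.prime_two, k.syl.isPGroup, fun e => ne_one_of_ord Nat.prime_two ht (mem_bot.1 (e ▸ hk)), hx, h7,
    fun i hi => eq_bot_iff.2 fun z hz => by_contra fun e => j.not_seven (k.two hz.1 e) (g := x ^ i) ?_ (mc1.1 hz.2).symm⟩
  exact ((Nat.dvd_prime (by norm_num)).1 ((orderOf_dvd_of_mem_zpowers (npow_mem_zpowers x i)).trans h7.dvd)).resolve_left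
    (mt orderOf_eq_one_iff.1 hi)

theorem FD.sol {m : ℕ} {K : Subgroup S} {x : S} (d : FD q m K x) :
    ∃ H : Subgroup S, Group.IsSolvable H ∧ m ∣ Nat.card H ∧ q ∣ Nat.card H := by
  have := Fact.mk d.hq
  have := solvable_of_pgroup d.hq d.pg
  exact ⟨zpowers x ⊔ K, isSolvable_sup_of_le_normalizer (zpowers_le.2 d.nm), d.ord ▸ orderOf_dvd_natCard _ (mem_sup_left (mem_zpowers x)),
    dvd_card_of_isPGroup_le d.pg d.ne le_sup_right⟩

theorem JD.sol55 (d : JD S) (h : 11 ∣ Nat.card S) : ∃ H : Subgroup S, Group.IsSolvable H ∧ 5 ∣ Nat.card H ∧ 11 ∣ Nat.card H := by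
  rcases d.card with e | e | e
  · omega
  · have := Fact.mk (by norm_num : Nat.Prime 11)
    obtain ⟨P⟩ : Nonempty (Sylow 11 S) := inferInstance
    have h1 : _ = (𝐍((P : Subgroup S))).index := P.card_eq_index_normalizer
    have h2 := card_sylow_modEq_one 11 S
    have h3 := (𝐍((P : Subgroup S))).card_mul_index
    have h4 : Nat.card P = 11 := by rw [P.card_eq_multiplicity, e]; decide +kernel
    have h5 := h4 ▸ card_dvd_of_le (le_normalizer (H := (P : Subgroup S)))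
    have h6 : Nat.card 𝐍((P : Subgroup S)) = 55 := by
      have := d.simple
      have h6 : (𝐍((P : Subgroup S))).index ≠ 1 := fun h => by
        rcases (normalizer_eq_top_iff.1 (index_eq_one.1 h)).eq_bot_or_eq_top with h | h <;> simp [h, e] at h4
      obtain ⟨k, hk⟩ := h5
      rw [hk, e] at h3
      rw [h1] at h2
      have := (by decide : ∀ n ∈ Nat.divisors 60, n % 11 = 1 % 11 → n ≠ 1 → n = 12) _ (Nat.mem_divisors.2
        ⟨Dvd.intro_left k (by rw [mul_assoc] at h3; omega), by decide⟩) h2 h6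
      rw [this] at h3
      omega
    exact ⟨_, solvable_of_two_primes Nat.prime_five (q := 11) (by norm_num) fun r hr h => by
      simpa [Nat.prime_dvd_prime_iff_eq hr Nat.prime_five, Nat.prime_dvd_prime_iff_eq hr (by norm_num : Nat.Prime 11)] using
        (Nat.Prime.dvd_mul hr (m := 5) (n := 11)).1 (h.trans h6.dvd), h6 ▸ by decide, h5⟩
  · obtain ⟨K, x, d⟩ := j1_fd11 e
    exact (FD.pow (k := 2) (m := 5) d).sol

end Cfsg.Lib.Coprime
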