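import Cfsg.Agent.Lib.Coprime.JSq1

/-!
# Groups whose element orders are those of `J₁ × J₁`: the solvable radical
-/

set_option autoImplicit false
set_option linter.unusedSectionVars false

namespace Cfsg.Lib.Coprime

open Subgroup Cfsg.Lib.BG1 Cfsg.Lib.Core Cfsg.Lib.Amalg

universe u

variable {X : Type u} {S T : Type*} [Group X] [Finite X] [Group S] [Finite S] [Group T] [Finite T] {p q r m q₂ m₂ : ℕ}
  {K : Subgroup S} {x : S} {K₂ : Subgroup T} {x₂ : T} {A D : Subgroup X} {g : X →* S}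

theorem not_dvd_pg {H : Type*} [Group H] [Finite H] (hp : p.Prime) (hq : q.Prime) (h : p ≠ q) (hH : IsPGroup p H) : ¬ q ∣ Nat.card H :=
  fun e => h ((isPGroup_iff_isPiNumber hp).1 hH q hq e).symm

theorem FD.top_or [IsSimpleGroup S] (d : FD q m K x) (hf : Function.Surjective g) (hp : p.Prime) (pq : p ≠ q) (hV : IsPGroup p g.ker) :
    (𝐂(g.ker)).map g = ⊤ ∨ ∃ y, g y = x ∧ y ^ m ≠ 1 := by
  have := norm_of_top (V := g.ker) le_normalizer_of_normal
  refine ((Subgroup.Normal.map this g hf).eq_bot_or_eq_top).symm.imp_right fun h => by_contra fun h0 => ?_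
  push Not at h0
  obtain ⟨P, h1, h2, h3, h4⟩ := lift_syl hf d.hq d.pg (not_dvd_pg hp d.hq pq hV)
  obtain ⟨y, hy, e⟩ := h4 x d.nm
  refine d.ne (le_bot_iff.1 (h2 ▸ h ▸ map_mono (Layer.le_cent_of_norm_trivial' hp hV (d.ord ▸ orderOf_pos x) (fun i i0 im => ?_) hy
    le_normalizer_of_normal (le_normalizer_of_normal (mem_top y)) (cop_pg d.hq hp pq.symm h1 hV) fun v hv => by
      rw [h0 _ (by rw [map_mul, e, MonoidHom.mem_ker.1 hv, one_mul]), h0 y e])))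
  refine eq_bot_iff.2 fun z hz => h3 z hz.1 (mem_bot.1 (d.fpf i (pow_ne_one_of_lt_orderOf i0.ne' (d.ord ▸ im)) ▸
    mem_inf.2 ⟨h2 ▸ mem_map_of_mem g hz.1, mc1.2 ?_⟩))
  simpa only [map_pow, e] using (mc1.1 hz.2).map g

theorem ker_rel : (g.comp A.subtype).ker = (A ⊓ g.ker).subgroupOf A := by
  rw [inf_subgroupOf_left, ← MonoidHom.comap_ker, comap_subtype]

theorem surj_rel (hA : A.map g = ⊤) : Function.Surjective (g.comp A.subtype) := by
  rwa [← MonoidHom.range_eq_top, MonoidHom.range_comp, range_subtype]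

theorem FD.rel [IsSimpleGroup S] (d : FD q m K x) (hA : A.map g = ⊤) (hp : p.Prime) (pq : p ≠ q) (hV : IsPGroup p ↥(A ⊓ g.ker)) :
    (∀ a, ∃ c ∈ A ⊓ 𝐂(A ⊓ g.ker), g c = a) ∨ ∃ y ∈ A, g y = x ∧ y ^ m ≠ 1 := by
  refine (d.top_or (surj_rel hA) hp pq (by rw [ker_rel]; exact Core.isPGroup_subgroupOf hV A)).imp (fun h a => ?_)
    fun ⟨y, h1, h2⟩ => ⟨y, y.2, h1, fun e => h2 (Subtype.ext e)⟩
  obtain ⟨c, h1, h2⟩ : a ∈ _ := h ▸ mem_top a
  exact ⟨c, ⟨c.2, fun v hv => congrArg Subtype.val (h1 ⟨v, hv.1⟩ hv.2)⟩, h2⟩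

theorem FD.fix [IsSimpleGroup S] (d : FD q m K x) (hA : A.map g = ⊤) (hp : p.Prime) (pq : p ≠ q) (pm : ¬ p ∣ m)
    (hV : IsPGroup p ↥(A ⊓ g.ker)) (h0 : A ⊓ g.ker ≠ ⊥) : ∃ y ∈ A, orderOf y = m ∧ A ⊓ g.ker ⊓ 𝐂[y] ≠ ⊥ := by
  have k : ∀ c ∈ A, g c = x → orderOf (c ^ Nat.card ↥(A ⊓ g.ker)) = m := fun c hc e => by
    have := ord_pow_ker (f := g.comp A.subtype) (x := ⟨c, hc⟩) (by
      rw [ker_rel, card_subgroupOf_of_le inf_le_left]
      exact (show orderOf (g c) = m from e ▸ d.ord) ▸ (coprime_of_isPGroup_of_not_dvd hp hV pm).symm)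
    rw [ker_rel, card_subgroupOf_of_le inf_le_left, ← Subgroup.orderOf_coe] at this
    exact this.trans (e ▸ d.ord)
  rcases d.rel hA hp pq hV with h | ⟨y, h1, h2, h3⟩
  · obtain ⟨c, h1, h2⟩ := h x
    exact ⟨_, pow_mem h1.1 _, k c h1.1 h2, by rwa [inf_eq_left.2 fun v hv => mc1.2 (mcc (pow_mem h1.2 _) hv).symm]⟩
  · refine ⟨_, pow_mem h1 _, k y h1 h2, fun e => h3 (mem_bot.1 (e ▸ mem_inf.2 ⟨mem_inf.2 ⟨pow_mem h1 m, ?_⟩,
      mc1.2 ((Commute.refl y).pow_pow _ _)⟩))⟩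
    rw [MonoidHom.mem_ker, map_pow, h2, ← d.ord, pow_orderOf_eq_one]

section Prod

variable {f : X →* S × T}

theorem fst_map (hf : Function.Surjective f) : ((MonoidHom.snd S T).comp f).ker.map ((MonoidHom.fst S T).comp f) = ⊤ :=
  (eq_top_iff' _).2 fun a => let ⟨y, hy⟩ := hf (a, 1); ⟨y, congrArg Prod.snd hy, congrArg Prod.fst hy⟩

theorem ker_inf : ((MonoidHom.snd S T).comp f).ker ⊓ ((MonoidHom.fst S T).comp f).ker = f.ker :=
  Subgroup.ext fun _ => ⟨fun h => Prod.ext h.2 h.1, fun h => ⟨congrArg Prod.snd h, congrArg Prod.fst h⟩⟩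

theorem FD.half [IsSimpleGroup S] (d : FD q p K x) (h : JW X) (hf : Function.Surjective f) (hp : p.Prime) (pq : p ≠ q)
    (hV : IsPGroup p f.ker) (a : S) : (a, 1) ∈ (𝐂(f.ker)).map f := by
  rcases d.rel (fst_map hf) hp pq (ker_inf (f := f) ▸ hV) with h1 | ⟨y, h1, h2, h3⟩
  · obtain ⟨c, h1, h2⟩ := h1 a
    exact ⟨c, ker_inf (f := f) ▸ h1.2, Prod.ext h2 h1.1⟩
  · refine (h3 (h.pow_eq_one hp (k := 2) ?_)).elim
    rw [pow_two, pow_mul]
    refine h.pg_pow hp hV (ker_inf (f := f) ▸ mem_inf.2 ⟨pow_mem h1 p, ?_⟩)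
    rw [MonoidHom.mem_ker, map_pow, h2, ← d.ord, pow_orderOf_eq_one]

theorem FD.two_step [IsSimpleGroup S] [IsSimpleGroup T] (d : FD q m K x) (d₂ : FD q₂ m₂ K₂ x₂) (h : JW X) (hf : Function.Surjective f)
    (hp : p.Prime) (hV : IsPGroup p f.ker) (h0 : f.ker ≠ ⊥)
    (hn : p ≠ q ∧ p ≠ q₂ ∧ p.Coprime m ∧ p.Coprime m₂ ∧ m.Coprime m₂ ∧ p * m * m₂ ∉ jw) : False := by
  obtain ⟨y, h1, h2, h3⟩ := d.fix (fst_map hf) hp hn.1 (hp.coprime_iff_not_dvd.1 hn.2.2.1) (ker_inf (f := f) ▸ hV) (ker_inf (f := f) ▸ h0)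
  rw [ker_inf] at h3
  have h4 : ((MonoidHom.fst S T).comp f).ker ⊓ 𝐂[y] ⊓ ((MonoidHom.snd S T).comp f).ker = f.ker ⊓ 𝐂[y] := by
    rw [inf_right_comm, inf_comm ((MonoidHom.fst S T).comp f).ker, ker_inf]
  obtain ⟨z, h5, h6, h7⟩ := d₂.fix (g := (MonoidHom.snd S T).comp f) (A := ((MonoidHom.fst S T).comp f).ker ⊓ 𝐂[y]) (by
    have := map_inf_centralizer f (A := zpowers y) (K := ((MonoidHom.fst S T).comp f).ker) le_normalizer_of_normal (by
      rw [inf_eq_right.2 (ker_inf (f := f) ▸ inf_le_right), Nat.card_zpowers, h2]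
      exact (coprime_of_isPGroup_of_not_dvd hp hV (hp.coprime_iff_not_dvd.1 hn.2.2.1)).symm) (Or.inl inferInstance)
    rw [cent_zp, MonoidHom.map_zpowers, cent_zp] at this
    refine (eq_top_iff' _).2 fun b => ?_
    obtain ⟨c, hc⟩ := hf (1, b)
    obtain ⟨c, h5, h6⟩ := this.ge (mem_inf.2 ⟨mem_map.2 ⟨c, congrArg Prod.fst hc, hc⟩, mc1.2 (Prod.ext (by simp)
      (by simp [show (f y).2 = 1 from h1]))⟩)
    exact ⟨c, h5, congrArg Prod.snd h6⟩) hp hn.2.1 (hp.coprime_iff_not_dvd.1 hn.2.2.2.1) (h4 ▸ hV.to_inf_left) (h4 ▸ h3)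
  rw [h4] at h7
  obtain ⟨w, h8, h9⟩ := exists_ord_of_ne_bot hp hV.to_inf_left.to_inf_left h7
  exact h.t3 hn.2.2 w y z h9 h2 h6 (mc1.1 h8.1.2) (mc1.1 h8.2) (mc1.1 h5.2).symm

end Prod

theorem j1_ker_pg {f : X →* Spor.J1 × Spor.J1} (h : JW X) (hf : Function.Surjective f) (hp : p.Prime) (hV : IsPGroup p f.ker) :
    f.ker = ⊥ := by
  by_contra h0
  have := JR.j1_simple
  obtain ⟨K₁, x₁, d₁⟩ := j1_fd11 (S := Spor.J1) ⟨MulEquiv.refl _⟩
  obtain ⟨K₂, x₂, d₂⟩ := j1_fd19 (S := Spor.J1) ⟨MulEquiv.refl _⟩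
  obtain ⟨K₃, x₃, d₃⟩ := j1_fd2
  obtain ⟨z, hz, h1⟩ := exists_ord_of_ne_bot hp hV h0
  obtain ⟨y, -, hy⟩ := exists_ord_of_ne_bot d₁.hq d₁.pg d₁.ne
  have k : ∀ {q : ℕ} {K : Subgroup Spor.J1} {x : Spor.J1}, FD q p K x → p ≠ q → T3 X p 7 11 → False := fun d pq t =>
    cover (top_of_both (d.half h hf hp pq hV) (swap_ker (f := f) ▸ d.half h (swap_surj hf) hp pq (swap_ker (f := f) ▸ hV))) h1
      (fun c hc => mc1.2 (mcc hc hz)) d₃.ord hy t
  have := (by decide +kernel : ∀ n ∈ jw, n.Prime → n = 2 ∨ n = 3 ∨ n = 5 ∨ n = 7 ∨ n = 11 ∨ n = 19) p (h1 ▸ h z) hp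
  rcases this with rfl | rfl | rfl | rfl | rfl | rfl
  · exact k (FD.pow (k := 5) d₁) (by decide) (h.t3 (by decide +kernel))
  · exact k (FD.pow (k := 2) d₂) (by decide) (h.t3 (by decide +kernel))
  · exact k (FD.pow (k := 2) d₁) (by decide) (h.t3 (by decide +kernel))
  · exact d₁.two_step (FD.pow (k := 2) (m := 3) d₂) h hf hp hV h0 (by decide +kernel)
  · exact d₃.two_step (FD.pow (k := 3) (m := 2) d₂) h hf hp hV h0 (by decide +kernel)
  · exact d₃.two_step (FD.pow (k := 5) (m := 2) d₁) h hf hp hV h0 (by decide +kernel)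

theorem j1_ker (k : ℕ) : ∀ (X : Type u) [Group X] [Finite X] (f : X →* Spor.J1 × Spor.J1), JW X → Function.Surjective f →
    Group.IsSolvable f.ker → Nat.card f.ker = k → f.ker = ⊥ := by
  induction k using Nat.strong_induction_on with
  | _ k ih =>
  rintro X _ _ f hX hf hs rfl
  by_contra h0
  obtain ⟨V, h1, V0, hN, t, ht, cV, h2⟩ := exists_elem_inv hs h0 (A := ⊤) le_normalizer_of_normal
  have : V.Normal := normalizer_eq_top_iff.1 (top_le_iff.1 hN)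
  have h3 : Nat.card (QuotientGroup.lift V f h1).ker * Nat.card V = Nat.card f.ker := by
    rw [QuotientGroup.ker_lift, ← card_map_mk'_mul V f.ker, inf_eq_left.2 h1]
  have h4 := ih _ (by rw [← h3]; exact lt_mul_of_one_lt_right Nat.card_pos ((one_lt_card_iff_ne_bot V).2 V0)) (X ⧸ V)
    (QuotientGroup.lift V f h1) (hX.of_surj (QuotientGroup.mk'_surjective V)) (QuotientGroup.lift_surjective_of_surjective V f hf h1)
    (by rw [QuotientGroup.ker_lift]; exact solv_map hs _) rfl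
  rw [QuotientGroup.ker_lift, Subgroup.map_eq_bot_iff, QuotientGroup.ker_mk'] at h4
  exact h0 (j1_ker_pg hX hf ht ((pg_of_pow h2).to_le h4))

theorem exists_inv_cover (hr : r.Prime) (k : ℕ) : ∀ (X : Type u) [Group X] [Finite X] (D : Subgroup X) [D.Normal], Group.IsSolvable D →
    Odd (Nat.card D) → r ∣ Nat.card D → Nat.card D = k → ∃ C : Subgroup X, C.Normal ∧
      ∀ t, orderOf t = 2 → ¬ r ∣ Nat.card ↥(D ⊓ 𝐂[t]) → t ∉ C ∧ ⁅(⊤ : Subgroup X), zpowers t⁆ ≤ C := by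
  induction k using Nat.strong_induction_on with
  | _ k ih =>
  rintro X _ _ D _ hs ho hd rfl
  obtain ⟨V, h1, V0, hN, q, hq, cV, h2⟩ := exists_elem_inv hs (fun e => hr.ne_one (by simpa [e] using hd)) (A := ⊤) le_normalizer_of_normal
  have hV := pg_of_pow h2
  by_cases e : q = r
  · subst e
    refine ⟨𝐂(V), norm_of_top hN, fun t ht h3 => ?_⟩
    have h4 : V ⊓ 𝐂[t] = ⊥ := isPGroup_eq_bot_of_not_dvd (hp := ⟨hq⟩) hV.to_inf_left (inf_le_inf_right _ h1) h3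
    exact ⟨fun h => V0 (by rwa [inf_eq_left.2 fun v hv => mc1.2 (mcc h hv).symm] at h4), inv_comm_le ht hN (hN (mem_top t)) h4⟩
  have : V.Normal := normalizer_eq_top_iff.1 (top_le_iff.1 hN)
  have h3 : Nat.card (D.map (QuotientGroup.mk' V)) * Nat.card V = Nat.card D := by rw [← card_map_mk'_mul V D, inf_eq_left.2 h1]
  have : (D.map (QuotientGroup.mk' V)).Normal := Subgroup.Normal.map ‹_› _ (QuotientGroup.mk'_surjective V)
  obtain ⟨C, h4, h5⟩ := ih _ (by rw [← h3]; exact lt_mul_of_one_lt_right Nat.card_pos ((one_lt_card_iff_ne_bot V).2 V0)) (X ⧸ V)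
    (D.map (QuotientGroup.mk' V)) (solv_map hs _) (ho.of_dvd_nat (card_map_dvd _ _))
    (((Nat.Prime.dvd_mul hr).1 (h3 ▸ hd)).resolve_right (not_dvd_pg hq hr e hV)) rfl
  refine ⟨C.comap (QuotientGroup.mk' V), h4.comap _, fun t ht h6 => ?_⟩
  obtain ⟨h7, h8⟩ := h5 (QuotientGroup.mk' V t) (by
    rw [ord_map_of_cop, ht]
    rw [ht, QuotientGroup.ker_mk']
    exact Nat.coprime_two_left.2 (ho.of_dvd_nat (card_dvd_of_le h1))) fun h => h6 (h.trans (by
      have := map_mk'_inf_centralizer V (A := zpowers t) (K := D) le_normalizer_of_normal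
        (by rw [Nat.card_zpowers, ht]; exact Nat.coprime_two_left.2 ho) (Or.inr hs)
      rw [cent_zp, MonoidHom.map_zpowers, cent_zp] at this
      exact this ▸ card_map_dvd _ _))
  refine ⟨h7, map_le_iff_le_comap.1 ?_⟩
  rw [Subgroup.map_commutator, MonoidHom.map_zpowers]
  exact (commutator_mono le_top le_rfl).trans h8

theorem comm_top [IsSimpleGroup S] (hn : ¬ IsMulCommutative S) : ⁅(⊤ : Subgroup S), (⊤ : Subgroup S)⁆ = ⊤ :=
  (Subgroup.Normal.eq_bot_or_eq_top inferInstance).resolve_left fun e => hn ⟨⟨fun a b =>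
    (commutator_eq_bot_iff_le_centralizer.1 e (mem_top b) a (mem_top a))⟩⟩

theorem inf_map_top [IsSimpleGroup S] (hn : ¬ IsMulCommutative S) {B : Subgroup X} [A.Normal] [B.Normal] (h1 : A.map g = ⊤)
    (h2 : B.map g = ⊤) : (A ⊓ B).map g = ⊤ :=
  top_le_iff.1 (by simpa only [Subgroup.map_commutator, h1, h2, comm_top hn] using map_mono (f := g) (commutator_le_inf A B))

theorem exists_inv_cover' [IsSimpleGroup S] (hn : ¬ IsMulCommutative S) (hf : Function.Surjective g) (hr : r.Prime) [D.Normal]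
    (hs : Group.IsSolvable D) (ho : Odd (Nat.card D)) (hd : r ∣ Nat.card D) : ∃ C : Subgroup X, C.Normal ∧ C.map g = ⊤ ∧
      ∀ t ∈ C, orderOf t = 2 → g t ≠ 1 → r ∣ Nat.card ↥(D ⊓ 𝐂[t]) := by
  obtain ⟨C, h1, h2⟩ := exists_inv_cover hr _ X D hs ho hd rfl
  rcases (h1.map g hf).eq_bot_or_eq_top with h | h
  · refine ⟨⊤, inferInstance, map_top_of_surjective g hf, fun t _ ht h3 => by_contra fun h4 => h3 ?_⟩
    have h5 := map_mono (f := g) (h2 t ht h4).2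
    rw [h, Subgroup.map_commutator, map_top_of_surjective g hf, le_bot_iff, commutator_comm, commutator_eq_bot_iff_le_centralizer,
      MonoidHom.map_zpowers, zpowers_le, coe_top, centralizer_univ] at h5
    exact mem_bot.1 (((inferInstance : (center S).Normal).eq_bot_or_eq_top.resolve_right fun e => hn ⟨⟨fun a b =>
      mem_center_iff.1 (e.ge (mem_top b)) a⟩⟩).le h5)
  · exact ⟨C, h1, h, fun t h3 ht _ => by_contra fun h4 => (h2 t ht h4).1 h3⟩

theorem three_odd (d : JD S) (h : JW X) (hf : Function.Surjective g) [D.Normal] (hs : Group.IsSolvable D) (ho : Odd (Nat.card D))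
    (h1 : 7 ∣ Nat.card D) (h2 : 11 ∣ Nat.card D) (h3 : 19 ∣ Nat.card D) : False := by
  have := d.simple
  obtain ⟨C₁, _, a1, b1⟩ := exists_inv_cover' d.nc hf (by norm_num) hs ho h1
  obtain ⟨C₂, _, a2, b2⟩ := exists_inv_cover' d.nc hf (by norm_num) hs ho h2
  obtain ⟨C₃, _, a3, b3⟩ := exists_inv_cover' d.nc hf (by norm_num) hs ho h3
  obtain ⟨a, ha⟩ := exists_prime_orderOf_dvd_card' (G := S) 2 ((by decide : 2 ∣ 60).trans d.sixty)
  obtain ⟨c, hc, rfl⟩ : a ∈ _ := inf_map_top d.nc (inf_map_top d.nc a1 a2) a3 ▸ mem_top a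
  obtain ⟨k, hk⟩ : 2 ∣ orderOf c := ha ▸ orderOf_map_dvd g c
  have k0 : k ≠ 0 := by rintro rfl; exact (orderOf_pos c).ne' hk
  have h4 : orderOf (c ^ k) = 2 := by rw [orderOf_pow_of_dvd k0 (hk ▸ dvd_mul_left k 2), hk, Nat.mul_div_cancel _ (Nat.pos_of_ne_zero k0)]
  have h5 : g (c ^ k) ≠ 1 := fun e => h.not_dvd (n := 2 * 2) (by decide) c (hk ▸ Nat.mul_dvd_mul_left 2
    (ha ▸ orderOf_dvd_of_pow_eq_one (map_pow g c k ▸ e)))
  have h6 := pow_mem hc k
  generalize c ^ k = t at h4 h5 h6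
  have key : ∀ a b, T3 X a b 2 → ¬ Jn (D ⊓ 𝐂[t]) a b := fun a b h ⟨x, hx, y, hy, h7, h8, h9⟩ =>
    h x y t h7 h8 h4 h9 (mc1.1 hx.2) (mc1.1 hy.2)
  rcases three_join (by norm_num) (by norm_num) (by norm_num) (by decide) (by decide) (by decide) (solvable_of_le inf_le_left hs)
    (b1 t h6.1.1 h4 h5) (b2 t h6.1.2 h4 h5) (b3 t h6.2 h4 h5) with e | e | e <;>
  exact key _ _ (h.t3 (by decide +kernel)) e

theorem three_K (d : JD S) (h : JW X) (hf : Function.Surjective g) (hs : Group.IsSolvable g.ker) (h1 : 7 ∣ Nat.card g.ker)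
    (h2 : 11 ∣ Nat.card g.ker) (h3 : 19 ∣ Nat.card g.ker) : False := by
  obtain ⟨D, hD⟩ := exists_hall {2}ᶜ hs
  have h4 : (𝐍(D)).map g = ⊤ := by
    have := congrArg (map g) (hall_frattini hs hD le_top (le_normalizer_of_normal))
    rwa [Subgroup.map_sup, map_top_of_surjective g hf, top_inf_eq, (Subgroup.map_eq_bot_iff _).2 le_rfl, bot_sup_eq] at this
  have h5 : ∀ r : ℕ, r.Prime → r ≠ 2 → r ∣ Nat.card g.ker → r ∣ Nat.card (D.subgroupOf 𝐍(D)) := fun r hr r2 e => by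
    rw [card_subgroupOf_of_le le_normalizer]
    exact ((Nat.Prime.dvd_mul hr).1 (card_mul_relIndex hD.1 ▸ e)).resolve_right (hD.2.2 _ hr r2)
  refine three_odd d (h.sub 𝐍(D)) (surj_rel h4) (D := D.subgroupOf 𝐍(D)) ?_ ?_ (h5 7 (by norm_num) (by decide) h1)
    (h5 11 (by norm_num) (by decide) h2) (h5 19 (by norm_num) (by decide) h3)
  · have := solvable_of_le hD.1 hs
    exact solvable_of_solvable_injective (f := (subgroupOfEquivOfLe (H := D) le_normalizer).toMonoidHom)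
      (subgroupOfEquivOfLe (H := D) le_normalizer).injective
  · rw [card_subgroupOf_of_le le_normalizer]
    exact Nat.not_even_iff_odd.1 fun h => isPi_of_hall hD 2 Nat.prime_two h.two_dvd rfl

end Cfsg.Lib.Coprime
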