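import Cfsg.Agent.Lib.Coprime.JSq2
import Cfsg.Agent.Lib.Layer.CompAction
import Cfsg.Agent.Lib.BS.Thompson

/-!
# `J₁ × J₁` is recognizable by spectrum (Gorshkov–Maslova)
-/

set_option autoImplicit false
set_option linter.unusedSectionVars false

namespace Cfsg.Lib.Coprime

open Subgroup Cfsg.Lib.BG1 Cfsg.Lib.Core Cfsg.Lib.Amalg

universe u

variable {G Y : Type u} [Group G] [Finite G] [Group Y] [Finite Y] {p r s t k : ℕ} {T U V W : Subgroup Y} {g x : Y} {f : G →* Y}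

theorem cent_layer (hF : fittingSubgroup Y = ⊥) : 𝐂(layer Y) = ⊥ := by
  have h1 := Layer.centralizer_fstar_le_fit (G := Y)
  rwa [Layer.fstar_eq_layer hF, hF, le_bot_iff] at h1

theorem layer_ne [Nontrivial Y] (hF : fittingSubgroup Y = ⊥) : layer Y ≠ ⊥ := fun e => by
  have := cent_layer hF
  rw [e] at this
  exact top_ne_bot (le_bot_iff.1 (this ▸ BG1.le_cent_symm bot_le : (⊤ : Subgroup Y) ≤ ⊥))

theorem layer_dvd (hp : p.Prime) (h : ∀ W : Subgroup Y, IsComponent W → W ≤ T ∨ ¬ p ∣ Nat.card W) (h1 : p ^ k ∣ Nat.card (layer Y))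
    (hn : layer Y ≤ 𝐍(T)) : p ^ k ∣ Nat.card T := by
  have h2 : layer Y ≤ 𝐎'[p](layer Y) ⊔ T := Layer.layer_le fun W hW => (h W hW).elim le_sup_of_le_right fun e => le_sup_of_le_left
    (le_pPrimeCoreOf' hp (Layer.IsComponent.le_layer hW) (Layer.IsComponent.layer_le_normalizer hW) e)
  exact (((Nat.Prime.coprime_iff_not_dvd hp).2 (not_dvd_card_pPrimeCoreOf hp _)).pow_left k).dvd_of_dvd_mul_left
    ((h1.trans (card_dvd_of_le h2)).trans (Core.card_sup_dvd ((map_subtype_le _).trans hn)))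

theorem layer_not_dvd (hp : p.Prime) (h : ∀ W : Subgroup Y, IsComponent W → ¬ p ∣ Nat.card W) : ¬ p ∣ Nat.card (layer Y) := fun e =>
  hp.ne_one (by simpa using layer_dvd (T := ⊥) (k := 1) hp (fun W hW => Or.inr (h W hW)) (by simpa using e) le_normalizer_of_normal)

theorem JW.comp (h : JW Y) (hF : fittingSubgroup Y = ⊥) (hT : IsComponent T) : JD T :=
  have := FG.comp_simple hF hT
  (h.sub T).jd (comp_not_comm hT)

theorem JW.two_comp (h : JW Y) (hF : fittingSubgroup Y = ⊥) (hp : r.Prime) (hr : r = 7 ∨ r = 11 ∨ r = 19) (h1 : r ^ 2 ∣ Nat.card (layer Y)) :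
    ∃ T U : Subgroup Y, IsComponent T ∧ IsComponent U ∧ U ≠ T ∧ r ∣ Nat.card T ∧ r ∣ Nat.card U := by
  by_contra! h2
  obtain ⟨T, hT, h3⟩ : ∃ T : Subgroup Y, IsComponent T ∧ r ∣ Nat.card T := by
    by_contra! h3
    exact layer_not_dvd hp h3 ((dvd_pow_self r two_ne_zero).trans h1)
  exact (h.comp hF hT).not_sq hr (layer_dvd hp (fun W hW => (eq_or_ne W T).imp le_of_eq fun e => h2 T W hT hW e h3) h1
    (Layer.IsComponent.layer_le_normalizer hT))

theorem JW.sq_mem (h : JW Y) (hF : fittingSubgroup Y = ⊥) (hg : g ∈ Layer.compKer Y) : g ^ 2 ∈ layer Y := by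
  have := Layer.mem_layer_sup_cent (x := g ^ 2) fun T hT => by
    obtain ⟨a, ha⟩ := (h.comp hF hT).out (actS (MulEquiv.refl T) ⟨g, Layer.mem_compKer.1 hg T hT⟩)
    exact sup_comm T _ ▸ mem_sup_of_actS (MulEquiv.refl T) (x := ⟨g, Layer.mem_compKer.1 hg T hT⟩ ^ 2) (by rw [map_pow, ha])
  rwa [cent_layer hF, sup_bot_eq] at this

theorem JW.exists_ord (h : JW Y) (hF : fittingSubgroup Y = ⊥) (hT : IsComponent T) (hp : p.Prime) (hd : p ∣ 60) : ∃ a ∈ T, orderOf a = p :=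
  exists_mem_orderOf_eq_prime hp (hd.trans (h.comp hF hT).sixty)

theorem JW.inv_mem (h : JW Y) (hF : fittingSubgroup Y = ⊥) (hg : g ^ 2 = 1) : g ∈ Layer.compKer Y :=
  Layer.mem_compKer.2 fun T hT => cj_eq_self_iff.1 (by_contra fun e => by
    obtain ⟨a, ha, h1⟩ := h.exists_ord hF hT Nat.prime_two (by decide)
    have h2 := FG.comp_le_cent hT (Layer.IsComponent.conj hT g) e (conj_mem_cj g ha)
    have h3 : (a * g) ^ 2 = a * (g * a * g⁻¹) := by
      rw [pow_two] at hg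
      rw [inv_eq_of_mul_eq_one_right hg]
      simp [pow_two, mul_assoc]
    have h4 : a ^ 2 = 1 := h1 ▸ pow_orderOf_eq_one a
    have h5 := h.pow_eq_one Nat.prime_two (x := a * g) (k := 2) (by
      rw [pow_two, pow_mul, h3, (mcc h2 ha).symm.mul_pow, conj_pow, h4]; simp)
    rw [h3, mul_eq_one_iff_eq_inv] at h5
    exact ne_one_of_ord Nat.prime_two h1 (FG.comp_eq_one hF hT ha (h5 ▸ InvMemClass.inv_mem h2)))

theorem JW.mem_compKer (h : JW Y) (hF : fittingSubgroup Y = ⊥) (hg : g ^ 2 ∈ Layer.compKer Y) : g ∈ Layer.compKer Y := by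
  obtain ⟨a, m, ⟨j, rfl⟩, h1⟩ := Nat.exists_eq_two_pow_mul_odd (orderOf_pos g).ne'
  have := h.inv_mem hF (h.pow_eq_one Nat.prime_two (x := g ^ (2 * j + 1)) (k := a) (by rw [← pow_mul, mul_comm, ← h1, pow_orderOf_eq_one]))
  rwa [pow_succ, pow_mul, mul_mem_cancel_left (pow_mem hg j)] at this

theorem JW.four_comp (h : JW Y) (hF : fittingSubgroup Y = ⊥) (hT : IsComponent T) (hU : IsComponent U) (hV : IsComponent V)
    (hW : IsComponent W) (h1 : U ≠ T) (h2 : V ≠ T) (h3 : W ≠ T) (h4 : V ≠ U) (h5 : W ≠ U) (h6 : W ≠ V) (hd : 11 ∣ Nat.card W) : False := by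
  obtain ⟨a, ha, a1⟩ := h.exists_ord hF hT Nat.prime_two (by decide)
  obtain ⟨b, hb, b1⟩ := h.exists_ord hF hU Nat.prime_three (by decide)
  obtain ⟨c, hc, c1⟩ := h.exists_ord hF hV Nat.prime_five (by decide)
  obtain ⟨d, hd, d1⟩ := exists_mem_orderOf_eq_prime (by norm_num) hd
  refine h.t3 (p := 2 * 3) (q := 5) (r := 11) (by decide +kernel) (a * b) c d ?_ c1 d1 (Commute.mul_left ?_ ?_) (Commute.mul_left ?_ ?_) ?_
  · rw [(mcc (FG.comp_le_cent hT hU h1 hb) ha).symm.orderOf_mul_eq_mul_orderOf_of_coprime (by rw [a1, b1]; decide), a1, b1]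
  exacts [(mcc (FG.comp_le_cent hT hV h2 hc) ha).symm, (mcc (FG.comp_le_cent hU hV h4 hc) hb).symm,
    (mcc (FG.comp_le_cent hT hW h3 hd) ha).symm, (mcc (FG.comp_le_cent hU hW h5 hd) hb).symm, (mcc (FG.comp_le_cent hV hW h6 hd) hc).symm]

theorem JW.odd_mem (h : JW Y) (hF : fittingSubgroup Y = ⊥) (hW : IsComponent W) (hd : 11 ∣ Nat.card W) (hr : r.Prime) (h5 : 5 ≤ r)
    (hx : x ^ r = 1) : x ∈ layer Y := by
  have h1 : ∀ i, 0 < i → i < r → (orderOf x).Coprime i := fun i h1 h2 =>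
    (Nat.coprime_of_lt_prime h1.ne' h2 hr).of_dvd_left (orderOf_dvd_of_pow_eq_one hx)
  refine Layer.mem_of_pow_mem_of_coprime (h1 2 two_pos (by omega)) (h.sq_mem hF (Layer.mem_compKer.2 fun T hT => by_contra fun e => ?_))
  have h2 : ∀ i j, i < j → j < 4 → cj (x ^ j) T ≠ cj (x ^ i) T := fun i j h2 h3 h4 => by
    obtain ⟨k, rfl⟩ := Nat.exists_eq_add_of_lt h2
    rw [add_assoc, pow_add, cj_mul, cj_inj] at h4
    exact e (Layer.mem_of_pow_mem_of_coprime (h1 (k + 1) (by omega) (by omega)) (cj_eq_self_iff.1 h4))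
  have h3 : ∀ i, IsComponent (cj (x ^ i) T) := fun i => Layer.IsComponent.conj hT _
  have h4 : ∀ i j k, i < j → j < k → k < 4 → W = cj (x ^ i) T ∨ W = cj (x ^ j) T ∨ W = cj (x ^ k) T := fun i j k a b c => by
    by_contra! e
    exact h.four_comp hF (h3 i) (h3 j) (h3 k) hW (h2 i j a (by omega)) (h2 i k (by omega) c) e.1 (h2 j k b c) e.2.1 e.2.2 hd
  have h5 : ∀ i j, i < 4 → j < 4 → W = cj (x ^ i) T → W = cj (x ^ j) T → i = j := fun i j a b c d => by
    rcases lt_trichotomy i j with e | e | e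
    exacts [(h2 i j e b (d.symm.trans c)).elim, e, (h2 j i e a (c.symm.trans d)).elim]
  rcases h4 0 1 2 (by omega) (by omega) (by omega) with a | a | a
  · rcases h4 1 2 3 (by omega) (by omega) (by omega) with b | b | b <;> exact absurd (h5 _ _ (by omega) (by omega) a b) (by decide)
  · rcases h4 0 2 3 (by omega) (by omega) (by omega) with b | b | b <;> exact absurd (h5 _ _ (by omega) (by omega) a b) (by decide)
  · rcases h4 0 1 3 (by omega) (by omega) (by omega) with b | b | b <;> exact absurd (h5 _ _ (by omega) (by omega) a b) (by decide)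

theorem JW.pow_dvd (h : JW Y) (hF : fittingSubgroup Y = ⊥) (hW : IsComponent W) (hd : 11 ∣ Nat.card W) (hr : r.Prime) (h5 : 5 ≤ r)
    (h1 : r ^ k ∣ Nat.card Y) : r ^ k ∣ Nat.card (layer Y) := by
  have := Fact.mk hr
  obtain ⟨P, hP⟩ := Sylow.exists_subgroup_card_pow_prime r h1
  exact hP ▸ card_dvd_of_le fun x hx => h.odd_mem hF hW hd hr h5 (h.pg_pow hr (.of_card hP) hx)

theorem card_ker_mul (hf : Function.Surjective f) : Nat.card G = Nat.card Y * Nat.card f.ker := by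
  rw [← card_top (G := Y), ← card_comap_of_surjective hf, comap_top, card_top]

theorem sq_dvd_or {a b : ℕ} (hr : r.Prime) (h : r ^ 2 ∣ a * b) : r ^ 2 ∣ a ∨ r ∣ b :=
  or_iff_not_imp_right.2 fun e => (((Nat.Prime.coprime_iff_not_dvd hr).2 e).pow_left 2).dvd_of_dvd_mul_right h

theorem norm_map_top (hf : Function.Surjective f) [Fact p.Prime] {Q : Subgroup G} (hQ : Syl p Q f.ker) : (𝐍(Q)).map f = ⊤ := by
  have := congrArg (map f) (hQ.frattini le_top le_normalizer_of_normal)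
  rwa [Subgroup.map_sup, map_top_of_surjective f hf, top_inf_eq, (Subgroup.map_eq_bot_iff _).2 le_rfl, bot_sup_eq] at this

theorem exists_rad (hs : ¬ Group.IsSolvable G) : ∃ (Y : Type u) (_ : Group Y) (_ : Finite Y) (_ : Nontrivial Y) (f : G →* Y),
    Function.Surjective f ∧ f.ker = solvableRadical G ∧ fittingSubgroup Y = ⊥ := by
  have := solvableRadical_normal G
  refine ⟨G ⧸ solvableRadical G, _, inferInstance, QuotientGroup.nontrivial_iff.2 fun e => hs ?_, _, QuotientGroup.mk'_surjective _,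
    QuotientGroup.ker_mk' _, solvableRadical_eq_bot_iff_fitting_eq_bot.1 (solvableRadical_quotient_eq_bot_of_eq _ rfl)⟩
  have : Group.IsSolvable (⊤ : Subgroup G) := e ▸ isSolvable_solvableRadical G
  exact solvable_of_surjective (f := (⊤ : Subgroup G).subtype) fun x => ⟨⟨x, trivial⟩, rfl⟩

theorem JW.central (h : JW G) {z : G} (hz : orderOf z = r) (hc : ∀ g, Commute z g) (h2 : ¬ r ^ 2 ∣ Nat.card G) (hr : r.Prime)
    (hs : s.Prime) (h1 : s = 7 ∨ s = 19) (hn : r ∣ 175560 ∧ r.Coprime s ∧ ∀ n ∈ jw, r * s ∣ n → n = r * s) (hd : s ∣ Nat.card G) :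
    Group.IsSolvable G := by
  by_contra hns
  obtain ⟨Y, _, _, _, f, hf, hk, hF⟩ := exists_rad hns
  have hY := h.of_surj hf
  have h3 : ¬ r ∣ Nat.card Y := fun e => h2 (by
    have : (zpowers z).Normal := ⟨fun _ ⟨i, hi⟩ g => by rw [← hi, ← ((hc g).zpow_left i).eq, mul_inv_cancel_right]; exact ⟨i, rfl⟩⟩
    rw [card_ker_mul hf, hk, pow_two]
    exact Nat.mul_dvd_mul e (hz ▸ orderOf_dvd_natCard _ (le_solvableRadical inferInstance (mem_zpowers z))))
  have h4 := layer_not_dvd hs fun W hW e => h3 (hn.1.trans (j1_card ((hY.comp hF hW).iso h1 e) ▸ card_subgroup_dvd_card W))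
  have h5 : ∀ p : ℕ, p.Prime → p ≠ r → ∀ g : G, ¬ s * p ∣ orderOf g := fun p hp pr g e => by
    obtain ⟨k, hk⟩ := exists_pow_ord e
    have := hn.2.2 _ (h (z * g ^ k))
    rw [(hc _).orderOf_mul_eq_mul_orderOf_of_coprime (by
      rw [hz, hk]; exact hn.2.1.mul_right ((Nat.coprime_primes hr hp).2 pr.symm)), hz, hk, ← mul_assoc] at this
    exact hp.ne_one ((Nat.mul_eq_left (mul_pos hr.pos hs.pos).ne').1 (this (dvd_mul_right _ _)))
  have := Fact.mk hs
  obtain ⟨T, hT⟩ := Layer.exists_component_of_layer_ne_bot (layer_ne hF)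
  have h6 : 2 ^ 2 ∣ Nat.card Y := ((by decide : 2 ^ 2 ∣ 60).trans (hY.comp hF hT).sixty).trans (card_subgroup_dvd_card T)
  rcases (Nat.Prime.dvd_mul hs).1 (card_ker_mul hf ▸ hd) with e | e
  · obtain ⟨x, hx⟩ := exists_prime_orderOf_dvd_card' s e
    have := BS.Fpf.nilpotent (K := layer Y) (R := zpowers x) (fpf_of_prime fun y hy h7 => by_contra fun h8 => ?_)
      (by have := Layer.layer_normal (G := Y); exact le_normalizer_of_normal) (by simpa using ne_one_of_ord hs hx)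
    · exact layer_ne hF (Layer.layer_eq_bot_of_le_solvable le_rfl inferInstance)
    obtain ⟨a, ha, h9⟩ := exists_mem_orderOf_prime h8
    have h10 := ord_pg hs (pg_zp hx) hy h7
    obtain ⟨g, hg⟩ := hf (y * a)
    refine h5 _ h9 (fun e => h3 (e ▸ orderOf_dvd_natCard a)) g (Dvd.dvd.trans ?_ (orderOf_map_dvd f g))
    rw [hg, (mc1.1 ha.2).symm.orderOf_mul_eq_mul_orderOf_of_coprime ((Nat.coprime_primes h7 h9).2 fun e => h4
      (h10 ▸ e ▸ (layer Y).orderOf_dvd_natCard ha.1)), h10]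
  · obtain ⟨Q, hQ⟩ := exists_syl s f.ker
    obtain ⟨A, h7, h8⟩ := h.nc (H := 𝐍(Q)) Nat.prime_two (h6.trans (by
      rw [← card_top, ← norm_map_top hf hQ]; exact card_map_dvd _ _))
    have s2 : 2 ≠ s := by omega
    obtain ⟨a, -, h9, h10⟩ := h8.exists_fix Nat.prime_two hs s2 hQ.isPGroup h7 (hQ.ne_bot e)
    obtain ⟨b, hb, h11⟩ := exists_ord_of_ne_bot hs hQ.isPGroup.to_inf_left h10
    refine h5 2 Nat.prime_two (fun e => h3 (e ▸ (dvd_pow_self 2 two_ne_zero).trans h6)) (b * a) ?_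
    rw [(mc1.1 hb.2).orderOf_mul_eq_mul_orderOf_of_coprime (by rw [h9, h11]; exact (Nat.coprime_primes hs Nat.prime_two).2 s2.symm), h9, h11]

theorem JW.sq_dvd (h : JW G) (h1 : s = 7 ∨ s = 19) (hn : r.Prime ∧ s.Prime ∧ t.Prime ∧ 2 ≠ s ∧ 2 ≠ t ∧ s ≠ t ∧
      (r ∣ 175560 ∧ r.Coprime s ∧ ∀ n ∈ jw, r * s ∣ n → n = r * s) ∧ (r.Coprime 2 ∧ r.Coprime s ∧ Nat.Coprime 2 s ∧ r * 2 * s ∉ jw) ∧
      (r.Coprime 2 ∧ r.Coprime t ∧ Nat.Coprime 2 t ∧ r * 2 * t ∉ jw) ∧ r.Coprime s ∧ r.Coprime t ∧ s.Coprime t ∧ r * s * t ∉ jw)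
    (h2 : ∃ g : G, orderOf g = r * 2) (h3 : ∃ g : G, orderOf g = r * s) (h4 : ∃ g : G, orderOf g = r * t) : r ^ 2 ∣ Nat.card G := by
  obtain ⟨hr, hs, ht, n1, n2, n3, n4, n5, n6, n7⟩ := hn
  by_contra h0
  have := Fact.mk hr
  obtain ⟨z, hz⟩ := exists_prime_orderOf_dvd_card' (G := G) r (let ⟨g, hg⟩ := h2; (Dvd.intro _ hg.symm).trans (orderOf_dvd_natCard g))
  have key : ∀ m, (∃ g : G, orderOf g = r * m) → m ∣ Nat.card 𝐂[z] := fun m ⟨g, hg⟩ => by
    have m0 : m ≠ 0 := right_ne_zero_of_mul (hg ▸ (orderOf_pos g).ne')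
    have h5 : orderOf (g ^ m) = r := by rw [orderOf_pow_of_dvd m0 (hg ▸ dvd_mul_left m r), hg, Nat.mul_div_cancel _ (Nat.pos_of_ne_zero m0)]
    have h6 : orderOf (g ^ r) = m := by rw [orderOf_pow_of_dvd hr.ne_zero (hg ▸ dvd_mul_right r m), hg, Nat.mul_div_cancel_left _ hr.pos]
    obtain ⟨c, -, hc⟩ := (syl_of_not_dvd le_top (pg_zp h5) fun e => h0 (by
      rw [← (zpowers (g ^ m)).card_mul_index, Nat.card_zpowers, h5, pow_two]
      exact Nat.mul_dvd_mul_left r (by simpa using e))).exists_le_conj (pg_zp hz) le_top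
    obtain ⟨_, ⟨i, rfl⟩, rfl⟩ := mem_cj'.1 (hc (mem_zpowers z))
    exact (h6.symm.trans ((MulAut.conj c).orderOf_eq _).symm).dvd.trans <| Subgroup.orderOf_dvd_natCard _ (mc1.2 ((((Commute.refl g).pow_pow r m).zpow_right i).map (MulAut.conj c)))
  have h5 := (h.sub 𝐂[z]).central (z := ⟨z, mc1.2 rfl⟩) (by simpa using hz) (fun g => Subtype.ext (mc1.1 g.2).symm)
    (fun e => h0 (e.trans (card_subgroup_dvd_card _))) hr hs h1 n4 (key s h3)
  have h6 : ∀ a b, T3 G r a b → ¬ Jn 𝐂[z] a b := fun a b h ⟨x, hx, y, hy, h7, h8, h9⟩ =>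
    h z x y hz h7 h8 (mc1.1 hx).symm (mc1.1 hy).symm h9
  rcases three_join Nat.prime_two hs ht n1 n2 n3 h5 (key 2 h2) (key s h3) (key t h4) with e | e | e
  exacts [h6 _ _ (h.t3 n5) e, h6 _ _ (h.t3 n6) e, h6 _ _ (h.t3 n7) e]

theorem solvable_norm_syl {P : Subgroup Y} (hP : Syl 2 P ⊤) : Group.IsSolvable 𝐍(P) := by
  have := solvable_of_pgroup Nat.prime_two (Core.isPGroup_subgroupOf hP.isPGroup 𝐍(P))
  have := FT.odd_order_solvable (𝐍(P) ⧸ P.subgroupOf 𝐍(P)) (Nat.not_even_iff_odd.1 fun e =>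
    (hP.of_le le_normalizer le_top).not_dvd_relIndex e.two_dvd)
  exact isSolvable_of_normal_of_quotient (P.subgroupOf 𝐍(P))

theorem JW.no_eleven (h : JW G) [Nontrivial Y] (hf : Function.Surjective f) (hs : Group.IsSolvable f.ker) (hF : fittingSubgroup Y = ⊥)
    (h0 : ∀ W : Subgroup Y, IsComponent W → ¬ 11 ∣ Nat.card W) (hd : ∀ r, r = 7 ∨ r = 11 ∨ r = 19 → r ^ 2 ∣ Nat.card G) : False := by
  have hY := h.of_surj hf
  obtain ⟨P, hP⟩ := exists_syl 2 (⊤ : Subgroup Y)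
  have := Layer.compKer_normal (G := Y)
  have h1 := (hP.of_le (K := Layer.compKer Y) (fun x hx => hY.inv_mem hF (hY.pg_pow Nat.prime_two hP.isPGroup hx)) le_top).frattini
    le_top le_normalizer_of_normal
  have h2 : Nat.card Y ∣ Nat.card (Layer.compKer Y) * Nat.card 𝐍(P) := by
    rw [← card_top (G := Y), ← h1, top_inf_eq]
    exact Core.card_sup_dvd' le_normalizer_of_normal
  have h3 : ∀ r, r.Prime → r = 7 ∨ r = 11 ∨ r = 19 → r ^ 2 ∣ Nat.card (𝐍(P).comap f) := fun r hr e => by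
    rw [card_comap_of_surjective hf, mul_comm]
    refine (sq_dvd_or hr (((card_ker_mul hf ▸ hd r e).trans (Nat.mul_dvd_mul_right h2 _)).trans (dvd_of_eq (by ring)))).resolve_right
      fun (h3 : r ∣ Nat.card (Layer.compKer Y)) => ?_
    obtain ⟨x, hx, h4⟩ := exists_mem_orderOf_eq_prime hr h3
    refine layer_not_dvd hr (fun W hW h5 => h0 W hW ?_) (h4 ▸ orderOf_dvd_natCard _ (Layer.mem_of_pow_mem_of_coprime
      (h4 ▸ (Nat.coprime_primes hr Nat.prime_two).2 (by omega)) (hY.sq_mem hF hx)))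
    rcases (hY.comp hF hW).card' with e' | e' | e' <;> rcases e with rfl | rfl | rfl <;> omega
  have := solvable_norm_syl hP
  obtain ⟨T, hT⟩ := Layer.exists_component_of_layer_ne_bot (layer_ne hF)
  obtain ⟨Q, hQ⟩ := Sylow.exists_subgroup_card_pow_prime 2
    (((by decide : 2 ^ 2 ∣ 60).trans (hY.comp hF hT).sixty).trans (card_subgroup_dvd_card T))
  refine h.sol (Or.inl rfl) (isSolvable_comap_of_ker f _) ?_ (h3 7 (by norm_num) (by omega)) (h3 11 (by norm_num) (by omega))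
    (h3 19 (by norm_num) (by omega))
  rw [card_comap_of_surjective hf]
  exact ((hQ ▸ hP.card_dvd (.of_card hQ) le_top).trans (card_dvd_of_le le_normalizer)).mul_right _

theorem JW.ker_sq (h : JW G) (hf : Function.Surjective f) (hF : fittingSubgroup Y = ⊥) (hT : IsComponent T) (hU : IsComponent U)
    (h1 : U ≠ T) (h2 : 11 ∣ Nat.card U) (hr : r.Prime) (h3 : T3 G r 2 11) (hd : r ∣ Nat.card f.ker) : r ^ 2 ∣ Nat.card f.ker := by
  by_contra h0
  have := Fact.mk hr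
  obtain ⟨z, hz, h4⟩ := exists_mem_orderOf_eq_prime hr hd
  have h5 := map_mono (f := f) (der_norm_le_cent_of_cyclic (K := zpowers z) inferInstance le_rfl)
  rw [Subgroup.map_commutator, norm_map_top hf (syl_of_not_dvd (zpowers_le.2 hz) (pg_zp h4) fun e => h0 (by
    rw [← card_mul_relIndex (zpowers_le.2 hz), Nat.card_zpowers, h4, pow_two]; exact Nat.mul_dvd_mul_left r e)), cent_zp] at h5
  have h6 : ∀ W : Subgroup Y, IsComponent W → W ≤ (𝐂[z]).map f := fun W hW =>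
    (Layer.IsComponent.commutator_self hW).ge.trans ((commutator_mono le_top le_top).trans h5)
  obtain ⟨a, ha, a1⟩ := (h.of_surj hf).exists_ord hF hT Nat.prime_two (by decide)
  obtain ⟨b, hb, b1⟩ := exists_mem_orderOf_eq_prime (by norm_num) h2
  obtain ⟨c, hc, e⟩ := mul_mem (h6 T hT ha) (h6 U hU hb)
  have h7 := orderOf_map_dvd f c
  rw [e, (mcc (FG.comp_le_cent hT hU h1 hb) ha).symm.orderOf_mul_eq_mul_orderOf_of_coprime (by rw [a1, b1]; decide), a1, b1] at h7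
  obtain ⟨i, hi⟩ := exists_pow_ord ((dvd_mul_right 2 11).trans h7)
  obtain ⟨j, hj⟩ := exists_pow_ord ((dvd_mul_left 11 2).trans h7)
  exact h3 z _ _ h4 hi hj ((mc1.1 hc).symm.pow_right i) ((mc1.1 hc).symm.pow_right j) ((Commute.refl c).pow_pow i j)

theorem JW.two_eleven (h : JW G) (hf : Function.Surjective f) (hs : Group.IsSolvable f.ker) (hF : fittingSubgroup Y = ⊥)
    (hT : IsComponent T) (hU : IsComponent U) (h1 : U ≠ T) (h2 : 11 ∣ Nat.card T) (h3 : 11 ∣ Nat.card U) (h4 : 7 ∣ Nat.card f.ker)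
    (h5 : 19 ∣ Nat.card f.ker) : False := by
  have hY := h.of_surj hf
  obtain ⟨A, a1, a2, a3⟩ := (hY.comp hF hT).sol55 h2
  obtain ⟨B, b1, b2, b3⟩ := (hY.comp hF hU).sol55 h3
  have h6 : B.map U.subtype ≤ 𝐂(A.map T.subtype) :=
    (map_subtype_le B).trans ((FG.comp_le_cent hT hU h1).trans (Core.centralizer_anti (map_subtype_le A)))
  have h7 := card_comap_of_surjective hf (B.map U.subtype ⊔ A.map T.subtype)
  rw [card_sup_of_disjoint (le_norm_of_le_cent h6) (eq_bot_iff.2 fun z hz => FG.comp_eq_one hF hT (map_subtype_le A hz.2)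
    (FG.comp_le_cent hT hU h1 (map_subtype_le B hz.1))), card_map_of_injective U.subtype_injective,
    card_map_of_injective T.subtype_injective] at h7
  have := solv_map a1 T.subtype
  have := solv_map b1 U.subtype
  have := isSolvable_sup_of_le_normalizer (le_norm_of_le_cent h6)
  exact h.sol (p := 5) (by omega) (isSolvable_comap_of_ker f _) (h7 ▸ (pow_two 5 ▸ Nat.mul_dvd_mul b2 a2).mul_right _)
    (h7 ▸ (h.ker_sq hf hF hT hU h1 h3 (by norm_num) (h.t3 (by decide +kernel)) h4).mul_left _)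
    (h7 ▸ (pow_two 11 ▸ Nat.mul_dvd_mul b3 a3).mul_right _)
    (h7 ▸ (h.ker_sq hf hF hT hU h1 h3 (by norm_num) (h.t3 (by decide +kernel)) h5).mul_left _)

theorem JW.two_j1 (h : JW Y) (hF : fittingSubgroup Y = ⊥) (hT : IsComponent T) (hU : IsComponent U) (h1 : U ≠ T) (e₁ : Spor.IsoJ1 T)
    (e₂ : Spor.IsoJ1 U) : Nonempty (Y ≃* Spor.J1 × Spor.J1) := by
  have h2 : ∀ W : Subgroup Y, IsComponent W → W = T ∨ W = U := fun W hW => by
    by_contra! h2
    obtain ⟨a, ha, a1⟩ := exists_mem_orderOf_eq_prime (p := 7) (H := T) (by norm_num) (j1_card e₁ ▸ by decide)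
    obtain ⟨b, hb, b1⟩ := exists_mem_orderOf_eq_prime (p := 11) (H := U) (by norm_num) (j1_card e₂ ▸ by decide)
    obtain ⟨c, hc, c1⟩ := h.exists_ord hF hW Nat.prime_two (by decide)
    exact h.t3 (by decide +kernel) a b c a1 b1 c1 (mcc (FG.comp_le_cent hT hU h1 hb) ha).symm
      (mcc (FG.comp_le_cent hT hW h2.1 hc) ha).symm (mcc (FG.comp_le_cent hU hW h2.2 hc) hb).symm
  have h3 := two_of_comp hF hT hU h1 h2
  have h4 : ∀ W : Subgroup Y, IsComponent W → Spor.IsoJ1 W → ∀ g, g ∈ W ⊔ 𝐂(W) := fun W hW e g => by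
    have h4 := Layer.mem_compKer.1 (h.mem_compKer hF (g := g) (Layer.mem_compKer.2 fun V hV => by
      rcases h2 V hV with rfl | rfl
      exacts [(h3.sq g).1, (h3.sq g).2])) W hW
    obtain ⟨a, ha⟩ := j1_out e (actS (MulEquiv.refl W) ⟨g, h4⟩)
    exact mem_sup_of_actS (MulEquiv.refl W) ha
  obtain ⟨ε⟩ := h3.equiv e₁.some e₂.some
  exact ⟨topEquiv.symm.trans ((MulEquiv.subgroupCongr ((eq_top_iff' _).2 fun g => h3.inf_le ⟨h4 T hT e₁ g, h4 U hU e₂ g⟩)).symm.trans ε)⟩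

theorem j1_sq (h : JW G) (hB : ∀ a ∈ ({2, 7, 11, 19} : Finset ℕ), ∀ b ∈ ({2, 7, 11, 19} : Finset ℕ), a ≠ b → ∃ g : G, orderOf g = a * b) :
    Nonempty (G ≃* Spor.J1 × Spor.J1) := by
  have hd : ∀ r, r = 7 ∨ r = 11 ∨ r = 19 → r ^ 2 ∣ Nat.card G := by
    rintro _ (rfl | rfl | rfl)
    · exact h.sq_dvd (s := 19) (t := 11) (by omega) (by decide +kernel) (hB _ (by decide) _ (by decide) (by decide))
        (hB _ (by decide) _ (by decide) (by decide)) (hB _ (by decide) _ (by decide) (by decide))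
    · exact h.sq_dvd (s := 7) (t := 19) (by omega) (by decide +kernel) (hB _ (by decide) _ (by decide) (by decide))
        (hB _ (by decide) _ (by decide) (by decide)) (hB _ (by decide) _ (by decide) (by decide))
    · exact h.sq_dvd (s := 7) (t := 11) (by omega) (by decide +kernel) (hB _ (by decide) _ (by decide) (by decide))
        (hB _ (by decide) _ (by decide) (by decide)) (hB _ (by decide) _ (by decide) (by decide))
  have j : ∀ a ∈ ({2, 7, 11, 19} : Finset ℕ), ∀ b ∈ ({2, 7, 11, 19} : Finset ℕ), a ≠ b → Jn (⊤ : Subgroup G) a b := fun a ha b hb e =>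
    let ⟨g, hg⟩ := hB a ha b hb e
    jn_of_ord (left_ne_zero_of_mul (hg ▸ (orderOf_pos g).ne')) (right_ne_zero_of_mul (hg ▸ (orderOf_pos g).ne')) (mem_top g) hg
  obtain ⟨Y, _, _, _, f, hf, hk, hF⟩ := exists_rad (G := G) fun e => by
    refine (h.f4 (Or.inl rfl)).not_solvable (K := ⊤) (j _ ?_ _ ?_ ?_) (j _ ?_ _ ?_ ?_) (j _ ?_ _ ?_ ?_) (j _ ?_ _ ?_ ?_) (j _ ?_ _ ?_ ?_)
      (j _ ?_ _ ?_ ?_) inferInstance <;> decide
  have hs : Group.IsSolvable f.ker := hk ▸ isSolvable_solvableRadical G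
  have hY := h.of_surj hf
  obtain ⟨W, hW, h1⟩ : ∃ W : Subgroup Y, IsComponent W ∧ 11 ∣ Nat.card W := by
    by_contra! h0
    exact h.no_eleven hf hs hF h0 hd
  have h2 : ∀ r, r.Prime → r = 7 ∨ r = 11 ∨ r = 19 → (∃ T U : Subgroup Y, IsComponent T ∧ IsComponent U ∧ U ≠ T ∧ r ∣ Nat.card T ∧
      r ∣ Nat.card U) ∨ r ∣ Nat.card f.ker := fun r hr e => (sq_dvd_or hr (card_ker_mul hf ▸ hd r e)).imp_left fun h2 =>
    hY.two_comp hF hr e (hY.pow_dvd hF hW h1 hr (by omega) h2)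
  have h3 : ∀ r, r = 7 ∨ r = 19 → (∃ T U : Subgroup Y, IsComponent T ∧ IsComponent U ∧ U ≠ T ∧ r ∣ Nat.card T ∧ r ∣ Nat.card U) →
      Nonempty (G ≃* Spor.J1 × Spor.J1) := fun r hr ⟨T, U, hT, hU, h3, h4, h5⟩ => by
    obtain ⟨ε⟩ := hY.two_j1 hF hT hU h3 ((hY.comp hF hT).iso hr h4) ((hY.comp hF hU).iso hr h5)
    have h6 : Function.Surjective (ε.toMonoidHom.comp f) := ε.surjective.comp hf
    exact ⟨MulEquiv.ofBijective _ ⟨(MonoidHom.ker_eq_bot_iff _).1 (j1_ker _ G _ h h6 (by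
      rwa [MonoidHom.ker_comp_of_injective _ _ ε.injective]) rfl), h6⟩⟩
  rcases h2 7 (by norm_num) (by omega) with a | a
  · exact h3 7 (by omega) a
  rcases h2 19 (by norm_num) (by omega) with b | b
  · exact h3 19 (by omega) b
  rcases h2 11 (by norm_num) (by omega) with ⟨T, U, hT, hU, h3, h4, h5⟩ | c
  · exact (h.two_eleven hf hs hF hT hU h3 h4 h5 a b).elim
  obtain ⟨g, g1, g2, g3⟩ := comap_hom hf hs (MulEquiv.refl W)
  have h4 : Nat.card g.ker = Nat.card f.ker := by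
    rw [show g.ker = f.ker.subgroupOf _ from Subgroup.ext g3, card_subgroupOf_of_le (ker_le_comap f W)]
  exact (three_K (hY.comp hF hW) (h.sub _) g1 g2 (h4 ▸ a) (h4 ▸ c) (h4 ▸ b)).elim

theorem j1_sq_spec (h : Set.range (orderOf : G → ℕ) = Set.range (orderOf : Spor.J1 × Spor.J1 → ℕ)) :
    Nonempty (G ≃* Spor.J1 × Spor.J1) := by
  refine j1_sq (fun x => ?_) fun a ha b hb e => ?_
  · obtain ⟨⟨a, b⟩, hy⟩ : orderOf x ∈ Set.range (orderOf : Spor.J1 × Spor.J1 → ℕ) := h ▸ ⟨x, rfl⟩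
    rw [← hy, Prod.orderOf_mk]
    exact (by decide +kernel : ∀ a ∈ ({1, 2, 3, 5, 6, 7, 10, 11, 15, 19} : Finset ℕ), ∀ b ∈ ({1, 2, 3, 5, 6, 7, 10, 11, 15, 19} : Finset ℕ),
      a.lcm b ∈ jw) _ (j1_ord ⟨MulEquiv.refl _⟩ a) _ (j1_ord ⟨MulEquiv.refl _⟩ b)
  · have h1 := (by decide +kernel : ∀ a ∈ ({2, 7, 11, 19} : Finset ℕ), ∀ b ∈ ({2, 7, 11, 19} : Finset ℕ), a ≠ b →
      a.Prime ∧ b.Prime ∧ a ∣ 175560 ∧ b ∣ 175560 ∧ a.lcm b = a * b) a ha b hb e
    obtain ⟨x, hx⟩ := exists_prime_orderOf_dvd_card' (G := Spor.J1) a (hp := ⟨h1.1⟩) (JR.j1_card ▸ h1.2.2.1)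
    obtain ⟨y, hy⟩ := exists_prime_orderOf_dvd_card' (G := Spor.J1) b (hp := ⟨h1.2.1⟩) (JR.j1_card ▸ h1.2.2.2.1)
    change _ ∈ Set.range (orderOf : G → ℕ)
    rw [h]
    exact ⟨(x, y), by rw [Prod.orderOf_mk, hx, hy, h1.2.2.2.2]⟩

end Cfsg.Lib.Coprime
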