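import Cfsg.Agent.Lib.Invol.Count
import Cfsg.Agent.Lib.PGrp.Basic

/-!
# Cancellation and the Krull-Schmidt theorem for finite groups
-/

set_option autoImplicit false
set_option linter.style.haveILetI false

namespace Cfsg.Lib.Coprime

open Subgroup

theorem card_hom_prod (T A B : Type*) [Group T] [Group A] [Group B] :
    Nat.card (T →* A × B) = Nat.card (T →* A) * Nat.card (T →* B) := by
  rw [← Nat.card_prod]
  exact Nat.card_congr
    { toFun := fun f => ((MonoidHom.fst A B).comp f, (MonoidHom.snd A B).comp f)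
      invFun := fun f => f.1.prod f.2
      left_inv := fun _ => rfl
      right_inv := fun _ => rfl }

theorem card_hom_congr (T : Type*) {A B : Type*} [Group T] [Group A] [Group B] (e : A ≃* B) :
    Nat.card (T →* A) = Nat.card (T →* B) :=
  Nat.card_congr
    { toFun := fun f => (e : A →* B).comp f
      invFun := fun f => (e.symm : B →* A).comp f
      left_inv := fun f => by ext; simp
      right_inv := fun f => by ext; simp }

theorem finite_hom (T B : Type*) [Group T] [Group B] [Finite T] [Finite B] : Finite (T →* B) :=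
  Finite.of_injective (fun f : T →* B => (f : T → B)) DFunLike.coe_injective

theorem card_hom_ker {T : Type*} (B : Type*) [Group T] [Group B] (N : Subgroup T) [N.Normal] :
    Nat.card {f : T →* B // f.ker = N} = Nat.card {f : T ⧸ N →* B // f.ker = ⊥} := by
  refine (Invol.card_eq_of_bij (fun f => f.comp (QuotientGroup.mk' N)) (fun f hf => ?_)
    (fun f g _ _ e => QuotientGroup.monoidHom_ext N e) fun f hf => ?_).symm
  · rw [← MonoidHom.comap_ker, hf, MonoidHom.comap_bot, QuotientGroup.ker_mk']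
  · refine ⟨QuotientGroup.lift N f hf.ge, ?_, QuotientGroup.lift_comp_mk' _ _ _⟩
    rw [QuotientGroup.ker_lift, hf, Subgroup.map_eq_bot_iff, QuotientGroup.ker_mk']

universe u in
theorem card_inj_eq {B C : Type*} [Group B] [Group C] [Finite B] [Finite C]
    (h : ∀ (T : Type u) [Group T] [Finite T], Nat.card (T →* B) = Nat.card (T →* C)) (n : ℕ) :
    ∀ (T : Type u) [Group T] [Finite T], Nat.card T = n →
      Nat.card {f : T →* B // f.ker = ⊥} = Nat.card {f : T →* C // f.ker = ⊥} := by
  classical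
  induction n using Nat.strong_induction_on with | _ n ih =>
  intro T _ _ hn
  haveI := finite_hom T B
  haveI := finite_hom T C
  haveI := Fintype.ofFinite (Subgroup T)
  have h1 := h T
  rw [← Invol.card_true, ← Invol.card_true (α := T →* C), Invol.card_eq_sum_fibers _ MonoidHom.ker,
    Invol.card_eq_sum_fibers _ MonoidHom.ker, ← Finset.add_sum_erase _ _ (Finset.mem_univ ⊥),
    ← Finset.add_sum_erase _ _ (Finset.mem_univ ⊥)] at h1
  simp only [true_and] at h1
  refine Nat.add_right_cancel (h1.trans ?_)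
  congr 1
  refine Finset.sum_congr rfl fun N hN => ?_
  by_cases hN' : N.Normal
  · rw [card_hom_ker B, card_hom_ker C, ih _ ?_ _ rfl]
    rw [← hn, ← N.index_mul_card, ← index_eq_card]
    exact (Nat.lt_mul_iff_one_lt_right (Nat.pos_of_ne_zero FiniteIndex.index_ne_zero)).2
      ((one_lt_card_iff_ne_bot N).2 (Finset.ne_of_mem_erase hN))
  · rw [Invol.card_eq_zero_of_forall (p := fun f : T →* C => f.ker = N) fun f e =>
      hN' (e ▸ inferInstance), Invol.card_eq_zero_of_forall (p := fun f : T →* B => f.ker = N)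
      fun f e => hN' (e ▸ inferInstance)]

/-- Cancellation of finite direct factors. -/
theorem prod_cancel {A A' B C : Type*} [Group A] [Group A'] [Group B] [Group C] [Finite A]
    [Finite B] [Finite C] (e₀ : A ≃* A') (e : A × B ≃* A' × C) : Nonempty (B ≃* C) := by
  have h1 := card_inj_eq (B := B) (C := C) (fun T _ _ => by
    haveI := finite_hom T A
    have := card_hom_congr T e
    rw [card_hom_prod, card_hom_prod, ← card_hom_congr T e₀] at this
    exact Nat.eq_of_mul_eq_mul_left Nat.card_pos this) _ B rfl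
  haveI := finite_hom B B
  have h2 := Invol.card_pos_of (p := fun f : B →* B => f.ker = ⊥) (a := MonoidHom.id B) rfl
  obtain ⟨f, hf⟩ := Invol.exists_of_card_pos (h1 ▸ h2)
  have h3 := Nat.card_congr e.toEquiv
  rw [Nat.card_prod, Nat.card_prod, ← Nat.card_congr e₀.toEquiv] at h3
  exact ⟨MulEquiv.ofBijective f ((Nat.bijective_iff_injective_and_card f).2
    ⟨(MonoidHom.ker_eq_bot_iff f).1 hf, Nat.eq_of_mul_eq_mul_left Nat.card_pos h3⟩)⟩

/-- directly indecomposable -/
def Indec (A : Type*) [Group A] : Prop :=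
  ∀ H K : Subgroup A, H.Normal → K.Normal → H ⊓ K = ⊥ → H ⊔ K = ⊤ → H = ⊥ ∨ K = ⊥

/-- homomorphisms preserving normality -/
def NPres {A X : Type*} [Group A] [Group X] (f : A →* X) : Prop :=
  ∀ N : Subgroup A, N.Normal → (N.map f).Normal

theorem NPres.comp {A X Y : Type*} [Group A] [Group X] [Group Y] {f : A →* X} {g : X →* Y}
    (hg : NPres g) (hf : NPres f) : NPres (g.comp f) := fun N hN =>
  map_map N g f ▸ hg _ (hf N hN)

theorem npres_of_surjective {A X : Type*} [Group A] [Group X] {f : A →* X}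
    (hf : Function.Surjective f) : NPres f := fun _ hN => hN.map f hf

theorem npres_inl (A B : Type*) [Group A] [Group B] : NPres (MonoidHom.inl A B) := fun N hN =>
  ⟨by rintro _ ⟨x, hx, rfl⟩ g; exact ⟨_, hN.conj_mem x hx g.1, Prod.ext rfl (by simp)⟩⟩

theorem npres_inr (A B : Type*) [Group A] [Group B] : NPres (MonoidHom.inr A B) := fun N hN =>
  ⟨by rintro _ ⟨x, hx, rfl⟩ g; exact ⟨_, hN.conj_mem x hx g.2, Prod.ext (by simp) rfl⟩⟩

/-- Fitting's lemma -/
theorem Indec.fitting {A : Type*} [Group A] [Finite A] (hA : Indec A) (θ : Monoid.End A)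
    (hθ : NPres (θ : A →* A)) : Function.Injective θ ∨ ∃ k, ∀ a, (θ ^ k) a = 1 := by
  have hk : ∀ k, NPres ((θ ^ k : Monoid.End A) : A →* A) := fun k => by
    induction k with
    | zero => exact npres_of_surjective Function.surjective_id
    | succ k ih => rw [pow_succ]; exact ih.comp hθ
  obtain ⟨k, hmin⟩ := exists_minimalFor_of_wellFoundedLT (fun _ : ℕ => True)
    (fun k => Nat.card (MonoidHom.range (θ ^ (k + 1) : Monoid.End A))) ⟨0, trivial⟩
  let ε : A →* A := (θ ^ (k + 1) : Monoid.End A)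
  have h1 : (ε.comp ε).range = ε.range := by
    refine PGrp.eq_of_le_of_card_le (by rintro _ ⟨a, rfl⟩; exact ⟨ε a, rfl⟩) ?_
    have e : θ ^ (k + 1) * θ ^ (k + 1) = θ ^ (2 * k + 1 + 1) := by rw [← pow_add]; congr 1; ring
    exact (hmin.le (j := 2 * k + 1) trivial).trans_eq (by rw [← e]; rfl)
  have h2 : ε.ker ⊔ ε.range = ⊤ := by
    rw [eq_top_iff]
    intro a _
    obtain ⟨b, hb⟩ := h1.ge ⟨a, rfl⟩
    rw [← inv_mul_cancel_right a (ε b)]
    refine mul_mem_sup ?_ ⟨b, rfl⟩
    rw [MonoidHom.mem_ker, map_mul, map_inv, ← hb]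
    exact mul_inv_cancel _
  have h3 : ε.ker ⊓ ε.range = ⊥ := by
    have a1 := PGrp.card_sup_mul_card_inf ε.range ε.ker
    rw [sup_comm, inf_comm, h2, card_top, ← index_ker, index_mul_card] at a1
    exact card_eq_one.1 (Nat.eq_of_mul_eq_mul_left Nat.card_pos (a1.trans (mul_one _).symm))
  rcases hA _ _ inferInstance (ε.range_eq_map ▸ hk _ ⊤ inferInstance) h3 h2 with h | h
  · left
    have : Function.Injective (θ ^ (k + 1) : Monoid.End A) := (MonoidHom.ker_eq_bot_iff _).1 h
    rw [pow_succ] at this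
    exact Function.Injective.of_comp (f := (θ ^ k : Monoid.End A)) this
  · exact Or.inr ⟨k + 1, fun a => mem_bot.1 (h.le ⟨a, rfl⟩)⟩

/-- `A` is a direct factor of `X` -/
def Ret (A X : Type*) [Group A] [Group X] : Prop :=
  ∃ (f : A →* X) (g : X →* A), Function.Injective (g.comp f) ∧ NPres f

theorem Ret.congr {A X Y : Type*} [Group A] [Group X] [Group Y] (h : Ret A X) (e : X ≃* Y) :
    Ret A Y := by
  obtain ⟨f, g, h1, h2⟩ := h
  refine ⟨(e : X →* Y).comp f, g.comp (e.symm : Y →* X), fun a b hab => h1 ?_,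
    (npres_of_surjective e.surjective).comp h2⟩
  simpa using hab

theorem Ret.split {A B D : Type*} [Group A] [Group B] [Group D] [Finite A] (hA : Indec A)
    (h : Ret A (B × D)) : Ret A B ∨ Ret A D := by
  obtain ⟨f, g₀, h1, h2⟩ := h
  let E := MulEquiv.ofBijective _ (Finite.injective_iff_bijective.1 h1)
  let g := (E.symm : A →* A).comp g₀
  have hg : ∀ a, g (f a) = a := E.symm_apply_apply
  have hf1 := (npres_of_surjective (f := MonoidHom.fst B D) Prod.fst_surjective).comp h2
  have hf2 := (npres_of_surjective (f := MonoidHom.snd B D) Prod.snd_surjective).comp h2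
  rcases hA.fitting ((g.comp (MonoidHom.inl B D)).comp ((MonoidHom.fst B D).comp f))
    (((npres_of_surjective fun a => ⟨f a, hg a⟩).comp (npres_inl B D)).comp hf1) with h | ⟨k, hk⟩
  · exact Or.inl ⟨_, _, h, hf1⟩
  · refine Or.inr ⟨_, g.comp (MonoidHom.inr B D), (injective_iff_map_eq_one _).2 fun a ha => ?_, hf2⟩
    set θ : Monoid.End A := (g.comp (MonoidHom.inl B D)).comp ((MonoidHom.fst B D).comp f)
    have h3 : θ a = a := by
      have e : g (f a) = g ((f a).1, 1) * g (1, (f a).2) := by rw [← map_mul]; simp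
      rw [hg, show g (1, (f a).2) = 1 from ha, mul_one] at e
      exact e.symm
    have h4 : ∀ k, (θ ^ k) a = a := fun k => by
      induction k with
      | zero => rfl
      | succ k ih => rw [pow_succ]; exact (congrArg (θ ^ k) h3).trans ih
    rw [← h4 k, hk]

theorem Ret.equiv {A B : Type*} [Group A] [Group B] [Finite A] [Nontrivial A] (hB : Indec B)
    (h : Ret A B) : Nonempty (A ≃* B) := by
  obtain ⟨f, g, h1, h2⟩ := h
  have hf : Function.Injective f := Function.Injective.of_comp (f := g) h1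
  have h3 : f.range ⊓ g.ker = ⊥ := by
    rw [eq_bot_iff]
    rintro _ ⟨⟨a, rfl⟩, ha⟩
    rw [(injective_iff_map_eq_one _).1 h1 a ha, map_one]
    exact one_mem _
  have h4 : f.range ⊔ g.ker = ⊤ := by
    rw [eq_top_iff]
    intro b _
    obtain ⟨a, ha⟩ := Finite.surjective_of_injective h1 (g b)
    rw [← mul_inv_cancel_left (f a) b]
    refine mul_mem_sup ⟨a, rfl⟩ ?_
    rw [MonoidHom.mem_ker, map_mul, map_inv, ← ha]
    exact inv_mul_cancel _
  rcases hB _ _ (f.range_eq_map ▸ h2 ⊤ inferInstance) inferInstance h3 h4 with h | h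
  · obtain ⟨a, ha⟩ := exists_ne (1 : A)
    exact absurd (hf ((mem_bot.1 (h.le ⟨a, rfl⟩)).trans (map_one f).symm)) ha
  · rw [h, sup_bot_eq, MonoidHom.range_eq_top] at h4
    exact ⟨MulEquiv.ofBijective f ⟨hf, h4⟩⟩

/-- splitting off one factor of a finite product -/
def piSplit {n : ℕ} (B : Fin (n + 1) → Type*) [∀ j, Group (B j)] (j : Fin (n + 1)) :
    (∀ i, B i) ≃* B j × ∀ i, B (j.succAbove i) :=
  { (Fin.insertNthEquiv B j).symm with map_mul' := fun _ _ => rfl }

universe v in
theorem Ret.exists_equiv {A : Type*} [Group A] [Finite A] [Nontrivial A] (hA : Indec A) (n : ℕ) :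
    ∀ (B : Fin n → Type v) [∀ j, Group (B j)], (∀ j, Indec (B j)) → Ret A (∀ j, B j) →
      ∃ j, Nonempty (A ≃* B j) := by
  induction n with
  | zero =>
    rintro B _ - ⟨f, g, h, -⟩
    obtain ⟨a, ha⟩ := exists_ne (1 : A)
    exact absurd (h (congrArg g (Subsingleton.elim _ _))) ha
  | succ n ih =>
    intro B _ hB h
    rcases (h.congr (piSplit B 0)).split hA with h | h
    · exact ⟨0, h.equiv (hB 0)⟩
    · obtain ⟨j, hj⟩ := ih _ (fun j => hB _) h
      exact ⟨_, hj⟩

universe u v in
/-- **Krull-Schmidt theorem** for finite groups. -/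
theorem krull_schmidt (m : ℕ) : ∀ (n : ℕ) (A : Fin m → Type u) (B : Fin n → Type v)
    [∀ i, Group (A i)] [∀ j, Group (B j)] [∀ i, Finite (A i)] [∀ j, Finite (B j)],
    (∀ i, Nontrivial (A i) ∧ Indec (A i)) → (∀ j, Nontrivial (B j) ∧ Indec (B j)) →
    ((∀ i, A i) ≃* (∀ j, B j)) → ∃ σ : Fin m ≃ Fin n, ∀ i, Nonempty (A i ≃* B (σ i)) := by
  induction m with
  | zero =>
    intro n A B _ _ _ _ _ hB e
    rcases n with _ | n
    · exact ⟨Equiv.refl _, fun i => i.elim0⟩
    · haveI := (hB 0).1
      obtain ⟨b, hb⟩ := exists_ne (1 : B 0)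
      have := e.symm.injective (Subsingleton.elim (e.symm (Pi.mulSingle 0 b)) (e.symm 1))
      exact absurd (by simpa using congrFun this 0) hb
  | succ m ih =>
    intro n A B _ _ _ _ hA hB e
    haveI := (hA 0).1
    obtain ⟨j, ⟨e₀⟩⟩ := Ret.exists_equiv (hA 0).2 n B (fun j => (hB j).2)
      (Ret.congr ⟨MonoidHom.inl _ _, MonoidHom.fst _ _, fun _ _ h => h, npres_inl _ _⟩
        ((piSplit A 0).symm.trans e))
    obtain ⟨n, rfl⟩ : ∃ k, n = k + 1 := ⟨n - 1, by have := j.pos; omega⟩
    obtain ⟨e₁⟩ := prod_cancel e₀ (((piSplit A 0).symm.trans e).trans (piSplit B j))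
    obtain ⟨σ, hσ⟩ := ih n _ _ (fun i => hA _) (fun i => hB _) e₁
    refine ⟨(finSuccEquiv' 0).trans (σ.optionCongr.trans (finSuccEquiv' j).symm), fun i => ?_⟩
    refine Fin.succAboveCases 0 ?_ (fun i => ?_) i
    · simp only [Equiv.trans_apply, finSuccEquiv'_at, Equiv.optionCongr_apply, Option.map_none,
        finSuccEquiv'_symm_none]
      exact ⟨e₀⟩
    · simp only [Equiv.trans_apply, finSuccEquiv'_succAbove, Equiv.optionCongr_apply,
        Option.map_some, finSuccEquiv'_symm_some]
      exact hσ i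

end Cfsg.Lib.Coprime
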