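import Cfsg.Agent.Lib.FG.Count
import Cfsg.Agent.Lib.Invol.Count
import Cfsg.Agent.Lib.PGrp.TwoMax
import Cfsg.Agent.Lib.PGrp.Alperin
import Cfsg.Agent.Lib.Small.Simple
import Cfsg.Agent.Lib.Transfer.SylowIn

/-!
# Kulakoff's theorem: numbers of subgroups of `p`-groups modulo `p ^ 2`
-/

set_option autoImplicit false
set_option linter.style.haveILetI false

namespace Cfsg.Lib.Coprime

open Subgroup Finset

theorem double_count {α β : Type*} [Fintype α] [Fintype β] (P : α → Prop) (Q : β → Prop)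
    [DecidablePred P] [DecidablePred Q] (r : α → β → Prop) :
    ∑ a with P a, Nat.card {b // Q b ∧ r a b} = ∑ b with Q b, Nat.card {a // P a ∧ r a b} := by
  classical
  simp only [Invol.card_eq_filter, ← filter_filter]
  exact sum_card_bipartiteAbove_eq_sum_card_bipartiteBelow r

variable {G : Type*} [Group G] [Finite G] {p : ℕ} [hp : Fact p.Prime]

theorem card_index_over (hG : IsPGroup p G) (N : Subgroup G) [N.Normal] (hN : frattini G ≤ N)
    (n : ℕ) : Nat.card {M : Subgroup G // N ≤ M ∧ M.index = n} =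
      Nat.card {M : Subgroup (G ⧸ N) // Nat.card M = n} := by
  have h1 := FG.card_comap_congr N (·.index = n)
  simp only [index_comap_of_surjective _ (QuotientGroup.mk'_surjective _)] at h1
  haveI : IsMulCommutative (G ⧸ N) := Normal.quotient_commutative_iff_commutator_le.2
    ((PGrp.commutator_le_frattini hG).trans hN)
  letI : CommGroup (G ⧸ N) := { (inferInstance : Group (G ⧸ N)) with mul_comm := mul_comm' }
  rw [← h1]
  exact FG.card_index_eq_card (A := G ⧸ N) n

theorem normal_sup_frattini (hG : IsPGroup p G) (K : Subgroup G) : (K ⊔ frattini G).Normal :=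
  Normal.of_commutator_le G ((PGrp.commutator_le_frattini hG).trans le_sup_right)

theorem card_max_over (hG : IsPGroup p G) (K : Subgroup G) (h : p ^ 2 ∣ (K ⊔ frattini G).index) :
    Nat.card {M : Subgroup G // M.index = p ∧ K ≤ M} ≡ 1 + p [MOD p ^ 2] := by
  haveI := normal_sup_frattini hG K
  rw [Invol.card_congr_iff (q := fun M => K ⊔ frattini G ≤ M ∧ M.index = p) fun M =>
    ⟨fun h => ⟨sup_le h.2 fun x hx => (PGrp.mem_frattini_iff hG).1 hx M h.1, h.1⟩,
      fun h => ⟨h.2, le_sup_left.trans h.1⟩⟩, card_index_over hG _ le_sup_right]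
  have h1 := PGrp.card_subgroups_card_prime (G := G ⧸ (K ⊔ frattini G)) hp.out fun x => by
    obtain ⟨x, rfl⟩ := QuotientGroup.mk_surjective x
    rw [← QuotientGroup.mk_pow, QuotientGroup.eq_one_iff]
    exact mem_sup_right (PGrp.pow_mem_frattini hG x)
  have h2 : 0 < Nat.card (G ⧸ (K ⊔ frattini G)) := Nat.card_pos
  rw [index_eq_card] at h
  obtain ⟨t, ht⟩ := h
  obtain ⟨q, hq⟩ : ∃ q, p = q + 1 := ⟨p - 1, by have := hp.out.pos; omega⟩
  have hc : (p ^ 2).Coprime (p - 1) := Nat.Coprime.pow_left 2 (by rw [hq]; simp)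
  refine Nat.ModEq.cancel_right_of_coprime hc (Nat.ModEq.add_right_cancel' 1 ?_)
  rw [h1, Nat.sub_add_cancel h2, ht, show (1 + p) * (p - 1) + 1 = p ^ 2 by rw [hq]; simp; ring]
  exact (Nat.modEq_zero_iff_dvd.2 (dvd_mul_right _ _)).trans (Nat.modEq_zero_iff_dvd.2 dvd_rfl).symm

theorem card_max_over_eq_one (hG : IsPGroup p G) {K : Subgroup G} (hK : K ≠ ⊤)
    (h : ¬ p ^ 2 ∣ (K ⊔ frattini G).index) :
    Nat.card {M : Subgroup G // M.index = p ∧ K ≤ M} = 1 := by
  obtain ⟨M₀, h1, h2, -⟩ := PGrp.exists_index_eq_of_ne_top hG hK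
  have key : ∀ M : Subgroup G, M.index = p → K ≤ M → M = K ⊔ frattini G := by
    intro M hM hKM
    have h3 : K ⊔ frattini G ≤ M := sup_le hKM fun x hx => (PGrp.mem_frattini_iff hG).1 hx M hM
    by_contra hne
    have h4 := relIndex_mul_index h3
    obtain ⟨n, hn⟩ := IsPGroup.iff_card.1 hG
    obtain ⟨j, -, hj⟩ := (Nat.dvd_prime_pow hp.out).1
      (hn ▸ (Dvd.intro _ h4).trans (K ⊔ frattini G).index_dvd_card)
    rcases j with _ | j
    · exact hne (le_antisymm (relIndex_eq_one.1 hj) h3)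
    · exact h (by rw [← h4, hj, hM]; exact ⟨p ^ j, by ring⟩)
  rw [Invol.card_congr_iff (q := fun M => M = M₀) fun M =>
    ⟨fun h => (key M h.1 h.2).trans (key M₀ h2 h1).symm, fun h => h ▸ ⟨h2, h1⟩⟩, Invol.card_eq_self]

theorem sq_dvd_index_frattini (hG : IsPGroup p G) (hc : ¬ IsCyclic G) :
    p ^ 2 ∣ (frattini G).index := by
  obtain ⟨n, hn⟩ := IsPGroup.iff_card.1 (hG.to_quotient (frattini G))
  rw [index_eq_card, hn]
  refine pow_dvd_pow p ?_
  by_contra h
  refine hc (PGrp.isCyclic_of_quotient_le_frattini _ le_rfl (isCyclic_of_card_dvd_prime (p := p) ?_))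
  rw [hn]
  exact (pow_dvd_pow p (by omega)).trans (pow_one p).dvd

theorem card_max_modEq (hG : IsPGroup p G) (hc : ¬ IsCyclic G) :
    Nat.card {M : Subgroup G // M.index = p} ≡ 1 + p [MOD p ^ 2] := by
  have := card_max_over hG ⊥ (by rw [bot_sup_eq]; exact sq_dvd_index_frattini hG hc)
  simpa using this

/-- Hall's enumeration principle modulo `p ^ 2`. -/
theorem enumeration [Fintype (Subgroup G)] {m k : ℕ} (hm : Nat.card G = p ^ m) (hc : ¬ IsCyclic G)
    (hk : k + 2 ≤ m) :
    ∑ M : Subgroup G with M.index = p, Nat.card {K : Subgroup M // Nat.card K = p ^ k} ≡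
      Nat.card {K : Subgroup G // Nat.card K = p ^ k} + p [MOD p ^ 2] := by
  classical
  have hG : IsPGroup p G := IsPGroup.of_card hm
  have e : ∀ M : Subgroup G, Nat.card {K : Subgroup M // Nat.card K = p ^ k} =
      Nat.card {K : Subgroup G // Nat.card K = p ^ k ∧ K ≤ M} := fun M => by
    rw [Invol.card_congr_iff fun _ => and_comm, ← FG.card_map_congr M (Nat.card · = p ^ k)]
    simp only [Core.card_map_subtype]
  simp only [e]
  rw [double_count _ _ fun M K : Subgroup G => K ≤ M]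
  have h1 : ∑ K : Subgroup G with Nat.card (K : Subgroup G) = p ^ k, Nat.card {M : Subgroup G // M.index = p ∧ K ≤ M} ≡
      ∑ K : Subgroup G with Nat.card (K : Subgroup G) = p ^ k,
        (1 + p * if p ^ 2 ∣ (K ⊔ frattini G).index then 1 else 0) [MOD p ^ 2] := by
    refine Nat.ModEq.sum fun K hK => ?_
    split_ifs with h
    · rw [mul_one]; exact card_max_over hG K h
    · rw [card_max_over_eq_one hG (fun e => ?_) h]; · rfl
      have := (mem_filter.1 hK).2
      rw [e, card_top, hm] at this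
      have := Nat.pow_right_injective hp.out.two_le this
      omega
  refine h1.trans ?_
  rw [sum_add_distrib, ← card_eq_sum_ones, ← Invol.card_eq_filter, ← mul_sum]
  refine Nat.ModEq.add_left _ ?_
  rw [pow_two]
  conv_rhs => rw [← mul_one p]
  refine Nat.ModEq.mul_left' p ?_
  have h2 : ∑ K : Subgroup G with Nat.card (K : Subgroup G) = p ^ k,
      (if p * p ∣ (K ⊔ frattini G).index then 1 else 0) ≡ ∑ K : Subgroup G with Nat.card (K : Subgroup G) = p ^ k,
        Nat.card {H : Subgroup G // (frattini G ≤ H ∧ H.index = p ^ 2) ∧ K ≤ H} [MOD p] := by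
    refine Nat.ModEq.sum fun K _ => ?_
    haveI := normal_sup_frattini hG K
    rw [Invol.card_congr_iff (q := fun M => K ⊔ frattini G ≤ M ∧ M.index = p ^ 2) fun M =>
      ⟨fun h => ⟨sup_le h.2 h.1.1, h.1.2⟩,
        fun h => ⟨⟨le_sup_right.trans h.1, h.2⟩, le_sup_left.trans h.1⟩⟩, ← pow_two]
    split_ifs with h
    · rw [card_index_over hG _ le_sup_right]
      exact (FG.card_order_pow 2 h).symm
    · rw [Invol.card_eq_zero_of_forall (p := fun M => K ⊔ frattini G ≤ M ∧ M.index = p ^ 2)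
        fun M hM => h (hM.2 ▸ index_dvd_of_le hM.1)]
  refine h2.trans ?_
  rw [← double_count _ _ fun M K : Subgroup G => K ≤ M]
  refine (Nat.ModEq.sum (g := fun _ => 1) fun H hH => ?_).trans ?_
  · rw [← e]
    refine FG.card_order_pow k ?_
    have h3 := H.index_mul_card
    rw [(mem_filter.1 hH).2.2, hm] at h3
    refine Nat.dvd_of_mul_dvd_mul_left (pow_pos hp.out.pos 2) ?_
    rw [h3, ← pow_add]
    exact pow_dvd_pow p (by omega)
  · rw [← card_eq_sum_ones, ← Invol.card_eq_filter, card_index_over hG _ le_rfl]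
    exact FG.card_order_pow 2 (sq_dvd_index_frattini hG hc)

open scoped commutatorElement in
/-- The number of cyclic subgroups of index `p`. -/
theorem dvd_card_cyclic_max {m : ℕ} (hm : Nat.card G = p ^ (m + 3)) (hc : ¬ IsCyclic G)
    (h2 : p = 2 → Group.nilpotencyClass G ≠ m + 2) :
    p ∣ Nat.card {M : Subgroup G // M.index = p ∧ IsCyclic M} := by
  have hG : IsPGroup p G := IsPGroup.of_card hm
  by_cases h : ∃ M : Subgroup G, M.index = p ∧ IsCyclic M
  swap
  · rw [Invol.card_eq_zero_of_forall fun M hM => h ⟨M, hM⟩]; exact dvd_zero _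
  obtain ⟨M, hM, hMc⟩ := h
  obtain ⟨a, rfl⟩ := PGrp.exists_zpowers_eq_of_isCyclic hMc
  have hidx : ∀ H : Subgroup G, H.index = p ↔ Nat.card H = p ^ (m + 2) := fun H => by
    have h := H.index_mul_card
    rw [hm, pow_succ'] at h
    exact ⟨fun e => Nat.eq_of_mul_eq_mul_left hp.out.pos (e ▸ h),
      fun e => Nat.eq_of_mul_eq_mul_right (pow_pos hp.out.pos _) (e ▸ h)⟩
  have ha : orderOf a = p ^ (m + 2) := Nat.card_zpowers a ▸ (hidx _).1 hM
  obtain ⟨R, hRn, hRe, hR⟩ : ∃ R : Subgroup G, R.Normal ∧ IsElementaryAbelian p R ∧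
      Nat.card R = p ^ 2 := by
    by_contra! h
    rcases PGrp.isCyclic_or_max2 hG h with h | ⟨rfl, a, b, n, h, -⟩
    · exact hc h
    · have := Nat.pow_right_injective le_rfl (hm.symm.trans h.card)
      exact h2 rfl (by rw [h.maxClass]; omega)
  have hRp : ∀ x ∈ R, x ^ p = 1 := hRe.2
  have hRa : ¬ R ≤ zpowers a := fun h => by
    have := PGrp.card_le_of_isCyclic_of_pow (PGrp.isCyclic_of_le' hMc h) hRp
    rw [hR] at this
    exact absurd this (not_le.2 (by nlinarith [hp.out.one_lt]))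
  haveI := PGrp.normal_of_index_eq hG hM
  have hsup : R ⊔ zpowers a = ⊤ :=
    ((PGrp.isCoatom_iff_index_eq hG).2 hM).2 _ (lt_of_le_of_ne le_sup_right fun e =>
      hRa (e ▸ le_sup_left))
  have hD : commutator G ≤ R ⊓ zpowers a := le_inf (PGrp.commutator_le_of_sup_zpowers_eq_top hsup)
    (PGrp.commutator_le_and_pow_mem_of_index_eq _ hM).1
  have hZ : Nat.card ↥(R ⊓ zpowers a) ≤ p := by
    have := PGrp.mul_card_le_of_lt (hG.to_subgroup R)
      (lt_of_le_of_ne inf_le_left fun e => hRa (e ▸ inf_le_right) : R ⊓ zpowers a < R)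
    rw [hR, pow_two] at this
    exact Nat.le_of_mul_le_mul_left this hp.out.pos
  have hcen := hD.trans (PGrp.le_center_of_card_le hG _ hZ)
  have hcc : ∀ x y : G, ⁅x, y⁆ ^ (p ^ (m + 1)).choose 2 = 1 := fun x y => by
    by_cases hq : p ^ (m + 1) = 2
    · obtain rfl : p = 2 := (Nat.prime_dvd_prime_iff_eq hp.out Nat.prime_two).1
        (hq ▸ dvd_pow_self p m.succ_ne_zero)
      obtain rfl : m = 0 := by
        have := Nat.pow_right_injective le_rfl (hq.trans (pow_one 2).symm); omega
      rcases PGrp.eq_bot_or_card_eq (hG.to_subgroup _) ((card_le_of_le hD).trans hZ) with h | h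
      · rw [mem_bot.1 (h.le (PGrp.commutator_mem x y)), one_pow]
      · have h3 := (commutator G).index_mul_card
        rw [h, hm] at h3
        obtain ⟨a, b, h4⟩ := PGrp.exists_max2_of_index_commutator hm (by omega)
        exact absurd h4.maxClass (h2 rfl)
    · obtain ⟨t, ht⟩ := PGrp.prime_dvd_choose_two m.succ_ne_zero hq
      rw [ht, pow_mul, hRp _ (hD (PGrp.commutator_mem x y)).1, one_pow]
  let θ : G →* G := MonoidHom.mk' (fun x => x ^ p ^ (m + 1)) fun x y => by
    rw [PGrp.mul_pow_eq_of_commute (PGrp.commute_of_mem_center (hcen (PGrp.commutator_mem _ _)) _)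
      (PGrp.commute_of_mem_center (hcen (PGrp.commutator_mem _ _)) _), hcc, mul_one]
  have hθ : θ.ker.index = p := by
    rw [index_ker, MonoidHom.range_eq_map, ← hsup, Subgroup.map_sup,
      (Subgroup.map_eq_bot_iff R (f := θ)).2 fun x hx => (show x ^ p ^ (m + 1) = 1 by
        rw [pow_succ', pow_mul, hRp x hx, one_pow]), bot_sup_eq, MonoidHom.map_zpowers,
      Nat.card_zpowers]
    change orderOf (a ^ p ^ (m + 1)) = p
    rw [orderOf_pow' _ (pow_ne_zero _ hp.out.ne_zero), ha, pow_succ p (m + 1),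
      Nat.gcd_mul_right_left, Nat.mul_div_cancel_left _ (pow_pos hp.out.pos _)]
  have h3 := FG.card_orderOf_eq (G := G) (p ^ (m + 2))
  have h4 := Invol.card_split (fun _ : G => True) (· ∈ θ.ker)
  rw [Invol.card_true, hm, Invol.card_congr_iff (p := fun x => True ∧ x ∈ θ.ker) (q := (· ∈ θ.ker)) fun _ => by simp,
    Invol.card_congr_iff (p := fun x => True ∧ x ∉ θ.ker) (q := (orderOf · = p ^ (m + 2))) fun x =>
      ⟨fun h => orderOf_eq_prime_pow h.2 ?_, fun h => ⟨trivial, fun h' => ?_⟩⟩, h3,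
    (hidx _).1 hθ, Nat.totient_prime_pow_succ hp.out,
    ← Invol.card_congr_iff fun H => and_comm.trans (and_congr_right' (hidx H))] at h4
  · generalize Nat.card {M : Subgroup G // M.index = p ∧ IsCyclic M} = c at h4 ⊢
    obtain ⟨q, hq⟩ : ∃ q, p = q + 1 := ⟨p - 1, by have := hp.out.pos; omega⟩
    have hq0 : 0 < q := by have := hp.out.two_le; omega
    refine dvd_of_eq (Nat.eq_of_mul_eq_mul_right (Nat.mul_pos (pow_pos hp.out.pos (m + 1)) hq0)
      (Nat.add_left_cancel (n := p ^ (m + 2)) ?_))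
    rw [show p - 1 = q by omega] at h4
    rw [← h4, pow_succ p (m + 2)]
    nth_rw 5 [hq]
    ring
  · obtain ⟨j, hj, hj'⟩ := (Nat.dvd_prime_pow hp.out).1 (hm ▸ orderOf_dvd_natCard x)
    rcases hj.lt_or_eq with hj | rfl
    · exact orderOf_dvd_iff_pow_eq_one.1 (hj' ▸ pow_dvd_pow p (by omega))
    · exact absurd (isCyclic_of_orderOf_eq_card x (hj'.trans hm.symm)) hc
  · have := (Nat.pow_dvd_pow_iff_le_right hp.out.one_lt).1 (h ▸ orderOf_dvd_of_pow_eq_one h')
    omega

theorem comm_of_card_le_mul (hG : IsPGroup p G) {A M : Subgroup G} (hA : A ≤ M)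
    (hC : A ≤ centralizer (M : Set G)) (h : Nat.card M ≤ p * Nat.card A) : IsMulCommutative M := by
  have hAc : IsMulCommutative A := PGrp.isMulCommutative_iff_forall.2 fun x hx y hy => hC hy x (hA hx)
  rcases hA.lt_or_eq with h1 | rfl
  · obtain ⟨x, hx, hxA⟩ := SetLike.exists_of_lt h1
    have h2 := PGrp.mul_card_le_of_lt (hG.to_subgroup _) (lt_of_le_of_ne le_sup_left
      fun e => hxA (e ▸ mem_sup_right (mem_zpowers x)) : A < A ⊔ zpowers x)
    rw [← PGrp.eq_of_le_of_card_le (sup_le hA (zpowers_le_of_mem hx)) (h.trans h2)]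
    exact PGrp.isMulCommutative_sup_zpowers hAc fun a ha => (hC ha x hx).symm
  · exact hAc

theorem card_max_over_modEq_one (hG : IsPGroup p G) {K : Subgroup G} (hK : K ≠ ⊤) :
    Nat.card {M : Subgroup G // M.index = p ∧ K ≤ M} ≡ 1 [MOD p] := by
  by_cases h : p ^ 2 ∣ (K ⊔ frattini G).index
  · exact ((card_max_over hG K h).of_dvd (dvd_pow_self p two_ne_zero)).trans (by simp [Nat.ModEq])
  · rw [card_max_over_eq_one hG hK h]

/-- The number of abelian subgroups of index `p` is `0` or `1` modulo `p`. -/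
theorem card_abelian_max (hG : IsPGroup p G) (hna : ¬ IsMulCommutative G) {M₀ : Subgroup G}
    (h0 : M₀.index = p) (h0' : IsMulCommutative M₀) :
    Nat.card {M : Subgroup G // M.index = p ∧ IsMulCommutative M} ≡ 1 [MOD p] := by
  by_cases h : ∀ M : Subgroup G, M.index = p ∧ IsMulCommutative M → M = M₀
  · rw [Invol.card_congr_iff (q := (· = M₀)) fun M => ⟨h M, fun e => e ▸ ⟨h0, h0'⟩⟩,
      Invol.card_eq_self]
  push Not at h
  obtain ⟨M₁, ⟨h1, h1'⟩, hne⟩ := h
  have hco := fun {M : Subgroup G} (h : M.index = p) => (PGrp.isCoatom_iff_index_eq hG).2 h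
  have hZ : M₀ ⊓ M₁ ≤ center G := by
    have := (hco h1).sup_eq_top_of_ne (hco h0) hne
    rw [← centralizer_univ, ← coe_top, ← this, PGrp.centralizer_sup']
    exact le_inf (inf_le_right.trans (le_centralizer _)) (inf_le_left.trans (le_centralizer _))
  have hZt : center G ≠ ⊤ := fun e => hna ⟨⟨fun a b => mem_center_iff.1 (e ▸ mem_top b) a⟩⟩
  refine (Invol.card_congr_iff fun M => and_congr_right fun hM => ?_) ▸
    card_max_over_modEq_one hG hZt
  symm
  constructor
  · intro hMc
    by_contra hn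
    have h3 := (hco hM).2 _ (lt_of_le_of_ne le_sup_left fun e => hn (e ▸ le_sup_right) :
      M < M ⊔ center G)
    have h4 := PGrp.isMulCommutative_sup hMc (inferInstance : IsMulCommutative (center G))
      (center_le_centralizer _)
    rw [h3] at h4
    exact hna ⟨⟨PGrp.isMulCommutative_top_iff.1 h4⟩⟩
  · intro hZM
    refine comm_of_card_le_mul hG hZM (center_le_centralizer _) ?_
    have h3 := PGrp.card_le_card_inf_mul_index M₁ M₀
    have h4 := M.index_mul_card
    rw [← M₀.index_mul_card, hM, h0] at h4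
    rw [Nat.eq_of_mul_eq_mul_left hp.out.pos h4, mul_comm]
    exact h3.trans (h1 ▸ Nat.mul_le_mul_right _ (card_le_of_le hZ))

omit hp in
theorem card_eq_of_index {M : Subgroup G} {p m : ℕ} (hp : 0 < p) (hm : Nat.card G = p ^ (m + 1))
    (hM : M.index = p) : Nat.card M = p ^ m := by
  have h := M.index_mul_card
  rw [hm, pow_succ', hM] at h
  exact Nat.eq_of_mul_eq_mul_left hp h

omit hp in
theorem card_eq_of_index_aux {M : Subgroup G} [M.Normal] {m : ℕ} (hM : Nat.card M = 2)
    (hm : Nat.card G = 2 ^ (m + 1)) : Nat.card (G ⧸ M) = 2 ^ m := by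
  have h := M.index_mul_card
  rw [hm, pow_succ, hM] at h
  exact Nat.eq_of_mul_eq_mul_right two_pos h

open scoped commutatorElement in
/-- The number of subgroups of index `2` and of maximal class. -/
theorem two_dvd_card_maxClass {m : ℕ} (hm : Nat.card G = 2 ^ (m + 4))
    (h2 : Group.nilpotencyClass G ≠ m + 3) :
    2 ∣ Nat.card {M : Subgroup G // M.index = 2 ∧ Group.nilpotencyClass M = m + 2} := by
  haveI : Fact (Nat.Prime 2) := ⟨Nat.prime_two⟩
  have hG : IsPGroup 2 G := IsPGroup.of_card hm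
  by_cases h : ∃ M : Subgroup G, M.index = 2 ∧ Group.nilpotencyClass M = m + 2
  swap
  · rw [Invol.card_eq_zero_of_forall fun M hM => h ⟨M, hM⟩]; exact dvd_zero _
  obtain ⟨H, hH, hHc⟩ := h
  have k1 : ∀ M : Subgroup G, M.index = 2 →
      (Group.nilpotencyClass M = m + 2 ↔ Nat.card ↥⁅M, M⁆ = 2 ^ (m + 1)) := by
    intro M hM
    have h1 := card_eq_of_index two_pos hm hM
    have h3 := (commutator M).index_mul_card
    rw [← M.map_subtype_commutator, Core.card_map_subtype]
    rw [h1] at h3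
    constructor
    · intro h
      rw [PGrp.index_commutator_of_maxClass h1 h (by omega)] at h3
      exact Nat.eq_of_mul_eq_mul_left (show 0 < 2 ^ 2 by norm_num) (by rw [h3]; ring)
    · intro h
      rw [h] at h3
      obtain ⟨a, b, h4⟩ := PGrp.exists_max2_of_index_commutator h1
        (Nat.eq_of_mul_eq_mul_right (show 0 < 2 ^ (m + 1) by positivity) (by rw [h3]; ring))
      exact h4.maxClass
  have hle : ∀ M : Subgroup G, ⁅M, M⁆ ≤ commutator G := fun M => commutator_mono le_top le_top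
  have hD : Nat.card (commutator G) = 2 ^ (m + 1) := by
    refine le_antisymm (PGrp.card_le_pow_of_lt (hG.to_subgroup _) ?_)
      ((k1 H hH).1 hHc ▸ card_le_of_le (hle H))
    have hc : ¬ IsCyclic G := fun hc => by
      have := PGrp.isCyclic_of_class (G := H) inferInstance
      omega
    have h3 := PGrp.sq_mul_card_commutator_le hG hc
    rw [hm, show m + 4 = 2 + (m + 1 + 1) by ring, pow_add] at h3
    refine lt_of_le_of_ne (Nat.le_of_mul_le_mul_left h3 (by norm_num)) fun e => ?_
    have h4 := (commutator G).index_mul_card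
    rw [e, hm] at h4
    obtain ⟨a, b, h5⟩ := PGrp.exists_max2_of_index_commutator (m := m + 1) hm
      (Nat.eq_of_mul_eq_mul_right (show 0 < 2 ^ (m + 1 + 1) by positivity) (by rw [h4]; ring))
    exact h2 h5.maxClass
  have hcyc : IsCyclic (commutator G) := by
    obtain ⟨a, b, h4⟩ := PGrp.exists_max2_of_maxClass (n := m + 3) (by omega)
      (card_eq_of_index two_pos hm hH) hHc
    rw [← PGrp.eq_of_le_of_card_le (hle H) (hD.trans ((k1 H hH).1 hHc).symm).le,
      ← H.map_subtype_commutator]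
    exact PGrp.isCyclic_map _ (PGrp.isCyclic_commutator_of_isMetacyclic h4.isMetacyclic)
  obtain ⟨D, hDn, hDle, hDc⟩ := PGrp.exists_normal_le_card_eq hG (commutator G) m
    (hD ▸ Nat.pow_le_pow_right two_pos m.le_succ)
  have k2 : ∀ M : Subgroup G, ¬ Nat.card ↥⁅M, M⁆ = 2 ^ (m + 1) ↔ ⁅M, M⁆ ≤ D := fun M => by
    refine ⟨fun h => PGrp.le_of_card_dvd_of_isCyclic hcyc (hle M) hDle ?_, fun h e => ?_⟩
    · obtain ⟨j, hj, hj'⟩ := (Nat.dvd_prime_pow Nat.prime_two).1 (hD ▸ card_dvd_of_le (hle M))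
      rw [hj', hDc]
      exact pow_dvd_pow 2 (by by_contra h'; exact h (hj'.trans (by congr 1; omega)))
    · have := card_le_of_le h
      rw [e, hDc] at this
      exact absurd this (not_le.2 (Nat.pow_lt_pow_right one_lt_two m.lt_succ_self))
  let f := QuotientGroup.mk' D
  have hf : Function.Surjective f := QuotientGroup.mk'_surjective D
  have hQ : IsPGroup 2 (G ⧸ D) := hG.to_quotient D
  have k3 : ∀ K : Subgroup (G ⧸ D), ⁅K.comap f, K.comap f⁆ ≤ D ↔ IsMulCommutative K := fun K => by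
    rw [← PGrp.map_mk'_eq_bot, map_commutator, map_comap_eq_self_of_surjective hf,
      commutator_eq_bot_iff_le_centralizer, le_centralizer_iff_isMulCommutative]
  have hQ' : Nat.card (commutator (G ⧸ D)) = 2 := by
    rw [commutator_def, ← map_top_of_surjective f hf, ← map_commutator, ← commutator_def,
      PGrp.card_map_mk']
    have := PGrp.card_mul_relIndex_of_le hDle
    rw [hD, hDc, pow_succ] at this
    exact Nat.eq_of_mul_eq_mul_left (by positivity) this
  have hQc : Nat.card (G ⧸ D) = 2 ^ 4 := by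
    have := D.index_mul_card
    rw [hm, hDc, pow_add, mul_comm] at this
    exact Nat.eq_of_mul_eq_mul_left (by positivity) this
  have hZ := PGrp.le_center_of_card_eq hQ _ hQ'
  have hna : ¬ IsMulCommutative (G ⧸ D) := fun h => by
    rw [(commutator_eq_bot_iff (G ⧸ D)).2 h] at hQ'
    simp at hQ'
  obtain ⟨x, hx⟩ : ∃ x : G ⧸ D, x ∉ center (G ⧸ D) := by
    by_contra! h
    exact hna ⟨⟨fun a b => mem_center_iff.1 (h b) a⟩⟩
  have hxi : (centralizer ({x} : Set (G ⧸ D))).index = 2 :=
    (PGrp.eq_top_or_index_eq hQ (hQ' ▸ PGrp.index_centralizer_le_card fun g =>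
      PGrp.commutator_mem g x)).resolve_left fun e => hx (Hall.cent_eq_top_iff.1 e)
  have hxa : IsMulCommutative (centralizer ({x} : Set (G ⧸ D))) := by
    refine comm_of_card_le_mul hQ (A := commutator (G ⧸ D) ⊔ zpowers x)
      (sup_le (hZ.trans (center_le_centralizer _)) (zpowers_le_of_mem (Hall.self_mem_cent x)))
      (sup_le (hZ.trans (center_le_centralizer _))
        (zpowers_le_of_mem fun g hg => Hall.mem_cent_iff.1 hg)) ?_
    have h3 := PGrp.mul_card_le_of_lt (hQ.to_subgroup _) (lt_of_le_of_ne le_sup_left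
      fun e => hx (hZ (e ▸ mem_sup_right (mem_zpowers x))) :
        commutator (G ⧸ D) < commutator (G ⧸ D) ⊔ zpowers x)
    rw [card_eq_of_index two_pos hQc hxi]
    omega
  have h3 := card_abelian_max hQ hna hxi hxa
  have h4 := FG.card_comap_congr D fun M => M.index = 2 ∧ ⁅M, M⁆ ≤ D
  simp only [index_comap_of_surjective _ hf, f, k3] at h4
  haveI : Nontrivial G := Finite.one_lt_card_iff_nontrivial.1 (hm ▸ Nat.one_lt_two_pow (by omega))
  have h5 := FG.card_index_prime hG
  rw [Invol.card_split _ fun M : Subgroup G => Group.nilpotencyClass M = m + 2,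
    Invol.card_congr_iff (p := fun M : Subgroup G => M.index = 2 ∧ ¬ Group.nilpotencyClass M = m + 2)
      (q := fun M => D ≤ M ∧ M.index = 2 ∧ ⁅M, M⁆ ≤ D) fun M => ⟨fun h => ⟨hDle.trans
        (haveI := PGrp.normal_of_index_eq hG h.1;
          (PGrp.commutator_le_and_pow_mem_of_index_eq M h.1).1), h.1,
        (k2 M).1 (mt (k1 M h.1).2 h.2)⟩, fun h => ⟨h.2.1, mt (k1 M h.2.1).1 ((k2 M).2 h.2.2)⟩⟩,
    ← h4] at h5
  unfold Nat.ModEq at h3 h5
  omega

universe u in
/-- Subgroups of `2`-groups of maximal class. -/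
theorem card_subgroups_maxClass (k : ℕ) : ∀ (G : Type u) [Group G] [Finite G] (m : ℕ),
    Nat.card G = 2 ^ (m + 3) → Group.nilpotencyClass G = m + 2 → k ≤ m →
    Nat.card {K : Subgroup G // Nat.card K = 2 ^ (k + 1)} ≡ 1 [MOD 2 ^ 2] := by
  haveI : Fact (Nat.Prime 2) := ⟨Nat.prime_two⟩
  induction k with
  | zero =>
    intro G _ _ m hm hc _
    obtain ⟨a, b, h⟩ := PGrp.exists_max2_of_maxClass (n := m + 3) (by omega) hm hc
    rw [Nat.add_sub_cancel] at h
    have h1 := PGrp.card_orderOf_eq_prime (G := G) Nat.prime_two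
    rw [show 2 - 1 = 1 from rfl, mul_one] at h1
    rw [zero_add, pow_one, ← h1, Invol.card_split _ (· ∈ zpowers a),
      Invol.card_congr_iff (p := fun x => orderOf x = 2 ∧ x ∈ zpowers a)
        (q := (· = a ^ 2 ^ (m + 1))) fun x => ⟨fun hx =>
          Invol.eq_of_mem_zpowers hx.2 (npow_mem_zpowers _ _) hx.1 h.orderOf_z,
          fun hx => hx ▸ ⟨h.orderOf_z, npow_mem_zpowers _ _⟩⟩, Invol.card_eq_self]
    · obtain ⟨u, hua, hu4, hub⟩ : ∃ u ∈ zpowers a, 4 ∣ orderOf u ∧ b * u * b⁻¹ = u⁻¹ := by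
        rcases m with _ | m
        · refine ⟨a, mem_zpowers a, h.ord.symm.dvd, ?_⟩
          rcases h.rel with h | h | h
          exacts [h.2, h.2, absurd h.1 (by omega)]
        · refine ⟨a ^ 2, npow_mem_zpowers _ _, ?_, h.conj_sq⟩
          rw [orderOf_pow' _ two_ne_zero, h.ord, pow_succ' 2 (m + 1 + 1), Nat.gcd_mul_right_left,
            Nat.mul_div_cancel_left _ two_pos]
          exact ⟨2 ^ m, by ring⟩
      have hinv : ∀ x ∉ zpowers a, ∀ w ∈ zpowers u, x * w * x⁻¹ = w⁻¹ := by
        rintro x hx _ ⟨i, rfl⟩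
        have h2 : x * b⁻¹ ∈ zpowers a := (mul_mem_iff_of_index_two h.index).2
          (iff_of_false hx fun h' => h.not_mem (by simpa using h'))
        have h3 := (Hall.commute_of_mem_zpowers h2 (inv_mem hua)).eq
        simp only
        rw [← conj_zpow, ← inv_zpow]
        congr 1
        calc x * u * x⁻¹ = x * b⁻¹ * (b * u * b⁻¹) * (x * b⁻¹)⁻¹ := by group
          _ = u⁻¹ := by rw [hub, h3, mul_inv_cancel_right]
      have h2 : 4 ∣ Nat.card {x : G // orderOf x = 2 ∧ x ∉ zpowers a} := by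
        refine Small.dvd_card_of_orbits (H := zpowers u) _ (fun w x hx => ?_) fun x _ => ?_
        · have h3 : (w : G) * x ∉ zpowers a := fun h' =>
            hx.2 ((mul_mem_cancel_left (zpowers_le_of_mem hua w.2)).1 h')
          refine ⟨orderOf_eq_prime ?_ fun e => h3 ((show (w : G) * x = 1 from e) ▸ one_mem _), h3⟩
          have h4 : x * x = 1 := by rw [← pow_two, ← hx.1, pow_orderOf_eq_one]
          calc ((w : G) * x) ^ 2 = w * (x * w * x⁻¹) * (x * x) := by rw [pow_two]; group
            _ = 1 := by rw [hinv x hx.2 w w.2, h4, mul_inv_cancel, one_mul]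
        · rw [Small.card_orbit_eq_index, (eq_bot_iff_forall (MulAction.stabilizer (zpowers u) x)).2 fun w hw =>
            Subtype.ext (mul_eq_right.1 hw), index_bot, Nat.card_zpowers]
          exact hu4
      exact (Nat.modEq_iff_dvd' (Nat.le_add_right _ _)).2 (by simpa using h2) |>.symm
  | succ k ih =>
    intro G _ _ m hm hc hk
    obtain ⟨m, rfl⟩ : ∃ n, m = n + 1 := ⟨m - 1, by omega⟩
    obtain ⟨a, b, h⟩ := PGrp.exists_max2_of_maxClass (n := m + 1 + 3) (by omega) hm hc
    rw [Nat.add_sub_cancel] at h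
    have hZ : Nat.card (center G) = 2 := by rw [h.center_eq, Nat.card_zpowers, h.orderOf_z]
    have h1 := FG.card_comap_congr (center G) (Nat.card · = 2 ^ (k + 1 + 1))
    simp only [PGrp.card_comap_mk', hZ, pow_succ' 2 (k + 1), Nat.mul_right_inj two_ne_zero] at h1
    rw [pow_succ' 2 (k + 1), Invol.card_congr_iff (q := fun K : Subgroup G => center G ≤ K ∧
      Nat.card K = 2 * 2 ^ (k + 1)) fun K => ⟨fun hK => ⟨?_, hK⟩, fun hK => hK.2⟩, ← h1]
    · refine ih _ m (card_eq_of_index_aux hZ hm) ?_ (by omega)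
      rw [Group.nilpotencyClass_quotient_center, hc]; rfl
    · have h2 := PGrp.card_le_card_inf_mul_index (zpowers a) K
      rw [hK, h.index] at h2
      obtain ⟨j, hj⟩ := PGrp.exists_card_eq_pow h.isPGroup (K ⊓ zpowers a)
      refine (PGrp.le_of_card_dvd_of_isCyclic (C := zpowers a) inferInstance
        (h.center_eq ▸ zpowers_le_of_mem (npow_mem_zpowers _ _)) inf_le_right ?_).trans inf_le_left
      rw [hZ, hj]
      refine dvd_pow_self 2 ?_
      rintro rfl
      rw [hj, pow_succ] at h2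
      have : 0 < 2 ^ k := by positivity
      omega

omit hp in
theorem card_subgroups_cyclic (hc : IsCyclic G) {n : ℕ} (hn : n ∣ Nat.card G) :
    Nat.card {K : Subgroup G // Nat.card K = n} = 1 := by
  obtain ⟨g, hg⟩ := IsCyclic.exists_ofOrder_eq_natCard (α := G)
  have h1 : Nat.card (zpowers (g ^ (orderOf g / n))) = n := by
    rw [Nat.card_zpowers, orderOf_pow_orderOf_div (orderOf_pos g).ne' (hg ▸ hn)]
  rw [Invol.card_congr_iff (q := (· = zpowers (g ^ (orderOf g / n)))) fun K =>
    ⟨fun h => PGrp.eq_of_card_eq_of_isCyclic (PGrp.isCyclic_top_iff.2 hc) le_top le_top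
      (h.trans h1.symm), fun h => h ▸ h1⟩, Invol.card_eq_self]

universe u in
/-- **Kulakoff's theorem** (with Berkovich's extension to `p = 2`). -/
theorem kulakoff (m : ℕ) : ∀ (G : Type u) [Group G] [Finite G], Nat.card G = p ^ m → ¬ IsCyclic G →
    ∀ k, 1 ≤ k → k < m → (k + 1 = m ∨ (p = 2 → Group.nilpotencyClass G ≠ m - 1)) →
    Nat.card {K : Subgroup G // Nat.card K = p ^ k} ≡ 1 + p [MOD p ^ 2] := by
  classical
  induction m with
  | zero => intro G _ _ _ _ k _ hk; omega
  | succ m ih =>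
  intro G _ _ hm hc k hk1 hk h2
  have hG : IsPGroup p G := IsPGroup.of_card hm
  have hmax := card_max_modEq hG hc
  by_cases hkm : k = m
  · subst hkm
    rw [Invol.card_congr_iff (q := fun M : Subgroup G => M.index = p) fun H => ?_]
    · exact hmax
    · have h := H.index_mul_card
      rw [hm, pow_succ'] at h
      exact ⟨fun e => Nat.eq_of_mul_eq_mul_right (pow_pos hp.out.pos _) (e ▸ h),
        fun e => Nat.eq_of_mul_eq_mul_left hp.out.pos (e ▸ h)⟩
  replace h2 := h2.resolve_left (by omega)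
  haveI := Fintype.ofFinite (Subgroup G)
  have h3 := enumeration hm hc (k := k) (by omega)
  obtain ⟨m, rfl⟩ : ∃ n, m = n + 2 := ⟨m - 2, by omega⟩
  let E : Subgroup G → Prop := fun M => IsCyclic M ∨
    (p = 2 ∧ k ≠ m + 1 ∧ Group.nilpotencyClass M = m + 1)
  have h4 : ∑ M : Subgroup G with M.index = p, (Nat.card {K : Subgroup M // Nat.card K = p ^ k} +
      p * if E M then 1 else 0) ≡ ∑ M : Subgroup G with M.index = p, (1 + p) [MOD p ^ 2] := by
    refine Nat.ModEq.sum fun M hM => ?_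
    have hM' := card_eq_of_index hp.out.pos hm (mem_filter.1 hM).2
    split_ifs with h
    · rw [mul_one]
      refine Nat.ModEq.add_right p ?_
      rcases h with h | ⟨rfl, h, h'⟩
      · rw [card_subgroups_cyclic h (hM' ▸ pow_dvd_pow p (by omega))]
      · obtain ⟨m, rfl⟩ : ∃ n, m = n + 1 := ⟨m - 1, by omega⟩
        obtain ⟨k, rfl⟩ : ∃ n, k = n + 1 := ⟨k - 1, by omega⟩
        exact card_subgroups_maxClass k M m hM' h' (by omega)
    · rw [mul_zero, add_zero]
      refine ih M hM' (fun h' => h (Or.inl h')) k hk1 (by omega) ?_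
      by_cases h' : k = m + 1
      · exact Or.inl (by omega)
      · exact Or.inr fun e1 e2 => h (Or.inr ⟨e1, h', e2⟩)
  have h5 : p ∣ ∑ M : Subgroup G with M.index = p, if E M then 1 else 0 := by
    rw [← card_filter, filter_filter, ← Invol.card_eq_filter]
    have a1 := dvd_card_cyclic_max hm hc h2
    by_cases h : p = 2 ∧ k ≠ m + 1
    · obtain ⟨rfl, h⟩ := h
      obtain ⟨m, rfl⟩ : ∃ n, m = n + 1 := ⟨m - 1, by omega⟩
      rw [Invol.card_congr_iff (q := fun M : Subgroup G => (M.index = 2 ∧ IsCyclic M) ∨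
        (M.index = 2 ∧ Group.nilpotencyClass M = m + 2)) fun M => by simp [E, h, and_or_left],
        Invol.card_or_of_disjoint _ _ fun M a b => by
          have := PGrp.isCyclic_of_class a.2; omega]
      exact dvd_add a1 (two_dvd_card_maxClass hm (h2 rfl))
    · rwa [Invol.card_congr_iff (q := fun M : Subgroup G => M.index = p ∧ IsCyclic M) fun M =>
        and_congr_right' (or_iff_left fun h' => h ⟨h'.1, h'.2.1⟩)]
  rw [sum_add_distrib, ← mul_sum, sum_const, smul_eq_mul, ← Invol.card_eq_filter] at h4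
  obtain ⟨c, hc'⟩ := h5
  rw [hc', ← mul_assoc, ← pow_two] at h4
  have h6 : (1 + p) * (1 + p) ≡ 1 + p + p [MOD p ^ 2] := by
    rw [show (1 + p) * (1 + p) = 1 + p + p + p ^ 2 by ring]
    exact Nat.add_modEq_right
  refine Nat.ModEq.add_right_cancel' p (h3.symm.trans ?_)
  exact ((Nat.modEq_iff_dvd' (Nat.le_add_right _ _)).2 (by simp)).trans
    (h4.trans ((hmax.mul_right _).trans h6))

theorem dvd_card_of_equivariant {H X Y : Type*} [Group H] [MulAction H X] [MulAction H Y] [Finite X]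
    [Finite Y] (S : X → Prop) (hS : ∀ (h : H) x, S x → S (h • x)) (φ : X → Y)
    (hφ : ∀ (h : H) x, φ (h • x) = h • φ x) {d : ℕ}
    (hd : ∀ x, S x → d ∣ Nat.card (MulAction.orbit H (φ x)) * Nat.card {y // S y ∧ φ y = φ x}) :
    d ∣ Nat.card {x // S x} := by
  classical
  haveI : Fintype (MulAction.orbitRel.Quotient H Y) := Fintype.ofFinite _
  rw [Invol.card_eq_sum_fibers S fun x =>
    (Quotient.mk (MulAction.orbitRel H Y) (φ x) : MulAction.orbitRel.Quotient H Y)]
  refine dvd_sum fun q _ => ?_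
  by_cases hq : ∃ x, S x ∧ (Quotient.mk (MulAction.orbitRel H Y) (φ x) :
    MulAction.orbitRel.Quotient H Y) = q
  swap
  · rw [Invol.card_eq_zero_of_forall fun a ha => hq ⟨a, ha⟩]; exact dvd_zero _
  obtain ⟨x, hx, rfl⟩ := hq
  refine (hd x hx).trans (dvd_of_eq (Invol.card_eq_mul_of_fibers (q := (· ∈ MulAction.orbit H (φ x)))
    φ (fun a ha => Quotient.exact ha.2) ?_).symm)
  rintro _ ⟨g, rfl⟩
  refine (Invol.card_eq_of_inverse (g • ·) (g⁻¹ • ·) (fun a ha => ?_) (fun a ha => ?_)
    (fun a _ => inv_smul_smul g a) fun a _ => smul_inv_smul g a).symm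
  · exact ⟨⟨hS g a ha.1, Quotient.sound ⟨g, by rw [hφ, ha.2]⟩⟩, by rw [hφ, ha.2]⟩
  · exact ⟨hS _ a ha.1.1, by rw [hφ, ha.2]; exact inv_smul_smul _ _⟩

theorem dvd_card_normal_not_le (hG : IsPGroup p G) (M : Subgroup G) [M.Normal] {a : ℕ}
    (ha : p ^ a ∣ Nat.card M) :
    p ∣ Nat.card {Q : Subgroup G // (Q.Normal ∧ Nat.card Q = p ^ a) ∧ ¬ Q ≤ M} := by
  have h1 := (FG.card_normal_modEq hG (Nat.card · = p ^ a) fun g H h =>
    (Transfer.card_cj g H).trans h).trans (FG.card_order_pow a (ha.trans M.card_subgroup_dvd_card))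
  have h2 := FG.card_normal_modEq hG (fun Q => Q ≤ M ∧ Nat.card Q = p ^ a) fun g H h =>
    ⟨(Transfer.cj_mono g h.1).trans (Transfer.cj_eq_of_normal g M).le,
      (Transfer.card_cj g H).trans h.2⟩
  rw [← FG.card_map_congr M (Nat.card · = p ^ a)] at h2
  simp only [Core.card_map_subtype] at h2
  replace h2 := h2.trans (FG.card_order_pow a ha)
  rw [Invol.card_split _ (· ≤ M), Invol.card_congr_iff
    (q := fun Q : Subgroup G => Q.Normal ∧ Q ≤ M ∧ Nat.card Q = p ^ a) fun Q => by tauto] at h1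
  exact (Nat.modEq_zero_iff_dvd).1 (Nat.ModEq.add_left_cancel h2 h1)

open Transfer in
/-- The number of `p`-subgroups of given non-maximal order may be computed mod `p ^ 2` in a Sylow
subgroup. -/
theorem card_subgroups_modEq_sylow (P : Sylow p G) {a : ℕ}
    (ha : p ^ (a + 1) ∣ Nat.card (P : Subgroup G)) :
    Nat.card {Q : Subgroup G // Nat.card Q = p ^ a} ≡
      Nat.card {Q : Subgroup (P : Subgroup G) // Nat.card Q = p ^ a} [MOD p ^ 2] := by
  have e := FG.card_map_congr (P : Subgroup G) (Nat.card · = p ^ a)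
  simp only [Core.card_map_subtype] at e
  rw [e, Invol.card_split _ (· ≤ (P : Subgroup G)), Invol.card_congr_iff fun _ => and_comm]
  refine (Nat.modEq_iff_dvd' (Nat.le_add_right _ _)).2 ?_ |>.symm
  rw [Nat.add_sub_cancel_left]
  letI : MulAction (P : Subgroup G) (Subgroup G) :=
    { smul := fun g H => cj (g : G) H
      one_smul := cj_one
      mul_smul := fun g h => cj_mul (g : G) h }
  have hsm : ∀ (g : (P : Subgroup G)) (H : Subgroup G), g • H = cj (g : G) H := fun _ _ => rfl
  have horb : ∀ Q : Subgroup G, Nat.card (MulAction.orbit (P : Subgroup G) Q) =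
      (normalizer (Q : Set G)).relIndex P := fun Q => by
    rw [Small.card_orbit_eq_index, relIndex]
    congr 1
    ext g
    exact cj_eq_iff
  have hP : ∀ g : (P : Subgroup G), cj (g : G) (P : Subgroup G) = P := fun g => cj_eq_of_mem g.2
  have hle : ∀ (g : (P : Subgroup G)) (Q : Subgroup G), cj (g : G) Q ≤ P ↔ Q ≤ P := fun g Q => by
    rw [← cj_le_cj (g := (g : G)) (H := Q), hP]
  have hri : ∀ (g : (P : Subgroup G)) (Q : Subgroup G),
      (normalizer (cj (g : G) Q : Set G)).relIndex P = (normalizer (Q : Set G)).relIndex P := fun g Q => by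
    rw [← cj_normalizer, ← relIndex_cj (g : G) (normalizer (Q : Set G)) (P : Subgroup G), hP]
  have hT := sylowIn_top P
  have hnorm : ∀ Q : Subgroup G, IsPGroup p Q → (P : Subgroup G) ≤ normalizer (Q : Set G) → Q ≤ P :=
    fun Q hQ h => le_sup_right.trans (hT.eq_of_le (IsPGroup.to_sup_of_normal_right' P.isPGroup' hQ h)
      le_sup_left le_top).le
  rw [Invol.card_split _ fun Q : Subgroup G => p ^ 2 ∣ (normalizer (Q : Set G)).relIndex P]
  refine dvd_add (Small.dvd_card_of_orbits (H := (P : Subgroup G)) _ (fun g Q h => ?_)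
    fun Q h => horb Q ▸ h.2) (dvd_card_of_equivariant (H := (P : Subgroup G)) _ (fun g Q h => ?_)
      (fun Q : Subgroup G => ((P : Subgroup G) ⊓ normalizer (Q : Set G)) ⊔ Q) (fun g Q => ?_) fun Q hQ => ?_)
  · rw [hsm, card_cj, hle, hri]; exact h
  · rw [hsm, card_cj, hle, hri]; exact h
  · rw [hsm, hsm, cj_sup, cj_inf, cj_normalizer, hP]
  obtain ⟨n, hn⟩ := IsPGroup.iff_card.1 P.isPGroup'
  have key : ∀ Q : Subgroup G, (Nat.card Q = p ^ a ∧ ¬ Q ≤ P) ∧
      ¬ p ^ 2 ∣ (normalizer (Q : Set G)).relIndex P →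
      p * Nat.card ↥((P : Subgroup G) ⊓ normalizer (Q : Set G)) = Nat.card (P : Subgroup G) := by
    intro Q hQ
    have h1 := PGrp.card_inf_mul_relIndex (normalizer (Q : Set G)) P
    obtain ⟨j, -, hj⟩ := (Nat.dvd_prime_pow hp.out).1 (hn ▸ Dvd.intro_left _ h1)
    rcases j with _ | _ | j
    · exact absurd (hnorm Q (IsPGroup.of_card hQ.1.1) (relIndex_eq_one.1 hj)) hQ.1.2
    · rw [← h1, hj, inf_comm, mul_comm]; simp
    · exact absurd (hj ▸ pow_dvd_pow p (by omega)) hQ.2
  set M := (P : Subgroup G) ⊓ normalizer (Q : Set G) with hM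
  set S := M ⊔ Q with hS
  have hSp : IsPGroup p S := IsPGroup.to_sup_of_normal_right' (P.isPGroup'.to_le inf_le_left)
    (IsPGroup.of_card hQ.1.1) inf_le_right
  have hSP : ¬ S ≤ P := fun h => hQ.1.2 (le_sup_right.trans h)
  have hSc : Nat.card S = p * Nat.card M := le_antisymm ((hT.card_le hSp le_top).trans (key Q hQ).ge)
    (PGrp.mul_card_le_of_lt hSp (lt_of_le_of_ne le_sup_left fun e => hSP (e ▸ inf_le_left)))
  have hbet : ∀ X Y : Subgroup G, IsPGroup p Y → M ≤ X → X < Y → Nat.card Y = p * Nat.card M →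
      X = M := fun X Y hY h1 h2 h3 => (PGrp.eq_of_le_of_card_le h1 (Nat.le_of_mul_le_mul_left
        ((PGrp.mul_card_le_of_lt hY h2).trans h3.le) hp.out.pos)).symm
  have hMi : (M.subgroupOf S).index = p := by
    have := PGrp.card_mul_relIndex_of_le (le_sup_left : M ≤ S)
    rw [hSc, mul_comm p] at this
    exact Nat.eq_of_mul_eq_mul_left Nat.card_pos this
  haveI := PGrp.normal_of_index_eq hSp hMi
  rw [pow_two]
  refine Nat.mul_dvd_mul ?_ ?_
  · rw [horb]
    have h1 := PGrp.card_inf_mul_relIndex (normalizer (S : Set G)) P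
    obtain ⟨j, -, hj⟩ := (Nat.dvd_prime_pow hp.out).1 (hn ▸ Dvd.intro_left _ h1)
    rcases j with _ | j
    · exact absurd (hnorm S hSp (relIndex_eq_one.1 hj)) hSP
    · exact hj ▸ dvd_pow_self p j.succ_ne_zero
  · refine (dvd_card_normal_not_le hSp (M.subgroupOf S) (a := a) ?_).trans (dvd_of_eq ?_)
    · rw [Core.card_subgroupOf_of_le le_sup_left]
      refine Nat.dvd_of_mul_dvd_mul_left hp.out.pos ?_
      rw [key Q hQ, ← pow_succ']; exact ha
    rw [Invol.card_congr_iff (q := fun K : Subgroup S => (S ≤ normalizer (K.map S.subtype : Set G) ∧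
      Nat.card (K.map S.subtype) = p ^ a) ∧ ¬ K.map S.subtype ≤ M) fun K => by
        rw [Core.card_map_subtype, map_le_iff_le_comap, ← normal_subgroupOf_iff_le_normalizer
          (map_subtype_le K), show (K.map S.subtype).subgroupOf S = K from
            comap_map_eq_self_of_injective S.subtype_injective K]; rfl,
      FG.card_map_congr S fun K => (S ≤ normalizer (K : Set G) ∧ Nat.card K = p ^ a) ∧ ¬ K ≤ M]
    refine Invol.card_congr_iff fun K => ⟨fun ⟨h1, ⟨h2, h3⟩, h4⟩ => ?_, fun ⟨h1, h2⟩ => ?_⟩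
    · have h5 : ¬ K ≤ P := fun h => h4 ((le_inf h h1).trans (hbet _ S hSp
        (le_inf inf_le_left le_sup_left) (lt_of_le_of_ne inf_le_right fun e =>
          hSP (e ▸ inf_le_left)) hSc).le)
      have h6 : (P : Subgroup G) ⊓ normalizer (K : Set G) = M := hbet _ P P.isPGroup'
        (le_inf inf_le_left (le_sup_left.trans h2)) (lt_of_le_of_ne inf_le_left fun e =>
          h5 (hnorm K (IsPGroup.of_card h3) (e ▸ inf_le_right))) (key Q hQ).symm
      refine ⟨⟨⟨h3, h5⟩, fun h => ?_⟩, ?_⟩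
      · have h7 := PGrp.card_inf_mul_relIndex (normalizer (K : Set G)) P
        rw [inf_comm, h6, ← key Q hQ, mul_comm p] at h7
        rw [Nat.eq_of_mul_eq_mul_left Nat.card_pos h7] at h
        exact absurd (Nat.le_of_dvd hp.out.pos h) (not_le.2 (by nlinarith [hp.out.one_lt]))
      · rw [h6]
        by_contra hne
        exact h4 (le_sup_right.trans (hbet _ S hSp le_sup_left
          (lt_of_le_of_ne (sup_le le_sup_left h1) hne) hSc).le)
    · exact ⟨h2 ▸ le_sup_right, ⟨h2 ▸ sup_le inf_le_right le_normalizer, h1.1.1⟩,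
        fun h => h1.1.2 (h.trans inf_le_left)⟩

end Cfsg.Lib.Coprime
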