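import Cfsg.Agent.Lib.Exc.M11c

/-!
# Characters of a simple group of order `5616`
-/

set_option autoImplicit false
set_option maxRecDepth 100000
set_option linter.unusedSectionVars false

namespace Cfsg.Lib.Coprime.L33

open Cfsg Subgroup Cfsg.Lib.Small Cfsg.Lib.Char Cfsg.Lib.Clifford Cfsg.Lib.Amalg Cfsg.Lib.Exc Cfsg.Lib.Exc.M11
  Cfsg.Lib.Invol Cfsg.Lib.PF
open scoped ComplexConjugate

variable {G : Type*} [Group G] [Finite G]

/-- the principal `13`-block -/
structure Tab (a b θ : IrrCharacter G) (y : G) : Prop where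
  da : charDegree a.1 = 12
  db : charDegree b.1 = 27
  dθ : charDegree θ.1 = 16
  y13 : orderOf y = 13
  out : ∀ χ : IrrCharacter G, χ = principalIrr G ∨ χ = a ∨ χ = b ∨ charDegree χ.1 = 16 ∨ 13 ∣ charDegree χ.1
  ex : ∃ χ : IrrCharacter G, 13 ∣ charDegree χ.1
  v13 : ∀ g, 13 ∣ orderOf g → orderOf g = 13 ∧ a.1 g = -1 ∧ b.1 g = 1
  reg : ∀ g, ¬ 13 ∣ orderOf g → θ.1 g = 1 - a.1 g + b.1 g
  nr : ∀ u, orderOf u = 2 → u * y * u⁻¹ ≠ y⁻¹

theorem int_omega (χ : IrrCharacter G) (x : G) : IsIntegral ℤ ((ix x : ℂ) * χ.1 x / charDegree χ.1) := by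
  rw [coe_deg]
  exact Exc.Dirr.isIntegral_central (Or.inl (mem_Irr_top.2 χ.2)) x

variable [IsSimpleGroup G] (hG : Nat.card G = 5616)
include hG

theorem ncomm : ¬ IsMulCommutative G := not_isMulCommutative_of_not_prime (by rw [hG]; norm_num)

theorem thirteen : ∃ (P : Subgroup G) (X Y : Finset (IrrCharacter G)) (κ : ℤ) (ε : IrrCharacter G → ℤ),
    haveI := Fact.mk (by norm_num : Nat.Prime 13)
    PB 13 P 3 4 X Y κ ε ∧ principalIrr G ∈ X ∧ 𝐂 P ≤ P ∧ (𝐍 P).index = 144 := by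
  have := Fact.mk (by norm_num : Nat.Prime 13)
  obtain ⟨P, e, t, c, X, Y, κ, ε, h, h1, h2, h3, h4, h5, h6, -⟩ := exists_pb (ncomm hG) 13 432 hG (by norm_num)
  have h7 := h.mul
  have h8 : ∀ n, (𝐍 P).index = 1 + n * 13 → 0 < n → 2 * n < 13 + 3 → c = 1 := fun n e1 e2 e3 =>
    h3.2 (h.C_le e1 (onlyDiv_of_lt (by norm_num) e3) (commutator_eq_top_of_simple (ncomm hG)) e2
      (normal_eq_bot_of_simple (by rw [hG]; norm_num)))
  have h9 : e ≤ 12 := Nat.le_of_dvd (by norm_num) ⟨t, by rw [mul_comm]; omega⟩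
  rcases (by decide +kernel : ∀ s ∈ Nat.divisors 432, s % 13 = 1 → s = 1 ∨ s = 27 ∨ s = 144) _
    (Nat.mem_divisors.2 ⟨Dvd.intro_left _ h4, by norm_num⟩) h5 with e1 | e1 | e1
  · exact absurd e1 h6
  · rw [h8 2 e1 (by norm_num) (by norm_num), e1] at h4; omega
  · rw [e1] at h4
    obtain rfl : e = 3 := by interval_cases e <;> omega
    obtain rfl : t = 4 := by omega
    exact ⟨P, X, Y, κ, ε, h, h1, h3.1 (by omega), e1⟩

theorem exists_tab : ∃ (a b θ : IrrCharacter G) (y : G), Tab a b θ y := by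
  classical
  have := Fact.mk (by norm_num : Nat.Prime 13)
  obtain ⟨P, X, Y, κ, ε, h, h1, hC, hs⟩ := thirteen hG
  obtain ⟨D⟩ := h.dOne
  have hi : (𝐂 P).index = 432 := by rw [h.index_C, hs]
  obtain ⟨θ, hθ⟩ := h.exists_Y
  have h2 : ∀ χ ∈ X.erase (principalIrr G), (charDegree χ.1 = 12 ∧ ε χ = -1) ∨ (charDegree χ.1 = 27 ∧ ε χ = 1) :=
    fun χ hχ => by
    have hχ' := Finset.mem_of_mem_erase hχ
    have h3 := h.av_X hχ'
    have h4 := h.sign_ε χ hχ'
    have h5 := sq_le {χ}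
    rw [Finset.sum_singleton, hG] at h5
    have := (by decide +kernel : ∀ d ∈ Nat.divisors 432, 2 < d → d ≤ 75 → (d % 13 = 1 → d = 27) ∧
      (d % 13 = 12 → d = 12)) _ (Nat.mem_divisors.2 ⟨hi ▸ h.dvd_X hχ', by norm_num⟩)
      (two_lt_deg (ncomm hG) (Finset.ne_of_mem_erase hχ)) (by push_cast at h5; nlinarith)
    omega
  obtain ⟨a, b, ab, hX, da, εa, db, εb, dθ, rfl⟩ : ∃ a b, a ≠ b ∧ X.erase (principalIrr G) = {a, b} ∧
      charDegree a.1 = 12 ∧ ε a = -1 ∧ charDegree b.1 = 27 ∧ ε b = 1 ∧ charDegree θ.1 = 16 ∧ κ = 1 := by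
    obtain ⟨a, b, ab, hX⟩ := Finset.card_eq_two.1 (show (X.erase (principalIrr G)).card = 2 by
      rw [Finset.card_erase_of_mem h1, h.card_X])
    have h3 := h.deg_rel hθ
    have h4 := h.dvd_Y hθ
    rw [← Finset.add_sum_erase _ _ h1, hX, Finset.sum_pair ab, h.ε_one h1, deg_principal] at h3
    rw [hi] at h4
    have h5 := h.sign
    rcases h2 a (by simp [hX]) with e | e <;> rcases h2 b (by simp [hX]) with e' | e' <;> rw [e.1, e.2, e'.1, e'.2] at h3
    · obtain e3 : charDegree θ.1 = 23 := by rcases h5 with rfl | rfl <;> omega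
      rw [e3] at h4; omega
    · exact ⟨a, b, ab, hX, e.1, e.2, e'.1, e'.2, by rcases h5 with rfl | rfl <;> omega⟩
    · exact ⟨b, a, ab.symm, hX.trans (Finset.pair_comm _ _), e'.1, e'.2, e.1, e.2, by rcases h5 with rfl | rfl <;> omega⟩
    · obtain e3 : charDegree θ.1 = 55 := by rcases h5 with rfl | rfl <;> omega
      rw [e3] at h4; omega
  have ha : a ∈ X := Finset.mem_of_mem_erase (a := principalIrr G) (by simp [hX])
  have hb : b ∈ X := Finset.mem_of_mem_erase (a := principalIrr G) (by simp [hX])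
  refine ⟨a, b, θ, D.x, da, db, dθ, D.orderOf_eq D.x_mem D.x_ne_one, fun χ => ?_, ?_, fun g hg => ⟨D.orderOf_eq_p hC hg,
      ?_, ?_⟩, fun g hg => ?_, fun u hu e => ?_⟩
  · by_cases e1 : χ ∈ X
    · rw [← Finset.insert_erase h1, hX] at e1
      simp only [Finset.mem_insert, Finset.mem_singleton] at e1
      tauto
    by_cases e2 : χ ∈ Y
    · exact Or.inr (Or.inr (Or.inr (Or.inl ((h.deg_eq e2 hθ).trans dθ))))
    · exact Or.inr (Or.inr (Or.inr (Or.inr (h.out hC χ e1 e2))))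
  · by_contra hn
    have h3 := sum_deg_sq' (G := G)
    rw [← Finset.sum_subset (Finset.subset_univ (X ∪ Y)) fun χ _ hχ => absurd ⟨χ, h.out hC χ
      (fun e => hχ (Finset.mem_union_left _ e)) fun e => hχ (Finset.mem_union_right _ e)⟩ hn, Finset.sum_union h.disj,
      ← Finset.add_sum_erase _ _ h1, hX, Finset.sum_pair ab, Finset.sum_congr rfl (g := fun _ => (256 : ℤ)) fun χ hχ => by
        rw [h.deg_eq hχ hθ, dθ]; norm_num, Finset.sum_const, h.card_Y, da, db, deg_principal, hG] at h3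
    norm_num at h3
  · rw [h.val_X a ha g hg, εa]; simp
  · rw [h.val_X b hb g hg, εb]; simp
  · have := h.rel θ hθ g hg
    rw [← Finset.add_sum_erase _ _ h1, hX, Finset.sum_pair ab, h.ε_one h1, εa, εb] at this
    change _ = _ * 1 + _ at this
    push_cast at this
    linear_combination this
  · have := (𝐍 P).orderOf_dvd_natCard (D.mem_normalizer_of_conj D.x_mem D.x_ne_one (e ▸ inv_mem D.x_mem))
    rw [D.card_N hC, h.he, hu] at this
    omega

theorem val16 {χ : IrrCharacter G} (h : charDegree χ.1 = 16) {g : G} (hg : 2 ∣ orderOf g) : χ.1 g = 0 :=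
  apply_eq_zero_of_defectZero Nat.prime_two (by rw [h, hG]; decide +kernel) hg

theorem val27 {χ : IrrCharacter G} (h : charDegree χ.1 = 27) {g : G} (hg : 3 ∣ orderOf g) : χ.1 g = 0 :=
  apply_eq_zero_of_defectZero Nat.prime_three (by rw [h, hG]; decide +kernel) hg

theorem val13 {χ : IrrCharacter G} (h : 13 ∣ charDegree χ.1) {g : G} (hg : 13 ∣ orderOf g) : χ.1 g = 0 :=
  apply_eq_zero_of_dvd (by norm_num) (by rw [hG]; norm_num) h hg

namespace Tab

variable {a b θ : IrrCharacter G} {y : G} (h : Tab a b θ y)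
include h

omit hG in
theorem sum3 {M : Type*} [AddCommMonoid M] (F : IrrCharacter G → M) [DecidableEq (IrrCharacter G)] :
    ∑ χ ∈ {principalIrr G, a, b}, F χ = F (principalIrr G) + (F a + F b) := by
  have d1 := deg_principal (G := G)
  have ne : ∀ {χ φ : IrrCharacter G} {m n : ℕ}, charDegree χ.1 = m → charDegree φ.1 = n → m ≠ n → χ ≠ φ :=
    fun e e' h e'' => h (by rw [← e, e'', e'])
  rw [Finset.sum_insert (by simp [ne d1 h.da, ne d1 h.db]), Finset.sum_pair (ne h.da h.db (by norm_num))]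

theorem val {t : G} (ht : orderOf t = 2) : a.1 t = 4 ∧ b.1 t = 3 := by
  classical
  obtain ⟨α, hα⟩ := int_of_two ht a
  have h0 := h.reg t (by rw [ht]; norm_num)
  rw [val16 hG h.dθ ht.symm.dvd, hα] at h0
  have hβ : b.1 t = α - 1 := by linear_combination -h0
  have h1 := frob t t y
  have h2 : pairCount t t y = 0 := Nat.card_eq_zero.2 (Or.inl ⟨fun ⟨v, e, e'⟩ => by
    have h3 := left_inverts (mul_self_of_two ((orderOf_isConj e).trans ht)) (mul_self_of_two ((orderOf_isConj e').trans ht))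
    rw [mul_inv_cancel_left] at h3
    exact h.nr v ((orderOf_isConj e).trans ht) h3⟩)
  obtain ⟨-, e1, e2⟩ := h.v13 y h.y13.symm.dvd
  rw [h2, Nat.cast_zero, mul_zero, eq_comm, mul_eq_zero, mul_eq_zero, Nat.cast_eq_zero, or_self,
    ← Finset.sum_subset (Finset.subset_univ {principalIrr G, a, b}) fun χ _ hχ => by
      rcases h.out χ with e | e | e | e | e
      · simp [e] at hχ
      · simp [e] at hχ
      · simp [e] at hχ
      · simp [val16 hG e ht.symm.dvd]
      · simp [val13 hG e h.y13.symm.dvd], h.sum3, e1, e2, hα, hβ, ← coe_deg a, ← coe_deg b, h.da, h.db] at h1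
  have h5 := h1.resolve_left (ix_pos t).ne'
  change (1 : ℂ) * 1 / 1 * conj 1 + _ = 0 at h5
  simp only [map_one, map_neg] at h5
  have h6 : (((5 * α + 28) * (α - 4) : ℤ) : ℂ) = 0 := by
    push_cast at h5 ⊢
    linear_combination -108 * h5
  have h7 : (5 * α + 28) * (α - 4) = 0 := by exact_mod_cast h6
  obtain rfl : α = 4 := by rcases mul_eq_zero.1 h7 with e | e <;> omega
  exact ⟨by simpa using hα, by rw [hβ]; norm_num⟩

theorem not_dvd_cc {g : G} (h1 : g ≠ 1) (h13 : ¬ 13 ∣ orderOf g) : ¬ 13 ∣ cc g := fun hd => by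
  have hp : Nat.Prime 13 := by norm_num
  have := Fact.mk hp
  obtain ⟨u, hu⟩ := exists_prime_orderOf_dvd_card' 13 hd
  rw [← orderOf_coe] at hu
  have h3 := (Invol.mem_cent.1 u.2).orderOf_mul_eq_mul_orderOf_of_coprime (hu ▸ (Nat.Prime.coprime_iff_not_dvd hp).2 h13)
  rw [hu] at h3
  have h4 := h3.symm.trans (h.v13 _ ⟨_, h3⟩).1
  exact h1 (orderOf_eq_one_iff.1 ((Nat.mul_eq_left hp.ne_zero).1 h4))

theorem cc_two {t : G} (ht : orderOf t = 2) : cc t = 48 := by
  classical
  choose α hα using int_of_two ht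
  obtain ⟨e1, e2⟩ := h.val hG ht
  have h1 := int_omega b t
  rw [e2, h.db, show (ix t : ℂ) * 3 / (27 : ℕ) = ((ix t / 9 : ℚ) : ℂ) by push_cast; ring] at h1
  obtain ⟨k, hk⟩ := IsIntegrallyClosed.isIntegral_iff.1 (isIntegral_algebraMap_iff (algebraMap ℚ ℂ).injective |>.1 h1)
  have h2 : (ix t : ℤ) = 9 * k := by
    have : (ix t : ℚ) = 9 * k := by simp only [eq_intCast] at hk; rw [hk]; ring
    exact_mod_cast this
  have h3 := column_orthogonality_of_isConj (IsConj.refl t)
  simp only [hα, map_intCast] at h3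
  have h4 : ∑ χ : IrrCharacter G, α χ * α χ = cc t := by exact_mod_cast h3
  have h5 := Finset.sum_le_sum_of_subset_of_nonneg (Finset.subset_univ {principalIrr G, a, b})
    fun χ _ _ => mul_self_nonneg (α χ)
  have a1 : α (principalIrr G) = 1 := by exact_mod_cast (show _ = (1 : ℂ) from (hα (principalIrr G)).symm)
  have a2 : α a = 4 := by exact_mod_cast (hα _).symm.trans e1
  have a3 : α b = 3 := by exact_mod_cast (hα _).symm.trans e2
  rw [h4, h.sum3, a1, a2, a3] at h5
  have h6 := cc_mul_ix t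
  have h7 := h.not_dvd_cc hG (ne_one_of_two ht) (by rw [ht]; norm_num)
  have h8 : 9 ∣ ix t := by omega
  obtain ⟨m, hm⟩ := h8
  rw [hm, hG] at h6
  exact (by decide +kernel : ∀ d ∈ Nat.divisors 624, ¬ 13 ∣ d → 26 ≤ d → d = 48) _
    (Nat.mem_divisors.2 ⟨⟨m, by nlinarith⟩, by norm_num⟩) h7 (by omega)

theorem isConj {t u : G} (ht : orderOf t = 2) (hu : orderOf u = 2) : IsConj t u := by
  classical
  by_contra hn
  choose α hα using int_of_two ht
  choose β hβ using int_of_two hu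
  have h1 := column_orthogonality_of_isConj (IsConj.refl t)
  have h2 := column_orthogonality_of_isConj (IsConj.refl u)
  have h3 := column_orthogonality_of_not_isConj hn
  simp only [hα, hβ, map_intCast] at h1 h2 h3
  have h4 : ∑ χ : IrrCharacter G, α χ * α χ = cc t := by exact_mod_cast h1
  have h5 : ∑ χ : IrrCharacter G, β χ * β χ = cc u := by exact_mod_cast h2
  have h6 : ∑ χ : IrrCharacter G, α χ * β χ = 0 := by exact_mod_cast h3
  have h7 := Finset.sum_le_sum_of_subset_of_nonneg (Finset.subset_univ {principalIrr G, a, b})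
    fun χ _ _ => mul_self_nonneg (α χ + β χ)
  obtain ⟨e1, e2⟩ := h.val hG ht
  obtain ⟨e3, e4⟩ := h.val hG hu
  have a1 : α (principalIrr G) = 1 := by exact_mod_cast (show _ = (1 : ℂ) from (hα (principalIrr G)).symm)
  have a2 : α a = 4 := by exact_mod_cast (hα _).symm.trans e1
  have a3 : α b = 3 := by exact_mod_cast (hα _).symm.trans e2
  have b1 : β (principalIrr G) = 1 := by exact_mod_cast (show _ = (1 : ℂ) from (hβ (principalIrr G)).symm)
  have b2 : β a = 4 := by exact_mod_cast (hβ _).symm.trans e3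
  have b3 : β b = 3 := by exact_mod_cast (hβ _).symm.trans e4
  rw [h.sum3, a1, a2, a3, b1, b2, b3, Finset.sum_congr rfl (g := fun χ => α χ * α χ + β χ * β χ + 2 * (α χ * β χ))
    fun χ _ => by ring, Finset.sum_add_distrib, Finset.sum_add_distrib, ← Finset.mul_sum, h4, h5, h6, h.cc_two hG ht,
    h.cc_two hG hu] at h7
  norm_num at h7

theorem no_e8 (K : Subgroup G) (hK : Nat.card K = 8) : ¬ ∀ k ∈ K, k * k = 1 := fun h1 => by
  classical
  obtain ⟨t, ht⟩ := exists_prime_orderOf_dvd_card' (G := G) 2 (by rw [hG]; norm_num)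
  choose α hα using int_of_two ht
  have h2 : ∀ χ : IrrCharacter G, (64 : ℤ) ∣ (charDegree χ.1 - α χ) * (charDegree χ.1 - α χ) := fun χ => by
    have h4 := sum_eq_av χ.2.isCharacter K
    rw [← Finset.add_sum_erase _ _ (mem_elems.2 K.one_mem), Finset.sum_congr rfl (g := fun _ => (α χ : ℂ)) fun k hk => by
      rw [← χ.2.isClassFunction.eq_of_isConj (h.isConj hG ht (two_of_mul_self (h1 k (mem_elems.1
        (Finset.mem_of_mem_erase hk))) (Finset.ne_of_mem_erase hk))), hα], Finset.sum_const,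
      Finset.card_erase_of_mem (mem_elems.2 K.one_mem), card_elems, hK, ← coe_deg, nsmul_eq_mul] at h4
    have h5 : (charDegree χ.1 + 7 * α χ : ℤ) = 8 * av K χ.1 := by exact_mod_cast h4
    exact mul_dvd_mul (show (8 : ℤ) ∣ _ by omega) (show (8 : ℤ) ∣ _ by omega)
  have h3 := Finset.dvd_sum fun χ (_ : χ ∈ Finset.univ) => h2 χ
  have h4 := column_orthogonality_of_isConj (IsConj.refl t)
  have h5 := column_orthogonality_of_not_isConj (g := t) (h := 1) fun e => ne_one_of_two ht (isConj_one_left.1 e)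
  simp only [hα, ← coe_deg, map_intCast, map_natCast] at h4 h5
  have h6 : ∑ χ : IrrCharacter G, α χ * α χ = cc t := by exact_mod_cast h4
  have h7 : ∑ χ : IrrCharacter G, α χ * charDegree χ.1 = 0 := by exact_mod_cast h5
  rw [Finset.sum_congr rfl (g := fun χ => (charDegree χ.1 : ℤ) ^ 2 + α χ * α χ - 2 * (α χ * charDegree χ.1))
    fun χ _ => by ring, Finset.sum_sub_distrib, Finset.sum_add_distrib, ← Finset.mul_sum, h6, h7, sum_deg_sq',
    h.cc_two hG ht, hG] at h3
  norm_num at h3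

theorem not_eight {x : G} (hx : orderOf x = 3) : ¬ 8 ∣ cc x := fun h8 => by
  have h1 := ((int_omega a x).nsmul 3).add ((int_omega θ x).nsmul 4)
  have h0 := h.reg x (by rw [hx]; norm_num)
  rw [val27 hG h.db hx.symm.dvd] at h0
  rw [h0, h.da, h.dθ, show 3 • ((ix x : ℂ) * a.1 x / (12 : ℕ)) + 4 • ((ix x : ℂ) * (1 - a.1 x + 0) / (16 : ℕ)) =
    ((ix x / 4 : ℚ) : ℂ) by push_cast; ring] at h1
  obtain ⟨k, hk⟩ := IsIntegrallyClosed.isIntegral_iff.1 (isIntegral_algebraMap_iff (algebraMap ℚ ℂ).injective |>.1 h1)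
  have h2 : (ix x : ℤ) = 4 * k := by
    have : (ix x : ℚ) = 4 * k := by simp only [eq_intCast] at hk; rw [hk]; ring
    exact_mod_cast this
  have h3 := mul_dvd_mul h8 (show 4 ∣ ix x by omega)
  rw [cc_mul_ix, hG] at h3
  omega

end Tab

end Cfsg.Lib.Coprime.L33
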