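import Cfsg.Agent.Lib.Coprime.L33
import Cfsg.Agent.Lib.ZD.Z1
import Cfsg.Agent.Lib.BG1.Top
import Cfsg.Agent.Lib.Golay.Stab
import Cfsg.Agent.S0516
import Cfsg.Agent.S3116
import Cfsg.Agent.S1248

/-!
# A simple group of order `5616` is isomorphic to `PSL₃(3)`
-/

set_option autoImplicit false
set_option maxRecDepth 100000
set_option linter.unusedSectionVars false

namespace Cfsg.Lib.Coprime.L33

open Cfsg Subgroup Cfsg.Lib.Small Cfsg.Lib.Exc Cfsg.Lib.Exc.M11 Cfsg.Lib.Exc.G3 Cfsg.Lib.Invol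

theorem not_four {H : Type*} [Group H] [Finite H] (hH : Nat.card H = 48) {x : H} (hx : orderOf x = 3) (h8 : ¬ 8 ∣ cc x)
    (haut : ∀ K : Subgroup H, Nat.card K = 16 → IsPGroup 2 (MulAut K)) : ¬ 4 ∣ cc x := fun h4 => by
  have := Fact.mk Nat.prime_three
  have h3 : 3 ∣ cc x := hx ▸ orderOf_dvd_cc x
  have h12 : cc x = 12 := (by decide +kernel : ∀ d ∈ Nat.divisors 48, 4 ∣ d → 3 ∣ d → ¬ 8 ∣ d → d = 12) _
    (Nat.mem_divisors.2 ⟨hH ▸ Exc.cc_dvd x, by norm_num⟩) h4 h3 h8
  have hi : ix x = 4 := by have := cc_mul_ix x; rw [h12, hH] at this; omega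
  obtain ⟨P, hP⟩ := (IsPGroup.of_card (p := 3) (G := zpowers x) (n := 1) (by simp [hx])).exists_le_sylow
  have hc : Nat.card P = 3 := card_sylow_subgroup_eq P (a := 1) (m := 16) hH (by norm_num)
  have hPx : zpowers x = P := eq_of_le_of_card_ge hP (by rw [hc, Nat.card_zpowers, hx])
  have hC : centralizer (P : Set H) = centralizer {x} := by
    change centralizer ((P : Subgroup H) : Set H) = _
    rw [← hPx, zpowers_eq_closure, centralizer_closure]
  have hN : normalizer (P : Set H) ≤ centralizer (P : Set H) := by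
    have h1 := card_normalizer_mul_card_sylow P
    have h2 := card_dvd_of_le (centralizer_le_normalizer (P : Set H))
    have h5 := card_sylow_mod (G := H) (p := 3)
    rw [hC] at h2
    change cc x ∣ _ at h2
    rw [h12] at h2
    obtain ⟨m, hm⟩ := h2
    erw [hm, hH] at h1
    have h6 : Nat.card (Sylow 3 H) ≠ 1 := fun e => by
      have hn := normal_of_card_sylow_eq_one P e
      have h7 : ix x ≤ 3 := by
        rw [← card_cls, ← hc]
        exact Nat.card_le_card_of_injective (fun y => (⟨y.1, by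
          obtain ⟨g, hg⟩ := isConj_iff.1 y.2; exact hg ▸ hn.conj_mem _ (hP (mem_zpowers x)) g⟩ : P))
          fun a b e => Subtype.ext (congrArg Subtype.val e :)
      omega
    have h7 : m = 1 := by
      have h8 : m * Nat.card (Sylow 3 H) = 4 := by linarith
      have := Nat.le_of_dvd (by norm_num) (Dvd.intro_left _ h8)
      generalize Nat.card (Sylow 3 H) = s at *
      interval_cases s <;> omega
    refine (eq_of_le_of_card_ge (centralizer_le_normalizer (P : Set H)) ?_).ge
    rw [hC, hm, h7]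
    exact h12.ge
  obtain ⟨K, hK, h1, -⟩ := exists_normal_complement_of_normalizer_le P hN
  have h2 : Nat.card K = 16 := by have := K.card_mul_index; rw [h1, hc, hH] at this; omega
  obtain ⟨k, hk⟩ := haut K h2 (MulAut.conjNormal x)
  have h5 : (MulAut.conjNormal x : MulAut K) = 1 := orderOf_eq_one_iff.1 (Nat.eq_one_of_dvd_coprimes
    (Nat.Coprime.pow_left k (by norm_num : Nat.Coprime 2 3)) (orderOf_dvd_of_pow_eq_one hk) (hx ▸ orderOf_map_dvd _ x))
  have h6 := card_dvd_of_le (show K ≤ centralizer {x} from fun g hg => mem_cent.2 (by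
    have := congrArg Subtype.val (DFunLike.congr_fun h5 ⟨g, hg⟩)
    simp only [MulAut.conjNormal_apply, MulAut.one_apply] at this
    exact (mul_inv_eq_iff_eq_mul.1 this).symm))
  change _ ∣ cc x at h6
  rw [h2, h12] at h6
  omega

variable {G : Type*} [Group G] [Finite G] [IsSimpleGroup G] (hG : Nat.card G = 5616)
include hG

theorem Tab.aut {a b θ : IrrCharacter G} {y : G} (h : Tab a b θ y) (K : Subgroup G) (hK : Nat.card K = 16) :
    IsPGroup 2 (MulAut K) := by
  have := Invol.fact_two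
  have h2 : IsPGroup 2 K := .of_card (n := 4) hK
  obtain ⟨S, hS⟩ := h2.exists_le_sylow
  have hc : Nat.card S = 16 := card_sylow_subgroup_eq S (a := 4) (m := 351) hG (by norm_num)
  obtain rfl : K = S := eq_of_le_of_card_ge hS (by rw [hc, hK])
  let : Fintype (GaloisField 2 4) := Fintype.ofFinite _
  have hF : Fintype.card (GaloisField 2 4) = 16 := by
    rw [← Nat.card_eq_fintype_card, GaloisField.card 2 4 (by norm_num)]; norm_num
  obtain ⟨P⟩ : Nonempty (Sylow 2 (PSU 3 (GaloisField 2 4) 4)) := inferInstance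
  have hr : PRankLE 2 2 G := fun A hA h1 => by
    by_contra h3
    have h4 : IsPGroup 2 A := fun g => ⟨1, Subtype.ext (by simpa using h1 g g.2)⟩
    obtain ⟨n, hn⟩ := IsPGroup.iff_card.1 h4
    obtain ⟨B, hB⟩ := Sylow.exists_subgroup_card_pow_prime (G := A) 2 (n := 3)
      (hn ▸ pow_dvd_pow 2 (by rw [hn] at h3; by_contra h5; exact h3 (Nat.pow_le_pow_right (by norm_num) (by omega))))
    exact h.no_e8 hG (B.map A.subtype) (by rw [card_map_of_injective (subtype_injective _), hB]; rfl) (by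
      rintro _ ⟨k, -, rfl⟩; rw [← sq]; exact h1 k k.2)
  rcases Cfsg.Agent.S0516.result (ncomm hG) hr S hF P with ⟨n, -, ⟨e⟩⟩ | e | ⟨n, -, e, -⟩ | ⟨⟨e⟩⟩
  · refine Cfsg.Agent.S3116.result h2 (Or.inl ⟨n, ?_, ⟨e⟩⟩)
    have := Nat.card_congr e.toEquiv
    rw [hc, DihedralGroup.nat_card] at this
    omega
  · exact Cfsg.Agent.S3116.result h2 (Or.inr e)
  · rw [hc, show 16 = 2 ^ 4 from rfl, Nat.pow_right_inj (by norm_num)] at e; omega
  · have := Nat.card_congr e.toEquiv
    rw [hc, (Cfsg.Agent.S1248.result hF P).1] at this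
    omega

theorem Tab.exists_comm {t : G} (ht : orderOf t = 2) : ∃ u, orderOf u = 2 ∧ Commute u t ∧ u ≠ t := by
  by_contra hn
  push Not at hn
  have h1 : t ∈ center G := mem_center_iff.2 fun g => by
    have h2 := ZD.zstar_rel (M := ⊤) ht trivial (fun g _ e => hn _ ((orderOf_isConj (isConj_iff.2 ⟨g, rfl⟩)).trans ht) e.symm) (g := g) trivial
    rw [BG1.pPrimeCoreOf_top' Nat.prime_two, normal_eq_bot_of_simple (p := 2) (by rw [hG]; norm_num) (pPrimeCore 2 G)
      inferInstance (Core.not_dvd_card_pPrimeCore Nat.prime_two), mem_bot, mul_inv_eq_one, mul_inv_eq_iff_eq_mul] at h2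
    exact h2.symm
  rw [center_eq_bot_of_simple (ncomm hG), mem_bot] at h1
  exact ne_one_of_two ht h1

theorem exists_glt : ∃ f : M →* G, GLT f := by
  obtain ⟨a, b, θ, y, h⟩ := exists_tab hG
  obtain ⟨t, ht⟩ := exists_prime_orderOf_dvd_card' (G := G) 2 (by rw [hG]; norm_num)
  obtain ⟨u, hu, hc, hut⟩ := Tab.exists_comm hG ht
  let t' : centralizer {t} := ⟨t, mem_cent.2 (Commute.refl t)⟩
  have ht' : orderOf t' = 2 := by rwa [← orderOf_coe]
  have hz : ∀ g, Commute g t' := fun g => Subtype.ext (mem_cent.1 g.2)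
  obtain ⟨φ, h1, h2⟩ := perm4 (h.cc_two hG ht) ht' hz fun x hx => not_four (h.cc_two hG ht) hx
    (fun e => h.not_eight hG (x := x) (by rwa [orderOf_coe])
    (e.trans (card_dvd_of_injective (((Subgroup.subtype _).comp (Subgroup.subtype _)).codRestrict _ fun k =>
      mem_cent.2 (congrArg Subtype.val (mem_cent.1 k.2).eq)) fun a b e => Subtype.ext (Subtype.ext (congrArg Subtype.val e :)))))
    fun K hK => (h.aut hG (K.map (Subgroup.subtype _)) (by rw [card_map_of_injective (subtype_injective _), hK])).of_equiv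
      (MulAut.congr (K.equivMapOfInjective _ (subtype_injective _)).symm)
  obtain ⟨f, h3, h4⟩ := cover (h.cc_two hG ht) ht' hz h1 h2 (fun K hK e => h.no_e8 hG (K.map (Subgroup.subtype _))
    (by rw [card_map_of_injective (subtype_injective _), hK]) (by
      rintro _ ⟨k, hk, rfl⟩; exact congrArg Subtype.val (e k hk))) (u := ⟨u, mem_cent.2 hc⟩) (by rwa [← orderOf_coe])
    fun e => hut (congrArg Subtype.val e)
  refine ⟨(Subgroup.subtype _).comp f, (subtype_injective _).comp h3.1, fun g hg => ?_, fun K hK => ?_⟩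
  · obtain ⟨m, hm⟩ := h3.2 ⟨g, mem_cent.2 (by simpa [h4] using hg)⟩
    exact ⟨m, congrArg Subtype.val hm⟩
  · have := K.card_mul_index
    rcases (normal_of_index_eq_two hK).eq_bot_or_eq_top with rfl | rfl
    · rw [index_bot, hG] at hK; omega
    · rw [index_top] at hK; omega

theorem iso : Nonempty (G ≃* Matrix.ProjectiveSpecialLinearGroup (Fin 3) (ZMod 3)) := by
  obtain ⟨f, h⟩ := exists_glt hG
  refine h.iso.resolve_right fun ⟨e⟩ => ?_
  have := Nat.card_congr e.toEquiv
  rw [hG, Golay.card_M11] at this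
  omega

end Cfsg.Lib.Coprime.L33
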