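import Cfsg.Agent.Lib.Coprime.U33
import Cfsg.Agent.Lib.Block2.Height
import Cfsg.Agent.Lib.Block2.Ker
import Cfsg.Agent.Lib.Small.SylNum

/-!
# Arithmetic constraints on character values
-/

set_option autoImplicit false
set_option maxRecDepth 100000
set_option linter.unusedSectionVars false

namespace Cfsg.Lib.Coprime.M12

open Cfsg Subgroup Cfsg.Lib.Small Cfsg.Lib.Char Cfsg.Lib.Clifford Cfsg.Lib.Amalg Cfsg.Lib.Exc Cfsg.Lib.Exc.M11
  Cfsg.Lib.Invol Cfsg.Lib.PF
open scoped ComplexConjugate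

variable {G : Type*} [Group G] [Finite G]

theorem cong {p k : ℕ} (hp : p.Prime) {χ : G → ℂ} (hχ : IsCharacter G χ) {x y : G} (hc : Commute x y)
    (hx : x ^ p ^ k = 1) {a b : ℤ} (ha : χ (x * y) = a) (hb : χ y = b) : (p : ℤ) ∣ a - b := by
  have := Fact.mk hp
  obtain ⟨M, hM⟩ := Block2.exists_isPModular hp
  have := hM.2.1
  obtain ⟨j, -, hj⟩ := (Nat.dvd_prime_pow hp).1 (orderOf_dvd_of_pow_eq_one hx)
  have h := Block2.char_mul_sub_mem hM hχ hc ⟨j, hj⟩
  rw [ha, hb, ← Int.cast_sub] at h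
  exact (Block.memLocalIdeal_intCast_iff hM _).1 h

theorem cong1 {p k : ℕ} (hp : p.Prime) (χ : IrrCharacter G) {x : G} (hx : x ^ p ^ k = 1) {a : ℤ} (ha : χ.1 x = a) :
    (p : ℤ) ∣ a - charDegree χ.1 :=
  cong hp χ.2.isCharacter (Commute.one_right x) hx (by rwa [mul_one]) (by rw [← coe_deg]; simp)

theorem ord4 (hG : commutator G = ⊤) (χ : IrrCharacter G) {g : G} (hg : g ^ 4 = 1) {a b : ℤ} (ha : χ.1 g = a)
    (hb : χ.1 (g ^ 2) = b) : (8 : ℤ) ∣ charDegree χ.1 + b - 2 * a := by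
  let x : zpowers g := ⟨g, mem_zpowers g⟩
  obtain ⟨s, hs⟩ := (χ.2.isCharacter.restrict (zpowers g)).exists_sum_linear_of_comm fun a b => mul_comm' a b
  have h1 := (detChar_multiset s x).2
  rw [← funext hs] at h1
  erw [detChar_comp χ.2.isCharacter (zpowers g).subtype x, detChar_of_mem_commutator _ (hG ▸ mem_top _)] at h1
  have key : ∃ m0 m1 m2 m3 : ℕ, (s.map fun lam => (lam 1 : ℂ)).sum = m0 + m1 + m2 + m3 ∧
      (s.map fun lam => (lam x : ℂ)).sum = m0 - m2 + (m1 - m3) * Complex.I ∧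
      (s.map fun lam => (lam (x ^ 2) : ℂ)).sum = m0 + m2 - m1 - m3 ∧
      (s.map fun lam => (lam x : ℂ)).prod = (-1) ^ m2 * Complex.I ^ m1 * (-Complex.I) ^ m3 := by
    clear hs h1
    induction s using Multiset.induction_on with
    | empty => exact ⟨0, 0, 0, 0, by simp⟩
    | cons l s ih =>
      obtain ⟨m0, m1, m2, m3, e0, e1, e2, e3⟩ := ih
      simp only [Multiset.map_cons, Multiset.sum_cons, Multiset.prod_cons]
      rw [e0, e1, e2, e3, map_one, map_pow, Units.val_one, Units.val_pow_eq_pow_val]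
      have e4 : (l x : ℂ) ^ 4 = 1 := by
        rw [← Units.val_pow_eq_pow_val, ← map_pow, show x ^ 4 = 1 from Subtype.ext hg, map_one, Units.val_one]
      have e5 : ((l x : ℂ) - 1) * (((l x : ℂ) - Complex.I) * (((l x : ℂ) + 1) * ((l x : ℂ) + Complex.I))) = 0 := by
        linear_combination e4 - ((l x : ℂ) ^ 2 - 1) * Complex.I_sq
      simp only [mul_eq_zero, sub_eq_zero, add_eq_zero_iff_eq_neg] at e5
      rcases e5 with e | e | e | e <;> rw [e]
      · exact ⟨m0 + 1, m1, m2, m3, by push_cast; ring, by push_cast; ring, by push_cast; ring, by ring⟩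
      · exact ⟨m0, m1 + 1, m2, m3, by push_cast; ring, by push_cast; ring, by rw [Complex.I_sq]; push_cast; ring, by ring⟩
      · exact ⟨m0, m1, m2 + 1, m3, by push_cast; ring, by push_cast; ring, by push_cast; ring, by ring⟩
      · exact ⟨m0, m1, m2, m3 + 1, by push_cast; ring, by push_cast; ring,
          by rw [neg_sq, Complex.I_sq]; push_cast; ring, by ring⟩
  obtain ⟨m0, m1, m2, m3, e0, e1, e2, e3⟩ := key
  rw [← hs] at e0 e1 e2
  change χ.1 1 = _ at e0
  change χ.1 g = _ at e1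
  change χ.1 (g ^ 2) = _ at e2
  rw [ha] at e1
  obtain rfl : m1 = m3 := by
    have := congrArg Complex.im e1
    simp at this
    exact_mod_cast (sub_eq_zero.1 this.symm)
  rw [e3, mul_assoc, ← mul_pow, mul_neg, Complex.I_mul_I, neg_neg, one_pow, mul_one, eq_comm,
    neg_one_pow_eq_one_iff_even (by norm_num)] at h1
  obtain ⟨k, rfl⟩ := h1
  rw [← coe_deg] at e0
  rw [hb] at e2
  rw [sub_self, zero_mul, add_zero] at e1
  have a0 : (charDegree χ.1 : ℤ) = m0 + m1 + (k + k : ℕ) + m1 := by exact_mod_cast e0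
  have a1 : a = m0 - (k + k : ℕ) := by exact_mod_cast e1
  have a2 : b = m0 + (k + k : ℕ) - m1 - m1 := by exact_mod_cast e2
  omega

theorem four (hG : commutator G = ⊤) (χ : IrrCharacter G) {g : G} (hg : g ^ 2 = 1) {a : ℤ} (ha : χ.1 g = a) :
    (4 : ℤ) ∣ charDegree χ.1 - a := by
  have := ord4 hG χ (g := g) (by rw [show 4 = 2 * 2 from rfl, pow_mul, hg, one_pow]) ha (b := charDegree χ.1)
    (by rw [hg, ← coe_deg]; simp)
  omega

theorem omega_dvd (χ : IrrCharacter G) {x : G} {a : ℤ} (ha : χ.1 x = a) : (charDegree χ.1 : ℤ) ∣ ix x * a := by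
  have h1 := L33.int_omega χ x
  have h0 : (charDegree χ.1 : ℚ) ≠ 0 := fun e => χ.2.apply_one_ne_zero (by rw [← coe_deg]; exact_mod_cast e)
  rw [ha, show (ix x : ℂ) * a / charDegree χ.1 = ((ix x * a / charDegree χ.1 : ℚ) : ℂ) by push_cast; ring] at h1
  obtain ⟨k, hk⟩ := IsIntegrallyClosed.isIntegral_iff.1 (isIntegral_algebraMap_iff (algebraMap ℚ ℂ).injective |>.1 h1)
  refine ⟨k, ?_⟩
  have : (ix x * a : ℚ) = charDegree χ.1 * k := by simp only [eq_intCast] at hk; rw [hk]; field_simp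
  exact_mod_cast this

theorem val_lt [IsSimpleGroup G] (hG : ¬ IsMulCommutative G) {χ : IrrCharacter G} (h : χ ≠ principalIrr G) {g : G}
    (hg : g ≠ 1) {a : ℤ} (ha : χ.1 g = a) : -(charDegree χ.1 : ℤ) < a ∧ a < charDegree χ.1 := by
  have := norm_lt hG h hg
  rw [ha, Complex.norm_intCast] at this
  exact abs_lt.1 (by exact_mod_cast this)

theorem sum_sq (g : G) : ∑ χ : IrrCharacter G, ‖χ.1 g‖ ^ 2 = cc g := by
  have h := column_orthogonality_of_isConj (IsConj.refl g)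
  simp only [Complex.mul_conj'] at h
  exact_mod_cast h

theorem nle (S : Finset (IrrCharacter G)) (g : G) {α : IrrCharacter G → ℤ} (h : ∀ χ ∈ S, χ.1 g = α χ) :
    ∑ χ ∈ S, α χ * α χ ≤ cc g := by
  have h1 := Finset.sum_le_sum_of_subset_of_nonneg (Finset.subset_univ S) fun χ _ _ => sq_nonneg ‖χ.1 g‖
  rw [sum_sq, Finset.sum_congr rfl (g := fun χ => ((α χ * α χ : ℤ) : ℝ)) fun χ hχ => by
    rw [h χ hχ, Complex.norm_intCast, sq_abs, sq]; push_cast; rfl] at h1
  exact_mod_cast h1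

theorem nle2 (S : Finset (IrrCharacter G)) {g k : G} (hn : ¬ IsConj g k) :
    ∑ χ ∈ S, ‖χ.1 g + χ.1 k‖ ^ 2 ≤ cc g + cc k := by
  refine (Finset.sum_le_sum_of_subset_of_nonneg (Finset.subset_univ S) fun χ _ _ => sq_nonneg ‖χ.1 g + χ.1 k‖).trans_eq ?_
  have h3 := column_orthogonality_of_isConj (IsConj.refl g)
  have h4 := column_orthogonality_of_isConj (IsConj.refl k)
  have h5 := column_orthogonality_of_not_isConj hn
  have h6 := column_orthogonality_of_not_isConj fun e => hn (IsConj.symm e)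
  have : ((∑ χ : IrrCharacter G, ‖χ.1 g + χ.1 k‖ ^ 2 : ℝ) : ℂ) = cc g + cc k := by
    push_cast
    simp only [← Complex.mul_conj', map_add, add_mul, mul_add, Finset.sum_add_distrib, h3, h4, h5, h6]
    ring
  exact_mod_cast this

theorem frob2 {p e t : ℕ} [Fact p.Prime] {P : Subgroup G} {X Y : Finset (IrrCharacter G)} {κ : ℤ}
    {ε : IrrCharacter G → ℤ} (h : PB p P e t X Y κ ε) (hC : 𝐂 P ≤ P) {θ : IrrCharacter G} (hθ : θ ∈ Y) {y g k : G}
    (hy : p ∣ orderOf y) (hg : ¬ p ∣ orderOf g) (hk : ¬ p ∣ orderOf k) : (Nat.card G : ℂ) * pairCount g k y =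
    ix g * ix k * (∑ χ ∈ X, ε χ * (χ.1 g * χ.1 k / charDegree χ.1) - κ * (θ.1 g * θ.1 k / charDegree θ.1)) := by
  classical
  rw [frob g k y, ← Finset.sum_subset (Finset.subset_univ (X ∪ Y)) fun χ _ hχ => by
      rw [h.val_out (h.out hC χ (fun e => hχ (Finset.mem_union_left _ e)) fun e => hχ (Finset.mem_union_right _ e)) hy,
        map_zero, mul_zero], Finset.sum_union h.disj,
    Finset.sum_congr rfl (g := fun χ => ε χ * (χ.1 g * χ.1 k / charDegree χ.1)) fun χ hχ => by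
      rw [h.val_X χ hχ y hy, coe_deg, map_intCast, mul_comm],
    Finset.sum_congr (s₁ := Y) rfl (g := fun χ => θ.1 g * θ.1 k / charDegree θ.1 * conj (χ.1 y)) fun χ hχ => by
      rw [h.regular χ hχ θ hθ g hg, h.regular χ hχ θ hθ k hk, ← coe_deg, h.deg_eq hχ hθ], ← Finset.mul_sum, ← map_sum,
    h.val_Y y hy, map_neg, map_intCast]
  ring

theorem pair_zero {s u y : G} (hs : orderOf s = 2) (hu : orderOf u = 2) (nr : ∀ v, orderOf v = 2 → v * y * v⁻¹ ≠ y⁻¹) :
    pairCount s u y = 0 := Nat.card_eq_zero.2 (Or.inl ⟨fun ⟨v, e, e'⟩ => by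
  have h3 := left_inverts (mul_self_of_two ((orderOf_isConj e).trans hs)) (mul_self_of_two ((orderOf_isConj e').trans hu))
  rw [mul_inv_cancel_left] at h3
  exact nr v ((orderOf_isConj e).trans hs) h3⟩)

theorem enum {α : Type*} {n : ℕ} {s : Finset α} (hs : s.card = n) (d : α → ℤ) : ∃ c : Fin n → α,
    Function.Injective c ∧ Monotone (d ∘ c) ∧ (∀ x, x ∈ s ↔ ∃ i, c i = x) ∧
      ∀ {M : Type} [AddCommMonoid M] (F : α → M), ∑ x ∈ s, F x = ∑ i, F (c i) := by
  let e := (Finset.equivFinOfCardEq hs).symm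
  let σ := Tuple.sort fun i => d (e i)
  refine ⟨fun i => e (σ i), fun i j h => σ.injective (e.injective (Subtype.ext h)), Tuple.monotone_sort fun i => d (e i), fun x =>
    ⟨fun hx => ⟨σ.symm (e.symm ⟨x, hx⟩), by simp⟩, by rintro ⟨i, rfl⟩; exact (e _).2⟩, fun F => ?_⟩
  rw [← Finset.sum_coe_sort s, ← (σ.trans e).sum_comp]
  rfl

theorem t_one {p e : ℕ} [Fact p.Prime] {P : Subgroup G} {X Y : Finset (IrrCharacter G)} {κ : ℤ}
    {ε : IrrCharacter G → ℤ} (h : PB p P e 1 X Y κ ε) (h1 : principalIrr G ∈ X) :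
    ∃ (W : Finset (IrrCharacter G)) (δ : IrrCharacter G → ℤ), W.card = e ∧ principalIrr G ∉ W ∧
      (∀ χ, χ ∈ X ∨ χ ∈ Y ↔ χ = principalIrr G ∨ χ ∈ W) ∧ 1 + ∑ χ ∈ W, δ χ * charDegree χ.1 = 0 ∧
      ∀ χ ∈ W, (δ χ = 1 ∨ δ χ = -1) ∧ charDegree χ.1 ∣ (𝐂 P).index ∧ (p : ℤ) ∣ δ χ - charDegree χ.1 ∧
        ∀ g, p ∣ orderOf g → χ.1 g = δ χ := by
  classical
  obtain ⟨θ, hY⟩ := Finset.card_eq_one.1 h.card_Y
  have hθ : θ ∈ Y := by simp [hY]
  have h2 : θ ∉ X := fun e => Finset.disjoint_left.1 h.disj e hθ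
  have h3 : θ ∉ X.erase (principalIrr G) := fun e => h2 (Finset.mem_of_mem_erase e)
  obtain ⟨u, hu, u1⟩ := h.exists_ne_one
  have h4 : u ^ p ^ 1 = 1 := by rw [pow_one, ← h.card]; exact congrArg Subtype.val (pow_card_eq_one' (x := (⟨u, hu⟩ : P)))
  refine ⟨insert θ (X.erase (principalIrr G)), fun χ => if χ ∈ X then ε χ else -κ, by
    rw [Finset.card_insert_of_notMem h3, Finset.card_erase_add_one h1, h.card_X], by
    simp only [Finset.mem_insert, Finset.notMem_erase, or_false]; exact fun e => h2 (e ▸ h1), fun χ => ?_, ?_, fun χ hχ => ?_⟩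
  · by_cases e : χ = principalIrr G
    · simp [e, h1]
    · simp [hY, e, or_comm]
  · have h5 := h.deg_rel hθ
    rw [← Finset.add_sum_erase _ _ h1, h.ε_one h1, deg_principal] at h5
    beta_reduce
    rw [Finset.sum_insert h3, if_neg h2, Finset.sum_congr rfl (g := fun χ => ε χ * charDegree χ.1) fun χ hχ => by
      rw [if_pos (Finset.mem_of_mem_erase hχ)]]
    push_cast at h5
    linear_combination -h5
  · have h6 : ∀ δ : ℤ, (∀ g, p ∣ orderOf g → χ.1 g = δ) → (p : ℤ) ∣ δ - charDegree χ.1 := fun δ e =>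
      cong1 Fact.out χ h4 (e u (h.dvd_orderOf hu u1))
    rcases Finset.mem_insert.1 hχ with rfl | e
    · have h7 : ∀ g, p ∣ orderOf g → χ.1 g = (-κ : ℤ) := fun g hg => by rw [h.val_Y_one rfl hθ hg]; simp
      simp only [h2, if_false]
      exact ⟨by have := h.sign; omega, h.dvd_Y hθ, h6 _ h7, h7⟩
    · have hX := Finset.mem_of_mem_erase e
      simp only [hX, if_true]
      exact ⟨h.sign_ε χ hX, h.dvd_X hX, h6 _ (h.val_X χ hX), h.val_X χ hX⟩

end Cfsg.Lib.Coprime.M12
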