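import Cfsg.Agent.Lib.Coprime.M12a

/-!
# The principal `11`-block of a simple group of order `95040`
-/

set_option autoImplicit false
set_option maxRecDepth 100000
set_option linter.unusedSectionVars false

namespace Cfsg.Lib.Coprime.M12

open Cfsg Subgroup Cfsg.Lib.Small Cfsg.Lib.Char Cfsg.Lib.Clifford Cfsg.Lib.Amalg Cfsg.Lib.Exc Cfsg.Lib.Exc.M11
  Cfsg.Lib.Invol Cfsg.Lib.PF
open scoped ComplexConjugate

variable {G : Type*} [Group G] [Finite G] [IsSimpleGroup G] (hG : Nat.card G = 95040)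
include hG

theorem ncomm : ¬ IsMulCommutative G := not_isMulCommutative_of_not_prime (by rw [hG]; norm_num)

theorem perf : commutator G = ⊤ := commutator_eq_top_of_simple (ncomm hG)

theorem deg_le (χ : IrrCharacter G) : charDegree χ.1 ≤ 308 := by
  have h5 := sq_le {χ}
  rw [Finset.sum_singleton, hG] at h5
  push_cast at h5; nlinarith

theorem sgn_mem {χ : IrrCharacter G} (h1 : χ ≠ principalIrr G) {δ : ℤ} (hδ : δ = 1 ∨ δ = -1)
    (h11 : (11 : ℤ) ∣ δ - charDegree χ.1) (hd : charDegree χ.1 ∣ 8640) :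
    δ * charDegree χ.1 ∈ [-120, -54, -32, -10, 12, 45, 144] := by
  have := (by decide +kernel : ∀ d ∈ Nat.divisors 8640, 2 < d → d ≤ 308 → (d % 11 = 1 → d = 12 ∨ d = 45 ∨ d = 144) ∧
    (d % 11 = 10 → d = 10 ∨ d = 32 ∨ d = 54 ∨ d = 120)) _ (Nat.mem_divisors.2 ⟨hd, by norm_num⟩)
    (two_lt_deg (ncomm hG) h1) (deg_le hG χ)
  simp only [List.mem_cons, List.not_mem_nil, or_false]
  rcases hδ with rfl | rfl <;> omega

theorem eleven : ∃ (P : Subgroup G) (X Y : Finset (IrrCharacter G)) (κ : ℤ) (ε : IrrCharacter G → ℤ),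
    haveI := Fact.mk (by norm_num : Nat.Prime 11)
    PB 11 P 5 2 X Y κ ε ∧ principalIrr G ∈ X ∧ 𝐂 P ≤ P ∧ (𝐍 P).index = 1728 := by
  classical
  have := Fact.mk (by norm_num : Nat.Prime 11)
  obtain ⟨P, e, t, c, X, Y, κ, ε, h, h1, h2, h3, h4, h5, h6, h8⟩ := exists_pb (ncomm hG) 11 8640 hG (by norm_num)
  have h7 := h.mul
  have h9 : e ≤ 10 := Nat.le_of_dvd (by norm_num) ⟨t, by rw [mul_comm]; omega⟩
  have hs := (by decide +kernel : ∀ s ∈ Nat.divisors 8640, s % 11 = 1 → s ≠ 1 →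
    s = 12 ∨ s = 45 ∨ s = 144 ∨ s = 320 ∨ s = 540 ∨ s = 1728) _ (Nat.mem_divisors.2 ⟨Dvd.intro_left _ h4, by norm_num⟩) h5 h6
  have he : (e = 2 ∧ t = 5) ∨ (e = 5 ∧ t = 2) ∨ (e = 10 ∧ t = 1) := by interval_cases e <;> omega
  have hi := h.index_C
  have hd : (𝐂 P).index ∣ 8640 := ⟨c, by rw [hi, ← h4]; ring⟩
  by_cases hc : c = 1
  · subst hc
    obtain ⟨rfl, rfl⟩ : e = 5 ∧ t = 2 := by rcases he with ⟨rfl, rfl⟩ | ⟨rfl, rfl⟩ | ⟨rfl, rfl⟩ <;> omega
    exact ⟨P, X, Y, κ, ε, h, h1, h3.1 rfl, by omega⟩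
  exfalso
  obtain ⟨g, hg⟩ := h8 2 Nat.prime_two (by norm_num) (by
    rcases he with ⟨rfl, rfl⟩ | ⟨rfl, rfl⟩ | ⟨rfl, rfl⟩ <;> rcases hs with e | e | e | e | e | e <;> rw [e] at h4 <;> omega)
  have g22 : g ^ 22 = 1 := by rw [show 22 = 11 * 2 from rfl, ← hg, pow_orderOf_eq_one]
  have hs2 : orderOf (g ^ 11) = 2 := by rw [orderOf_pow' _ (by norm_num), hg]; rfl
  choose α hα using int_of_two hs2
  have k1 : ∀ χ : IrrCharacter G, ∀ δ : ℤ, χ.1 g = δ → (11 : ℤ) ∣ δ - charDegree χ.1 →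
      (44 : ℤ) ∣ charDegree χ.1 - α χ := fun χ δ e1 e2 => by
    have e3 := cong (p := 11) (k := 1) (by norm_num) χ.2.isCharacter (x := g ^ 12) (y := g ^ 11)
      (Commute.pow_pow_self g _ _) (by rw [← pow_mul, show 12 * 11 ^ 1 = 22 * 6 from rfl, pow_mul, g22, one_pow])
      (a := δ) (by rw [← pow_add, show 12 + 11 = 22 + 1 from rfl, pow_succ, g22, one_mul, e1]) (hα χ)
    have e4 := four (perf hG) χ (g := g ^ 11) (by rw [← pow_mul, g22]) (hα χ)
    omega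
  have k2 : ∀ χ : IrrCharacter G, χ ≠ principalIrr G → (44 : ℤ) ∣ charDegree χ.1 - α χ → 22 < charDegree χ.1 :=
    fun χ e1 e2 => by
      have := val_lt (ncomm hG) e1 (ne_one_of_two hs2) (hα χ)
      omega
  have g11 : 11 ∣ orderOf g := ⟨2, hg⟩
  have k3 : ∀ χ ∈ X, (11 : ℤ) ∣ ε χ - charDegree χ.1 := fun χ hχ => by have := h.av_X hχ; omega
  have k4 : ∀ χ ∈ X.erase (principalIrr G), ε χ * charDegree χ.1 ∈ [-120, -54, -32, 45, 144] := fun χ hχ => by
    have hX := Finset.mem_of_mem_erase hχ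
    have e1 := sgn_mem hG (Finset.ne_of_mem_erase hχ) (h.sign_ε χ hX) (k3 χ hX) ((h.dvd_X hX).trans hd)
    have e2 := k2 χ (Finset.ne_of_mem_erase hχ) (k1 χ _ (h.val_X χ hX g g11) (k3 χ hX))
    simp only [List.mem_cons, List.not_mem_nil, or_false] at e1 ⊢
    rcases h.sign_ε χ hX with e | e <;> rw [e] at e1 ⊢ <;> omega
  obtain ⟨θ, hθ⟩ := h.exists_Y
  have r1 := h.deg_rel hθ
  have k5 : 22 < charDegree θ.1 := by
    refine k2 θ (fun e => Finset.disjoint_left.1 h.disj h1 (e ▸ hθ)) ?_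
    have r2 := h.rel θ hθ (g ^ 11) (by rw [hs2]; norm_num)
    simp only [hα] at r2
    have r3 : κ * α θ = ∑ χ ∈ X, ε χ * α χ := by exact_mod_cast r2
    have r4 : (44 : ℤ) ∣ ∑ χ ∈ X, (ε χ * charDegree χ.1 - ε χ * α χ) := Finset.dvd_sum fun χ hχ => by
      rw [← mul_sub]; exact (k1 χ _ (h.val_X χ hχ g g11) (k3 χ hχ)).mul_left _
    rw [Finset.sum_sub_distrib, ← r1, ← r3] at r4
    rcases h.sign with rfl | rfl <;> omega
  have k6 := h.dvd_Y hθ
  rw [← Finset.add_sum_erase _ _ h1, h.ε_one h1, deg_principal] at r1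
  have k7 : (charDegree θ.1 : ℤ) = |κ * charDegree θ.1| := by rcases h.sign with rfl | rfl <;> simp
  rcases he with ⟨rfl, rfl⟩ | ⟨rfl, rfl⟩ | ⟨rfl, rfl⟩
  · obtain ⟨χ, hX⟩ := Finset.card_eq_one.1 (show (X.erase (principalIrr G)).card = 1 by
      rw [Finset.card_erase_of_mem h1, h.card_X])
    have e1 := k4 χ (by simp [hX])
    have e2 : (charDegree θ.1 : ℤ) ∣ 8640 := by exact_mod_cast k6.trans hd
    rw [hX, Finset.sum_singleton] at r1
    rw [k7, r1] at e2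
    exact (by decide : ∀ d ∈ [-120, -54, -32, 45, 144], ¬ |1 * ((1 : ℕ) : ℤ) + d| ∣ (8640 : ℤ)) _ e1 e2
  · obtain ⟨c', -, -, hX, hS⟩ := enum (show (X.erase (principalIrr G)).card = 4 by
      rw [Finset.card_erase_of_mem h1, h.card_X]) fun _ => 0
    have e0 : (𝐂 P).index ∣ 720 := by
      rw [hi]; rcases hs with e | e | e | e | e | e <;> rw [e] at h4 ⊢ <;> omega
    have e1 : ∀ i, ε (c' i) * charDegree (c' i).1 ∈ [-120, 45, 144] := fun i => by
      have hχ := (hX _).2 ⟨i, rfl⟩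
      have e3 := k4 _ hχ
      have e4 := (h.dvd_X (Finset.mem_of_mem_erase hχ)).trans e0
      simp only [List.mem_cons, List.not_mem_nil, or_false] at e3 ⊢
      rcases h.sign_ε _ (Finset.mem_of_mem_erase hχ) with e | e <;> rw [e] at e3 ⊢ <;>
        rcases e3 with e3 | e3 | e3 | e3 | e3 <;>
        first | omega | (rw [show charDegree (c' i).1 = 54 by omega] at e4; omega) |
          (rw [show charDegree (c' i).1 = 32 by omega] at e4; omega)
    have e2 : (charDegree θ.1 : ℤ) ∣ 720 := by exact_mod_cast k6.trans e0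
    have e3 : (22 : ℤ) < charDegree θ.1 := by exact_mod_cast k5
    rw [hS, Fin.sum_univ_four] at r1
    rw [k7, r1] at e2 e3
    exact (by decide : ∀ a ∈ [-120, 45, 144], ∀ b ∈ [-120, 45, 144], ∀ c ∈ [-120, 45, 144], ∀ d ∈ [-120, 45, 144],
      22 < |1 * ((1 : ℕ) : ℤ) + (a + b + c + d)| → ¬ |1 * ((1 : ℕ) : ℤ) + (a + b + c + d)| ∣ (720 : ℤ)) _ (e1 0) _ (e1 1) _
      (e1 2) _ (e1 3) e3 e2
  · obtain ⟨W, δ, w1, w2, -, w3, w4⟩ := t_one h h1
    have e0 : (𝐂 P).index ∣ 1440 := by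
      rw [hi]; rcases hs with e | e | e | e | e | e <;> rw [e] at h4 ⊢ <;> omega
    have n1 : ∀ χ ∈ W, χ ≠ principalIrr G := fun χ hχ e => w2 (e ▸ hχ)
    have e1 : ∀ χ ∈ W, (δ χ * charDegree χ.1 = -120 ∧ charDegree χ.1 = 120 ∨ δ χ * charDegree χ.1 = -32 ∧
        charDegree χ.1 = 32 ∨ δ χ * charDegree χ.1 = 45 ∧ charDegree χ.1 = 45 ∨ δ χ * charDegree χ.1 = 144 ∧
        charDegree χ.1 = 144) ∧ (44 : ℤ) ∣ charDegree χ.1 - α χ := fun χ hχ => by
      obtain ⟨a1, a2, a3, a4⟩ := w4 χ hχ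
      have e3 := sgn_mem hG (n1 χ hχ) a1 a3 (a2.trans hd)
      have e4 := k1 χ _ (a4 g g11) a3
      have e5 := k2 χ (n1 χ hχ) e4
      have e6 := a2.trans e0
      refine ⟨?_, e4⟩
      simp only [List.mem_cons, List.not_mem_nil, or_false] at e3
      rcases a1 with e | e <;> rw [e] at e3 ⊢ <;> rcases e3 with e3 | e3 | e3 | e3 | e3 | e3 | e3 <;>
        first | omega | (rw [show charDegree χ.1 = 54 by omega] at e6; omega)
    have e2 : ∀ q : ℤ, ¬ q ∣ 1 → ∃ χ ∈ W, ¬ q ∣ δ χ * charDegree χ.1 := fun q hq => by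
      by_contra hn
      push Not at hn
      exact hq ((dvd_add_left (Finset.dvd_sum hn)).1 (w3 ▸ dvd_zero q))
    obtain ⟨χ, hχ, e3⟩ := e2 2 (by norm_num)
    obtain ⟨ψ, hψ, e4⟩ := e2 3 (by norm_num)
    have a1 := e1 χ hχ
    have a2 := e1 ψ hψ
    have a3 := omega_dvd χ (hα χ)
    have a4 := omega_dvd ψ (hα ψ)
    have a5 := val_lt (ncomm hG) (n1 χ hχ) (ne_one_of_two hs2) (hα χ)
    have a6 := val_lt (ncomm hG) (n1 ψ hψ) (ne_one_of_two hs2) (hα ψ)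
    have d1 : charDegree χ.1 = 45 := by omega
    have d2 : charDegree ψ.1 = 32 := by omega
    rw [d1] at a1 a3 a5
    rw [d2] at a2 a4 a6
    obtain ⟨m, hm⟩ : 360 ∣ ix (g ^ 11) := by
      rw [show α ψ = -12 by omega] at a4
      obtain e | e : α χ = 1 ∨ α χ = -43 := by omega
      all_goals rw [e] at a3; omega
    have a7 := cc_mul_ix (g ^ 11)
    have a9 : cc (g ^ 11) ≤ 264 := Nat.le_of_dvd (by norm_num) ⟨m, by rw [hm, hG] at a7; linarith⟩
    have b1 := nle W (g ^ 11) fun χ _ => hα χ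
    have b2 : ∑ _χ ∈ W, (6600 : ℤ) ≤ ∑ χ ∈ W, (165 * (α χ * α χ) + 143 * (δ χ * charDegree χ.1)) :=
      Finset.sum_le_sum fun φ hφ => by
        obtain ⟨e5, e6⟩ := e1 φ hφ
        have e8 : ∀ k : ℤ, 0 ≤ k → α φ ≤ -k ∨ k ≤ α φ → k * k ≤ α φ * α φ := fun k a b =>
          abs_mul_abs_self (α φ) ▸ mul_self_le_mul_self a (by rw [le_abs]; omega)
        have e9 := e8 0 le_rfl (by omega)
        rcases e5 with ⟨e7, e⟩ | ⟨e7, e⟩ | ⟨e7, e⟩ | ⟨e7, e⟩ <;> rw [e7] <;> rw [e] at e6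
        · have := e8 12 (by norm_num) (by omega); omega
        · have := e8 12 (by norm_num) (by omega); omega
        · have := e8 1 (by norm_num) (by omega); omega
        · omega
    rw [Finset.sum_const, w1, Finset.sum_add_distrib, ← Finset.mul_sum, ← Finset.mul_sum] at b2
    simp only [nsmul_eq_mul] at b2
    omega

theorem five_le {χ : IrrCharacter G} (h1 : χ ≠ principalIrr G) : 5 ≤ charDegree χ.1 := by
  have := Fact.mk (by norm_num : Nat.Prime 11)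
  obtain ⟨P, X, Y, κ, ε, h, -, hC, -⟩ := eleven hG
  have := two_lt_deg (ncomm hG) h1
  by_cases e1 : χ ∈ X
  · have := h.av_X e1; have := h.sign_ε χ e1; omega
  by_cases e2 : χ ∈ Y
  · have := h.av_Y e2; have := h.sign; omega
  · have := h.out hC χ e1 e2; omega

theorem ord11 {g : G} (hg : 11 ∣ orderOf g) : orderOf g = 11 := by
  have := Fact.mk (by norm_num : Nat.Prime 11)
  obtain ⟨P, X, Y, κ, ε, h, -, hC, -⟩ := eleven hG
  obtain ⟨D⟩ := h.dOne
  exact D.orderOf_eq_p hC hg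

theorem ten : ∃ g : G, orderOf g = 10 := by
  classical
  by_contra h10
  push Not at h10
  have := Fact.mk Nat.prime_five
  have := Fact.mk Nat.prime_three
  obtain ⟨P⟩ : Nonempty (Sylow 5 G) := inferInstance
  obtain ⟨M, hM⟩ := Block2.exists_isPModular Nat.prime_five
  have := hM.2.1
  have hm : Nat.card G = 5 * 19008 := hG
  obtain ⟨e, t, X, Y, κ, ε, h, h1, hB⟩ := exists_PB_one hM (perf hG)
    ((card_sylow_subgroup_eq P (a := 1) (m := 19008) hG (by norm_num)).trans (pow_one 5))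
    (by rw [index_sylow_eq P (a := 1) (m := 19008) hG (by norm_num)]; norm_num)
  obtain ⟨c, hc, -, h3, h4⟩ := h.exists_card_C
  have h2 : 1 < e := h.he ▸ one_lt_relIndex_of_perfect (perf hG) P ⟨_, hm⟩
  have h5 : (𝐍 (P : Subgroup G)).index % 5 = 1 := by rw [index_normalizer_sylow, card_sylow_mod]
  have h7 := h.mul
  have h8 : ¬ 2 ∣ c := fun e => ((h4 2 (by norm_num) (by norm_num)).1 e).elim h10
  have h9 : ¬ 11 ∣ c := fun e => ((h4 11 (by norm_num) (by norm_num)).1 e).elim fun g e => by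
    have := ord11 hG (g := g) (by rw [e]; norm_num); omega
  have h11 : e ≤ 4 := Nat.le_of_dvd (by norm_num) ⟨t, by rw [mul_comm]; omega⟩
  rw [hG] at h3
  have h12 := (by decide +kernel : ∀ c ∈ Nat.divisors 19008, ¬ 2 ∣ c → ¬ 11 ∣ c → c = 1 ∨ c = 3 ∨ c = 9 ∨ c = 27) c
    (Nat.mem_divisors.2 ⟨⟨e * (𝐍 (P : Subgroup G)).index, by linarith⟩, by norm_num⟩) h8 h9
  have he : (e = 2 ∧ c = 9 ∧ t = 2) ∨ (e = 4 ∧ c = 27 ∧ t = 1) := by
    rcases h12 with rfl | rfl | rfl | rfl <;> interval_cases e <;> omega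
  have key : ∀ χ, χ ∈ X ∨ χ ∈ Y → charDegree χ.1 = 11 → (∀ ψ, ψ ∈ X ∨ ψ ∈ Y → charDegree ψ.1 = 11 → ψ = χ) →
      (∀ g, 5 ∣ orderOf g → χ.1 g = 1) → False := fun χ e1 e2 e3 e4 => by
    obtain ⟨K', hK'⟩ := Sylow.exists_subgroup_card_pow_prime 3 (n := 2) (G := 𝐂 (P : Subgroup G))
      (by rw [hc]; rcases he with ⟨-, rfl, -⟩ | ⟨-, rfl, -⟩ <;> norm_num)
    have hK : Nat.card (K'.map (𝐂 (P : Subgroup G)).subtype) = 9 := (card_map_of_injective (subtype_injective _)).trans hK'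
    obtain ⟨x, hx, x1⟩ := h.exists_ne_one
    have x5 : x ^ 5 ^ 1 = 1 := by
      rw [pow_one, ← h.card]; exact congrArg Subtype.val (pow_card_eq_one' (x := (⟨x, hx⟩ : (P : Subgroup G))))
    have e5 := sum_eq_av χ.2.isCharacter (K'.map (𝐂 (P : Subgroup G)).subtype)
    rw [sum_elems_erase (c := -4) _ _ fun u hu u1 => by
      have u9 : u ^ 3 ^ 2 = 1 := by
        rw [show 3 ^ 2 = 9 from rfl, ← hK]; exact congrArg Subtype.val (pow_card_eq_one' (x := ⟨u, hu⟩))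
      obtain ⟨n, hn⟩ := exists_int_of_forall_ringEquiv (χ.2.isCharacter.isIntegral u) fun σ => by
        rw [← Block2.galIrr_apply, e3 _ ((hB _).1 ((Block2.galIrr_mem_principalBlock hM σ χ).2 ((hB _).2 e1)))
          ((Block2.charDegree_galIrr σ χ).trans e2)]
      have xu : Commute x u := mem_centralizer_iff.1 (map_subtype_le _ hu) x hx
      have a1 := cong Nat.prime_five χ.2.isCharacter xu x5 (a := 1) (by
        rw [e4 _ (by
          rw [xu.orderOf_mul_eq_mul_orderOf_of_coprime (((by norm_num : Nat.Coprime (5 ^ 1) (3 ^ 2)).of_dvd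
            (orderOf_dvd_of_pow_eq_one x5) (orderOf_dvd_of_pow_eq_one u9)))]
          exact (h.dvd_orderOf hx x1).mul_right _), Int.cast_one]) hn
      have a2 := cong1 Nat.prime_three χ u9 hn
      have a3 := val_lt (ncomm hG) (χ := χ) (fun e => by rw [e, deg_principal] at e2; omega) u1 hn
      rw [e2] at a2 a3
      rw [hn, show n = -4 by omega]; simp, hK, ← coe_deg, e2] at e5
    have : (11 + (9 - 1) * (-4) : ℤ) = 9 * av (K'.map (𝐂 (P : Subgroup G)).subtype) χ.1 := by exact_mod_cast e5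
    omega
  have hi := h.index_C
  rcases he with ⟨rfl, rfl, rfl⟩ | ⟨rfl, rfl, rfl⟩
  · obtain ⟨χ, hX⟩ := Finset.card_eq_one.1 (show (X.erase (principalIrr G)).card = 1 by
      rw [Finset.card_erase_of_mem h1, h.card_X])
    have hχ : χ ∈ X.erase (principalIrr G) := by simp [hX]
    have hχ' := Finset.mem_of_mem_erase hχ
    obtain ⟨θ, hθ⟩ := h.exists_Y
    have r1 := h.deg_rel hθ
    rw [← Finset.add_sum_erase _ _ h1, h.ε_one h1, deg_principal, hX, Finset.sum_singleton] at r1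
    rw [show (𝐍 (P : Subgroup G)).index = 1056 by omega] at hi
    have a1 := five_le hG (Finset.ne_of_mem_erase hχ)
    have a2 := five_le hG (χ := θ) fun e => Finset.disjoint_left.1 h.disj h1 (e ▸ hθ)
    have a3 := h.av_X hχ'
    have a4 := h.sign
    have a5 := h.sign_ε χ hχ'
    have a6 := (by decide +kernel : ∀ d ∈ Nat.divisors (2 * 1056), ∀ d' ∈ Nat.divisors (2 * 1056), 5 ≤ d → 5 ≤ d' →
      (d % 5 = 1 → d' = d + 1 → d = 11) ∧ (d % 5 = 4 → d' + 1 ≠ d)) _ (Nat.mem_divisors.2 ⟨hi ▸ h.dvd_X hχ', by norm_num⟩)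
      _ (Nat.mem_divisors.2 ⟨hi ▸ h.dvd_Y hθ, by norm_num⟩) a1 a2
    obtain ⟨b1, b2, b3⟩ : charDegree χ.1 = 11 ∧ ε χ = 1 ∧ charDegree θ.1 = 12 := by
      rcases a4 with rfl | rfl <;> rcases a5 with e | e <;> rw [e] at r1 a3 ⊢ <;> omega
    refine key χ (Or.inl hχ') b1 (fun ψ e1 e2 => ?_) fun g hg => by rw [h.val_X χ hχ' g hg, b2, Int.cast_one]
    rcases e1 with e1 | e1
    · exact Finset.mem_singleton.1 (hX ▸ Finset.mem_erase.2 ⟨fun e => by rw [e, deg_principal] at e2; omega, e1⟩)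
    · have := h.deg_eq e1 hθ; omega
  · obtain ⟨W, δ, w1, w2, w0, w3, w4⟩ := t_one h h1
    obtain ⟨c', -, -, hX, hS⟩ := enum w1 fun _ => 0
    rw [show (𝐍 (P : Subgroup G)).index = 176 by omega] at hi
    have e1 : ∀ χ ∈ W, δ χ * charDegree χ.1 ∈ [11, 16, -44, -64, 176] ∧ (charDegree χ.1 = 11 ↔
        δ χ * charDegree χ.1 = 11) ∧ (charDegree χ.1 = 11 → δ χ = 1) := fun χ hχ => by
      obtain ⟨a1, a2, a3, -⟩ := w4 χ hχ
      have := (by decide +kernel : ∀ d ∈ Nat.divisors (4 * 176), 5 ≤ d → d ≤ 308 →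
        (d % 5 = 1 → d = 11 ∨ d = 16 ∨ d = 176) ∧ (d % 5 = 4 → d = 44 ∨ d = 64)) _
        (Nat.mem_divisors.2 ⟨hi ▸ a2, by norm_num⟩) (five_le hG fun e => w2 (e ▸ hχ)) (deg_le hG χ)
      simp only [List.mem_cons, List.not_mem_nil, or_false]
      rcases a1 with e | e <;> rw [e] at a3 ⊢ <;> omega
    rw [hS, Fin.sum_univ_four] at w3
    have m : ∀ i, c' i ∈ W := fun i => (hX _).2 ⟨i, rfl⟩
    obtain ⟨i, a1, a2⟩ := (by decide +kernel : ∀ a ∈ [11, 16, -44, -64, 176], ∀ b ∈ [11, 16, -44, -64, 176],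
      ∀ c ∈ [11, 16, -44, -64, 176], ∀ d ∈ [11, 16, -44, -64, 176], (1 : ℤ) + (a + b + c + d) = 0 →
      ∃ i : Fin 4, ![a, b, c, d] i = 11 ∧ ∀ j, ![a, b, c, d] j = 11 → j = i) _ (e1 _ (m 0)).1 _ (e1 _ (m 1)).1 _
      (e1 _ (m 2)).1 _ (e1 _ (m 3)).1 w3
    have a3 : ∀ j, ![δ (c' 0) * charDegree (c' 0).1, δ (c' 1) * charDegree (c' 1).1, δ (c' 2) * charDegree (c' 2).1,
      δ (c' 3) * charDegree (c' 3).1] j = δ (c' j) * charDegree (c' j).1 := fun j => by fin_cases j <;> rfl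
    simp only [a3] at a1 a2
    have a4 := (e1 _ (m i)).2.1.2 a1
    refine key (c' i) ((w0 _).2 (Or.inr (m i))) a4 (fun ψ b1 b2 => ?_) fun g hg => by
      rw [(w4 _ (m i)).2.2.2 g hg, (e1 _ (m i)).2.2 a4, Int.cast_one]
    obtain ⟨j, rfl⟩ := (hX ψ).1 (((w0 _).1 b1).resolve_left fun e => by rw [e, deg_principal] at b2; omega)
    rw [a2 j ((e1 _ (m j)).2.1.1 b2)]

end Cfsg.Lib.Coprime.M12
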