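import Cfsg.Agent.Lib.Coprime.M12b

/-!
# The degrees in the principal `11`-block of a simple group of order `95040`
-/

set_option autoImplicit false
set_option maxRecDepth 100000
set_option linter.unusedSectionVars false

namespace Cfsg.Lib.Coprime.M12

open Cfsg Subgroup Cfsg.Lib.Small Cfsg.Lib.Char Cfsg.Lib.Clifford Cfsg.Lib.Amalg Cfsg.Lib.Exc Cfsg.Lib.Exc.M11
  Cfsg.Lib.Invol Cfsg.Lib.PF
open scoped ComplexConjugate

/-- candidate signed values at an involution -/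
def rg (d : ℤ) (n : ℕ) : List ℤ := ((List.range (d.natAbs / 2)).map fun j : ℕ => d - 4 * d.sign * (j + 1)).filter
  fun v => v * v < n ∧ v.natAbs < d.natAbs ∧ d ∣ (95040 / n : ℕ) * v

theorem mem_rg {d v : ℤ} {n : ℕ} (h1 : v * v < n) (h2 : v.natAbs < d.natAbs) (h3 : d ∣ (95040 / n : ℕ) * v)
    (h4 : 4 ∣ d - v) : v ∈ rg d n := by
  refine List.mem_filter.2 ⟨List.mem_map.2 ⟨((d - v) / 4).natAbs - 1, List.mem_range.2 (by omega), ?_⟩, by simpa using ⟨h1, h2, h3⟩⟩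
  rcases lt_trichotomy d 0 with h | h | h
  · rw [Int.sign_eq_neg_one_of_neg h]; omega
  · omega
  · rw [Int.sign_eq_one_of_pos h]; omega

/-- the conditions on the column of an involution -/
def Cond (a b c d : ℤ) (n : ℕ) (u v w x : ℤ) : Prop :=
  1 + (u * u + v * v + w * w + x * x) + 2 * ((1 + (u + v + w + x)) * (1 + (u + v + w + x))) ≤ n ∧
  8640 + (8640 / a * (u * u) + 8640 / b * (v * v) + 8640 / c * (w * w) + 8640 / d * (x * x)) =
    8640 / (1 + (a + b + c + d)) * ((1 + (u + v + w + x)) * (1 + (u + v + w + x))) ∧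
  1 + (a + b + c + d) ∣ (95040 / n : ℕ) * (1 + (u + v + w + x)) ∧
  (1 + (u + v + w + x)).natAbs < (1 + (a + b + c + d)).natAbs

instance (a b c d : ℤ) (n : ℕ) (u v w x : ℤ) : Decidable (Cond a b c d n u v w x) := by unfold Cond; infer_instance

/-- no column -/
def No (a b c d : ℤ) (m : ℕ) : Prop := ∀ n ∈ (List.range 8641).filter (fun n => m ∣ n ∧ n ∣ 8640),
  ∀ u ∈ rg a n, ∀ v ∈ rg b n, ∀ w ∈ rg c n, ∀ x ∈ rg d n, ¬ Cond a b c d n u v w x

instance (a b c d : ℤ) (m : ℕ) : Decidable (No a b c d m) := by unfold No; infer_instance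

theorem search : ∀ a ∈ [-120, -54, -32, -10, 12, 45, 144], ∀ b ∈ [-120, -54, -32, -10, 12, 45, 144], a ≤ b →
    ∀ c ∈ [-120, -54, -32, -10, 12, 45, 144], b ≤ c → ∀ d ∈ [-120, -54, -32, -10, 12, 45, 144], c ≤ d →
    5 ≤ (1 + (a + b + c + d)).natAbs → 1 + (a + b + c + d) ∣ 8640 →
    (a = -120 ∧ b = -54 ∧ c = 45 ∧ d = 144) ∨ No a b c d 10 ∨ No a b c d 64 := by
  decide +kernel

theorem search2 : ∀ n ∈ (List.range 8641).filter (fun n => 64 ∣ n ∧ n ∣ 8640), ∀ u ∈ rg (-120) n, ∀ v ∈ rg (-54) n,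
    ∀ w ∈ rg 45 n, ∀ x ∈ rg 144 n, Cond (-120) (-54) 45 144 n u v w x → n = 192 ∧ u = 8 ∧ v = -6 ∧ w = -3 ∧ x = 0 := by
  decide +kernel

theorem sgn_div {δ : ℤ} (hδ : δ = 1 ∨ δ = -1) {d : ℕ} (hd : d ∣ 8640) (u : ℤ) :
    (8640 : ℂ) * (δ * (u * u / d)) = (8640 / (δ * d) * (δ * u * (δ * u)) : ℤ) := by
  obtain ⟨k, hk⟩ := hd
  have h0 : d ≠ 0 := by rintro rfl; omega
  have h1 : (8640 : ℂ) = d * k := by exact_mod_cast congrArg (Nat.cast : ℕ → ℂ) hk
  have h2 : (8640 : ℤ) / (δ * d) = δ * k := Int.ediv_eq_of_eq_mul_right (by rcases hδ with rfl | rfl <;> omega)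
    (by rcases hδ with rfl | rfl <;> linarith)
  have : (d : ℂ) ≠ 0 := Nat.cast_ne_zero.2 h0
  rw [h2, h1]
  rcases hδ with rfl | rfl <;> push_cast <;> field_simp

variable {G : Type*} [Group G] [Finite G]

/-- the principal `11`-block -/
structure Tab (a c e f θ η : IrrCharacter G) (z : G) : Prop where
  da : charDegree a.1 = 45
  dc : charDegree c.1 = 54
  de : charDegree e.1 = 120
  df : charDegree f.1 = 144
  dθ : charDegree θ.1 = 16
  dη : charDegree η.1 = 16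
  ne : θ ≠ η
  int : ∀ g, ∃ A C E F : ℤ, a.1 g = A ∧ c.1 g = C ∧ e.1 g = E ∧ f.1 g = F
  reg : ∀ g, ¬ 11 ∣ orderOf g → η.1 g = θ.1 g ∧ θ.1 g = 1 + a.1 g - c.1 g - e.1 g + f.1 g
  fr : ∀ g k, ¬ 11 ∣ orderOf g → ¬ 11 ∣ orderOf k → ∃ n : ℕ, (95040 * n : ℂ) = ix g * ix k * (1 + a.1 g * a.1 k / 45 -
    c.1 g * c.1 k / 54 - e.1 g * e.1 k / 120 + f.1 g * f.1 k / 144 - θ.1 g * θ.1 k / 16) ∧
    (orderOf g = 2 → orderOf k = 2 → n = 0)
  z2 : orderOf z = 2
  cz : cc z = 192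
  az : a.1 z = -3
  cz' : c.1 z = 6
  ez : e.1 z = -8
  fz : f.1 z = 0

variable [IsSimpleGroup G] (hG : Nat.card G = 95040)
include hG

theorem not_dvd_cc {g : G} (h1 : g ≠ 1) (h11 : ¬ 11 ∣ orderOf g) : ¬ 11 ∣ cc g := fun hd => by
  have hp : Nat.Prime 11 := by norm_num
  have := Fact.mk hp
  obtain ⟨u, hu⟩ := exists_prime_orderOf_dvd_card' 11 hd
  rw [← orderOf_coe] at hu
  have h3 := (Invol.mem_cent.1 u.2).orderOf_mul_eq_mul_orderOf_of_coprime (hu ▸ (Nat.Prime.coprime_iff_not_dvd hp).2 h11)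
  rw [hu] at h3
  have h4 := h3.symm.trans (ord11 hG ⟨_, h3⟩)
  exact h1 (orderOf_eq_one_iff.1 ((Nat.mul_eq_left hp.ne_zero).1 h4))

theorem cc_dvd' {g : G} (h1 : g ≠ 1) (h11 : ¬ 11 ∣ orderOf g) : cc g ∣ 8640 :=
  ((Nat.Prime.coprime_iff_not_dvd (by norm_num)).2 (not_dvd_cc hG h1 h11)).symm.dvd_of_dvd_mul_left
    (by have := cc_dvd g; rwa [hG] at this)

theorem ix_eq (g : G) : 95040 / cc g = ix g := Nat.div_eq_of_eq_mul_right (cc_pos g) (by rw [cc_mul_ix, hG])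

theorem exists_tab : ∃ (a c e f θ η : IrrCharacter G) (z : G), Tab a c e f θ η z := by
  classical
  have := Fact.mk (by norm_num : Nat.Prime 11)
  obtain ⟨P, X, Y, κ, ε, h, h1, hC, hs⟩ := eleven hG
  obtain ⟨D⟩ := h.dOne
  have hi : (𝐂 P).index = 8640 := by rw [h.index_C, hs]
  obtain ⟨θ, η, hθη, hY⟩ := Finset.card_eq_two.1 h.card_Y
  have hθ : θ ∈ Y := by simp [hY]
  have hη : η ∈ Y := by simp [hY]
  have hy := D.orderOf_eq D.x_mem D.x_ne_one
  have nr : ∀ u : G, orderOf u = 2 → u * D.x * u⁻¹ ≠ (D.x : G)⁻¹ := fun u hu e => by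
    have := (𝐍 P).orderOf_dvd_natCard (D.mem_normalizer_of_conj D.x_mem D.x_ne_one (e ▸ inv_mem D.x_mem))
    rw [D.card_N hC, h.he, hu] at this
    omega
  obtain ⟨c, ci, hm, hX, hS⟩ := enum (show (X.erase (principalIrr G)).card = 4 by
    rw [Finset.card_erase_of_mem h1, h.card_X]) fun χ => ε χ * charDegree χ.1
  have m : ∀ i, c i ∈ X := fun i => Finset.mem_of_mem_erase ((hX _).2 ⟨i, rfl⟩)
  have n1 : ∀ i, c i ≠ principalIrr G := fun i => Finset.ne_of_mem_erase ((hX _).2 ⟨i, rfl⟩)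
  have sg := fun i => h.sign_ε _ (m i)
  have sX : ∀ {M : Type} [AddCommMonoid M] (F : IrrCharacter G → M), ∑ χ ∈ X, F χ =
      F (principalIrr G) + (F (c 0) + F (c 1) + F (c 2) + F (c 3)) := fun F => by
    rw [← Finset.add_sum_erase _ _ h1, hS, Fin.sum_univ_four]
  have r1 := h.deg_rel hθ
  rw [sX, h.ε_one h1, deg_principal, Nat.cast_one, mul_one] at r1
  have θ1 : θ ≠ principalIrr G := fun e => Finset.disjoint_left.1 h.disj h1 (e ▸ hθ)
  have key : ∀ s : G, orderOf s = 2 → ∀ α : IrrCharacter G → ℤ, (∀ χ : IrrCharacter G, χ.1 s = α χ) →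
      (∀ i, ε (c i) * α (c i) ∈ rg (ε (c i) * charDegree (c i).1) (cc s)) ∧
      Cond (ε (c 0) * charDegree (c 0).1) (ε (c 1) * charDegree (c 1).1) (ε (c 2) * charDegree (c 2).1)
        (ε (c 3) * charDegree (c 3).1) (cc s) (ε (c 0) * α (c 0)) (ε (c 1) * α (c 1)) (ε (c 2) * α (c 2))
        (ε (c 3) * α (c 3)) := fun s hs α hα => by
    have s11 : ¬ 11 ∣ orderOf s := by rw [hs]; norm_num
    have a1 : α (principalIrr G) = 1 := by exact_mod_cast (show _ = (1 : ℂ) from (hα (principalIrr G)).symm)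
    have sq : ∀ i, ε (c i) * α (c i) * (ε (c i) * α (c i)) = α (c i) * α (c i) := fun i => by
      rcases sg i with e | e <;> rw [e] <;> ring
    have r2 := h.rel θ hθ s s11
    simp only [hα] at r2
    have r3 : κ * α θ = ∑ χ ∈ X, ε χ * α χ := by exact_mod_cast r2
    rw [sX, h.ε_one h1, a1, mul_one] at r3
    have r4 := nle (X ∪ Y) s fun χ _ => hα χ
    have r5 : α η = α θ := by exact_mod_cast (hα η).symm.trans ((h.regular η hη θ hθ s s11).trans (hα θ))
    rw [Finset.sum_union h.disj, sX, hY, Finset.sum_pair hθη, a1, r5] at r4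
    have r6 := frob2 h hC hθ hy.symm.dvd s11 s11
    rw [pair_zero hs hs nr, Nat.cast_zero, mul_zero, eq_comm, mul_eq_zero, mul_eq_zero, Nat.cast_eq_zero, or_self,
      or_iff_right (ix_pos s).ne', sub_eq_zero, sX, h.ε_one h1, deg_principal] at r6
    simp only [hα, a1] at r6
    have r7 := congrArg (8640 * ·) r6
    simp only [mul_add, sgn_div (sg _) (hi ▸ h.dvd_X (m _)), sgn_div h.sign (hi ▸ h.dvd_Y hθ)] at r7
    have nn := fun χ => mul_self_nonneg (α χ)
    refine ⟨fun i => mem_rg ?_ ?_ ?_ ?_, ?_, ?_, ?_, ?_⟩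
    · rw [sq]
      have := nn (c 0); have := nn (c 1); have := nn (c 2); have := nn (c 3); have := nn θ
      fin_cases i <;> simp only [Fin.zero_eta, Fin.mk_one, Fin.reduceFinMk] <;> omega
    · have := val_lt (ncomm hG) (n1 i) (ne_one_of_two hs) (hα _)
      rcases sg i with e | e <;> rw [e] <;> omega
    · rw [ix_eq hG, mul_left_comm]
      exact mul_dvd_mul_left _ (omega_dvd _ (hα _))
    · rw [← mul_sub]
      exact (four (perf hG) _ (hs ▸ pow_orderOf_eq_one s) (hα _)).mul_left _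
    · rw [← r3, sq, sq, sq, sq, show κ * α θ * (κ * α θ) = α θ * α θ by rcases h.sign with rfl | rfl <;> ring]
      omega
    · rw [← r3, ← r1]
      norm_num at r7
      exact_mod_cast r7
    · rw [← r3, ← r1, ix_eq hG, mul_left_comm]
      exact mul_dvd_mul_left _ (omega_dvd _ (hα _))
    · have := val_lt (ncomm hG) θ1 (ne_one_of_two hs) (hα _)
      rw [← r3, ← r1]
      rcases h.sign with rfl | rfl <;> omega
  have fl : ∀ (s : G) (k : ℕ), orderOf s = 2 → k ∣ cc s → cc s ∈ (List.range 8641).filter (fun n => k ∣ n ∧ n ∣ 8640) :=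
    fun s k hs hk => by
      have := cc_dvd' hG (ne_one_of_two hs) (by rw [hs]; norm_num)
      exact List.mem_filter.2 ⟨List.mem_range.2 (Nat.lt_succ_of_le (Nat.le_of_dvd (by norm_num) this)), by simp [hk, this]⟩
  have no : ∀ (s : G) (k : ℕ), orderOf s = 2 → k ∣ cc s → ¬ No (ε (c 0) * charDegree (c 0).1)
      (ε (c 1) * charDegree (c 1).1) (ε (c 2) * charDegree (c 2).1) (ε (c 3) * charDegree (c 3).1) k := fun s k hs hk e => by
    choose α hα using int_of_two hs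
    obtain ⟨e1, e2⟩ := key s hs α hα
    exact e _ (fl s k hs hk) _ (e1 0) _ (e1 1) _ (e1 2) _ (e1 3) e2
  obtain ⟨S⟩ : Nonempty (Sylow 2 G) := inferInstance
  obtain ⟨z, -, z2, hz⟩ := exists_central S.2 fun e => by
    have := card_sylow_subgroup_eq S (a := 6) (m := 1485) hG (by norm_num)
    rw [e, card_bot] at this; omega
  have z64 : 64 ∣ cc z := by
    have := card_dvd_of_le (show (S : Subgroup G) ≤ centralizer {z} from fun x hx => Invol.mem_cent.2 (hz x hx).symm)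
    rwa [card_sylow_subgroup_eq S (a := 6) (m := 1485) hG (by norm_num)] at this
  have mm := fun i => sgn_mem hG (n1 i) (sg i) (by have := h.av_X (m i); omega) (hi ▸ h.dvd_X (m i))
  obtain ⟨d0, d1, d2, d3⟩ := (search _ (mm 0) _ (mm 1) (hm (by decide)) _ (mm 2) (hm (by decide)) _ (mm 3) (hm (by decide))
    (by have := five_le hG θ1; rw [← r1]; rcases h.sign with rfl | rfl <;> omega) (by
      have : (charDegree θ.1 : ℤ) ∣ 8640 := by exact_mod_cast hi ▸ h.dvd_Y hθ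
      rw [← r1]; rcases h.sign with rfl | rfl <;> simpa using this)).resolve_right (by
    obtain ⟨g, hg⟩ := ten hG
    rintro (e | e)
    · exact no (g ^ 5) 10 (by rw [orderOf_pow' _ (by norm_num), hg]; rfl) (hg ▸ (centralizer {g ^ 5}).orderOf_dvd_natCard
        (Invol.mem_cent.2 (Commute.self_pow g 5))) e
    · exact no z 64 z2 z64 e)
  choose α hα using int_of_two z2
  obtain ⟨e1, e2⟩ := key z z2 α hα
  have e3 := e1 0
  have e4 := e1 1
  have e5 := e1 2
  have e6 := e1 3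
  rw [d0, d1, d2, d3] at e2 r1
  rw [d0] at e3
  rw [d1] at e4
  rw [d2] at e5
  rw [d3] at e6
  obtain ⟨cz, v0, v1, v2, v3⟩ := search2 _ (fl z 64 z2 z64) _ e3 _ e4 _ e5 _ e6 e2
  obtain ⟨p0, q0⟩ : ε (c 0) = -1 ∧ charDegree (c 0).1 = 120 := by rcases sg 0 with e | e <;> rw [e] at d0 ⊢ <;> omega
  obtain ⟨p1, q1⟩ : ε (c 1) = -1 ∧ charDegree (c 1).1 = 54 := by rcases sg 1 with e | e <;> rw [e] at d1 ⊢ <;> omega
  obtain ⟨p2, q2⟩ : ε (c 2) = 1 ∧ charDegree (c 2).1 = 45 := by rcases sg 2 with e | e <;> rw [e] at d2 ⊢ <;> omega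
  obtain ⟨p3, q3⟩ : ε (c 3) = 1 ∧ charDegree (c 3).1 = 144 := by rcases sg 3 with e | e <;> rw [e] at d3 ⊢ <;> omega
  obtain ⟨rfl, dθ⟩ : κ = 1 ∧ charDegree θ.1 = 16 := by rcases h.sign with rfl | rfl <;> omega
  have rat : ∀ i g, ∃ n : ℤ, (c i).1 g = n := fun i g =>
    exists_int_of_forall_ringEquiv ((c i).2.isCharacter.isIntegral g) fun σ => by
      have a1 := Block2.charDegree_galIrr σ (c i)
      rw [← Block2.galIrr_apply]
      generalize Block2.galIrr σ (c i) = ψ at a1 ⊢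
      have a2 : charDegree (c i).1 ∈ [120, 54, 45, 144] := by fin_cases i <;> simp [q0, q1, q2, q3]
      simp only [List.mem_cons, List.not_mem_nil, or_false] at a2
      by_cases b1 : ψ ∈ X
      · obtain ⟨j, rfl⟩ := (hX ψ).1 (Finset.mem_erase.2 ⟨fun e => by rw [e, deg_principal] at a1; omega, b1⟩)
        fin_cases i <;> fin_cases j <;> simp [q0, q1, q2, q3] at a1 ⊢
      by_cases b2 : ψ ∈ Y
      · have := h.deg_eq b2 hθ; omega
      · have := h.out hC ψ b1 b2; omega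
  refine ⟨c 2, c 1, c 0, c 3, θ, η, z, q2, q1, q0, q3, dθ, (h.deg_eq hη hθ).trans dθ, hθη, fun g => ?_, fun g hg =>
    ⟨h.regular η hη θ hθ g hg, ?_⟩, fun g k hg hk => ⟨pairCount g k D.x, ?_, fun a b => pair_zero a b nr⟩, z2, cz, ?_, ?_, ?_, ?_⟩
  · obtain ⟨A, hA⟩ := rat 2 g
    obtain ⟨C, hC⟩ := rat 1 g
    obtain ⟨E, hE⟩ := rat 0 g
    obtain ⟨F, hF⟩ := rat 3 g
    exact ⟨A, C, E, F, hA, hC, hE, hF⟩
  · have := h.rel θ hθ g hg
    rw [sX, h.ε_one h1, p0, p1, p2, p3] at this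
    change _ = _ * 1 + _ at this
    push_cast at this
    linear_combination this
  · have := frob2 h hC hθ hy.symm.dvd hg hk
    rw [sX, h.ε_one h1, p0, p1, p2, p3, q0, q1, q2, q3, dθ, deg_principal, hG] at this
    change _ = _ * (_ * (1 * 1 / _) + _ - _) at this
    push_cast at this
    linear_combination this
  · rw [hα, show α (c 2) = -3 by rw [p2] at v2; omega]; simp
  · rw [hα, show α (c 1) = 6 by rw [p1] at v1; omega]; simp
  · rw [hα, show α (c 0) = -8 by rw [p0] at v0; omega]; simp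
  · rw [hα, show α (c 3) = 0 by rw [p3] at v3; omega]; simp

end Cfsg.Lib.Coprime.M12
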