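import Cfsg.Agent.Lib.Coprime.M12c

/-!
# Columns of the principal `11`-block of a simple group of order `95040`
-/

set_option autoImplicit false
set_option maxRecDepth 100000
set_option linter.unusedSectionVars false

namespace Cfsg.Lib.Coprime.M12

open Cfsg Subgroup Cfsg.Lib.Small Cfsg.Lib.Char Cfsg.Lib.Clifford Cfsg.Lib.Amalg Cfsg.Lib.Exc Cfsg.Lib.Exc.M11
  Cfsg.Lib.Invol Cfsg.Lib.PF
open scoped ComplexConjugate

/-- candidate values -/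
def rg' (d n : ℕ) : List ℤ := ((List.range (2 * d)).map fun j : ℕ => (j : ℤ) - d).filter
  fun v => v * v < n ∧ v.natAbs < d ∧ (d : ℤ) ∣ (95040 / n : ℕ) * v

theorem mem_rg' {d n : ℕ} {v : ℤ} (h1 : v * v < n) (h2 : -(d : ℤ) < v ∧ v < d) (h3 : (d : ℤ) ∣ (95040 / n : ℕ) * v) :
    v ∈ rg' d n :=
  List.mem_filter.2 ⟨List.mem_map.2 ⟨(v + d).natAbs, List.mem_range.2 (by omega), by omega⟩,
    by simpa using ⟨h1, by omega, h3⟩⟩

/-- the possible columns -/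
def LL : List (ℕ × ℤ × ℤ × ℤ × ℤ) :=
  [(2, -1, 0, 0, 0), (2, 0, 0, 1, 0), (2, 0, 1, 0, 0), (3, 0, 0, 0, 1), (3, 0, 0, 1, 0), (4, -1, 0, 0, 0),
   (4, 0, 1, 0, 0), (5, 0, -1, 0, 1), (5, 0, 0, 0, 0), (5, 0, 0, 0, 1), (5, 0, 1, 0, -1), (5, 0, 1, 0, 1),
   (6, -1, 0, 0, -1), (6, -1, 0, 0, 1), (6, 0, 0, 1, 0), (6, 1, 0, 0, 0), (6, 1, 0, 0, 1), (8, -1, 0, 0, 0),
   (8, 0, -1, 2, 0), (8, 1, 2, 0, 0), (9, 0, 0, 0, 1), (10, 0, -1, 0, 1), (10, 0, 1, 0, -1), (10, 0, 1, 0, 1),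
   (12, -1, 0, 0, -1), (12, -1, 0, 0, 1), (12, 1, 0, 2, -1), (12, 1, 0, 2, 1), (15, 0, 0, 0, 1), (16, -3, -2, 0, 0),
   (16, 1, 2, 0, 0), (18, 0, 0, 3, -2), (20, 0, 1, 0, -1), (20, 0, 1, 0, 1), (24, -1, 0, 0, -2), (24, -1, 0, 0, 2),
   (24, 0, 3, -2, 0), (27, 0, 0, 3, -2), (30, 0, -3, 0, 1), (30, 0, 3, 0, 1), (32, 1, 2, 0, 0), (36, 3, 0, 0, 1),
   (45, 0, 0, 0, 1), (48, 3, 0, 4, 0), (54, 0, 0, 3, -2), (60, -5, 0, 0, 0), (60, -5, 0, 0, 1), (60, 0, -3, 0, -2),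
   (60, 0, -3, 0, 1), (120, 5, 6, 0, -4), (120, 5, 6, 0, 4), (180, 0, 9, 0, 1), (192, -3, 6, -8, 0),
   (240, 5, 6, 0, -4), (240, 5, 6, 0, 4), (1440, -15, 18, 0, -8)]

theorem search3 : ∀ n ∈ (List.range 8641).filter (fun n => n ∣ 8640), ∀ A ∈ rg' 45 n, ∀ C ∈ rg' 54 n, ∀ E ∈ rg' 120 n,
    0 ≤ 45 - 3 * A - 5 * C + 3 * E → (n : ℤ) ∣ 45 - 3 * A - 5 * C + 3 * E → ∀ T ∈ rg' 16 n,
    144 ∣ (95040 / n : ℕ) * (T - 1 - A + C + E) →
    1 + A * A + C * C + E * E + (T - 1 - A + C + E) * (T - 1 - A + C + E) + 2 * (T * T) ≤ n →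
    0 ≤ 8640 + 192 * (A * A) - 160 * (C * C) - 72 * (E * E) + 60 * ((T - 1 - A + C + E) * (T - 1 - A + C + E)) - 540 * (T * T) →
    (n * n : ℤ) ∣ 8640 + 192 * (A * A) - 160 * (C * C) - 72 * (E * E) + 60 * ((T - 1 - A + C + E) * (T - 1 - A + C + E)) -
      540 * (T * T) → (n, A, C, E, T) ∈ LL := by
  decide +kernel

variable {G : Type*} [Group G] [Finite G]

theorem nle' (S : Finset (IrrCharacter G)) (g : G) : ∑ χ ∈ S, ‖χ.1 g‖ ^ 2 ≤ cc g :=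
  sum_sq g ▸ Finset.sum_le_sum_of_subset_of_nonneg (Finset.subset_univ S) fun χ _ _ => sq_nonneg ‖χ.1 g‖

theorem cc_dvd_pow (g : G) (m : ℕ) : cc g ∣ cc (g ^ m) :=
  card_dvd_of_le fun _ hx => Invol.mem_cent.2 ((Invol.mem_cent.1 hx).pow_right m)

theorem two_reg {g : G} {k : ℕ} (hg : g ^ 2 ^ k = 1) {p : ℕ} (hp : p.Prime) (h2 : p ≠ 2) : ¬ p ∣ orderOf g := fun e =>
  h2 ((Nat.prime_dvd_prime_iff_eq hp Nat.prime_two).1 (hp.dvd_of_dvd_pow (e.trans (orderOf_dvd_of_pow_eq_one hg))))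

namespace Tab

variable [IsSimpleGroup G] {a c e f θ η : IrrCharacter G} {z : G} (h : Tab a c e f θ η z) (hG : Nat.card G = 95040)
include h

theorem sum7 {M : Type*} [AddCommMonoid M] (F : IrrCharacter G → M) [DecidableEq (IrrCharacter G)] :
    ∑ χ ∈ {principalIrr G, a, c, e, f, θ, η}, F χ = F (principalIrr G) + (F a + (F c + (F e + (F f + (F θ + F η))))) := by
  have d1 := deg_principal (G := G)
  have ne : ∀ {χ φ : IrrCharacter G} {m n : ℕ}, charDegree χ.1 = m → charDegree φ.1 = n → m ≠ n → χ ≠ φ :=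
    fun e e' h e'' => h (by rw [← e, e'', e'])
  rw [Finset.sum_insert (by simp [ne d1 h.da, ne d1 h.dc, ne d1 h.de, ne d1 h.df, ne d1 h.dθ, ne d1 h.dη]),
    Finset.sum_insert (by simp [ne h.da h.dc, ne h.da h.de, ne h.da h.df, ne h.da h.dθ, ne h.da h.dη]),
    Finset.sum_insert (by simp [ne h.dc h.de, ne h.dc h.df, ne h.dc h.dθ, ne h.dc h.dη]),
    Finset.sum_insert (by simp [ne h.de h.df, ne h.de h.dθ, ne h.de h.dη]),
    Finset.sum_insert (by simp [ne h.df h.dθ, ne h.df h.dη]), Finset.sum_pair h.ne]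

theorem θz : θ.1 z = 0 := by
  rw [(h.reg z (by rw [h.z2]; norm_num)).2, h.az, h.cz', h.ez, h.fz]; norm_num

include hG

theorem col {g : G} (h1 : g ≠ 1) (h11 : ¬ 11 ∣ orderOf g) : ∃ A C E T : ℤ, a.1 g = A ∧ c.1 g = C ∧ e.1 g = E ∧ θ.1 g = T ∧
    (cc g, A, C, E, T) ∈ LL := by
  classical
  obtain ⟨A, C, E, F, hA, hC, hE, hF⟩ := h.int g
  obtain ⟨e1, e2⟩ := h.reg g h11
  obtain ⟨T, rfl⟩ : ∃ T, F = T - 1 - A + C + E := ⟨F + 1 + A - C - E, by ring⟩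
  have hT : θ.1 g = T := by rw [e2, hA, hC, hE, hF]; push_cast; ring
  refine ⟨A, C, E, T, hA, hC, hE, hT, ?_⟩
  have n1 : ∀ {χ : IrrCharacter G} {d : ℕ}, charDegree χ.1 = d → d ≠ 1 → χ ≠ principalIrr G := fun e e' e'' =>
    e' (by rw [← e, e'', deg_principal])
  have r1 := nle' {principalIrr G, a, c, e, f, θ, η} g
  rw [h.sum7, e1, hA, hC, hE, hF, hT, show (principalIrr G).1 g = 1 from rfl] at r1
  simp only [Complex.norm_intCast, sq_abs, norm_one] at r1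
  have r2 : 1 + A * A + C * C + E * E + (T - 1 - A + C + E) * (T - 1 - A + C + E) + 2 * (T * T) ≤ cc g := by
    have : ((1 + A * A + C * C + E * E + (T - 1 - A + C + E) * (T - 1 - A + C + E) + 2 * (T * T) : ℤ) : ℝ) ≤ cc g := by
      push_cast at r1 ⊢; linarith
    exact_mod_cast this
  have c1 := cc_dvd' hG h1 h11
  have c2 : IsCoprime (cc g : ℤ) 11 :=
    Nat.isCoprime_iff_coprime.2 ((Nat.Prime.coprime_iff_not_dvd (by norm_num)).2 (not_dvd_cc hG h1 h11)).symm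
  have c3 : (cc g * ix g : ℂ) = 95040 := by exact_mod_cast congrArg (Nat.cast : ℕ → ℂ) ((cc_mul_ix g).trans hG)
  obtain ⟨n, r3, -⟩ := h.fr g z h11 (by rw [h.z2]; norm_num)
  obtain ⟨m, r4, -⟩ := h.fr g g h11 h11
  rw [← ix_eq hG z, h.cz, h.az, h.cz', h.ez, h.fz, h.θz, hA, hC, hE] at r3
  rw [hA, hC, hE, hF, hT] at r4
  have r5 : (cc g * n : ℤ) = 11 * (45 - 3 * A - 5 * C + 3 * E) := by
    have : ((cc g * n : ℤ) : ℂ) = (11 * (45 - 3 * A - 5 * C + 3 * E) : ℤ) := by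
      push_cast at r3 ⊢
      linear_combination (cc g / 95040) * r3 + (11 * (45 - 3 * A - 5 * C + 3 * E) / 95040) * c3
    exact_mod_cast this
  have r6 : (cc g * cc g * m : ℤ) = 11 * (8640 + 192 * (A * A) - 160 * (C * C) - 72 * (E * E) +
      60 * ((T - 1 - A + C + E) * (T - 1 - A + C + E)) - 540 * (T * T)) := by
    have : ((cc g * cc g * m : ℤ) : ℂ) = (11 * (8640 + 192 * (A * A) - 160 * (C * C) - 72 * (E * E) +
        60 * ((T - 1 - A + C + E) * (T - 1 - A + C + E)) - 540 * (T * T)) : ℤ) := by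
      push_cast at r4 ⊢
      linear_combination (cc g * cc g / 95040) * r4 + ((cc g * ix g + 95040) * (8640 + 192 * (A * A) - 160 * (C * C) -
        72 * (E * E) + 60 * ((T - 1 - A + C + E) * (T - 1 - A + C + E)) - 540 * (T * T)) / (95040 * 8640)) * c3
    exact_mod_cast this
  have := mul_self_nonneg A; have := mul_self_nonneg C; have := mul_self_nonneg E; have := mul_self_nonneg T
  have := mul_self_nonneg (T - 1 - A + C + E)
  have rg : ∀ {χ : IrrCharacter G} {d : ℕ} {v : ℤ}, charDegree χ.1 = d → d ≠ 1 → χ.1 g = v → v * v < cc g →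
      v ∈ rg' d (cc g) := fun e e' hv e'' => mem_rg' e'' (e ▸ val_lt (ncomm hG) (n1 e e') h1 hv)
    (by rw [ix_eq hG]; exact e ▸ omega_dvd _ hv)
  refine search3 _ (List.mem_filter.2 ⟨List.mem_range.2 (Nat.lt_succ_of_le (Nat.le_of_dvd (by norm_num) c1)), by simp [c1]⟩)
    _ (rg h.da (by norm_num) hA (by omega)) _ (rg h.dc (by norm_num) hC (by omega)) _ (rg h.de (by norm_num) hE (by omega))
    (by have : (0 : ℤ) ≤ cc g * n := by positivity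
        omega) (c2.dvd_of_dvd_mul_left ⟨n, r5.symm⟩) _ (rg h.dθ (by norm_num) hT (by omega))
    (by rw [ix_eq hG]; exact_mod_cast h.df ▸ omega_dvd _ hF) r2
    (by have : (0 : ℤ) ≤ cc g * cc g * m := by positivity
        omega) ((c2.mul_left c2).dvd_of_dvd_mul_left ⟨m, r6.symm⟩)

theorem not1440 {g : G} {k : ℕ} (hg : g ^ 2 ^ k = 1) (h1 : g ≠ 1) : cc g ≠ 1440 := fun e => by
  have := Fact.mk Nat.prime_five
  obtain ⟨x, hx⟩ := exists_prime_orderOf_dvd_card' (G := centralizer {g}) 5 (by change 5 ∣ cc g; rw [e]; norm_num)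
  rw [← orderOf_coe] at hx
  have xg := Invol.mem_cent.1 x.2
  have h2 := xg.orderOf_mul_eq_mul_orderOf_of_coprime
    (hx ▸ (Nat.Prime.coprime_iff_not_dvd Nat.prime_five).2 (two_reg hg Nat.prime_five (by norm_num)))
  rw [hx] at h2
  have h3 := two_reg hg (p := 11) (by norm_num) (by norm_num)
  obtain ⟨A, C, E, T, -, hC, -, hT, h4⟩ := h.col hG h1 h3
  obtain ⟨A', C', E', T', hA', hC', hE', hT', h5⟩ := h.col hG (g := x * g) (fun e => by
    rw [e, orderOf_one] at h2; omega) (by rw [h2]; omega)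
  have x5 : (x : G) ^ 5 ^ 1 = 1 := by rw [pow_one, ← hx, pow_orderOf_eq_one]
  have h6 := cong Nat.prime_five c.2.isCharacter xg x5 hC' hC
  have h7 := cong Nat.prime_five θ.2.isCharacter xg x5 hT' hT
  rw [apply_eq_zero_of_dvd Nat.prime_five (by rw [hG]; norm_num) (by rw [h.da]; norm_num) ⟨_, h2⟩] at hA'
  rw [apply_eq_zero_of_dvd Nat.prime_five (by rw [hG]; norm_num) (by rw [h.de]; norm_num) ⟨_, h2⟩] at hE'
  exact (by decide +kernel : ∀ r ∈ LL, r.1 = 1440 → ∀ s ∈ LL, 0 = s.2.1 → 0 = s.2.2.2.1 → (5 : ℤ) ∣ s.2.2.1 - r.2.2.1 →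
    ¬ (5 : ℤ) ∣ s.2.2.2.2 - r.2.2.2.2) _ h4 e _ h5 (by exact_mod_cast hA') (by exact_mod_cast hE') h6 h7

theorem inv240 {g : G} {k : ℕ} (hg : g ^ 2 ^ k = 1) (h1 : 240 ∣ cc g) : g * g = 1 := by
  by_contra hn
  obtain ⟨j, -, hj⟩ := (Nat.dvd_prime_pow Nat.prime_two).1 (orderOf_dvd_of_pow_eq_one hg)
  obtain ⟨i, rfl⟩ : ∃ i, j = i + 2 := by
    rcases j with _ | _ | j
    · exact absurd (by rw [orderOf_eq_one_iff.1 hj, mul_one]) hn
    · exact absurd (mul_self_of_two hj) hn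
    · exact ⟨j, rfl⟩
  have h2 : orderOf (g ^ 2 ^ i) = 4 := by
    rw [orderOf_pow_of_dvd (by positivity) (hj ▸ pow_dvd_pow 2 (by omega)), hj, Nat.pow_div (by omega) (by norm_num),
      show i + 2 - i = 2 by omega]
  have h3 := h1.trans (cc_dvd_pow g (2 ^ i))
  generalize g ^ 2 ^ i = u at h2 h3
  have h4 : u ^ 2 ^ 2 = 1 := by rw [show 2 ^ 2 = 4 from rfl, ← h2, pow_orderOf_eq_one]
  have h5 : (u ^ 2) ^ 2 ^ 1 = 1 := by rw [← pow_mul]; exact h4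
  have h6 : u ^ 2 ≠ 1 := pow_ne_one_of_lt_orderOf (by norm_num) (by omega)
  have h7 : u ≠ 1 := fun e => h6 (by rw [e, one_pow])
  obtain ⟨A, C, E, T, -, -, -, hT, h8⟩ := h.col hG h7 (two_reg h4 (by norm_num) (by norm_num))
  obtain ⟨A', C', E', T', -, -, -, hT', h9⟩ := h.col hG h6 (two_reg h5 (by norm_num) (by norm_num))
  have := ord4 (perf hG) θ h4 hT hT'
  rw [h.dθ] at this
  exact (by decide +kernel : ∀ r ∈ LL, 240 ∣ r.1 → r.1 ≠ 1440 → ∀ s ∈ LL, 240 ∣ s.1 → s.1 ≠ 1440 →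
    ¬ (8 : ℤ) ∣ (16 : ℕ) + s.2.2.2.2 - 2 * r.2.2.2.2) _ h8 h3 (h.not1440 hG h4 h7) _ h9 (h3.trans (cc_dvd_pow u 2))
    (h.not1440 hG h5 h6) this

theorem θ_ne {g : G} {k : ℕ} (hg : g ^ 2 ^ k = 1) (h1 : g ≠ 1) (h16 : 16 ∣ cc g) (h0 : θ.1 g ≠ 0) : cc g = 240 := by
  obtain ⟨A, C, E, T, -, -, -, hT, h8⟩ := h.col hG h1 (two_reg hg (by norm_num) (by norm_num))
  exact (by decide +kernel : ∀ r ∈ LL, 16 ∣ r.1 → r.1 ≠ 1440 → r.2.2.2.2 ≠ 0 → r.1 = 240) _ h8 h16 (h.not1440 hG hg h1)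
    fun e => h0 (by rw [hT, show T = 0 from e, Int.cast_zero])

theorem fixk {k g : G} {j : ℕ} (hk : orderOf k = 3) (kz : Commute k z) (hg : g ^ 2 ^ j = 1) (gz : Commute g z)
    (gk : Commute g k) : g ∈ zpowers z := by
  have h6 : orderOf (k * z) = 6 := by
    rw [kz.orderOf_mul_eq_mul_orderOf_of_coprime (by rw [hk, h.z2]; norm_num), hk, h.z2]
  have k3 : k ^ 3 ^ 1 = 1 := by rw [pow_one, ← hk, pow_orderOf_eq_one]
  have zz : z ^ 2 = 1 := h.z2 ▸ pow_orderOf_eq_one z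
  have c0 : ∀ u : G, 3 ∣ orderOf u → c.1 u = 0 := fun u hu =>
    apply_eq_zero_of_defectZero Nat.prime_three (by rw [h.dc, hG]; decide +kernel) hu
  obtain ⟨A, C, E, T, hA, hC, hE, hT, h8⟩ := h.col hG (g := k * z) (fun e => by rw [e, orderOf_one] at h6; omega)
    (by rw [h6]; norm_num)
  obtain ⟨A', C', E', T', -, hC', -, hT', h9⟩ := h.col hG (g := k) (fun e => by rw [e, orderOf_one] at hk; omega)
    (by rw [hk]; norm_num)
  rw [c0 _ (by rw [h6]; norm_num)] at hC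
  rw [c0 _ hk.symm.dvd] at hC'
  have h1 := cong Nat.prime_three a.2.isCharacter kz k3 hA (b := -3) (by rw [h.az]; simp)
  have h2 := cong Nat.prime_three e.2.isCharacter kz k3 hE (b := -8) (by rw [h.ez]; simp)
  have h3 := cong Nat.prime_three θ.2.isCharacter kz k3 hT (b := 0) (by rw [h.θz]; simp)
  have h4 := cong1 Nat.prime_three θ k3 hT'
  have h5 := cc_dvd_pow (k * z) 4
  rw [kz.mul_pow, show 4 = 2 * 2 from rfl, pow_mul z, zz, one_pow, mul_one, show 2 * 2 = 3 ^ 1 + 1 from rfl, pow_succ, k3,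
    one_mul] at h5
  rw [h.dθ] at h4
  have h7 : cc (k * z) = 6 := ((by decide +kernel : ∀ r ∈ LL, 6 ∣ r.1 → 0 = r.2.2.1 → (3 : ℤ) ∣ r.2.1 - -3 →
    (3 : ℤ) ∣ r.2.2.2.1 - -8 → (3 : ℤ) ∣ r.2.2.2.2 - 0 → r.1 = 6 ∨ r.1 = 48) _ h8 (h6 ▸ orderOf_dvd_cc _)
    (by exact_mod_cast hC) h1 h2 h3).resolve_right fun e => (by decide +kernel : ∀ s ∈ LL, 0 = s.2.2.1 →
    (3 : ℤ) ∣ s.2.2.2.2 - (16 : ℕ) → ¬ 48 ∣ s.1) _ h9 (by exact_mod_cast hC') h4 ((show cc (k * z) = 48 from e) ▸ h5)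
  obtain ⟨i, rfl⟩ := (eq_of_le_of_card_ge (zpowers_le.2 (Invol.mem_cent.2 (Commute.refl (k * z))))
    (by rw [Nat.card_zpowers, h6]; exact h7.le)).ge (Invol.mem_cent.2 (gk.mul_right gz))
  have h10 : (k ^ i) ^ 2 ^ (j + 1) = 1 := by
    beta_reduce at hg
    have e1 : (z ^ i) ^ 2 ^ (j + 1) = 1 := by
      rw [← zpow_natCast, ← zpow_mul, mul_comm, zpow_mul, zpow_natCast, pow_succ', pow_mul, zz, one_pow, one_zpow]
    have e2 := congrArg (· ^ 2) hg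
    simp only [← pow_mul, ← pow_succ, one_pow] at e2
    rwa [kz.mul_zpow, (kz.zpow_zpow i i).mul_pow, e1, mul_one] at e2
  have h11 : k ^ i = 1 := by
    have e1 : (k ^ i) ^ 3 = 1 := by
      rw [← zpow_natCast, ← zpow_mul, mul_comm, zpow_mul, zpow_natCast, ← pow_one 3, k3, one_zpow]
    exact orderOf_eq_one_iff.1 (Nat.eq_one_of_dvd_coprimes (Nat.Coprime.pow_left (j + 1) (by norm_num : Nat.Coprime 2 3))
      (orderOf_dvd_of_pow_eq_one h10) (orderOf_dvd_of_pow_eq_one e1))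
  beta_reduce
  rw [kz.mul_zpow, h11, one_mul]
  exact zpow_mem (mem_zpowers z) i

theorem e_zero {g : G} (h1 : g ≠ 1) (hg : g ^ 2 = 1 ∨ g ^ 2 = z) (hn : ¬ IsConj z g) : e.1 g = 0 := by
  classical
  have h4 : g ^ 2 ^ 2 = 1 := by
    rw [show 2 ^ 2 = 2 * 2 from rfl, pow_mul]
    rcases hg with e | e <;> rw [e]
    exacts [one_pow 2, h.z2 ▸ pow_orderOf_eq_one z]
  obtain ⟨A, C, E, T, hA, hC, hE, -, h8⟩ := h.col hG h1 (two_reg h4 (by norm_num) (by norm_num))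
  have h2 : (4 : ℤ) ∣ A - 1 ∧ (4 : ℤ) ∣ E := by
    rcases hg with e | e
    · have e1 := four (perf hG) _ e hA
      have e2 := four (perf hG) _ e hE
      rw [h.da] at e1; rw [h.de] at e2
      omega
    · have e1 := ord4 (perf hG) _ h4 hA (b := -3) (by rw [e, h.az]; simp)
      have e2 := ord4 (perf hG) _ h4 hE (b := -8) (by rw [e, h.ez]; simp)
      rw [h.da] at e1; rw [h.de] at e2
      omega
  obtain e1 | ⟨e1, e2, e3, e4⟩ := (by decide +kernel : ∀ r ∈ LL, (4 : ℤ) ∣ r.2.1 - 1 → (4 : ℤ) ∣ r.2.2.2.1 →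
    r.2.2.2.1 = 0 ∨ (r.1 = 192 ∧ r.2.1 = -3 ∧ r.2.2.1 = 6 ∧ r.2.2.2.1 = -8)) _ h8 h2.1 h2.2
  · rw [hE, show E = 0 from e1, Int.cast_zero]
  · have := nle2 {principalIrr G, a, c, e, f, θ, η} hn
    rw [h.sum7, hA, hC, hE, h.az, h.cz', h.ez, h.cz, show cc g = 192 from e1, show A = -3 from e2, show C = 6 from e3,
      show E = -8 from e4, show (principalIrr G).1 g = 1 from rfl, show (principalIrr G).1 z = 1 from rfl] at this
    norm_num at this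
    nlinarith [sq_nonneg ‖f.1 z + f.1 g‖, sq_nonneg ‖θ.1 z + θ.1 g‖, sq_nonneg ‖η.1 z + η.1 g‖]

end Tab

end Cfsg.Lib.Coprime.M12
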