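import Mathlib

/-!
# Fixed-point-free elements of order 3 (B. H. Neumann) and 2-Engel groups (Levi)
-/

set_option autoImplicit false
set_option linter.unusedSectionVars false

namespace Cfsg.Lib.Coprime

open Subgroup
open scoped commutatorElement

variable {G : Type*} [Group G]

theorem ring_engel {R : Type*} [Ring R] {x y : R} (hx : x * x = 0) (hy : y * y = 0)
    (h : (x + y + x * y) * (x + y + x * y) = 0) :
    x * y + y * x = 0 ∧ (1 + x) * (1 + y) * (1 - x) * (1 - y) - 1 = x * y + x * y := by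
  have hx' : ∀ z, x * (x * z) = 0 := fun z => by rw [← mul_assoc, hx, zero_mul]
  have hy' : ∀ z, y * (y * z) = 0 := fun z => by rw [← mul_assoc, hy, zero_mul]
  simp only [mul_add, add_mul, mul_assoc, hx, hy, hx', hy', mul_zero, add_zero, zero_add] at h
  have h1 := congrArg (x * ·) h
  simp only [mul_add, hx', mul_zero, add_zero, zero_add] at h1
  have h2 := congrArg (· * y) h1
  simp only [add_mul, mul_assoc, hy, mul_zero, add_zero, zero_mul] at h2
  rw [h2, add_zero] at h1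
  have h3 := congrArg (· * y) h
  simp only [add_mul, mul_assoc, hy, h2, mul_zero, add_zero, zero_mul, zero_add] at h3
  rw [h1, h2, h3] at h
  simp only [add_zero] at h
  have h4 : y * x = -(x * y) := eq_neg_of_add_eq_zero_left h
  refine ⟨by rw [h4, add_neg_cancel], ?_⟩
  simp only [mul_add, add_mul, mul_sub, sub_mul, mul_assoc, hx, hy, hx', hy', h1, h2, h3, mul_zero, mul_one, one_mul,
    zero_mul]
  rw [h4]
  abel

/-- Levi: in a 2-Engel group `⁅g, ⁅h, a⁆⁆³ = 1`. -/
theorem levi_cube (H : ∀ x g : G, Commute x (g * x * g⁻¹)) (g h a : G) : ⁅g, ⁅h, a⁆⁆ ^ 3 = 1 := by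
  have key : ∀ g h a : G, ⁅g, ⁅h, a⁆⁆ * ⁅h, ⁅g, a⁆⁆ = 1 ∧ ⁅⁅g, h⁆, a⁆ = ⁅g, ⁅h, a⁆⁆ * ⁅g, ⁅h, a⁆⁆ ∧
      ⁅g, ⁅a, h⁆⁆ = ⁅g, ⁅h, a⁆⁆⁻¹ := fun g h a => by
    let A := normalClosure ({a} : Set G)
    have hA : IsMulCommutative A := isMulCommutative_closure (by
      intro a ha b hb
      obtain ⟨_, rfl, h1⟩ := Group.mem_conjugatesOfSet_iff.1 ha
      obtain ⟨_, rfl, h2⟩ := Group.mem_conjugatesOfSet_iff.1 hb
      obtain ⟨g, rfl⟩ := isConj_iff.1 (h1.symm.trans h2)
      exact H a g)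
    letI : CommGroup A := { (inferInstance : Group A) with mul_comm := hA.is_comm.comm }
    let ρ : G →* AddMonoid.End (Additive A) :=
      { toFun := fun k => MonoidHom.toAdditive (MulAut.conjNormal k).toMonoidHom
        map_one' := by ext; simp; rfl
        map_mul' := fun _ _ => by ext; simp; rfl }
    have hD : ∀ k (b : Additive A), (((ρ k - 1) b).toMul : G) = ⁅k, (b.toMul : G)⁆ := fun k b => by
      change ((MulAut.conjNormal k b.toMul / b.toMul : A) : G) = _
      rw [div_eq_mul_inv, coe_mul, MulAut.conjNormal_apply, commutatorElement_def, coe_inv]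
    have h0 : ∀ k, (ρ k - 1) * (ρ k - 1) = 0 := fun k => by
      ext b
      change (((ρ k - 1) ((ρ k - 1) b)).toMul : G) = 1
      rw [hD, hD, commutatorElement_eq_one_iff_commute, commutatorElement_def, mul_assoc, mul_assoc]
      exact (Commute.refl k).mul_right (by simpa [mul_assoc] using (H k b.toMul).inv_right)
    have hi : ∀ k, ρ k⁻¹ = 1 - (ρ k - 1) := fun k => by
      have h1 : ρ k * (1 - (ρ k - 1)) = 1 := by
        have := h0 k
        calc _ = 1 - (ρ k - 1) * (ρ k - 1) := by simp only [mul_sub, sub_mul, mul_one, one_mul]; abel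
          _ = 1 := by rw [this, sub_zero]
      calc _ = ρ k⁻¹ * (ρ k * (1 - (ρ k - 1))) := by rw [h1, mul_one]
        _ = _ := by rw [← mul_assoc, ← map_mul, inv_mul_cancel, map_one, one_mul]
    obtain ⟨h1, h2⟩ := ring_engel (h0 g) (h0 h) (by
      have := h0 (g * h)
      rw [map_mul] at this
      convert this using 2 <;> (simp only [mul_sub, sub_mul, mul_one, one_mul]; abel))
    let b : Additive A := Additive.ofMul ⟨a, subset_normalClosure rfl⟩
    have e : ∀ k l, ((((ρ k - 1) * (ρ l - 1)) b).toMul : G) = ⁅k, ⁅l, a⁆⁆ := fun k l => by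
      change (((ρ k - 1) ((ρ l - 1) b)).toMul : G) = _
      rw [hD, hD]; rfl
    refine ⟨?_, ?_, ?_⟩
    · rw [← e, ← e]
      exact congrArg (fun f : AddMonoid.End (Additive A) => ((f b).toMul : G)) h1
    · rw [← e]
      refine Eq.trans ?_ (congrArg (fun f : AddMonoid.End (Additive A) => ((f b).toMul : G)) h2)
      rw [← hi, ← hi, add_sub_cancel, add_sub_cancel, ← map_mul, ← map_mul, ← map_mul]
      exact (hD _ b).symm
    · rw [← e, ← commutatorElement_inv h a]
      have h3 := hD g (-(ρ h - 1) b)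
      rw [map_neg, toMul_neg, toMul_neg, coe_inv, coe_inv, hD h] at h3
      exact h3.symm
  have h1 := (key g h a).2.1
  rw [← commutatorElement_inv a, eq_inv_of_mul_eq_one_left (key a g h).1, (key g h a).2.2, inv_inv] at h1
  rw [pow_three, ← h1, mul_inv_cancel]

section
variable [Finite G] {S : Subgroup G} {y : G} (hn : ∀ x ∈ S, y * x * y⁻¹ ∈ S) (hf : ∀ x ∈ S, Commute y x → x = 1)
include hn hf

/-- every element of the coset `S y` is `S`-conjugate to `y`. -/
theorem exists_conj_of_fpf {x : G} (hx : x ∈ S) : ∃ c ∈ S, c * y * c⁻¹ = x * y := by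
  let f : S → S := fun c => ⟨c * (y * (c : G)⁻¹ * y⁻¹), mul_mem c.2 (hn _ (inv_mem c.2))⟩
  have : Function.Injective f := fun c d e => by
    have e1 : (c : G) * (y * (c : G)⁻¹ * y⁻¹) = d * (y * (d : G)⁻¹ * y⁻¹) := congrArg Subtype.val e
    have := hf ((d : G)⁻¹ * c) (mul_mem (inv_mem d.2) c.2) (by
      change y * _ = _ * y
      calc _ = (d : G)⁻¹ * (d * (y * (d : G)⁻¹ * y⁻¹)) * y * c := by group
        _ = _ := by rw [← e1]; group)
    exact Subtype.ext (inv_mul_eq_one.1 this).symm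
  obtain ⟨c, hc⟩ := Finite.injective_iff_surjective.1 this ⟨x, hx⟩
  refine ⟨c, c.2, ?_⟩
  rw [← show (c : G) * (y * (c : G)⁻¹ * y⁻¹) = x from congrArg Subtype.val hc]; group

theorem norm_three (h3 : y ^ 3 = 1) {x : G} (hx : x ∈ S) : x * (y * x * y⁻¹) * (y⁻¹ * x * y) = 1 := by
  obtain ⟨c, -, hc⟩ := exists_conj_of_fpf hn hf hx
  have h1 : (x * y) ^ 3 = 1 := by rw [← hc, conj_pow, h3]; group
  have h2 : y⁻¹ * y⁻¹ = y := by
    calc _ = y⁻¹ * y⁻¹ * y ^ 3 := by rw [h3, mul_one]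
      _ = y := by group
  calc _ = x * y * x * (y⁻¹ * y⁻¹) * x * y := by group
    _ = 1 := by rw [h2, ← h1, pow_three]; group

theorem commute_conj_of_fpf (h3 : y ^ 3 = 1) {x : G} (hx : x ∈ S) : Commute x (y * x * y⁻¹) := by
  have h1 := norm_three hn hf h3 hx
  have h2 := norm_three hn hf h3 (inv_mem hx)
  have h4 : (y * x * y⁻¹ * x)⁻¹ * (y⁻¹ * x * y)⁻¹ = 1 := by rw [← h2]; group
  rw [mul_inv_eq_one, inv_eq_iff_mul_eq_one] at h4
  exact mul_right_cancel (h1.trans h4.symm)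

/-- Neumann: a group with a fixed-point-free automorphism of order 3 is 2-Engel. -/
theorem engel_of_fpf (h3 : y ^ 3 = 1) {x g : G} (hx : x ∈ S) (hg : g ∈ S) : Commute x (g * x * g⁻¹) := by
  have key : ∀ y : G, (∀ x ∈ S, y * x * y⁻¹ ∈ S) → (∀ x ∈ S, Commute y x → x = 1) → y ^ 3 = 1 →
      Commute x (g * (y * x * y⁻¹) * g⁻¹) := fun y hn hf h3 => by
    obtain ⟨c, hc, e⟩ := exists_conj_of_fpf hn hf hg
    have := commute_conj_of_fpf (S := S) (y := g * y) (fun z hz => by
      simpa [mul_assoc] using mul_mem (mul_mem hg (hn z hz)) (inv_mem hg)) (fun z hz h => by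
      have := hf (c⁻¹ * z * c) (mul_mem (mul_mem (inv_mem hc) hz) hc) (by
        have h1 := h.map (MulAut.conj c⁻¹)
        rw [← e] at h1
        simpa [mul_assoc] using h1)
      calc z = c * (c⁻¹ * z * c) * c⁻¹ := by group
        _ = 1 := by rw [this]; group) (by rw [← e, conj_pow, h3]; group) hx
    simpa [mul_assoc] using this
  have h2 : y⁻¹ = y * y := by rw [inv_eq_iff_mul_eq_one, ← h3, pow_three]
  have h4 := key y hn hf h3
  have h5 := key y⁻¹ (fun z hz => by
    have := hn _ (hn z hz)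
    convert this using 1
    rw [show y⁻¹ * z * y⁻¹⁻¹ = (y * y) * z * (y * y)⁻¹ by rw [← h2]]; group) (fun z hz h => hf z hz (by simpa using h.inv_left)) (by rw [inv_pow, h3, inv_one])
  have h6 : x = (y * x * y⁻¹ * (y⁻¹ * x * y⁻¹⁻¹))⁻¹ :=
    eq_inv_of_mul_eq_one_left (by rw [inv_inv, ← mul_assoc, norm_three hn hf h3 hx])
  have h7 := (h4.mul_right h5).inv_right
  convert h7 using 1
  nth_rw 1 [h6]; group

/-- Neumann: class at most two. -/
theorem class_two_of_fpf (h3 : y ^ 3 = 1) (hS : ∀ x ∈ S, x ^ 3 = 1 → x = 1) {a b c : G} (ha : a ∈ S) (hb : b ∈ S)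
    (hc : c ∈ S) : Commute a ⁅b, c⁆ := by
  have := levi_cube (G := S) (fun x g => Subtype.ext (engel_of_fpf hn hf h3 x.2 g.2)) ⟨a, ha⟩ ⟨b, hb⟩ ⟨c, hc⟩
  exact commutatorElement_eq_one_iff_commute.1 (hS _ (⁅(⟨a, ha⟩ : S), ⁅(⟨b, hb⟩ : S), (⟨c, hc⟩ : S)⁆⁆).2
    (congrArg Subtype.val this))

end

end Cfsg.Lib.Coprime
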