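import Cfsg.Agent.Lib.Coprime.M12d
import Cfsg.Agent.Lib.Coprime.Neumann
import Cfsg.Agent.Lib.PGrp.Extra
import Cfsg.Agent.Lib.PGrp.Critical
import Cfsg.Agent.S3344

/-!
# A simple group of order `95040` is `M₁₂`
-/

set_option autoImplicit false
set_option maxRecDepth 100000
set_option linter.unusedSectionVars false

namespace Cfsg.Lib.Coprime.M12

open Cfsg Subgroup Cfsg.Lib.Small Cfsg.Lib.Char Cfsg.Lib.Clifford Cfsg.Lib.Amalg Cfsg.Lib.Exc Cfsg.Lib.Exc.M11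
  Cfsg.Lib.Invol Cfsg.Lib.PF
open scoped ComplexConjugate commutatorElement

variable {G : Type*} [Group G] [Finite G]

theorem mod3 {k : G} (h3 : k ^ 3 = 1) {R : Subgroup G} (hn : ∀ x ∈ R, k * x * k⁻¹ ∈ R) :
    Nat.card R % 3 = Nat.card (R ⊓ centralizer (zpowers k : Set G) : Subgroup G) % 3 :=
  haveI := Fact.mk Nat.prime_three
  PGrp.card_modEq_card_inf_centralizer (Core.isPGroup_zpowers_of_pow_eq_one (k := 1) h3)
    (zpowers_le.2 (Core.mem_normalizer_of_conj_mem hn))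

theorem two_cases {z x : G} (h : z * z = 1) (hx : x ∈ zpowers z) : x = 1 ∨ x = z := by
  obtain ⟨i, rfl⟩ := hx
  have h2 : z ^ (2 : ℤ) = 1 := by rw [zpow_two, h]
  beta_reduce
  rcases Int.even_or_odd' i with ⟨j, rfl | rfl⟩
  · exact Or.inl (by rw [zpow_mul, h2, one_zpow])
  · exact Or.inr (by rw [zpow_add_one, zpow_mul, h2, one_zpow, one_mul])

theorem ab16 {S : Subgroup G} {y : G} (hn : ∀ x ∈ S, y * x * y⁻¹ ∈ S) (hf : ∀ x ∈ S, Commute y x → x = 1)
    (h3 : y ^ 3 = 1) (hS : Nat.card S = 16) : ∀ a ∈ S, ∀ b ∈ S, Commute a b := by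
  by_cases hsq : ∀ a ∈ S, a * a = 1
  · intro a ha b hb
    have e1 := hsq _ (mul_mem ha hb)
    rw [commute_iff_eq, ← inv_eq_of_mul_eq_one_right e1, mul_inv_rev, inv_eq_of_mul_eq_one_right (hsq a ha),
      inv_eq_of_mul_eq_one_right (hsq b hb)]
  push Not at hsq
  obtain ⟨a, ha, h1⟩ := hsq
  let A := closure ({a, y * a * y⁻¹} : Set G)
  have a1 : a ∈ A := subset_closure (by simp)
  have a2 : y * a * y⁻¹ ∈ A := subset_closure (by simp)
  have hA : A ≤ S := (closure_le S).2 (by rintro _ (rfl | rfl); exacts [ha, hn _ ha])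
  have hc : IsMulCommutative A := isMulCommutative_closure (by
    have := (commute_conj_of_fpf hn hf h3 ha).eq
    rintro u (rfl | rfl) v (rfl | rfl)
    exacts [rfl, this, this.symm, rfl])
  have h4 : ∀ x ∈ A, y * x * y⁻¹ ∈ A := fun x hx => by
    refine (closure_le (A.comap (MulAut.conj y).toMonoidHom)).2 ?_ hx
    rintro _ (rfl | rfl)
    · exact a2
    · change y * (y * a * y⁻¹) * y⁻¹ ∈ A
      have e1 := eq_inv_of_mul_eq_one_right (norm_three hn hf h3 ha)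
      have e2 : y * y = y⁻¹ := eq_inv_of_mul_eq_one_left (by rw [← h3, pow_three'])
      rw [show y * (y * a * y⁻¹) * y⁻¹ = y * y * a * (y * y)⁻¹ by group, e2, inv_inv, e1]
      exact inv_mem (mul_mem a1 a2)
  have h5 := mod3 h3 h4
  rw [(eq_bot_iff_forall (A ⊓ centralizer (zpowers y : Set G))).2 fun x hx =>
    hf x (hA hx.1) (mem_centralizer_iff.1 hx.2 y (mem_zpowers y)), card_bot] at h5
  obtain e | e | e := (by decide : ∀ d ∈ Nat.divisors 16, d % 3 = 1 % 3 → d = 1 ∨ d = 4 ∨ d = 16) _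
    (Nat.mem_divisors.2 ⟨hS ▸ card_dvd_of_le hA, by norm_num⟩) h5
  · exact absurd (by rw [show a = 1 from mem_bot.1 (card_eq_one.1 e ▸ a1), mul_one]) h1
  · have e1 := e ▸ A.orderOf_dvd_natCard a1
    have e2 : orderOf a = 4 := (by decide : ∀ d ∈ Nat.divisors 4, ¬ d ∣ 2 → d = 4) _ (Nat.mem_divisors.2 ⟨e1, by norm_num⟩)
      fun e => h1 (by rw [← sq, orderOf_dvd_iff_pow_eq_one.1 e])
    obtain ⟨i, hi⟩ := (eq_of_le_of_card_ge (zpowers_le.2 a1) (by rw [Nat.card_zpowers, e, e2])).ge a2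
    have e3 : y * (a * a) * y⁻¹ ∈ zpowers (a * a) := ⟨i, by
      beta_reduce at hi ⊢
      rw [(Commute.refl a).mul_zpow, hi]; group⟩
    rcases two_cases (by rw [← sq, ← sq, ← pow_mul, ← orderOf_dvd_iff_pow_eq_one, e2]) e3 with e4 | e4
    · exact absurd (by simpa using e4) h1
    · exact absurd (hf _ (mul_mem ha ha) (mul_inv_eq_iff_eq_mul.1 e4)) h1
  · intro u hu v hv
    rw [← eq_of_le_of_card_ge hA (by rw [hS, e])] at hu hv
    exact congrArg Subtype.val (hc.is_comm.comm ⟨u, hu⟩ ⟨v, hv⟩)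

/-- a group of order `32` with an automorphism of order `3` centralizing only the central involution `z` -/
theorem quot32 {Q : Subgroup G} {z k : G} (hz : orderOf z = 2) (zQ : z ∈ Q) (hc : ∀ x ∈ Q, Commute x z) (kz : Commute k z)
    (h3 : k ^ 3 = 1) (hn : ∀ x ∈ Q, k * x * k⁻¹ ∈ Q) (hf : ∀ x ∈ Q, Commute x k → x ∈ zpowers z) (hQ : Nat.card Q = 32) :
    (∀ x ∈ Q, ∀ y ∈ Q, ⁅x, y⁆ ∈ zpowers z) ∧ ∀ x ∈ Q, x * (k * x * k⁻¹) * (k⁻¹ * x * k) ∈ zpowers z := by
  let L := centralizer ({z} : Set G)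
  have QL : Q ≤ L := fun x hx => Invol.mem_cent.2 (hc x hx)
  let Z := (zpowers z).subgroupOf L
  have : Z.Normal := ⟨fun x hx g => by
    obtain ⟨i, hi⟩ := mem_subgroupOf.1 hx
    refine mem_subgroupOf.2 ⟨i, ?_⟩
    beta_reduce at hi ⊢
    rw [coe_mul, coe_mul, coe_inv, ← hi, ((Invol.mem_cent.1 g.2).zpow_right i).eq, mul_inv_cancel_right]⟩
  let π := QuotientGroup.mk' Z
  have hπ : ∀ x : L, π x = 1 ↔ (x : G) ∈ zpowers z := fun x => QuotientGroup.eq_one_iff x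
  let k' : L := ⟨k, Invol.mem_cent.2 kz⟩
  have n1 : ∀ x ∈ (Q.subgroupOf L).map π, π k' * x * (π k')⁻¹ ∈ (Q.subgroupOf L).map π := by
    rintro _ ⟨x, hx, rfl⟩
    exact ⟨k' * x * k'⁻¹, hn _ hx, by simp⟩
  have n2 : ∀ x ∈ (Q.subgroupOf L).map π, Commute (π k') x → x = 1 := by
    rintro _ ⟨x, hx, rfl⟩ e
    have e1 := (hπ (k' * x * k'⁻¹ * x⁻¹)).1 (by simp only [map_mul, map_inv]; rw [e.eq]; group)
    refine (hπ x).2 (hf _ hx ?_)
    rcases two_cases (mul_self_of_two hz) e1 with e2 | e2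
    · exact (mul_inv_eq_iff_eq_mul.1 (mul_inv_eq_one.1 e2)).symm
    · have e3 : k * x * k⁻¹ = z * x := mul_inv_eq_iff_eq_mul.1 e2
      have e4 : Commute (k * k) x := by
        rw [commute_iff_eq, ← mul_inv_eq_iff_eq_mul, show k * k * x * (k * k)⁻¹ = k * (k * x * k⁻¹) * k⁻¹ by group, e3,
          ← mul_assoc, kz.eq, mul_assoc z, mul_assoc z, e3, ← mul_assoc, mul_self_of_two hz, one_mul]
      have e5 := e4.mul_left e4
      rw [← mul_assoc, ← pow_three', h3, one_mul] at e5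
      exact e5.symm
  have n3 : π k' ^ 3 = 1 := by rw [← map_pow, show k' ^ 3 = 1 from Subtype.ext h3, map_one]
  have n4 : Nat.card ((Q.subgroupOf L).map π) = 16 := by
    have e1 := Core.card_mul_relIndex (show Z ≤ Q.subgroupOf L from fun x hx => zpowers_le.2 zQ hx)
    rw [Nat.card_congr (subgroupOfEquivOfLe QL).toEquiv, Nat.card_congr (subgroupOfEquivOfLe
      ((zpowers_le.2 zQ).trans QL)).toEquiv, Nat.card_zpowers, hz, hQ] at e1
    rw [← relIndex_ker, QuotientGroup.ker_mk']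
    omega
  exact ⟨fun x hx y hy => (hπ ⁅(⟨x, QL hx⟩ : L), ⟨y, QL hy⟩⁆).1 (by
      rw [map_commutatorElement, commutatorElement_eq_one_iff_commute]
      exact ab16 n1 n2 n3 n4 _ ⟨_, hx, rfl⟩ _ ⟨_, hy, rfl⟩),
    fun x hx => (hπ (⟨x, QL hx⟩ * (k' * ⟨x, QL hx⟩ * k'⁻¹) * (k'⁻¹ * ⟨x, QL hx⟩ * k'))).1 (by
      simp only [map_mul, map_inv]; exact norm_three n1 n2 n3 ⟨_, hx, rfl⟩)⟩

namespace Tab

variable [IsSimpleGroup G] {a c e f θ η : IrrCharacter G} {z : G} (h : Tab a c e f θ η z) (hG : Nat.card G = 95040)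
include h hG

theorem cen {Q : Subgroup G} {k : G} (zQ : z ∈ Q) (hc : ∀ x ∈ Q, Commute x z) (kz : Commute k z)
    (hk : orderOf k = 3) (hn : ∀ x ∈ Q, k * x * k⁻¹ ∈ Q) (hQ : Nat.card Q = 32) :
    Q ⊓ centralizer (Q : Set G) = zpowers z := by
  classical
  have h3 : k ^ 3 = 1 := hk ▸ pow_orderOf_eq_one k
  have q5 : ∀ x ∈ Q, x ^ 2 ^ 5 = 1 := fun x hx => by
    rw [show 2 ^ 5 = 32 from rfl, ← hQ]; exact congrArg Subtype.val (pow_card_eq_one' (x := (⟨x, hx⟩ : Q)))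
  have hf : ∀ x ∈ Q, Commute x k → x ∈ zpowers z := fun x hx => h.fixk hG hk kz (q5 x hx) (hc x hx)
  have m3 : ∀ R : Subgroup G, R ≤ Q → z ∈ R → (∀ x ∈ R, k * x * k⁻¹ ∈ R) →
      Nat.card R = 2 ∨ Nat.card R = 8 ∨ Nat.card R = 32 := fun R e1 e2 e3 => by
    have e4 := mod3 h3 e3
    rw [show R ⊓ centralizer (zpowers k : Set G) = zpowers z from le_antisymm (fun x hx => hf x (e1 hx.1)
      (mem_centralizer_iff.1 hx.2 k (mem_zpowers k)).symm) (zpowers_le.2 ⟨e2, by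
        rintro _ ⟨i, rfl⟩; exact (kz.zpow_left i).eq⟩), Nat.card_zpowers, h.z2] at e4
    exact (by decide : ∀ d ∈ Nat.divisors 32, d % 3 = 2 % 3 → d = 2 ∨ d = 8 ∨ d = 32) _
      (Nat.mem_divisors.2 ⟨hQ ▸ card_dvd_of_le e1, by norm_num⟩) e4
  have hn' : ∀ x ∈ Q, k⁻¹ * x * k ∈ Q := fun x hx => by
    have e2 : k * k = k⁻¹ := eq_inv_of_mul_eq_one_left (by rw [← h3, pow_three'])
    have := hn _ (hn x hx)
    rwa [show k * (k * x * k⁻¹) * k⁻¹ = k * k * x * (k * k)⁻¹ by group, e2, inv_inv] at this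
  set Z := Q ⊓ centralizer (Q : Set G)
  have zZ : z ∈ Z := ⟨zQ, fun x hx => (hc x hx).eq⟩
  have hZ := m3 Z inf_le_left zZ fun x hx => ⟨hn x hx.1, fun y hy => by
    have := hx.2 _ (hn' y hy)
    calc y * (k * x * k⁻¹) = k * (k⁻¹ * y * k * x) * k⁻¹ := by group
      _ = _ := by rw [this]; group⟩
  by_contra hne
  have h8 : 8 ∣ Nat.card Z := by
    rcases hZ with e | e | e
    · exact absurd (eq_of_le_of_card_ge (zpowers_le.2 zZ) (by rw [e, Nat.card_zpowers, h.z2])).symm hne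
    all_goals omega
  have lt : ∀ R : Subgroup G, Z ≤ R → ∀ u ∈ R, u ∉ Z → Nat.card Z < Nat.card R := fun R e1 u e2 e3 =>
    lt_of_not_ge fun e => e3 (eq_of_le_of_card_ge e1 e ▸ e2)
  have h32 : ∀ u ∈ Z, 32 ∣ cc u := fun u hu => hQ ▸ card_dvd_of_le fun x hx => Invol.mem_cent.2 (hu.2 x hx)
  have h16 : ∀ u ∈ Q, 16 ∣ cc u := fun u hu => by
    by_cases e : u ∈ Z
    · exact (by norm_num : 16 ∣ 32).trans (h32 u e)
    have e1 : Z ≤ Q ⊓ centralizer {u} := fun x hx => ⟨hx.1, Invol.mem_cent.2 (hx.2 u hu).symm⟩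
    refine ((by decide : ∀ d ∈ Nat.divisors 32, 8 < d → 16 ∣ d) _ (Nat.mem_divisors.2 ⟨hQ ▸ card_dvd_of_le inf_le_left,
      by norm_num⟩) ((Nat.le_of_dvd Nat.card_pos h8).trans_lt (lt _ e1 u ⟨hu, Invol.mem_cent.2 (Commute.refl u)⟩ e))).trans
      (card_dvd_of_le inf_le_right)
  obtain ⟨g, hg, g1, h0⟩ : ∃ g ∈ Q, g ≠ 1 ∧ θ.1 g ≠ 0 := by
    by_contra h0
    push Not at h0
    have e1 := sum_eq_av θ.2.isCharacter Q
    rw [sum_elems_erase _ _ h0, hQ, ← coe_deg, h.dθ, mul_zero, add_zero] at e1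
    have : 16 = 32 * av Q θ.1 := by exact_mod_cast e1
    omega
  have h240 := h.θ_ne hG (q5 g hg) g1 (h16 g hg) h0
  have gg := h.inv240 hG (q5 g hg) h240.symm.dvd
  have gZ : g ∉ Z := fun e => by have := h32 g e; omega
  have h5 := (quot32 h.z2 zQ hc kz h3 hn hf hQ).2 g hg
  have h6 : Commute g (k * g * k⁻¹) := by
    have e1 : k * g * k⁻¹ * (k * g * k⁻¹) = 1 := by rw [conj_mul, gg, mul_one, mul_inv_cancel]
    have e2 : k⁻¹ * g * k * (k⁻¹ * g * k) = 1 := by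
      rw [show k⁻¹ * g * k * (k⁻¹ * g * k) = k⁻¹ * (g * g) * k by group, gg, mul_one, inv_mul_cancel]
    have e3 : g * (k * g * k⁻¹) * (g * (k * g * k⁻¹)) = 1 := by
      rcases two_cases (mul_self_of_two h.z2) h5 with e | e
      · rw [eq_inv_of_mul_eq_one_left e, ← mul_inv_rev, e2, inv_one]
      · rw [eq_mul_inv_of_mul_eq e, inv_eq_of_mul_eq_one_right e2, mul_assoc, ← mul_assoc _ z, (hc _ (hn' g hg)).eq,
          mul_assoc z, e2, mul_one, mul_self_of_two h.z2]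
    rw [commute_iff_eq, ← inv_eq_of_mul_eq_one_right e3, mul_inv_rev, inv_eq_of_mul_eq_one_right gg,
      inv_eq_of_mul_eq_one_right e1]
  have h7 := m3 (Q ⊓ (centralizer {g} ⊓ centralizer {k * g * k⁻¹})) inf_le_left
    ⟨zQ, Invol.mem_cent.2 (hc g hg).symm, Invol.mem_cent.2 (hc _ (hn g hg)).symm⟩ fun x hx => by
      have e1 := Invol.mem_cent.1 hx.2.1
      have e2 := Invol.mem_cent.1 hx.2.2
      refine ⟨hn x hx.1, Invol.mem_cent.2 ?_, Invol.mem_cent.2 (e1.conj k)⟩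
      obtain ⟨i, hi⟩ := h5
      have e3 : Commute x (k⁻¹ * g * k) := by
        rw [eq_inv_mul_of_mul_eq hi.symm]
        exact (e1.mul_right e2).inv_right.mul_right ((hc x hx.1).zpow_right i)
      simpa [mul_assoc] using e3.conj k
  have h9 := lt (Q ⊓ (centralizer {g} ⊓ centralizer {k * g * k⁻¹})) (fun x hx => ⟨hx.1, Invol.mem_cent.2 (hx.2 g hg).symm,
    Invol.mem_cent.2 (hx.2 _ (hn g hg)).symm⟩) g ⟨hg, Invol.mem_cent.2 (Commute.refl g), Invol.mem_cent.2 h6⟩ gZ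
  have h10 := Nat.le_of_dvd Nat.card_pos h8
  exact gZ ⟨hg, fun x hx => (Invol.mem_cent.1 ((eq_of_le_of_card_ge (inf_le_left (a := Q)
    (b := centralizer {g} ⊓ centralizer {k * g * k⁻¹})) (by omega)).ge hx).2.1).eq⟩

theorem iso : Spor.IsoM12 G := by
  classical
  have := Fact.mk Nat.prime_three
  let L := centralizer ({z} : Set G)
  have cL : Nat.card L = 192 := h.cz
  obtain ⟨X⟩ : Nonempty (Sylow 3 L) := inferInstance
  obtain ⟨S⟩ : Nonempty (Sylow 2 L) := inferInstance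
  have cX := card_sylow_subgroup_eq X (a := 1) (m := 64) cL (by norm_num)
  have cS := card_sylow_subgroup_eq S (a := 6) (m := 3) cL (by norm_num)
  have iS := index_sylow_eq S (a := 6) (m := 3) cL (by norm_num)
  obtain ⟨x, hx⟩ := exists_prime_orderOf_dvd_card' (G := (X : Subgroup L)) 3 (by rw [cX]; norm_num)
  have hk : orderOf (x.1.1 : G) = 3 := by rw [orderOf_coe, orderOf_coe, hx]
  have h3 : (x.1.1 : G) ^ 3 = 1 := orderOf_dvd_iff_pow_eq_one.1 hk.dvd
  have kz := Invol.mem_cent.1 x.1.2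
  have hX : (X : Subgroup L).map L.subtype = zpowers x.1.1 := (eq_of_le_of_card_ge (zpowers_le.2 (mem_map_of_mem _ x.2))
    (by rw [card_map_of_injective L.subtype_injective, cX, Nat.card_zpowers, pow_one]; exact hk.ge)).symm
  have h0 : pCore 2 L = (MulAction.toPermHom L (L ⧸ (S : Subgroup L))).ker := by
    rw [← normalCore_eq_ker]
    have := pCore_normal 2 L
    exact le_antisymm (normal_le_normalCore.2 (Core.pCore_le_sylow S)) (Core.le_pCore (S.2.to_le (normalCore_le _)))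
  set Q := (pCore 2 L).map L.subtype with hQ
  have hc : ∀ y ∈ Q, Commute y z := fun y hy => Invol.mem_cent.1 (map_subtype_le _ hy)
  have zQ : z ∈ Q := ⟨⟨z, Invol.mem_cent.2 (Commute.refl z)⟩, Core.le_pCore (N := zpowers _) (hN := PGrp.normal_of_le_center
    (zpowers_le.2 (mem_center_iff.2 fun g => Subtype.ext (Invol.mem_cent.1 g.2).eq))) (Core.isPGroup_zpowers_of_pow_eq_one
    (k := 1) (Subtype.ext (by simpa [sq] using mul_self_of_two h.z2))) (mem_zpowers _), rfl⟩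
  have hn : ∀ y ∈ Q, x.1.1 * y * (x.1.1 : G)⁻¹ ∈ Q := by
    rintro _ ⟨y, hy, rfl⟩
    exact ⟨_, (pCore_normal 2 L).conj_mem y hy x.1, rfl⟩
  have hf : Q ⊓ centralizer (zpowers (x.1.1 : G) : Set G) = zpowers z := le_antisymm (fun y hy => by
    obtain ⟨j, hj⟩ := Core.isPGroup_iff_forall_mem.1 ((Core.isPGroup_pCore 2 L).map L.subtype) y hy.1
    exact h.fixk hG hk kz hj (hc y hy.1) (mem_centralizer_iff.1 hy.2 _ (mem_zpowers _)).symm)
    (zpowers_le.2 ⟨zQ, by rintro _ ⟨i, rfl⟩; exact (kz.zpow_left i).eq⟩)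
  have c3 : Nat.card (L ⧸ (S : Subgroup L)) = 3 := iS
  have c6 : Nat.card (Equiv.Perm (L ⧸ (S : Subgroup L))) = 6 := by rw [Nat.card_perm, c3]; rfl
  have h1 := (MulAction.toPermHom L (L ⧸ (S : Subgroup L))).ker.card_mul_index
  rw [index_ker, ← h0, cL] at h1
  have h2 := c6 ▸ (MulAction.toPermHom L (L ⧸ (S : Subgroup L))).range.card_subgroup_dvd_card
  have h4 := mod3 h3 hn
  rw [hf, Nat.card_zpowers, h.z2, card_map_of_injective L.subtype_injective] at h4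
  have h5 := (by decide : ∀ d ∈ Nat.divisors 6, ∀ n ∈ Nat.divisors (2 ^ 6), n * d = 192 → n % 3 = 2 % 3 → n = 32 ∧ d = 6) _
    (Nat.mem_divisors.2 ⟨h2, by norm_num⟩) _ (Nat.mem_divisors.2 ⟨cS ▸ card_dvd_of_le (Core.pCore_le_sylow S),
    by norm_num⟩) h1 h4
  have cQ : Nat.card Q = 32 := (card_map_of_injective L.subtype_injective).trans h5.1
  have hZ := h.cen hG zQ hc kz hk hn cQ
  have h6 := (quot32 h.z2 zQ hc kz h3 hn (fun y hy e => hf.le ⟨hy, by
    rintro _ ⟨i, rfl⟩; exact (e.zpow_right i).eq.symm⟩) cQ).1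
  have h7 : ∀ y ∈ Q, y ^ 2 ∈ zpowers z := fun y hy => hZ.le ⟨pow_mem hy 2, fun u hu => by
    have e1 := h6 y hy u hu
    rw [commutatorElement_def] at e1
    rcases two_cases (mul_self_of_two h.z2) e1 with e | e
    · exact (Commute.pow_left (mul_inv_eq_iff_eq_mul.1 (mul_inv_eq_one.1 e)) 2).eq.symm
    · have e2 : y * u = z * u * y := mul_inv_eq_iff_eq_mul.1 (mul_inv_eq_iff_eq_mul.1 e)
      calc u * y ^ 2 = z * (z * u * y) * y := by rw [← mul_assoc, ← mul_assoc, mul_self_of_two h.z2, one_mul, sq, mul_assoc]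
        _ = y * (z * u * y) := by rw [← e2, ← mul_assoc z, ← (hc y hy).eq, mul_assoc y z, mul_assoc y, e2]
        _ = _ := by rw [← e2, sq, mul_assoc]⟩
  have hw : ∃ g : G, g * z * g⁻¹ ∈ Q ∧ g * z * g⁻¹ ≠ z := by
    by_contra hn
    push Not at hn
    have e1 := sum_eq_av e.2.isCharacter Q
    rw [← Finset.sum_subset (s₁ := {1, z}) (by
      intro u hu
      rcases Finset.mem_insert.1 hu with rfl | hu
      exacts [mem_elems.2 Q.one_mem, mem_elems.2 (Finset.mem_singleton.1 hu ▸ zQ)]) fun u hu hu' => by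
        simp only [Finset.mem_insert, Finset.mem_singleton, not_or] at hu'
        refine h.e_zero hG hu'.1 (two_cases (mul_self_of_two h.z2) (h7 u (mem_elems.1 hu))) fun e => ?_
        obtain ⟨g, rfl⟩ := isConj_iff.1 e
        exact hu'.2 (hn g (mem_elems.1 hu)), Finset.sum_pair (ne_one_of_two h.z2).symm, cQ, ← coe_deg, h.de, h.ez] at e1
    have : (120 + -8 : ℤ) = 32 * av Q e.1 := by exact_mod_cast e1
    omega
  have := Fintype.ofFinite (L ⧸ (S : Subgroup L))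
  obtain ⟨N, hN, -, -, e1, -⟩ | ⟨⟨e1⟩⟩ | ⟨⟨e1⟩⟩ | e1 := Cfsg.Agent.S3344.result z h.z2 L rfl Q hQ
    (PGrp.isExtraspecial_of_le_zpowers h.z2 zQ hZ h6 h7 fun e => by
      rw [e, Nat.card_zpowers, h.z2] at cQ; omega) cQ
    ((QuotientGroup.quotientMulEquivOfEq h0).trans ((QuotientGroup.quotientKerEquivOfSurjective _
      (MonoidHom.range_eq_top.1 (eq_top_of_card_eq _ (h5.2.trans c6.symm)))).trans
      (Finite.equivFinOfCardEq c3).permCongrHom)) X (hX ▸ hf) hw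
  · rcases hN.eq_bot_or_eq_top with rfl | rfl
    · simp at e1
    · rw [card_top, hG] at e1; omega
  · have := Nat.card_congr e1.toEquiv
    rw [hG, nat_card_alternatingGroup, Nat.card_fin] at this
    exact absurd this (by decide)
  · have := Nat.card_congr e1.toEquiv
    rw [hG, nat_card_alternatingGroup, Nat.card_fin] at this
    exact absurd this (by decide)
  · exact e1

end Tab

theorem isoM12 [IsSimpleGroup G] (hG : Nat.card G = 95040) : Spor.IsoM12 G := by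
  obtain ⟨a, c, e, f, θ, η, z, h⟩ := exists_tab hG
  exact h.iso hG

end Cfsg.Lib.Coprime.M12
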