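import Cfsg.Agent.Lib.Coprime.M12d
import Cfsg.Agent.Lib.Small.Sieve
import Cfsg.Agent.Lib.Clifford.DefZero

/-!
# The simple groups whose order divides `95040` and is divisible by `11`
-/

set_option autoImplicit false
set_option maxRecDepth 100000
set_option linter.unusedSectionVars false

namespace Cfsg.Lib.Coprime.M12

open Cfsg Subgroup Cfsg.Lib.Small Cfsg.Lib.Char Cfsg.Lib.Clifford Cfsg.Lib.Amalg Cfsg.Lib.Exc Cfsg.Lib.Exc.M11
  Cfsg.Lib.Invol Cfsg.Lib.PF
open scoped ComplexConjugate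

variable {G : Type*} [Group G] [Finite G]

theorem ord3 (hG : commutator G = ⊤) (χ : IrrCharacter G) {g : G} (hg : g ^ 3 = 1) : ∃ a b : ℕ, a + b ≤ charDegree χ.1 ∧
    3 ∣ a + 2 * b ∧ (χ.1 g - χ.1 1) * conj (χ.1 g - χ.1 1) = 3 * (a * a + a * b + b * b) ∧
    χ.1 g * conj (χ.1 g) = χ.1 1 * χ.1 1 - 3 * χ.1 1 * (a + b) + 3 * (a * a + a * b + b * b) := by
  let x : zpowers g := ⟨g, mem_zpowers g⟩
  obtain ⟨s, hs⟩ := (χ.2.isCharacter.restrict (zpowers g)).exists_sum_linear_of_comm fun a b => mul_comm' a b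
  have h1 := (detChar_multiset s x).2
  rw [← funext hs] at h1
  erw [detChar_comp χ.2.isCharacter (zpowers g).subtype x, detChar_of_mem_commutator _ (hG ▸ mem_top _)] at h1
  have hω := Complex.isPrimitiveRoot_exp 3 (by norm_num)
  generalize Complex.exp _ = ω at hω
  have h2 : ω ^ 2 + ω + 1 = 0 := by
    have := hω.geom_sum_eq_zero (by norm_num)
    simp only [Finset.sum_range_succ, Finset.range_zero, Finset.sum_empty] at this
    linear_combination this
  have key : ∃ m0 m1 m2 : ℕ, (s.map fun lam => (lam 1 : ℂ)).sum = m0 + m1 + m2 ∧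
      (s.map fun lam => (lam x : ℂ)).sum = m0 + m1 * ω + m2 * ω ^ 2 ∧
      (s.map fun lam => (lam (x ^ 2) : ℂ)).sum = m0 + m1 * ω ^ 2 + m2 * ω ∧
      (s.map fun lam => (lam x : ℂ)).prod = ω ^ (m1 + 2 * m2) := by
    clear hs h1
    induction s using Multiset.induction_on with
    | empty => exact ⟨0, 0, 0, by simp⟩
    | cons l s ih =>
      obtain ⟨m0, m1, m2, e0, e1, e2, e3⟩ := ih
      simp only [Multiset.map_cons, Multiset.sum_cons, Multiset.prod_cons]
      rw [e0, e1, e2, e3, map_one, map_pow, Units.val_one, Units.val_pow_eq_pow_val]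
      have e4 : (l x : ℂ) ^ 3 = 1 := by
        rw [← Units.val_pow_eq_pow_val, ← map_pow, show x ^ 3 = 1 from Subtype.ext hg, map_one, Units.val_one]
      have e5 : ((l x : ℂ) - 1) * (((l x : ℂ) - ω) * ((l x : ℂ) - ω ^ 2)) = 0 := by
        linear_combination e4 + (-(l x : ℂ) ^ 2 + (l x : ℂ) * ω - ω + 1) * h2
      simp only [mul_eq_zero, sub_eq_zero] at e5
      rcases e5 with e | e | e <;> rw [e]
      · exact ⟨m0 + 1, m1, m2, by push_cast; ring, by push_cast; ring, by push_cast; ring, by ring⟩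
      · exact ⟨m0, m1 + 1, m2, by push_cast; ring, by push_cast; ring, by push_cast; ring, by ring⟩
      · exact ⟨m0, m1, m2 + 1, by push_cast; ring, by push_cast; ring,
          by push_cast; linear_combination (ω ^ 2 - ω) * h2, by ring⟩
  obtain ⟨m0, m1, m2, e0, e1, e2, e3⟩ := key
  rw [← hs] at e0 e1 e2
  change χ.1 1 = _ at e0
  change χ.1 g = _ at e1
  change χ.1 (g ^ 2) = _ at e2
  rw [eq_inv_of_mul_eq_one_left ((pow_succ g 2).symm.trans hg), χ.2.isCharacter.apply_inv] at e2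
  refine ⟨m1, m2, ?_, (hω.pow_eq_one_iff_dvd _).1 (e3 ▸ h1.symm), ?_, ?_⟩
  · have : charDegree χ.1 = m0 + m1 + m2 := by exact_mod_cast (coe_deg χ).trans e0
    omega
  · rw [map_sub, e2, e1, ← coe_deg, map_natCast, coe_deg, e0]
    linear_combination ((m1 * m1 + m2 * m2) * (ω - 2) + m1 * m2 * (ω ^ 2 - ω - 1)) * h2
  · rw [e2, e1, e0]
    linear_combination ((m1 * m1 + m2 * m2) * (ω - 1) + m1 * m2 * (ω ^ 2 - ω + 1) + m0 * (m1 + m2)) * h2

theorem z11 : ∀ a b : ZMod 11, 3 * (a * a + a * b + b * b) = 0 → a = 0 ∧ b = 0 := by decide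

theorem ord3' [IsSimpleGroup G] (hG : ¬ IsMulCommutative G) {M : Ideal AlgInt} [M.IsMaximal] (hM : IsPModular 11 M)
    {χ : IrrCharacter G} (h1 : χ ≠ principalIrr G) {g : G} (hg : orderOf g = 3) (h : MemLocalIdeal M (χ.1 g - χ.1 1)) :
    ∃ a b : ℕ, 11 * a + 11 * b ≤ charDegree χ.1 ∧ 3 ∣ a + 2 * b ∧ a + b ≠ 0 ∧ χ.1 g * conj (χ.1 g) =
      ((charDegree χ.1 * charDegree χ.1 - 33 * charDegree χ.1 * (a + b) + 363 * (a * a + a * b + b * b) : ℤ) : ℂ) := by
  have := Fact.mk (by norm_num : Nat.Prime 11)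
  obtain ⟨a, b, e1, e2, e3, e4⟩ := ord3 (commutator_eq_top_of_simple hG) χ (hg ▸ pow_orderOf_eq_one g)
  have h2 := Block.Cfsg.MemLocalIdeal.mul_right h (y := conj (χ.1 g - χ.1 1)) (Block.memLocalRing_of_isIntegral (by
    rw [map_sub, ← χ.2.isCharacter.apply_inv, ← χ.2.isCharacter.apply_inv]
    exact (χ.2.isCharacter.isIntegral _).sub (χ.2.isCharacter.isIntegral _)))
  rw [e3, show (3 * (a * a + a * b + b * b) : ℂ) = (3 * (a * a + a * b + b * b) : ℕ) by push_cast; rfl,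
    Block.memLocalIdeal_natCast_iff hM, ← ZMod.natCast_eq_zero_iff] at h2
  push_cast at h2
  obtain ⟨⟨a, rfl⟩, ⟨b, rfl⟩⟩ := (z11 _ _ h2).imp
    (ZMod.natCast_eq_zero_iff _ _).1 (ZMod.natCast_eq_zero_iff _ _).1
  refine ⟨a, b, e1, by omega, fun e => ?_, by rw [e4, ← coe_deg]; push_cast; ring⟩
  obtain ⟨rfl, rfl⟩ : a = 0 ∧ b = 0 := by omega
  have h3 := norm_lt hG h1 (g := g) (by rintro rfl; simp at hg)
  simp only [mul_zero, Nat.cast_zero, add_zero, mul_eq_zero, map_eq_zero, or_self, sub_eq_zero] at e3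
  rw [e3, ← coe_deg, Complex.norm_natCast] at h3
  exact h3.false

theorem big [IsSimpleGroup G] (hG : ¬ IsMulCommutative G) {M : Ideal AlgInt} [M.IsMaximal] (hM : IsPModular 11 M)
    {χ : IrrCharacter G} (h1 : χ ≠ principalIrr G) {g : G} (hg : orderOf g = 2 ∨ orderOf g = 3)
    (h : MemLocalIdeal M (χ.1 g - χ.1 1)) : 22 ≤ charDegree χ.1 := by
  have := Fact.mk (by norm_num : Nat.Prime 11)
  rcases hg with hg | hg
  · obtain ⟨a, ha⟩ := int_of_two hg χ
    have h2 := four (commutator_eq_top_of_simple hG) χ (hg ▸ pow_orderOf_eq_one g) ha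
    have h3 := val_lt hG h1 (ne_one_of_two hg) ha
    rw [ha, ← coe_deg, ← Int.cast_natCast, ← Int.cast_sub, Block.memLocalIdeal_intCast_iff hM] at h
    omega
  · obtain ⟨a, b, e1, e2, e3, -⟩ := ord3' hG hM h1 hg h
    omega

theorem split11 {g : G} {q : ℕ} (hq : q = 2 ∨ q = 3) (hg : orderOf g = 11 * q) {M : Ideal AlgInt} [M.IsMaximal]
    (hM : IsPModular 11 M) : ∃ k : G, orderOf k = q ∧ 11 ∣ cc k ∧ ∀ (χ : IrrCharacter G) (δ : ℂ),
      (∀ u, 11 ∣ orderOf u → χ.1 u = δ) → MemLocalIdeal M (χ.1 k - χ.1 1) := by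
  have := Fact.mk (by norm_num : Nat.Prime 11)
  have h1 : orderOf (g ^ q) = 11 := by
    rw [orderOf_pow_of_dvd (by omega) ⟨11, by omega⟩, hg]; rcases hq with rfl | rfl <;> rfl
  have h2 : orderOf (g ^ 11) = q := by rw [orderOf_pow_of_dvd (by omega) ⟨q, hg⟩, hg]; omega
  have h3 := Commute.pow_pow_self g q 11
  generalize g ^ q = u, g ^ 11 = k at h1 h2 h3
  have h6 : orderOf u ∣ cc k := (centralizer {k}).orderOf_dvd_natCard (Invol.mem_cent.2 h3)
  refine ⟨k, h2, h1 ▸ h6, fun χ δ h => ?_⟩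
  have h4 := Block2.char_mul_sub_mem hM χ.2.isCharacter h3 ⟨1, h1.trans (pow_one 11).symm⟩
  have h5 := Block2.char_mul_sub_mem hM χ.2.isCharacter (Commute.one_right u) ⟨1, h1.trans (pow_one 11).symm⟩
  have h7 : orderOf (u * k) = 11 * q := by
    rw [h3.orderOf_mul_eq_mul_orderOf_of_coprime (by rw [h1, h2]; rcases hq with rfl | rfl <;> norm_num), h1, h2]
  rw [h _ (h7 ▸ dvd_mul_right _ _)] at h4
  rw [mul_one, h _ h1.symm.dvd] at h5
  exact Block.Cfsg.MemLocalIdeal.sub_trans (Block.Cfsg.MemLocalIdeal.sub_symm h4) h5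

theorem t_one2 {p e : ℕ} [Fact p.Prime] {P : Subgroup G} {X Y : Finset (IrrCharacter G)} {κ : ℤ}
    {ε : IrrCharacter G → ℤ} [DecidableEq (IrrCharacter G)] (h : PB p P e 1 X Y κ ε) (h1 : principalIrr G ∈ X)
    {θ : IrrCharacter G} (hθ : θ ∈ Y) : ∃ (W : Finset (IrrCharacter G)) (δ : IrrCharacter G → ℤ), W.card = e ∧
      principalIrr G ∉ W ∧ (W.val.map fun χ => δ χ * charDegree χ.1) = (-κ * charDegree θ.1) ::ₘ
        ((X.erase (principalIrr G)).val.map fun χ => ε χ * charDegree χ.1) ∧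
      (∀ F : IrrCharacter G → ℂ, ∑ χ ∈ X, ε χ * F χ - κ * F θ = F (principalIrr G) + ∑ χ ∈ W, δ χ * F χ) ∧
      ∀ χ ∈ W, (δ χ = 1 ∨ δ χ = -1) ∧ charDegree χ.1 ∣ (𝐂 P).index ∧ ∀ g, p ∣ orderOf g → χ.1 g = δ χ := by
  obtain ⟨θ', hY⟩ := Finset.card_eq_one.1 h.card_Y
  obtain rfl : θ = θ' := by simpa [hY] using hθ
  have h2 : θ ∉ X := fun e => Finset.disjoint_left.1 h.disj e hθ
  have h3 : θ ∉ X.erase (principalIrr G) := fun e => h2 (Finset.mem_of_mem_erase e)
  refine ⟨insert θ (X.erase (principalIrr G)), fun χ => if χ ∈ X then ε χ else -κ, by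
    rw [Finset.card_insert_of_notMem h3, Finset.card_erase_add_one h1, h.card_X], by
    simp only [Finset.mem_insert, Finset.notMem_erase, or_false]; exact fun e => h2 (e ▸ h1), ?_, fun F => ?_,
    fun χ hχ => ?_⟩
  · rw [Finset.insert_val_of_notMem h3, Multiset.map_cons]
    beta_reduce
    rw [if_neg h2]
    exact congrArg _ (Multiset.map_congr rfl fun χ hχ => by rw [if_pos (Finset.mem_of_mem_erase hχ)])
  · rw [← Finset.add_sum_erase _ _ h1, h.ε_one h1]
    beta_reduce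
    rw [Finset.sum_insert h3, if_neg h2, Finset.sum_congr (s₂ := X.erase (principalIrr G)) rfl
      (f := fun χ => ((if χ ∈ X then ε χ else -κ : ℤ) : ℂ) * F χ) (g := fun χ => ε χ * F χ) fun χ hχ => by
      rw [if_pos (Finset.mem_of_mem_erase hχ)]]
    push_cast
    ring
  · rcases Finset.mem_insert.1 hχ with rfl | e
    · simp only [h2, if_false]
      exact ⟨by have := h.sign; omega, h.dvd_Y hθ, fun g hg => by rw [h.val_Y_one rfl hθ hg]; simp⟩
    · have hX := Finset.mem_of_mem_erase e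
      simp only [hX, if_true]
      exact ⟨h.sign_ε χ hX, h.dvd_X hX, h.val_X χ hX⟩

theorem lift {α : Type*} (d : α → ℤ) : ∀ (l : List ℤ) (s : Multiset α), s.map d = l →
    ∃ c : List α, s = c ∧ c.map d = l
  | [], s, h => ⟨[], Multiset.map_eq_zero.1 h, rfl⟩
  | a :: l, s, h => by
    classical
    obtain ⟨x, hx, e1, e2⟩ := (Multiset.map_eq_cons d s l a).2 h
    obtain ⟨c, e3, e4⟩ := lift d l _ e2
    exact ⟨x :: c, by rw [← Multiset.cons_coe, ← e3, Multiset.cons_erase hx], by rw [List.map_cons, e1, e4]⟩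

theorem omega2 (χ : IrrCharacter G) {x : G} {N : ℤ} (h : χ.1 x * conj (χ.1 x) = N) :
    (charDegree χ.1 * charDegree χ.1 : ℤ) ∣ ix x * ix x * N := by
  have h1 := (L33.int_omega χ x).mul (L33.int_omega χ x⁻¹)
  have h0 : (charDegree χ.1 : ℚ) ≠ 0 := fun e => χ.2.apply_one_ne_zero (by rw [← coe_deg]; exact_mod_cast e)
  rw [χ.2.isCharacter.apply_inv, show ix x⁻¹ = ix x from congrArg index (Subgroup.ext fun _ => by
      simp only [Invol.mem_cent, Commute.inv_right_iff]), show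
    (ix x : ℂ) * χ.1 x / charDegree χ.1 * (ix x * conj (χ.1 x) / charDegree χ.1) =
      ((ix x * ix x * N / (charDegree χ.1 * charDegree χ.1) : ℚ) : ℂ) by push_cast; rw [← h]; ring] at h1
  obtain ⟨k, hk⟩ := IsIntegrallyClosed.isIntegral_iff.1 (isIntegral_algebraMap_iff (algebraMap ℚ ℂ).injective |>.1 h1)
  refine ⟨k, ?_⟩
  have : (ix x * ix x * N : ℚ) = charDegree χ.1 * charDegree χ.1 * k := by
    simp only [eq_intCast] at hk; rw [hk]; field_simp
  exact_mod_cast this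

def bad (n : ℕ) (_e _s c : ℕ) (l : List ℤ) : Bool :=
  ((c % 2 != 0 && c % 3 != 0) || l.all fun d => decide (22 ≤ d.natAbs)) &&
  !(n == 47520 && c == 3 && l.isPerm [-32, 45, 45, 45, -32, -32, -32, -32, -120, 144]) &&
  !(n == 15840 && c == 1 && l.isPerm [12, 12, 45, 45, 45, -32, -32, -32, -32, -32])

theorem feas_bad : ∀ d ∈ Nat.divisors 8640, d ≠ 8640 → feas (11 * d) 11 20 (bad (11 * d)) → d = 60 ∨ d = 720 := by
  decide +kernel

def r4 (lo : ℤ) (n : ℕ) : List ℤ := (List.range n).map fun j : ℕ => lo + 4 * j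

theorem mem_r4 {lo v : ℤ} {n : ℕ} (h1 : lo ≤ v) (h2 : v < lo + 4 * n) (h3 : 4 ∣ v - lo) : v ∈ r4 lo n :=
  List.mem_map.2 ⟨((v - lo) / 4).toNat, List.mem_range.2 (by omega), by omega⟩

theorem s3 : ∀ n ∈ Nat.divisors 1440, 32 ∣ n → ∀ a ∈ r4 (-8) 5, ∀ b ∈ r4 (-8) 5, ∀ u ∈ r4 (-43) 22, ∀ v ∈ r4 (-43) 22,
    1 + (a * a + b * b + u * u + v * v + (1 + a + b + u + v) * (1 + a + b + u + v)) ≤ n → ¬ (n * n : ℤ) ∣
      88 * (180 + 15 * (a * a + b * b) + 4 * (u * u + v * v + (1 + a + b + u + v) * (1 + a + b + u + v))) := by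
  decide +kernel

theorem card_simple [IsSimpleGroup G] (hG : ¬ IsMulCommutative G) (h11 : 11 ∣ Nat.card G) (hd : Nat.card G ∣ 95040) :
    Nat.card G = 660 ∨ Nat.card G = 7920 ∨ Nat.card G = 95040 := by
  classical
  have := Fact.mk (by norm_num : Nat.Prime 11)
  obtain ⟨m, hm⟩ := h11
  have h0 : m ∣ 8640 := Nat.dvd_of_mul_dvd_mul_left (by norm_num : 0 < 11) (hm ▸ hd)
  by_cases h8 : m = 8640
  · omega
  have h9 : m ≤ 4320 := by obtain ⟨k, hk⟩ := h0; rcases k with _ | _ | k <;> first | omega | nlinarith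
  obtain ⟨P, e, t, c, X, Y, κ, ε, h, h1, h2, h3, h4, h5, h6, h7⟩ := exists_pb hG 11 m hm
    fun e => by have := e.trans h0; omega
  obtain ⟨θ, hθ⟩ := h.exists_Y
  obtain ⟨M, hM⟩ := Block2.exists_isPModular (p := 11) (by norm_num)
  have := hM.2.1
  have hN := h.num hG h2 h1 hθ h3 rfl h5 (by rw [hm, ← h4]; ring)
  suffices feas (Nat.card G) 11 20 (bad (Nat.card G)) by
    rw [hm] at this
    have := feas_bad m (Nat.mem_divisors.2 ⟨h0, by norm_num⟩) h8 this
    omega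
  have θ1 : θ ≠ principalIrr G := fun e => Finset.disjoint_left.1 h.disj h1 (e ▸ hθ)
  refine hN.feas Nat.card_pos (by omega) fun l hl => ?_
  simp only [bad, Bool.and_eq_true, Bool.or_eq_true, bne_iff_ne, List.all_eq_true, decide_eq_true_eq, Bool.not_eq_true',
    Bool.and_eq_false_iff, beq_eq_false_iff_ne, ← Bool.not_eq_true, List.isPerm_iff]
  have key : ∀ l0 : List ℤ, l0.length = 10 → l.Perm l0 → ∃ (W : Finset (IrrCharacter G)) (δ : IrrCharacter G → ℤ)
      (c : List (IrrCharacter G)), W.val = c ∧ principalIrr G ∉ W ∧ (c.map fun χ => δ χ * charDegree χ.1) = l0 ∧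
      (∀ F : IrrCharacter G → ℂ, ∑ χ ∈ X, ε χ * F χ - κ * F θ = F (principalIrr G) + ∑ χ ∈ W, δ χ * F χ) ∧
      ∀ χ ∈ c, χ ≠ principalIrr G ∧ (δ χ = 1 ∨ δ χ = -1) ∧ ∀ g, 11 ∣ orderOf g → χ.1 g = δ χ := fun l0 e1 e2 => by
    have e3 := congrArg Multiset.card hl
    have e4 := hN.len
    have e5 := hN.mul
    rw [Multiset.coe_card, e2.length_eq, e1, Multiset.card_cons, e4] at e3
    obtain rfl : t = 1 := by subst e3; omega
    obtain ⟨W, δ, -, w1, w2, w3, w4⟩ := t_one2 h h1 hθ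
    obtain ⟨c, e6, e7⟩ := lift _ _ _ (w2.trans (hl.symm.trans (Multiset.coe_eq_coe.2 e2)))
    refine ⟨W, δ, c, e6, w1, e7, w3, fun χ hχ => ?_⟩
    have e8 : χ ∈ W := by rwa [← Finset.mem_val, e6]
    exact ⟨fun e => w1 (e ▸ e8), (w4 χ e8).1, (w4 χ e8).2.2⟩
  refine ⟨⟨or_iff_not_imp_left.2 fun hc d hd => ?_, ?_⟩, ?_⟩
  · obtain ⟨q, hq, e1⟩ : ∃ q, (q = 2 ∨ q = 3) ∧ q ∣ c := by
      by_cases e : 2 ∣ c
      exacts [⟨2, Or.inl rfl, e⟩, ⟨3, Or.inr rfl, by omega⟩]
    obtain ⟨g, hg⟩ := h7 q (by rcases hq with rfl | rfl <;> norm_num) (by omega) e1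
    obtain ⟨k, k1, -, k2⟩ := split11 hq hg hM
    have k3 := fun χ (hχ : χ ∈ X) => k2 χ _ (h.val_X χ hχ)
    rw [← Multiset.mem_coe, hl, Multiset.mem_cons, Multiset.mem_map] at hd
    rcases hd with rfl | ⟨χ, hχ, rfl⟩
    · have k4 := Block.memLocalIdeal_sum (s := X) (f := fun χ => κ * (ε χ * (χ.1 k - χ.1 1))) fun χ hχ =>
        Block.Cfsg.MemLocalIdeal.mul_left (Block.Cfsg.MemLocalIdeal.mul_left (k3 χ hχ)
          (Block.memLocalRing_of_isIntegral (isIntegral_intCast _))) (Block.memLocalRing_of_isIntegral (isIntegral_intCast _))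
      simp only [mul_sub (ε _ : ℂ), ← Finset.mul_sum, Finset.sum_sub_distrib, ← h.rel θ hθ k (by omega),
        ← h.rel θ hθ 1 (by simp)] at k4
      have := big hG hM θ1 (k1 ▸ hq) (by rcases h.sign with rfl | rfl <;> convert k4 using 1 <;> push_cast <;> ring)
      rcases h.sign with rfl | rfl <;> omega
    · have hX := Finset.mem_of_mem_erase hχ
      have := big hG hM (Finset.ne_of_mem_erase hχ) (k1 ▸ hq) (k3 χ hX)
      rcases h.sign_ε χ hX with e | e <;> rw [e] <;> omega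
  · rintro ⟨⟨e1, e2⟩, e3⟩
    rw [beq_iff_eq] at e1 e2
    obtain ⟨W, δ, c, w1, -, w2, -, w3⟩ := key _ rfl e3
    obtain ⟨g, hg⟩ := h7 3 (by norm_num) (by omega) e2.symm.dvd
    obtain ⟨k, k1, -, k2⟩ := split11 (Or.inr rfl) hg hM
    have k3 := fun χ (hχ : χ ∈ c) => ord3' hG hM (w3 χ hχ).1 k1 (k2 χ _ (w3 χ hχ).2.2)
    have k4 : ∀ χ ∈ c, δ χ * charDegree χ.1 = 45 → 144 ≤ ‖χ.1 k‖ ^ 2 ∧ 5 ∣ ix k := fun χ hχ e => by
      obtain ⟨a, b, a1, a2, a3, a4⟩ := k3 χ hχ
      have d : charDegree χ.1 = 45 := by rcases (w3 χ hχ).2.1 with e' | e' <;> rw [e'] at e <;> omega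
      have a5 := omega2 χ a4
      rw [Complex.mul_conj', d] at a4
      rw [d] at a1 a5
      norm_cast at a4
      rw [a4]
      have : a ≤ 4 := by omega
      have : b ≤ 4 := by omega
      have a6 : (5 : ℤ) ∣ _ := Dvd.dvd.trans (by norm_num) a5
      have p5 : Prime (5 : ℤ) := Nat.prime_iff_prime_int.1 Nat.prime_five
      rw [p5.dvd_mul, p5.dvd_mul, or_self] at a6
      interval_cases a <;> interval_cases b <;> first | omega | exact ⟨by norm_num, by omega⟩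
    simp only [List.map_eq_cons_iff, List.map_eq_nil_iff] at w2
    obtain ⟨c0, _, rfl, d0, c1, _, rfl, d1, c2, _, rfl, d2, c3, c, rfl, d3, -⟩ := w2
    obtain ⟨a, b, a1, a2, a3, a4⟩ := k3 c0 (by simp)
    have d : charDegree c0.1 = 32 := by rcases (w3 c0 (by simp)).2.1 with e' | e' <;> rw [e'] at d0 <;> omega
    have a5 := omega2 _ a4
    rw [d] at a1 a5
    obtain ⟨rfl, rfl⟩ : a = 1 ∧ b = 1 := by omega
    have a6 : (32 : ℤ) ∣ ix k := (Int.pow_dvd_pow_iff two_ne_zero).1 (by simpa [sq] using a5)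
    have a7 := nle' W k
    have a8 := cc_mul_ix k
    have b1 := k4 c1 (by simp) d1
    obtain ⟨j, hj⟩ : 160 ∣ ix k := by omega
    have a9 : cc k ≤ 297 := Nat.le_of_dvd (by norm_num) ⟨j, by rw [hj, e1] at a8; linarith⟩
    have b0 : (cc k : ℝ) ≤ 297 := by exact_mod_cast a9
    have b4 : 0 ≤ (c.map fun χ => ‖χ.1 k‖ ^ 2).sum := List.sum_nonneg fun x hx => by
      obtain ⟨χ, -, rfl⟩ := List.mem_map.1 hx; positivity
    rw [Finset.sum, w1] at a7
    simp only [Multiset.map_coe, Multiset.sum_coe, List.map_cons, List.sum_cons] at a7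
    linarith [b1.1, (k4 c2 (by simp) d2).1, (k4 c3 (by simp) d3).1, sq_nonneg ‖c0.1 k‖]
  · rintro ⟨⟨e1, e2⟩, e3⟩
    rw [beq_iff_eq] at e1 e2
    obtain ⟨W, δ, c, w1, w0, w2, w4, w3⟩ := key _ rfl e3
    obtain ⟨S⟩ : Nonempty (Sylow 2 G) := inferInstance
    have hS := card_sylow_subgroup_eq S (a := 5) (m := 495) e1 (by norm_num)
    obtain ⟨z, -, z2, hz⟩ := Invol.exists_central S.2 fun e => by rw [e, card_bot] at hS; omega
    have z32 : 32 ∣ cc z := by
      have := card_dvd_of_le (show (S : Subgroup G) ≤ centralizer {z} from fun x hx => Invol.mem_cent.2 (hz x hx).symm)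
      rwa [hS] at this
    obtain ⟨c', -, b1, b2, b3⟩ := h.exists_card_C
    have z11 : cc z ∣ 1440 := by
      refine ((Nat.Prime.coprime_iff_not_dvd (p := 11) (by norm_num)).2 fun hd => ?_).symm.dvd_of_dvd_mul_left
        (by have := cc_dvd z; rwa [e1] at this)
      have := (b3 2 Nat.prime_two (by norm_num)).2 (exists_orderOf_eq_mul (p := 2) (q := 11) Nat.prime_two (by norm_num) (by norm_num)
        z2.symm.dvd hd)
      rw [b1.2 (h3.1 e2)] at this
      omega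
    choose α hα using int_of_two z2
    have s11 : ¬ 11 ∣ orderOf z := by rw [z2]; norm_num
    obtain ⟨y, hy, y1⟩ := h.exists_ne_one
    have r1 := frob2 h (h3.1 e2) hθ (h.dvd_orderOf hy y1) s11 s11
    have r2 := w4 fun χ => χ.1 z
    have a1 : α (principalIrr G) = 1 := by exact_mod_cast (show _ = (1 : ℂ) from (hα (principalIrr G)).symm)
    have r3 := nle (insert (principalIrr G) W) z fun χ _ => hα χ
    have k1 : ∀ χ ∈ c, δ χ * charDegree χ.1 = -32 → α χ = 0 := fun χ hχ e => by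
      have d : charDegree χ.1 = 32 := by rcases (w3 χ hχ).2.1 with e' | e' <;> rw [e'] at e <;> omega
      exact_mod_cast (hα χ).symm.trans (apply_eq_zero_of_defectZero Nat.prime_two (by rw [d, e1]; decide +kernel)
        z2.symm.dvd)
    have k2 : ∀ χ ∈ c, ∀ n : ℕ, δ χ * charDegree χ.1 = n → δ χ = 1 ∧ charDegree χ.1 = n ∧ (4 : ℤ) ∣ n - α χ ∧
        -(n : ℤ) < α χ ∧ α χ < n := fun χ hχ n e => by
      have f1 := four (commutator_eq_top_of_simple hG) χ (z2 ▸ pow_orderOf_eq_one z) (hα χ)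
      have f2 := val_lt hG (w3 χ hχ).1 (ne_one_of_two z2) (hα χ)
      rcases (w3 χ hχ).2.1 with e' | e' <;> rw [e'] at e ⊢ <;> omega
    rw [w4, deg_principal, e1] at r1
    rw [← h.rel θ hθ z s11, sub_self] at r2
    rw [Finset.sum_insert w0, a1] at r3
    rw [Finset.sum, w1] at r1 r2 r3
    simp only [List.map_eq_cons_iff, List.map_eq_nil_iff] at w2
    obtain ⟨c0, _, rfl, d0, c1, _, rfl, d1, c2, _, rfl, d2, c3, _, rfl, d3, c4, _, rfl, d4, c5, _, rfl, d5, c6, _, rfl, d6,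
      c7, _, rfl, d7, c8, _, rfl, d8, c9, _, rfl, d9, rfl⟩ := w2
    obtain ⟨p0, q0, f0⟩ := k2 c0 (by simp) 12 d0
    obtain ⟨p1, q1, f1⟩ := k2 c1 (by simp) 12 d1
    obtain ⟨p2, q2, f2⟩ := k2 c2 (by simp) 45 d2
    obtain ⟨p3, q3, f3⟩ := k2 c3 (by simp) 45 d3
    obtain ⟨p4, q4, f4⟩ := k2 c4 (by simp) 45 d4
    simp only [Multiset.map_coe, Multiset.sum_coe, List.map_cons, List.sum_cons, List.map_nil, List.sum_nil, hα, a1,
      k1 c5 (by simp) d5, k1 c6 (by simp) d6, k1 c7 (by simp) d7, k1 c8 (by simp) d8, k1 c9 (by simp) d9, p0, p1, p2, p3, p4,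
      q0, q1, q2, q3, q4] at r1 r2 r3
    have r4 : α c4 = -(1 + α c0 + α c1 + α c2 + α c3) := by
      have : (α c4 : ℂ) = -(1 + α c0 + α c1 + α c2 + α c3) := by push_cast at r2; linear_combination -r2
      exact_mod_cast this
    refine s3 _ (Nat.mem_divisors.2 ⟨z11, by norm_num⟩) z32 (α c0) (mem_r4 (by omega) (by omega) (by omega)) (α c1)
      (mem_r4 (by omega) (by omega) (by omega)) (α c2) (mem_r4 (by omega) (by omega) (by omega)) (α c3)
      (mem_r4 (by omega) (by omega) (by omega)) (by rw [r4] at r3; linarith) ⟨pairCount z z y, ?_⟩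
    have r5 : (cc z * ix z : ℂ) = 15840 := by exact_mod_cast (cc_mul_ix z).trans e1
    rw [r4] at r1
    have : (88 * (180 + 15 * (α c0 * α c0 + α c1 * α c1) + 4 * (α c2 * α c2 + α c3 * α c3 + (1 + α c0 + α c1 + α c2 + α c3) *
      (1 + α c0 + α c1 + α c2 + α c3))) : ℂ) = cc z * cc z * pairCount z z y := by
      push_cast at r1
      linear_combination (-(cc z : ℂ) ^ 2 / 15840) * r1 - (cc z * ix z + 15840) / 15840 * (1 + (α c0 * α c0 + α c1 * α c1) / 12 +
        (α c2 * α c2 + α c3 * α c3 + (1 + α c0 + α c1 + α c2 + α c3) * (1 + α c0 + α c1 + α c2 + α c3)) / 45) * r5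
    exact_mod_cast this

end Cfsg.Lib.Coprime.M12
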