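import Cfsg.Agent.Lib.Coprime.M12e
import Cfsg.Agent.Lib.Coprime.M12f
import Cfsg.Agent.Lib.Coprime.DegG2
import Cfsg.Agent.Lib.Golay.Small
import Cfsg.Agent.S0425

/-!
# Two character degrees of the simple group of order `95040`
-/

set_option autoImplicit false
set_option maxRecDepth 100000
set_option linter.unusedSectionVars false

namespace Cfsg.Lib.Coprime.M12

open Cfsg Subgroup Cfsg.Lib.Small Cfsg.Lib.Char Cfsg.Lib.Clifford Cfsg.Lib.Amalg Cfsg.Lib.Exc Cfsg.Lib.Exc.M11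
  Cfsg.Lib.Invol Cfsg.Lib.PF

theorem s5 : ∀ a ∈ [6, 11, 16, 176, -44, -54, -144], ∀ b ∈ [6, 11, 16, 176, -44, -54, -144],
    ∀ c ∈ [6, 11, 16, 176, -44, -54, -144], ∀ d ∈ [6, 11, 16, 176, -44, -54, -144], (1 : ℤ) + (a + b + c + d) = 0 →
    ∀ u ∈ [-14, -9, -4, 1, 6, 11], 4 ∣ a - u → u.natAbs < a.natAbs → ∀ v ∈ [-14, -9, -4, 1, 6, 11], 4 ∣ b - v →
    v.natAbs < b.natAbs → ∀ w ∈ [-14, -9, -4, 1, 6, 11], 4 ∣ c - w → w.natAbs < c.natAbs →
    ∀ x ∈ [-14, -9, -4, 1, 6, 11], 4 ∣ d - x → x.natAbs < d.natAbs → 1 + (u + v + w + x) ≠ 0 := by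
  decide +kernel

variable {G : Type*} [Group G] [Finite G] [IsSimpleGroup G] (hG : Nat.card G = 95040)
include hG

theorem deg55 : 55 ∈ charDegrees G := by
  obtain ⟨⟨h1, h2⟩, h3, -⟩ := Cfsg.Agent.S0425.result (by decide) Golay.ternary_steiner.1
  have := MulAction.isMultiplyPretransitive_of_le (m := 4) (n := 5)
    (G := setSystemAut {b | ∃ m ∈ Golay.thex, Golay.tc.ofMask m = b}) (α := ArrayPt) (by norm_num) (by simp)
  obtain ⟨e⟩ := isoM12 hG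
  obtain ⟨e'⟩ := isoM12 h2
  obtain ⟨-, -, h4⟩ := irr_of_four (G := setSystemAut {b | ∃ m ∈ Golay.thex, Golay.tc.ofMask m = b}) (X := ArrayPt)
    (by simp)
  rw [Known.charDegrees_congr (e.trans e'.symm)]
  refine Known.mem_charDegrees h4 ?_
  simp [fx, tw]
  norm_num

theorem mod11 (χ : IrrCharacter G) : charDegree χ.1 % 11 ∈ [0, 1, 5, 6, 10] := by
  have := Fact.mk (by norm_num : Nat.Prime 11)
  obtain ⟨P, X, Y, κ, ε, h, -, hC, -⟩ := eleven hG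
  simp only [List.mem_cons, List.not_mem_nil, or_false]
  by_cases h1 : χ ∈ X
  · have := h.av_X h1
    have := h.sign_ε χ h1
    omega
  by_cases h2 : χ ∈ Y
  · have := h.av_Y h2
    have := h.sign
    omega
  · have := h.out hC χ h1 h2
    omega

theorem deg33 : ∃ d ∈ charDegrees G, 33 ∣ d := by
  classical
  by_contra h33
  push Not at h33
  have := Fact.mk Nat.prime_five
  obtain ⟨g, hg⟩ := ten hG
  obtain ⟨a, c, e, f, θ, η, z, T⟩ := exists_tab hG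
  have g10 : g ^ 10 = 1 := hg ▸ pow_orderOf_eq_one g
  have x5 : orderOf (g ^ 2) = 5 := by rw [orderOf_pow' _ (by norm_num), hg]; rfl
  have t2 : orderOf (g ^ 5) = 2 := by rw [orderOf_pow' _ (by norm_num), hg]; rfl
  have c10 : ∀ k, 10 ∣ cc (g ^ k) := fun k =>
    hg ▸ (centralizer {g ^ k}).orderOf_dvd_natCard (Invol.mem_cent.2 (Commute.self_pow g k))
  have t240 : cc (g ^ 5) ≤ 240 := by
    obtain ⟨_, _, _, _, -, -, -, -, h⟩ := T.col hG (ne_one_of_two t2) (by rw [t2]; norm_num)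
    exact ((by decide : ∀ r ∈ LL, r.1 = 1440 ∨ r.1 ≤ 240) _ h).resolve_left
      (T.not1440 hG (k := 1) (by rw [← pow_mul]; exact g10) (ne_one_of_two t2))
  have x1 : g ^ 2 ≠ 1 := fun e => by rw [e, orderOf_one] at x5; omega
  have x10 : cc (g ^ 2) = 10 ∨ cc (g ^ 2) = 180 := by
    obtain ⟨_, C, _, _, -, hC, -, -, h⟩ := T.col hG x1 (by rw [x5]; norm_num)
    have := cong1 Nat.prime_five c (k := 1) (by rw [← pow_mul]; exact g10) hC
    rw [T.dc] at this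
    exact (by decide : ∀ r ∈ LL, 10 ∣ r.1 → (5 : ℤ) ∣ r.2.2.1 - 54 → r.1 = 10 ∨ r.1 = 180) _ h (c10 2) this
  obtain ⟨P, e, t, c, X, Y, κ, ε, h, h1, h2, -, -, h5, -⟩ := exists_pb (ncomm hG) 5 19008 hG (by norm_num)
  obtain ⟨D⟩ := h.dOne
  obtain ⟨u, hu⟩ := D.exists_conj_mem (v := g ^ 2) (by rw [← pow_mul]; exact g10)
  have h3 := (𝐂 P).card_mul_index
  rw [← D.centralizer_eq hu (by simpa using x1), ← card_centralizer_eq_of_isConj (isConj_iff.2 ⟨u, rfl⟩),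
    D.centralizer_eq hu (by simpa using x1), hG] at h3
  have h4 := h.index_C
  have h7 := h.mul
  have h8 : e ≤ 4 := Nat.le_of_dvd (by norm_num) ⟨t, by rw [mul_comm]; omega⟩
  obtain ⟨rfl, rfl, h9⟩ : e = 4 ∧ t = 1 ∧ (𝐂 P).index = 9504 := by
    rcases x10 with e1 | e1 <;> rw [cc] at e1 <;> rw [e1] at h3 <;> interval_cases e <;> omega
  obtain ⟨ψ, hψ⟩ := h.exists_Y
  obtain ⟨W, δ, w1, w2, -, w3, w4⟩ := t_one2 h h1 hψ
  obtain ⟨c', -, -, hX, hS⟩ := enum w1 fun _ => 0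
  choose α hα using int_of_two t2
  have a1 : α (principalIrr G) = 1 := by exact_mod_cast (show _ = (1 : ℂ) from (hα (principalIrr G)).symm)
  have r1 := w3 fun χ => χ.1 1
  have r2 := w3 fun χ => χ.1 (g ^ 5)
  rw [← h.rel ψ hψ _ (by simp [t2]), sub_self, hS, Fin.sum_univ_four] at r1 r2
  simp only [← coe_deg, deg_principal] at r1
  simp only [hα, a1] at r2
  have key : ∀ i, δ (c' i) * charDegree (c' i).1 ∈ [6, 11, 16, 176, -44, -54, -144] ∧
      δ (c' i) * α (c' i) ∈ [-14, -9, -4, 1, 6, 11] ∧ 4 ∣ δ (c' i) * charDegree (c' i).1 - δ (c' i) * α (c' i) ∧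
      (δ (c' i) * α (c' i)).natAbs < (δ (c' i) * charDegree (c' i).1).natAbs := fun i => by
    have m := (hX _).2 ⟨i, rfl⟩
    generalize c' i = χ at m
    obtain ⟨b1, b2, b3⟩ := w4 χ m
    have n1 : χ ≠ principalIrr G := fun e => w2 (e ▸ m)
    have b4 := cong1 Nat.prime_five χ (k := 1) (x := g ^ 2) (by rw [← pow_mul]; exact g10) (b3 _ x5.symm.dvd)
    have b5 := cong (p := 5) (k := 1) Nat.prime_five χ.2.isCharacter (x := g ^ 6) (y := g ^ 5) (Commute.pow_pow_self g _ _)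
      (by rw [← pow_mul, show 6 * 5 ^ 1 = 10 * 3 from rfl, pow_mul, g10, one_pow]) (a := δ χ)
      (by rw [← pow_add, show 6 + 5 = 10 + 1 from rfl, pow_succ, g10, one_mul, b3 g (by rw [hg]; norm_num)]) (hα χ)
    have b6 := four (perf hG) χ (t2 ▸ pow_orderOf_eq_one _) (hα χ)
    have b7 := val_lt (ncomm hG) n1 (ne_one_of_two t2) (hα χ)
    have b8 := nle {χ} (g ^ 5) fun χ _ => hα χ
    rw [Finset.sum_singleton] at b8
    have b9 : -16 < α χ ∧ α χ < 16 := abs_lt.1 (abs_lt_of_sq_lt_sq (by rw [sq]; omega) (by norm_num))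
    have b0 := (by decide +kernel : ∀ d ∈ Nat.divisors 9504, 5 ≤ d → d ≤ 308 → d % 11 ∈ [0, 1, 5, 6, 10] → ¬ 33 ∣ d →
      (d % 5 = 1 → d = 6 ∨ d = 11 ∨ d = 16 ∨ d = 176) ∧ (d % 5 = 4 → d = 44 ∨ d = 54 ∨ d = 144)) _
      (Nat.mem_divisors.2 ⟨h9 ▸ b2, by norm_num⟩) (five_le hG n1) (deg_le hG χ) (mod11 hG χ) (h33 _ ⟨χ, rfl⟩)
    simp only [List.mem_cons, List.not_mem_nil, or_false]
    rcases b1 with e | e <;> rw [e] at b4 b5 ⊢ <;> omega
  exact s5 _ (key 0).1 _ (key 1).1 _ (key 2).1 _ (key 3).1 (by exact_mod_cast r1.symm) _ (key 0).2.1 (key 0).2.2.1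
    (key 0).2.2.2 _ (key 1).2.1 (key 1).2.2.1 (key 1).2.2.2 _ (key 2).2.1 (key 2).2.2.1 (key 2).2.2.2 _ (key 3).2.1
    (key 3).2.2.1 (key 3).2.2.2 (by exact_mod_cast r2.symm)

end Cfsg.Lib.Coprime.M12
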