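import Cfsg.Agent.Lib.Hall.KPi
import Cfsg.Agent.Lib.Hall.ClassSize
import Cfsg.Agent.Lib.PGrp.Basic

/-! Isaacs' lemma on commutators with an abelian normal subgroup and Mann's theorem. -/

namespace Cfsg.Lib.Coprime

open Subgroup Cfsg.Lib.Hall
open scoped commutatorElement

variable {G : Type*} [Group G]

theorem cs_commutator_lt [Finite G] (K : Subgroup G) [hK : K.Normal] (hab : IsMulCommutative K)
    {x t : G} (hx : x ∉ center G) (ht : t ∈ K) : cs ⁅t, x⁆ < cs x := by
  have hc : ∀ a ∈ K, ∀ b ∈ K, a * b = b * a := fun a ha b hb =>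
    congrArg Subtype.val (hab.is_comm.comm (⟨a, ha⟩ : K) ⟨b, hb⟩)
  by_cases hy : ⁅t, x⁆ = 1
  · rw [hy, cs_one]; exact one_lt_cs hx
  set y := ⁅t, x⁆ with hyd
  set C := centralizer ({x} : Set G) with hC
  set H := K ⊔ C with hH
  have hdec : ∀ h ∈ H, ∃ k ∈ K, ∃ c ∈ C, h = k * c := by
    intro h hh
    have : h ∈ ((K ⊔ C : Subgroup G) : Set G) := hh
    rw [normal_mul] at this
    obtain ⟨k, hk, c, hc, rfl⟩ := this
    exact ⟨k, hk, c, hc, rfl⟩
  have hmem : ∀ k ∈ K, ⁅k, x⁆ ∈ K := by
    intro k hk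
    rw [commutatorElement_def]
    have : k * x * k⁻¹ * x⁻¹ = k * (x * k⁻¹ * x⁻¹) := by group
    rw [this]
    exact K.mul_mem hk (hK.conj_mem _ (K.inv_mem hk) x)
  have h1 : {z | ∃ l ∈ H, l * y * l⁻¹ = z}.ncard < {z | ∃ l ∈ H, l * x * l⁻¹ = z}.ncard := by
    have hinj : Function.Injective (fun z : G => z * x) := mul_left_injective x
    rw [← Set.ncard_image_of_injective _ hinj]
    refine Set.ncard_lt_ncard ⟨?_, ?_⟩
    · rintro _ ⟨_, ⟨l, hl, rfl⟩, rfl⟩
      obtain ⟨k, hk, c, hc', rfl⟩ := hdec l hl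
      have hcx : c * x = x * c := mem_cent_iff.1 hc'
      have ht' : c * t * c⁻¹ ∈ K := hK.conj_mem t ht c
      have e1 : c * y * c⁻¹ = ⁅c * t * c⁻¹, x⁆ := by
        have : x = c * x * c⁻¹ := by rw [hcx]; group
        rw [hyd, conjugate_commutatorElement, ← this]
      refine ⟨c * t * c⁻¹, (le_sup_left : K ≤ H) ht', ?_⟩
      have e2 : k * c * y * (k * c)⁻¹ = k * (c * y * c⁻¹) * k⁻¹ := by group
      simp only
      rw [e2, e1, hc k hk _ (hmem _ ht'), commutatorElement_def]
      group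
    · intro hsub
      obtain ⟨z, ⟨l, hl, rfl⟩, hz⟩ := hsub (a := x) ⟨1, H.one_mem, by group⟩
      simp only [mul_eq_right] at hz
      apply hy
      have : y = l⁻¹ * (l * y * l⁻¹) * l := by group
      rw [this, hz]; group
  rw [ncard_conj_orbit, ncard_conj_orbit] at h1
  have h2 : cs x = C.relIndex H * H.index := (relIndex_mul_index le_sup_right).symm
  have h3 : cs y ≤ (centralizer ({y} : Set G)).relIndex H * H.index := by
    rw [← inf_relIndex_right, relIndex_mul_index inf_le_right]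
    exact Nat.le_of_dvd (Nat.pos_of_ne_zero FiniteIndex.index_ne_zero) (index_dvd_of_le inf_le_left)
  have h4 : 0 < H.index := Nat.pos_of_ne_zero FiniteIndex.index_ne_zero
  calc cs y ≤ _ := h3
    _ < _ := Nat.mul_lt_mul_of_pos_right h1 h4
    _ = _ := h2.symm

theorem mann_class_three [Finite G] (A : Subgroup G) [hAn : A.Normal] (hA : IsMulCommutative A)
    (hCA : centralizer (A : Set G) = A) (m : ℕ) (hmin : ∀ x : G, 1 < cs x → m ≤ cs x)
    (M : Subgroup G) (hM : M = closure {x : G | cs x = 1 ∨ cs x = m}) :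
    Subgroup.upperCentralSeries M 3 = ⊤ := by
  have h1 : ∀ x ∈ M, ∀ a ∈ A, ⁅a, x⁆ ∈ center G := by
    intro x hx
    rw [hM] at hx
    induction hx using closure_induction with
    | mem x hx =>
      intro a ha
      by_cases hz : x ∈ center G
      · rw [commutatorElement_eq_one_iff_mul_comm.2 (mem_center_iff.1 hz a)]
        exact one_mem _
      · have hlt := cs_commutator_lt A hA hz ha
        have hxm : cs x = m := hx.resolve_left fun h => hz (cs_eq_one_iff.1 h)
        by_contra hn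
        have := hmin _ (one_lt_cs hn)
        omega
    | one => intro a _; simp [one_mem]
    | mul x y _ _ hx hy =>
      intro a ha
      have : ⁅a, x * y⁆ = ⁅a, x⁆ * (x * ⁅a, y⁆ * x⁻¹) := by
        simp only [commutatorElement_def]; group
      rw [this]
      exact mul_mem (hx a ha) ((inferInstance : (center G).Normal).conj_mem _ (hy a ha) x)
    | inv x _ hx =>
      intro a ha
      have : ⁅a, x⁻¹⁆ = x⁻¹ * ⁅a, x⁆⁻¹ * x⁻¹⁻¹ := by
        simp only [commutatorElement_def]; group
      rw [this]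
      exact (inferInstance : (center G).Normal).conj_mem _ (inv_mem (hx a ha)) _
  have h2 : ⁅A, M⁆ ≤ center G := commutator_le.2 fun a ha x hx => h1 x hx a ha
  have h3 : ⁅⁅A, M⁆, M⁆ = ⊥ := by
    rw [commutator_eq_bot_iff_le_centralizer]
    exact h2.trans (center_le_centralizer _)
  have h4 : ⁅⁅M, M⁆, A⁆ = ⊥ :=
    commutator_commutator_eq_bot_of_rotate (by rwa [commutator_comm M A]) h3
  have h5 : ⁅M, M⁆ ≤ A := by
    rw [commutator_eq_bot_iff_le_centralizer, hCA] at h4; exact h4
  rw [eq_top_iff]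
  intro x _
  refine Subgroup.mem_upperCentralSeries_succ_iff.2 fun y =>
    Subgroup.mem_upperCentralSeries_succ_iff.2 fun z =>
    Subgroup.mem_upperCentralSeries_succ_iff.2 fun w => ?_
  rw [Subgroup.upperCentralSeries_zero, mem_bot, commutatorElement_eq_one_iff_mul_comm]
  have := h1 z z.2 ⁅(x : G), (y : G)⁆ (h5 (commutator_mem_commutator x.2 y.2))
  ext
  simpa [commutatorElement_def] using (mem_center_iff.1 this w).symm

end Cfsg.Lib.Coprime
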