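import Cfsg.Agent.Lib.Coprime.MaxNorm
import Cfsg.Agent.Lib.Linear.MultA
import Cfsg.Agent.Lib.GW.CycSyl
import Cfsg.Agent.Lib.Hall.ClassSize
import Cfsg.Agent.S4211

/-!
# Non-solvable groups in which non-subnormal `{p, q}`-subgroups have maximal normalizers
-/

set_option autoImplicit false

namespace Cfsg.Lib.Coprime

open Subgroup Cfsg.Lib.Core Cfsg.Lib.Amalg Cfsg.Lib.Linear Cfsg.Lib.Known

variable {G : Type*} [Group G] [Finite G] {X : Type*} [Group X] [Finite X] {f : G →* X}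

/-- normalizers of `{p, q}`-subgroups outside `R` are maximal -/
def MR (R : Subgroup G) : Prop := ∀ H : Subgroup G, TP (Nat.card H) → ¬ H ≤ R → IsCoatom (normalizer (H : Set G))

theorem TP.solvable (h : TP (Nat.card G)) : Group.IsSolvable G := by
  obtain ⟨p, q, hp, hq, h⟩ := h
  exact solvable_of_two_primes hp hq h

theorem TP.of_dvd {m n : ℕ} (h : TP n) (e : m ∣ n) : TP m := by
  obtain ⟨p, q, hp, hq, h⟩ := h
  exact ⟨p, q, hp, hq, fun r hr e' => h r hr (e'.trans e)⟩

theorem MR.eq (h : MR f.ker) (hf : Function.Surjective f) (hX : solvableRadical X = ⊥) {H : Subgroup G} (h1 : TP (Nat.card H))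
    (h2 : ¬ H ≤ f.ker) : (normalizer ((H.map f : Subgroup X) : Set X)).comap f = normalizer (H : Set G) :=
  ((h H h1 h2).le_iff.1 (map_le_iff_le_comap.1 (map_le_normalizer_map f le_rfl))).resolve_left fun e => by
    have : (H.map f).Normal := normalizer_eq_top_iff.1 (comap_injective hf (e.trans (comap_top f).symm))
    exact h2 ((Subgroup.map_eq_bot_iff _).1 (eq_bot_iff.2 (hX ▸ le_solvableRadical (h1.of_dvd (card_map_dvd H f)).solvable)))

theorem MR.mn (h : MR f.ker) (hf : Function.Surjective f) (hX : solvableRadical X = ⊥) : MN X := fun K h0 ⟨p, q, hp, hq, h1⟩ => by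
  obtain ⟨S, h2, -, h3⟩ := exists_supplement_coprime (f.comp (K.comap f).subtype).ker
  have h4 : (S.map (K.comap f).subtype).map f = K := by
    have := congrArg (map (f.comp (K.comap f).subtype)) h2
    rwa [Subgroup.map_sup, (Subgroup.map_eq_bot_iff _).2 le_rfl, bot_sup_eq, ← map_map, ← map_map, ← MonoidHom.range_eq_map,
      range_subtype, map_comap_eq_self_of_surjective hf] at this
  have h5 : TP (Nat.card (S.map (K.comap f).subtype)) := ⟨p, q, hp, hq, fun r hr e => h1 r hr (by_contra fun e' => by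
    rw [card_map_of_injective (subtype_injective _)] at e
    refine (hr.coprime_iff_not_dvd).1 (h3 r ((hr.coprime_iff_not_dvd).2 ?_)) e
    rwa [index_ker, MonoidHom.range_comp, range_subtype, map_comap_eq_self_of_surjective hf])⟩
  have h6 : ¬ S.map (K.comap f).subtype ≤ f.ker := fun e => h0 (h4 ▸ (Subgroup.map_eq_bot_iff _).2 e)
  have h7 := h _ h5 h6
  rw [← h.eq hf hX h5 h6, h4] at h7
  exact ⟨fun e => h7.1 (by rw [e, comap_top]), fun L hL => comap_injective hf ((h7.2 _ ((comap_lt_comap_of_surjective hf).2 hL)).trans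
    (comap_top f).symm)⟩

theorem MR.le (h : MR f.ker) (hf : Function.Surjective f) (hX : solvableRadical X = ⊥) {H : Subgroup G} (h1 : TP (Nat.card H))
    (h2 : ¬ H ≤ f.ker) : f.ker ≤ normalizer (H : Set G) := h.eq hf hX h1 h2 ▸ ker_le_comap _ _

theorem rad_of_simple [IsSimpleGroup X] (hc : ¬ IsMulCommutative X) : solvableRadical X = ⊥ :=
  ((solvableRadical_normal X).eq_bot_or_eq_top).resolve_right fun e => not_isSolvable_of_simple hc
    (have := isSolvable_solvableRadical X; isSolvable_of_equiv (topEquiv.symm.trans (MulEquiv.subgroupCongr e.symm)))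

theorem MR.cent (h : MR f.ker) (hf : Function.Surjective f) [IsSimpleGroup X] (hc : ¬ IsMulCommutative X) (h6 : 6 ∣ Nat.card X) :
    (centralizer (f.ker : Set G)).map f = ⊤ := by
  let A : ℕ → Subgroup G := fun p => centralizer {r | r ∈ f.ker ∧ (orderOf r).Coprime p}
  have hA : ∀ p, (A p).Normal := fun p => ⟨fun a ha g r hr => by
    have := ha (g⁻¹ * r * g⁻¹⁻¹) ⟨(MonoidHom.normal_ker f).conj_mem r hr.1 _, by rw [Invol.orderOf_conj]; exact hr.2⟩
    calc _ = g * (g⁻¹ * r * g⁻¹⁻¹ * a) * g⁻¹ := by group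
      _ = _ := by rw [this]; group⟩
  have key : ∀ p, p.Prime → p ∣ 6 → (A p).map f = ⊤ := fun p hp e => by
    have := Fact.mk hp
    obtain ⟨y, hy⟩ := exists_prime_orderOf_dvd_card' p (e.trans h6)
    obtain ⟨x, rfl, hx⟩ := Hall.exists_lift_isPGroup hf hp (Amalg.isPGroup_zpowers_of_orderOf (k := 1) (hy.trans (pow_one p).symm))
    have x1 : f x ≠ 1 := fun e => hp.ne_one (by rw [← hy, e, orderOf_one])
    have h1 : ¬ zpowers x ≤ f.ker := fun e => x1 (e (mem_zpowers x))
    refine (((hA p).map f hf).eq_bot_or_eq_top).resolve_left fun e => x1 (mem_bot.1 (e.le (mem_map_of_mem f fun r hr => ?_)))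
    have h2 := zpowers_le.2 (h.le hf (rad_of_simple hc) (tp_of_isPGroup hx) h1 hr.1)
    have h3 := comm_sup_cent_of_pPrime (by rw [Nat.card_zpowers]; exact hr.2) hx h2
    rcases GW.le_or_le_of_cyclic hx inferInstance (le_sup_left.trans h3.le) (le_sup_right.trans h3.le) with h4 | h4
    · exact ((h3.ge.trans (sup_le h4 le_rfl)) (mem_zpowers x)).2 r (mem_zpowers r)
    · exact absurd ((h3.ge.trans (sup_le le_rfl h4)).trans ((commutator_mono le_rfl (zpowers_le.2 hr.1)).trans
        (commutator_le_right _ _))) h1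
  have := hA 2
  have := hA 3
  have h1 : ⁅(⊤ : Subgroup X), (⊤ : Subgroup X)⁆ = ⊤ := (Normal.eq_bot_or_eq_top inferInstance).resolve_left fun e => hc ⟨⟨fun a b =>
    commutatorElement_eq_one_iff_mul_comm.1 (mem_bot.1 (e.le (commutator_mem_commutator (mem_top a) (mem_top b))))⟩⟩
  have h2 := map_commutator (A 2) (A 3) f
  rw [key 2 Nat.prime_two (by decide), key 3 Nat.prime_three (by decide), h1] at h2
  refine top_le_iff.1 (h2.ge.trans ?_)
  refine map_mono ((commutator_le_inf _ _).trans fun g hg => le_centralizer_iff.1 (Transfer.le_of_forall_prime_pow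
    (K := centralizer (zpowers g : Set G)) fun q hq x hx ⟨k, hk⟩ => ?_) (mem_zpowers g))
  rw [Core.centralizer_zpowers, mem_centralizer_singleton_iff]
  rcases eq_or_ne q 2 with rfl | e
  · exact hg.2 x ⟨hx, Nat.Coprime.coprime_dvd_left (orderOf_dvd_of_pow_eq_one hk) (Nat.Coprime.pow_left k (by decide))⟩
  · exact hg.1 x ⟨hx, Nat.Coprime.coprime_dvd_left (orderOf_dvd_of_pow_eq_one hk)
      (Nat.Coprime.pow_left k ((Nat.coprime_primes hq Nat.prime_two).2 e))⟩

theorem MR.main {F : Type} [Field F] [Finite F] (hF : Nat.card F = 13) {f : G →* PSL2 F} (h : MR f.ker)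
    (hf : Function.Surjective f) : ∃ K S : Subgroup G, K.Normal ∧ S.Normal ∧ K ⊓ S = ⊥ ∧ K ⊔ S = ⊤ ∧
      (Nonempty (K ≃* PSL2 F) ∨ Nonempty (K ≃* SL2 F)) ∧ IsMulCommutative S ∧ (Nat.card K).Coprime (Nat.card S) := by
  have := Fintype.ofFinite F
  have h2 := GW.two_ne_zero_of_odd (F := F) (hF ▸ by decide)
  have hX : Nat.card (PSL2 F) = 1092 := by
    have : 2 * Nat.card (PSL2 F) = _ := card_PSL_two_of_odd (F := F) (hF ▸ by decide)
    rw [hF] at this
    omega
  have := isSimpleGroup_PSL2 (F := F) (by omega)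
  have hc : ¬ IsMulCommutative (PSL2 F) := fun e => not_isSolvable_PSL2 (F := F) (by omega) (Group.isSolvable_of_comm e.is_comm.comm)
  have hR := rad_of_simple hc
  obtain ⟨τ, hτ⟩ := (cclosed_SL2 (K := F) (by rw [← Nat.card_eq_fintype_card]; omega)
    (by rw [← Nat.card_eq_fintype_card]; omega)).exists_lift (π := f.comp (centralizer (f.ker : Set G)).subtype)
    ⟨fun y => by
      obtain ⟨x, hx, rfl⟩ := (h.cent hf hc (by rw [hX]; decide)).ge (mem_top y)
      exact ⟨⟨x, hx⟩, rfl⟩, fun c e g => Subtype.ext (g.2 c e)⟩ (QuotientGroup.mk' _)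
  set θ := (centralizer (f.ker : Set G)).subtype.comp τ
  have t1 : ∀ g, f (θ g) = g := fun g => DFunLike.congr_fun hτ g
  have t2 : ∀ k ∈ θ.range, ∀ r, f r = 1 → Commute r k := by
    rintro _ ⟨g, rfl⟩ r hr
    exact (τ g).2 r hr
  have t3 : ∀ y, ∃ k ∈ θ.range, f k = y := fun y => by
    obtain ⟨g, rfl⟩ := QuotientGroup.mk_surjective y
    exact ⟨_, ⟨g, rfl⟩, t1 g⟩
  have t4 : ∀ k ∈ θ.range, f k = 1 → k ^ 2 = 1 := by
    rintro _ ⟨g, rfl⟩ e
    rw [← map_pow]
    rcases psl2_mk_eq_one_iff.1 ((t1 g).symm.trans e) with rfl | rfl <;> simp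
  have t5 : θ.range ⊔ f.ker = ⊤ := eq_top_iff.2 fun g _ => by
    obtain ⟨k, hk, e⟩ := t3 (f g)
    exact mul_inv_cancel_left k g ▸ mul_mem_sup hk (by simp [e])
  have t6 : ∀ {A : Subgroup G}, θ.range ≤ normalizer (A : Set G) → f.ker ≤ normalizer (A : Set G) → A.Normal := fun a b =>
    normalizer_eq_top_iff.1 (top_le_iff.1 (t5.ge.trans (sup_le a b)))
  have hK : θ.range.Normal := t6 le_normalizer fun r hr => centralizer_le_normalizer _ fun k hk => (t2 k hk r hr).symm
  have s1 : ∀ y, f y = 1 → (orderOf y).Prime → orderOf y ≠ 2 → ¬ orderOf y ∣ 1092 := fun y hy hr r2 e => by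
    have := Fact.mk hr
    obtain ⟨u, hu⟩ := exists_prime_orderOf_dvd_card' _ (hX ▸ e)
    have a1 : Syl (orderOf y) (zpowers u) ⊤ := syl_of_not_dvd le_top
      (Amalg.isPGroup_zpowers_of_orderOf (k := 1) (hu.trans (pow_one _).symm)) fun e' => by
        have a := (zpowers u).card_mul_index ▸ Nat.mul_dvd_mul_left (Nat.card (zpowers u)) (relIndex_top_right (zpowers u) ▸ e')
        rw [hX, Nat.card_zpowers, hu] at a
        have b : orderOf y ^ 2 ∣ 273 := Nat.Coprime.dvd_of_dvd_mul_left (m := 4)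
          (((Nat.coprime_primes hr Nat.prime_two).2 r2).pow 2 2) (sq (orderOf y) ▸ a)
        exact hr.one_lt.ne' (Nat.isUnit_iff.1 ((by decide +kernel : Squarefree 273) _ (sq (orderOf y) ▸ b)))
    refine Transfer.not_pnil_of_simple (by by_contra! e; exact hc ⟨⟨e⟩⟩) (hX ▸ e)
      (a1.sylowIn.pnil_of_normalizer_le_centralizer fun v hv => ?_)
    obtain ⟨x, hx, rfl⟩ := t3 u
    obtain ⟨k, hk, rfl⟩ := t3 v
    have a2 := (t2 x hx y hy).symm
    have a3 : (x * y) ^ (orderOf y * 2) = 1 := by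
      rw [a2.mul_pow, pow_mul, t4 _ (pow_mem hx _) (by rw [map_pow, ← hu, pow_orderOf_eq_one]), pow_mul, pow_orderOf_eq_one]
      simp
    have a4 : f (x * y) = f x := by rw [map_mul, hy, mul_one]
    have a5 := (h.eq hf hR (H := zpowers (x * y)) ⟨_, 2, hr, Nat.prime_two, fun q hq e => ((hq.dvd_mul).1
      ((Nat.card_zpowers (x * y) ▸ e).trans (orderOf_dvd_of_pow_eq_one a3))).imp (Nat.prime_dvd_prime_iff_eq hq hr).1
        (Nat.prime_dvd_prime_iff_eq hq Nat.prime_two).1⟩ fun e => hr.ne_one (by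
          rw [← hu, ← a4, e (mem_zpowers _), orderOf_one])).le (x := k) (by
      rw [MonoidHom.map_zpowers, a4]; exact hv.2)
    obtain ⟨i, hi⟩ := (mem_normalizer_iff.1 a5 _).1 (mem_zpowers _)
    have a6 : y ^ (i - 1) = (x ^ i)⁻¹ * (k * x * k⁻¹) := by
      simp only [a2.mul_zpow] at hi
      rw [zpow_sub_one, eq_inv_mul_iff_mul_eq, ← mul_assoc, hi, mul_assoc, mul_assoc k, mul_assoc, mul_assoc,
        ← mul_assoc y, (t2 _ (inv_mem hk) y hy).eq]
      group
    have a7 := t4 _ (a6 ▸ mul_mem (inv_mem (zpow_mem hx i)) (hK.conj_mem x hx k)) (by rw [map_zpow, hy, one_zpow])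
    rw [← zpow_natCast, ← zpow_mul, ← orderOf_dvd_iff_zpow_eq_one] at a7
    have a8 := ((Nat.coprime_primes hr Nat.prime_two).2 r2).isCoprime.dvd_of_dvd_mul_right a7
    rw [← hu, orderOf_dvd_iff_zpow_eq_one, zpow_sub_one, mul_inv_eq_one] at a8
    have a9 := congrArg f a6
    simp only [map_zpow, hy, one_zpow, map_mul, map_inv, a8] at a9
    rw [Core.centralizer_zpowers, mem_centralizer_singleton_iff, ← mul_inv_eq_iff_eq_mul]
    exact (inv_mul_eq_one.1 a9.symm).symm
  obtain ⟨V, hV, h3⟩ := psl2_exists_klein h2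
  have s2 : ∀ y, f y = 1 → y ^ 2 ∈ θ.range → y ∈ θ.range := fun y hy y2 => by_contra fun hn => by
    have := Fact.mk Nat.prime_three
    obtain ⟨⟨a, ha⟩, a3⟩ := exists_prime_orderOf_dvd_card' 3 ((by norm_num : 3 ∣ 12).trans h3)
    rw [Subgroup.orderOf_mk] at a3
    have h15 := orderOf_dvd_natCard V (centralizer_klein_le h2 hV (x := a) fun v hv => ?_)
    · rw [a3, hV.card_four] at h15
      omega
    rcases eq_or_ne v 1 with rfl | v1
    · simp
    obtain ⟨w, hw, w1, wv⟩ := Invol.klein_exists_ne hV v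
    obtain ⟨a, ha', rfl⟩ := t3 a
    obtain ⟨v, hv', rfl⟩ := t3 v
    obtain ⟨w, hw', rfl⟩ := t3 w
    set D := (zpowers (f v)).comap f ⊓ θ.range
    have b1 : IsPGroup 2 D := fun ⟨g, hg⟩ => ⟨2, Subtype.ext (show g ^ (2 * 2) = 1 by
      rw [pow_mul, t4 _ (pow_mem hg.2 2)]
      rw [map_pow, sq, Invol.klein_mul_self hV (zpowers_le.2 hv hg.1)])⟩
    have b2 := (t2 w hw' y hy).symm
    have b3 : f (w * y) = f w := by rw [map_mul, hy, mul_one]
    have b4 : (w * y) ^ 2 ∈ D := mem_inf.2 ⟨by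
      rw [mem_comap, map_pow, b3, sq, Invol.klein_mul_self hV hw]; exact one_mem _,
      b2.mul_pow 2 ▸ mul_mem (pow_mem hw' 2) y2⟩
    have b5 : zpowers (w * y) ≤ normalizer (D : Set G) := le_normalizer_inf (zpowers_le.2 (le_normalizer_comap f (by
      rw [mem_comap, b3]; exact PGrp.mem_normalizer_zpowers (by rw [(Invol.klein_commute hV hw hv).eq]; simp))))
      le_normalizer_of_normal
    have b6 : IsPGroup 2 (zpowers (w * y)) := by
      obtain ⟨k, hk⟩ := b1 ⟨_, b4⟩
      exact isPGroup_zpowers_of_pow (k := k + 1) (by rw [pow_succ', pow_mul]; exact congrArg Subtype.val hk)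
    have b7 : v ∈ D := ⟨mem_zpowers _, hv'⟩
    have b8 : (D ⊔ zpowers (w * y)).map f = V := by
      rw [Subgroup.map_sup, MonoidHom.map_zpowers, b3]
      refine le_antisymm (sup_le ((map_le_iff_le_comap.2 inf_le_left).trans (zpowers_le.2 hv)) (zpowers_le.2 hw)) ?_
      rw [Invol.klein_eq_closure hV hv hw v1 w1 wv.symm, closure_le, Set.insert_subset_iff, Set.singleton_subset_iff]
      exact ⟨mem_sup_left (mem_map_of_mem f b7), mem_sup_right (mem_zpowers _)⟩
    have b9 := (h.eq hf hR (tp_sup b1 b6 b5) fun e => v1 (e (mem_sup_left b7))).le (x := a) (b8 ▸ ha)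
    obtain ⟨d, hd, _, ⟨j, rfl⟩, e⟩ := (mem_sup_iff_of_le_normalizer b5).1 ((mem_normalizer_iff.1 b9 _).1 (mem_sup_left b7))
    obtain ⟨m, rfl | rfl⟩ := Int.even_or_odd' j
    · have c1 := (mem_inf.1 (e ▸ mul_mem hd (show (w * y) ^ (2 * m) ∈ D by rw [zpow_mul]; exact zpow_mem (by simpa using b4) m))).1
      rw [mem_comap, map_mul, map_mul, map_inv] at c1
      exact (mul_inv_eq_iff_eq_mul.1 ((mem_zpowers_sq (Invol.klein_mul_self hV hv) c1).resolve_left
        (by simpa [mul_inv_eq_one] using v1))).symm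
    · have c1 := e ▸ hK.conj_mem v hv' a
      simp only [zpow_add_one, zpow_mul] at c1
      exact absurd ((mul_mem_cancel_left hw').1 ((mul_mem_cancel_left (zpow_mem (by simpa using (mem_inf.1 b4).2) m)).1
        ((mul_mem_cancel_left (mem_inf.1 hd).2).1 c1))) hn
  have s3 : ∀ k y, f y = 1 → y ^ 2 ^ k = 1 → y ∈ θ.range := fun k => by
    induction k with
    | zero => exact fun y _ e => (pow_one y).symm.trans e ▸ one_mem _
    | succ k ih => exact fun y hy e => s2 y hy (ih _ (by rw [map_pow, hy, one_pow]) (by rwa [← pow_mul, ← pow_succ']))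
  have s4 : ∀ q k y, q.Prime → q ≠ 2 → f y = 1 → y ^ q ^ k = 1 → (zpowers y).Normal := fun q k y hq q2 hy e => by
    have := Fact.mk hq
    obtain ⟨v, hv, v1, -⟩ := Invol.klein_exists_ne hV 1
    obtain ⟨x, hx, rfl⟩ := t3 v
    have a1 : θ.range ≤ normalizer (zpowers y : Set G) := fun k hk =>
      PGrp.mem_normalizer_zpowers (by rw [← (t2 k hk y hy).eq]; simp)
    have a2 := isPGroup_zpowers_of_pow e
    have a3 : IsPGroup 2 (zpowers x) := isPGroup_zpowers_of_pow (k := 2) (show x ^ (2 * 2) = 1 by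
      rw [pow_mul, t4 _ (pow_mem hx 2)]
      rw [map_pow, sq, Invol.klein_mul_self hV hv])
    exact t6 a1 ((h.le hf hR (tp_sup a2 a3 (zpowers_le.2 (a1 hx))) fun e => v1 (e (mem_sup_right (mem_zpowers x)))).trans
      (normalizer_sup_le q2 a2 a3 (zpowers_le.2 (a1 hx))))
  have hS : (oddCore G).Normal := pPrimeCore_normal 2 G
  have hO := odd_card_oddCore G
  have s5 : oddCore G ≤ f.ker := (Subgroup.map_eq_bot_iff _).1 ((hS.map f hf).eq_bot_or_eq_top.resolve_right fun e => by
    have := Odd.of_dvd_nat hO (card_map_dvd _ f)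
    rw [e, card_top, hX] at this
    exact absurd this (by decide))
  have s6 : (Nat.card θ.range).Coprime (Nat.card (oddCore G)) := Nat.coprime_of_dvd fun r hr e1 e2 => by
    have := Fact.mk hr
    obtain ⟨⟨y, hy⟩, a⟩ := exists_prime_orderOf_dvd_card' r e2
    rw [Subgroup.orderOf_mk] at a
    have r2 : r ≠ 2 := by rintro rfl; exact hO.not_two_dvd_nat e2
    refine s1 y (s5 hy) (a ▸ hr) (a ▸ r2) (a ▸ ((Nat.coprime_primes hr Nat.prime_two).2 r2).dvd_of_dvd_mul_left ?_)
    exact e1.trans ((card_range_dvd θ).trans (by rw [card_SL_two, hF]))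
  refine ⟨θ.range, oddCore G, hK, hS, disjoint_iff.1 (Subgroup.disjoint_of_coprime_natCard s6), top_le_iff.1 (t5.ge.trans (sup_le le_sup_left
    (Transfer.le_of_forall_prime_pow fun q hq y hy ⟨k, hk⟩ => ?_))), ?_, ?_, s6⟩
  · rcases eq_or_ne q 2 with rfl | q2
    · exact mem_sup_left (s3 k y hy hk)
    have := s4 q k y hq q2 hy hk
    exact mem_sup_right (le_oddCore (Nat.card_zpowers y ▸ Odd.of_dvd_nat (hq.odd_of_ne_two q2).pow (orderOf_dvd_of_pow_eq_one hk))
      (mem_zpowers y))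
  · have a1 : θ.ker ≤ center (SL2 F) := fun g hg => (QuotientGroup.eq_one_iff _).1 ((t1 g).symm.trans (by rw [hg, map_one]))
    rcases (Nat.dvd_prime Nat.prime_two).1 (GW.card_center_sl2 h2 ▸ card_dvd_of_le a1) with e | e
    · exact Or.inr ⟨(MonoidHom.ofInjective (θ.ker_eq_bot_iff.1 (card_eq_one.1 e))).symm⟩
    · exact Or.inl ⟨(QuotientGroup.quotientKerEquivRange θ).symm.trans (QuotientGroup.quotientMulEquivOfEq
        (eq_of_le_of_card_ge a1 (by rw [e, GW.card_center_sl2 h2])))⟩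
  · by_contra hn
    have hU : ∀ U : Subgroup (oddCore G), U.Normal := fun U => ⟨fun u hu g => ?_⟩
    · obtain ⟨Q, -, -, ⟨e⟩, -⟩ := Agent.S4211.result hn hU
      have := Odd.of_dvd_nat hO (card_subgroup_dvd_card Q)
      rw [Nat.card_congr e.toEquiv, Nat.card_eq_fintype_card, QuaternionGroup.card] at this
      exact absurd this (by decide)
    refine Transfer.le_of_forall_prime_pow (H := cj g U) (fun q hq x hx ⟨k, hk⟩ => ?_) (conj_mem_cj g hu)
    have x1 : x.1 ^ q ^ k = 1 := congrArg Subtype.val hk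
    rcases eq_or_ne q 2 with rfl | q2
    · obtain rfl : x = 1 := orderOf_eq_one_iff.1 (Nat.eq_one_of_dvd_coprimes (hO.coprime_two_left.pow_left k)
        (orderOf_dvd_of_pow_eq_one hk) (orderOf_dvd_natCard x))
      exact one_mem _
    obtain ⟨i, hi⟩ := (s4 q k (g⁻¹ * x * g : oddCore G) hq q2 (s5 (SetLike.coe_mem _)) (by
      simpa using conj_pow (a := (g⁻¹ : G)) (b := x) (i := q ^ k) |>.trans (by simp [x1]))).conj_mem _ (mem_zpowers _) g
    exact (show (g⁻¹ * x * g) ^ i = x from Subtype.ext (by simpa [mul_assoc] using hi)) ▸ zpow_mem (mem_cj.1 hx) i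

end Cfsg.Lib.Coprime
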