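import Mathlib

/-!
# Kernel-friendly enumeration of small symmetric groups by lists
-/

set_option autoImplicit false

namespace Cfsg.Lib.Coprime

open Equiv

/-- the list of values of a permutation -/
def encP {n : ℕ} (σ : Perm (Fin n)) : List ℕ := List.ofFn fun i => (σ i : ℕ)

/-- composition of lists -/
def mulP (a b : List ℕ) : List ℕ := b.map fun j => a.getD j 0

/-- power of a list -/
def powP (n : ℕ) (a : List ℕ) : ℕ → List ℕ
  | 0 => List.range n
  | k + 1 => mulP a (powP n a k)

variable {n : ℕ}

theorem encP_mul (σ τ : Perm (Fin n)) : encP (σ * τ) = mulP (encP σ) (encP τ) := by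
  simp only [encP, mulP, List.map_ofFn]
  congr 1
  ext i
  simp [List.getD_eq_getElem?_getD]

theorem encP_one : encP (1 : Perm (Fin n)) = List.range n := by
  simp only [encP, Perm.coe_one, id]
  exact List.ext_getElem (by simp) (by simp)

theorem encP_pow (σ : Perm (Fin n)) (k : ℕ) : encP (σ ^ k) = powP n (encP σ) k := by
  induction k with
  | zero => exact encP_one
  | succ k ih => rw [pow_succ', encP_mul, ih, powP]

theorem encP_inj {σ τ : Perm (Fin n)} : encP σ = encP τ ↔ σ = τ :=
  ⟨fun h => Equiv.ext fun i => Fin.ext (congrFun (List.ofFn_injective h) i), fun h => h ▸ rfl⟩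

theorem encP_mem (σ : Perm (Fin n)) : encP σ ∈ (List.range n).permutations' := by
  rw [List.mem_permutations', ← encP_one]
  exact σ.ofFn_comp_perm fun i : Fin n => (i : ℕ)

end Cfsg.Lib.Coprime
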