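import Cfsg.Agent.Lib.Clifford.Real
import Cfsg.Agent.Lib.Clifford.TI
import Cfsg.Agent.Lib.Clifford.Frobenius
import Cfsg.Agent.Lib.Clifford.DefZero
import Cfsg.Agent.Lib.Clifford.Cover

/-! Inner products of characters induced from a subgroup with two double cosets, and from a self-centralising
subgroup of prime order. -/

set_option autoImplicit false

namespace Cfsg.Lib.Coprime

open Finset Subgroup Cfsg.Lib.Clifford
open scoped ComplexConjugate IsMulCommutative

variable {Γ : Type*} [Group Γ] [Finite Γ]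

theorem dot_ind_rank_two {B : Subgroup Γ} {w : Γ} (hw : ∀ x ∉ B, ∃ a ∈ B, ∃ b ∈ B, x = a * w * b) {φ ψ : Γ → ℂ}
    (hφ : ClassOn B φ) (hψ : ClassOn B ψ) : dot ⊤ (ind B ⊤ φ) (ind B ⊤ ψ) = dot B φ ψ +
      ((Nat.card Γ : ℂ) - Nat.card B) / Nat.card B ^ 2 * ∑ b ∈ elems B, cut B φ (w⁻¹ * b * w) * conj (ψ b) := by
  classical
  have h0 := card_ne_zero B
  have h1 : ∀ x, ∑ b ∈ elems B, cut B φ (x⁻¹ * b * x) * conj (ψ b) = if x ∈ B then Nat.card B * dot B φ ψ else
      ∑ b ∈ elems B, cut B φ (w⁻¹ * b * w) * conj (ψ b) := fun x => by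
    split_ifs with hx
    · rw [dot, mul_inv_cancel_left₀ h0]
      exact sum_congr rfl fun b hb => by
        rw [cut_of_mem _ (mul_mem (mul_mem (inv_mem hx) (mem_elems.1 hb)) hx), hφ.conj' hx (mem_elems.1 hb)]
    · obtain ⟨a, ha, c, hc, rfl⟩ := hw x hx
      rw [← sum_elems_conj (nrm_self B) ha]
      refine sum_congr rfl fun b hb => ?_
      rw [hψ a ha b (mem_elems.1 hb), ← hφ.cut (nrm_self B) hc]
      congr 2
      group
  rw [dot_ind_right le_top (ind_classOn _ _ _), dot]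
  simp only [ind_apply, mul_assoc _ (Finset.sum _ _), sum_mul]
  rw [← mul_sum, sum_comm]
  rw [sum_congr rfl fun x _ => h1 x, sum_ite, sum_const, sum_const, filter_not, card_sdiff_of_subset (filter_subset _ _),
    show (elems ⊤).filter (· ∈ B) = elems B by ext; simp [mem_elems], card_elems, card_elems, card_top, nsmul_eq_mul, nsmul_eq_mul,
    Nat.cast_sub B.card_le_card_group]
  field_simp

theorem exists_normalizer_data {p : ℕ} (hp : p.Prime) (h1 : (Nat.card Γ).factorization p = 1) {x : Γ} (hx : orderOf x = p) :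
    (normalizer (zpowers x : Set Γ)).index ≡ 1 [MOD p] ∧
      (centralizer (zpowers x : Set Γ)).relIndex (normalizer (zpowers x : Set Γ)) ∣ p - 1 := by
  have := Fact.mk hp
  have h2 := card_sylow_modEq_one p Γ
  rw [(Sylow.ofCard (p := p) (zpowers x) (by rw [Nat.card_zpowers, hx, h1, pow_one])).card_eq_index_normalizer] at h2
  have h5 := card_subgroup_dvd_card (zpowers x).normalizerMonoidHom.range
  rw [IsCyclic.card_mulAut, ← index_ker, Nat.card_zpowers, hx, Nat.totient_prime hp, normalizerMonoidHom_ker] at h5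
  exact ⟨h2, h5⟩

theorem exists_ind_prime {p : ℕ} (hp : p.Prime) {x : Γ} (hx : orderOf x = p) (hC : centralizer (zpowers x : Set Γ) ≤ zpowers x) :
    ∃ β : Γ → ℂ, GenOn ⊤ β ∧ β 1 = 0 ∧ dot ⊤ β β = (zpowers x).relIndex (normalizer (zpowers x : Set Γ)) + 1 ∧
      dot ⊤ β 1 = 1 ∧ ∀ χ, ClassOn ⊤ χ → (∀ g, p ∣ orderOf g → χ g = 0) → dot ⊤ β χ = 0 := by
  have := Fact.mk hp
  set T := zpowers x
  set N := normalizer (T : Set Γ)
  have hTN : T ≤ N := le_normalizer
  have hN : Nrm N T := nrm_of_le_normalizer le_rfl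
  have hT : ∀ a ∈ T, a ≠ 1 → zpowers a = T := fun a ha h1 => eq_of_le_of_card_ge (zpowers_le.2 ha) (by
    rw [Nat.card_zpowers, Nat.card_zpowers, hx, ((Nat.dvd_prime hp).1 (hx ▸ orderOf_dvd_of_mem_zpowers ha)).resolve_left
      (mt orderOf_eq_one_iff.1 h1)])
  obtain ⟨l, hl, h2⟩ := exists_IrrKer_ne (K := T) bot_le (nrm_of_normal _ _) (x := x) (by
    rw [mem_bot, ← orderOf_eq_one_iff, hx]; exact hp.ne_one)
  have hl := irrOn_of_mem (IrrKer_subset hl)
  have h1 := hl.degree_one_of_comm fun a ha b hb => congrArg Subtype.val (mul_comm (⟨a, ha⟩ : T) ⟨b, hb⟩)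
  have h3 : ¬ ∀ n ∈ T, l n = 1 := fun h => h2 (by rw [h1, h x (mem_zpowers x)])
  have h4 : dot T l 1 = 0 := hl.dot_eq_zero (irrOn_one T) h3
  have h5 := (irrOn_ind_iff hTN hN hl).2 (FrobKer.inertia_le (fun a ha h1 g hg e => hC (by
    rw [← hT a ha h1]
    rintro _ ⟨k, rfl⟩
    exact (Commute.zpow_left e.symm k).eq)) hTN hN hl h3)
  have h6 : GenOn T (1 - l) := (genOn_one T).sub hl.genOn
  have h7 : ∀ y ∈ N, y ∉ (T : Set Γ) → ind T N (1 - l) y = 0 := fun y _ hy => ind_of_notMem_nrm le_rfl hN _ hy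
  refine ⟨ind T ⊤ (1 - l), h6.ind le_top, by simp [ind_one, h1], ?_, ?_, fun χ hχ h0 => ?_⟩
  · rw [← ind_ind hTN le_top, dot_ind_ind_ti le_top (A := T) (fun g _ hg a ha h => by_contra fun h1 => hg
      (mem_normalizer_fintype fun n hn => ?_)) h7 (by simp [ind_one hTN, h1]) (ind_classOn _ _ _) fun y h h' _ => h7 y h h',
      ind_sub, dot_sub_left, dot_sub_right, dot_sub_right, h5.dot_self, dot_ind_left hTN _ (ind_classOn _ _ _),
      dot_ind_left hTN l (ind_classOn _ _ _), dot_ind_right hTN (ind_classOn T N 1), ind_one_nrm hTN hN]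
    · simp [dot_smul_left, dot_smul_right, dot_cut_left, dot_cut_right, h4, dot_eq_zero_comm.1 h4, (irrOn_one T).dot_self]
    · obtain ⟨k, rfl⟩ : n ∈ zpowers a := (hT a ha h1).ge hn
      exact (conj_zpow (a := g) (b := a) (i := k)) ▸ zpow_mem (show _ ∈ T from h) k
  · rw [dot_ind_left le_top _ (classOn_one _), dot_sub_left, h4, (irrOn_one T).dot_self, sub_zero]
  · rw [dot_ind_left le_top _ hχ, dot, sum_eq_zero, mul_zero]
    intro a ha
    by_cases e : a = 1
    · simp [e, h1]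
    · rw [h0 a (by rw [← Nat.card_zpowers, hT a (mem_elems.1 ha) e, Nat.card_zpowers, hx]), map_zero, mul_zero]

end Cfsg.Lib.Coprime
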