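import Cfsg.Prelude.Def_Perm
import Cfsg.Agent.Lib.Hall.Sh2d
import Cfsg.Agent.Lib.BG1.Elem
import Cfsg.Agent.Lib.FT.Cor

/-!
# One-dimensional affine and semi-affine groups
-/

set_option autoImplicit false

namespace Cfsg.Lib.Coprime

open Subgroup Cfsg.Lib.BG1 Cfsg.Lib.Hall Cfsg.Lib.Hall.Lin

section
variable {F : Type*} [Field F]

/-- the semi-affine map with given parameters -/
def semiMk (a : Fˣ) (b : F) (φ : F ≃+* F) : semiaffineGroup F :=
  ⟨(φ.toEquiv.trans (Units.mulLeft a)).trans (Equiv.addRight b), a, b, φ, fun _ => rfl⟩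

theorem semi_unique {a a' : Fˣ} {b b' : F} {φ φ' : F ≃+* F} (h : ∀ x, a * φ x + b = a' * φ' x + b') :
    a = a' ∧ b = b' ∧ φ = φ' := by
  obtain rfl : b = b' := by simpa using h 0
  obtain rfl : a = a' := Units.ext (by simpa using h 1)
  exact ⟨rfl, rfl, RingEquiv.ext fun x => by simpa using h x⟩

theorem card_semiaffine : Nat.card (semiaffineGroup F) = Nat.card Fˣ * (Nat.card F * Nat.card (F ≃+* F)) := by
  rw [← Nat.card_prod, ← Nat.card_prod]
  refine (Nat.card_eq_of_bijective (fun t : Fˣ × F × (F ≃+* F) => semiMk t.1 t.2.1 t.2.2) ⟨fun s t e => ?_, ?_⟩).symm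
  · obtain ⟨h1, h2, h3⟩ := semi_unique fun x => congrArg (fun z : semiaffineGroup F => z.1 x) e
    exact Prod.ext h1 (Prod.ext h2 h3)
  · rintro ⟨σ, a, b, φ, h⟩
    exact ⟨(a, b, φ), Subtype.ext (Equiv.ext fun x => (h x).symm)⟩

theorem card_affine : Nat.card (affineGroup F) = Nat.card Fˣ * Nat.card F := by
  rw [← Nat.card_prod]
  refine (Nat.card_eq_of_bijective (fun t : Fˣ × F => (⟨(semiMk t.1 t.2 1).1, t.1, t.2, fun _ => rfl⟩ : affineGroup F))
    ⟨fun s t e => ?_, ?_⟩).symm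
  · obtain ⟨h1, h2, -⟩ := semi_unique (φ := 1) (φ' := 1) fun x => congrArg (fun z : affineGroup F => z.1 x) e
    exact Prod.ext h1 h2
  · rintro ⟨σ, a, b, h⟩
    exact ⟨(a, b), Subtype.ext (Equiv.ext fun x => (h x).symm)⟩

theorem exists_semiHom : ∃ θ : semiaffineGroup F →* (F ≃+* F), ∀ σ, θ σ = 1 → σ.1 ∈ affineGroup F := by
  choose a b φ h using fun σ : semiaffineGroup F => σ.2
  refine ⟨MonoidHom.mk' φ fun σ τ => (semi_unique (a := a (σ * τ)) (b := b (σ * τ))
    (a' := a σ * Units.map (φ σ : F →* F) (a τ)) (b' := a σ * φ σ (b τ) + b σ) fun x => ?_).2.2,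
    fun σ e => ⟨a σ, b σ, fun x => by rw [h, show φ σ = 1 from e]; rfl⟩⟩
  rw [← h, Subgroup.coe_mul, Equiv.Perm.mul_apply, h, h]
  simp [mul_add, mul_assoc, add_assoc]

theorem equiv_affine {G : Type*} [Group G] [Finite F] (f : G →* semiaffineGroup F) (hf : Function.Injective f)
    (h1 : (Nat.card G).Coprime (Nat.card (F ≃+* F))) (h2 : Nat.card G = Nat.card Fˣ * Nat.card F) :
    Nonempty (G ≃* affineGroup F) := by
  obtain ⟨θ, h⟩ := exists_semiHom (F := F)
  refine ⟨MulEquiv.ofBijective (((semiaffineGroup F).subtype.comp f).codRestrict _ fun g => h _ ?_)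
    ((Nat.bijective_iff_injective_and_card _).2 ⟨fun x y e => hf (Subtype.ext (congrArg (fun z : affineGroup F => z.1) e)),
      h2.trans card_affine.symm⟩)⟩
  rw [← orderOf_eq_one_iff]
  exact Nat.eq_one_of_dvd_coprimes h1 ((orderOf_map_dvd (θ.comp f) g).trans (orderOf_dvd_natCard g)) (orderOf_dvd_natCard _)

end

variable {G : Type*} [Group G] [Finite G] {p : ℕ} [Fact p.Prime] {S H : Subgroup G} [S.Normal]

theorem exists_semiaffine [hS : Fact (IsElementaryAbelian p S)] (hc : H.IsComplement' S) (hC : centralizer (S : Set G) ≤ S)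
    {F K : Type*} [Field F] [Fintype F] [Field K] [Finite K] (hK : Nat.card S = Nat.card K) (e : EV p S ≃+ F)
    (he : ∀ h : H, ∃ (a : F) (σ : F ≃+* F), ∀ v, e (autRep p S (MulAut.conjNormal (h : G)) v) = a * σ (e v)) :
    ∃ f : G →* semiaffineGroup K, Function.Injective f := by
  have := Fintype.ofFinite K
  let ψ : F ≃+* K := FiniteField.ringEquivOfCardEq (by
    rw [← Nat.card_eq_fintype_card, ← Nat.card_eq_fintype_card, ← hK, ← Nat.card_congr e.toEquiv, EV.card_eq])
  let π : G →* H := hc.QuotientMulEquiv.toMonoidHom.comp (QuotientGroup.mk' S)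
  have hπ : ∀ g, g * (π g : G)⁻¹ ∈ S := fun g => by
    have h1 : ((π g : G) : G ⧸ S) = g := hc.QuotientMulEquiv.symm_apply_apply g
    simpa using Subgroup.Normal.conj_mem inferInstance _ (QuotientGroup.eq.1 h1) (π g : G)
  have hm : ∀ (g : G) (v : EV p S), g * v.val * (π g : G)⁻¹ =
      (autRep p S (MulAut.conjNormal (π g : G)) v + EV.mk p ⟨_, hπ g⟩).val := fun g v => by
    rw [add_comm, EV.val_add]
    show _ = g * (π g : G)⁻¹ * (π g * v.val * (π g : G)⁻¹)
    group
  letI : MulAction G (EV p S) :=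
    { smul := fun g v => EV.mk p ⟨g * v.val * (π g : G)⁻¹, hm g v ▸ EV.val_mem _⟩
      one_smul := fun v => EV.ext' (show 1 * v.val * ((π 1 : H) : G)⁻¹ = _ by simp)
      mul_smul := fun g k v => EV.ext' (show g * k * v.val * ((π (g * k) : H) : G)⁻¹ =
        g * (k * v.val * (π k : G)⁻¹) * (π g : G)⁻¹ by simp [mul_assoc]) }
  have hs : ∀ (g : G) (v : EV p S), (g • v).val = g * v.val * (π g : G)⁻¹ := fun _ _ => rfl
  let E := e.toEquiv.trans ψ.toEquiv
  refine ⟨(E.permCongrHom.toMonoidHom.comp (MulAction.toPermHom G (EV p S))).codRestrict _ fun g => ?_,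
    (injective_iff_map_eq_one _).2 fun g hg => ?_⟩
  · obtain ⟨a, σ, h⟩ := he (π g)
    have a0 : a ≠ 0 := fun a0 => one_ne_zero (α := F) (by
      have := h (autRep p S (MulAut.conjNormal (π g : G))⁻¹ (e.symm 1))
      rwa [a0, zero_mul, ← Module.End.mul_apply, ← map_mul, mul_inv_cancel, map_one, Module.End.one_apply,
        e.apply_symm_apply] at this)
    refine ⟨Units.mk0 (ψ a) (by simpa using a0), ψ (e (EV.mk p ⟨_, hπ g⟩)), ψ.symm.trans (σ.trans ψ), fun x => ?_⟩
    show ψ (e (g • e.symm (ψ.symm x))) = _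
    rw [EV.ext' ((hs _ _).trans (hm _ _)), map_add, map_add, h]
    simp
  · have h1 : ∀ v : EV p S, g * v.val * (π g : G)⁻¹ = v.val := fun v => by
      have h2 : E (g • E.symm (E v)) = E v := congrArg (fun z : semiaffineGroup K => z.1 (E v)) hg
      rw [E.symm_apply_apply] at h2
      exact congrArg EV.val (E.injective h2)
    have h2 : g = π g := by simpa [mul_inv_eq_one] using h1 0
    have h3 : g ∈ S := hC fun x hx => by
      have := h1 (EV.mk p ⟨x, hx⟩)
      rw [← h2, mul_inv_eq_iff_eq_mul] at this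
      exact this.symm
    exact disjoint_def.1 hc.disjoint (h2 ▸ (π g).2) h3

theorem exists_semiaffine_two (hS : IsElementaryAbelian 2 S) (h0 : S ≠ ⊥) (ho : Odd S.index)
    (hC : centralizer (S : Set G) ≤ S) (ht : ∀ x ∈ S, ∀ y ∈ S, x ≠ 1 → y ≠ 1 → IsConj x y)
    {K : Type*} [Field K] [Finite K] (hK : Nat.card S = Nat.card K) :
    Nat.card S - 1 ∣ S.index ∧ ∃ f : G →* semiaffineGroup K, Function.Injective f := by
  have := Fact.mk hS
  have h2 := EV.card_eq_pow (p := 2) (V := S)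
  obtain ⟨H, hc⟩ := exists_left_complement'_of_coprime (N := S) (h2 ▸ (Nat.coprime_two_left.2 ho).pow_left _)
  have h3 := hc.index_eq_card
  have := FT.odd_order_solvable H (h3 ▸ ho)
  have : Nontrivial (EV 2 S) := Finite.one_lt_card_iff_nontrivial.1 (by
    rw [EV.card_eq]; exact (one_lt_card_iff_ne_bot S).2 h0)
  let ρ : H →* Module.End (ZMod 2) (EV 2 S) := (autRep 2 S).comp (MulAut.conjNormal.comp H.subtype)
  have hv : ∀ h v, (ρ h v).val = h * v.val * (h : G)⁻¹ := fun _ _ => rfl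
  have hi : Function.Injective ρ := (injective_iff_map_eq_one ρ).2 fun h e => Subtype.ext
    (disjoint_def.1 hc.disjoint h.2 (hC fun x hx => by
      have := hv h (EV.mk 2 ⟨x, hx⟩)
      rw [e, eq_mul_inv_iff_mul_eq] at this
      exact this))
  have htr : Tr ρ := fun v w h4 h5 => by
    obtain ⟨g, hg⟩ := isConj_iff.1 (ht _ v.val_mem _ w.val_mem (EV.val_eq_one.not.2 h4) (EV.val_eq_one.not.2 h5))
    obtain ⟨⟨h, s⟩, rfl⟩ := hc.existsUnique g |>.exists
    refine ⟨h, EV.ext' (((hv _ _).trans ?_).trans hg)⟩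
    have h6 : (s : G) * v.val = v.val * s := congrArg Subtype.val (hS.1.is_comm.comm s ⟨_, v.val_mem⟩)
    show _ = (h : G) * s * v.val * ((h : G) * s)⁻¹
    rw [mul_assoc (h : G) s, h6]
    group
  refine ⟨by simpa [EV.card_eq, h3] using htr.card_dvd, ?_⟩
  obtain ⟨A, hA⟩ := exists_maxAb H
  have := hA.normal
  have hI : Irr ρ A := by_contra fun hI => by
    have h4 := htr.huppert hi hA hI
    have h5 : 2 ∣ Nat.card (EV 2 S) := by
      rw [EV.card_eq, h2]
      exact dvd_pow_self 2 Module.finrank_pos.ne'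
    simp only [Set.mem_insert_iff, Set.mem_singleton_iff] at h4
    omega
  obtain ⟨F, _, _, _, _, χ, θ, hf⟩ := htr.exists_fld hi hA.comm
  obtain ⟨F', _, _, e, he⟩ := hf.semilinear hI
  exact exists_semiaffine hc hC hK e he

end Cfsg.Lib.Coprime
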