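import Cfsg.Agent.Lib.Small.Sieve2
import Cfsg.Agent.Lib.Transfer.Apps
import Cfsg.Agent.S0983
import Cfsg.Agent.S0496
import Cfsg.Agent.S4501

/-!
# The orders of the non-abelian simple groups of order less than `6000`
-/

set_option autoImplicit false
set_option maxRecDepth 100000

namespace Cfsg.Lib.Coprime.Small6

open Cfsg Subgroup Cfsg.Lib.Small Cfsg.Lib.Amalg Cfsg.Lib

theorem key : ((List.range' 1093 2548).all fun n => kill 80 n || n == 1800 || n == 2448 || n == 2520 || n == 2700 ||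
    n == 3360 || n == 3420 || n == 3600) = true := by decide +kernel

theorem aux150 {H : Type*} [Group H] [Finite H] (h : Nat.card H = 150) : Nat.card (Sylow 5 H) ≠ 6 := fun h6 => by
  have := Fact.mk Nat.prime_two
  have := Fact.mk Nat.prime_five
  obtain ⟨T⟩ : Nonempty (Sylow 2 H) := inferInstance
  obtain ⟨P⟩ : Nonempty (Sylow 5 H) := inferInstance
  have hT := card_sylow_subgroup_eq T (a := 1) (m := 75) h (by norm_num)
  obtain ⟨K, hK, h1, -⟩ := exists_normal_complement_of_normalizer_le T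
    (relIndex_eq_one.1 (Nat.dvd_one.1 (relIndex_centralizer_dvd_of_card_prime (p := 2) hT)))
  have h2 := K.card_mul_index
  have h3 := card_sylow_normal P K
  rw [inf_eq_left.2 (((syl_top P).inf_normal_top K).of_le_of_not_dvd le_top (by
    rw [relIndex_top_right, h1, hT]; norm_num) |>.le_of_le inf_le_left le_top P.2 |>.trans inf_le_right),
    index_normalizer_sylow, h6] at h3
  have := card_sylow_dvd_card (G := K) (p := 5)
  rw [h1, hT, h] at h2
  rw [h3, show Nat.card K = 75 by omega] at this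
  omega

variable {G : Type*} [Group G] [Finite G] [IsSimpleGroup G]

theorem no3360 : Nat.card G ≠ 3360 := fun h =>
  absurd (not_joint (G := G) (p := 7) (q := 3) (not_isMulCommutative_of_not_prime (by rw [h]; norm_num)) 20 h
    (by norm_num) (by norm_num) (by norm_num) rfl (by norm_num) rfl (by norm_num) (by norm_num) (by norm_num)
    [2, 3, 5, 7] (by simp; norm_num) (fun d => d != 16) (by decide +kernel)) (by decide +kernel)

theorem no2700 (hG : ¬ IsMulCommutative G) : Nat.card G ≠ 2700 := fun h => by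
  obtain ⟨e⟩ := (Cfsg.Agent.S4501.result (G := G) (by
    by_contra h1; push Not at h1; exact hG ⟨⟨h1⟩⟩) 5 3 2 3 (by norm_num) (by norm_num) (by norm_num) le_rfl).1 h
  have := Nat.card_congr e.toEquiv
  rw [h, nat_card_alternatingGroup] at this
  simp [Nat.factorial] at this

theorem line (hG : ¬ IsMulCommutative G) {c : ℕ} (hc : c = 72 ∨ c = 144) (hn : Nat.card G = 5 ^ 2 * c) (P : Sylow 5 G) :
    Nat.card (Sylow 5 G) = 36 ∧ ∃ D : Subgroup G, D ≤ P ∧ Nat.card D = 5 ∧ (𝐍 D).index = 12 ∧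
      Nat.card (Sylow 5 (𝐍 D)) = 6 := by
  have := Fact.mk Nat.prime_five
  have hd : 5 ∣ Nat.card G := by omega
  have hP := card_sylow_subgroup_eq P (a := 2) (m := c) hn (by omega)
  have h2 := ncard_gam_ne hG hd P (by omega)
  obtain ⟨m, h1⟩ := exists_ncard_gam P
  have hs : Nat.card (Sylow 5 G) = 36 := by
    have h1 := (card_sylow_dvd (G := G) (p := 5) (a := 2) (m := c) hn (by omega)).trans (show c ∣ 144 by rcases hc with rfl | rfl <;> norm_num)
    have h2 := card_sylow_mod (G := G) (p := 5)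
    have h3 := (show 25 ∣ 2 * Nat.card G by omega).trans (two_mul_card_dvd_factorial_card_sylow hG hd)
    have := Nat.le_of_dvd (by norm_num) h1
    have h5 : Nat.card (Sylow 5 G) ≠ 1 := fun h => by simp [h] at h3
    have h6 : Nat.card (Sylow 5 G) ≠ 6 := fun h => by simp [h, Nat.factorial] at h3
    generalize Nat.card (Sylow 5 G) = s at *
    interval_cases s <;> omega
  obtain ⟨R, hR⟩ := Set.nonempty_of_ncard_ne_zero (s := gam P) (by omega)
  obtain ⟨k, r, h0, h3, h4, h5, h6, h7, h7'⟩ := exists_line hR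
  have h8 := mem_gam.1 hR
  have h9 := (show 25 ∣ 2 * Nat.card G by omega).trans (two_mul_card_dvd_factorial_index hG
    (normalizer_ne_top_of_isPGroup hG (P.2.to_inf_left (K := R)) (by rw [← one_lt_card_iff_ne_bot]; omega)))
  have h11 : k - 1 ≤ r * (k - 1) := Nat.le_mul_of_pos_left _ h5
  rw [hs] at h1 h2 h7
  refine ⟨hs, P ⊓ R, inf_le_left, by omega, ?_⟩
  obtain rfl | rfl : k = 6 ∨ k = 11 := by omega
  · obtain rfl | rfl : r = 1 ∨ r = 2 := by omega
    · rw [show (𝐍 ((P : Subgroup G) ⊓ R)).index = 6 by omega] at h9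
      simp [Nat.factorial] at h9
    · exact ⟨by omega, h0⟩
  · omega

theorem no1800 (hG : ¬ IsMulCommutative G) : Nat.card G ≠ 1800 := fun h => by
  have := Fact.mk Nat.prime_five
  obtain ⟨P⟩ : Nonempty (Sylow 5 G) := inferInstance
  obtain ⟨-, D, -, -, h1, h2⟩ := line hG (Or.inl rfl) h P
  have := (𝐍 D).card_mul_index
  rw [h1, h] at this
  exact aux150 (by omega) h2

theorem no3600 (hG : ¬ IsMulCommutative G) : Nat.card G ≠ 3600 := fun h => by
  have := Fact.mk Nat.prime_five
  obtain ⟨P⟩ : Nonempty (Sylow 5 G) := inferInstance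
  obtain ⟨hs, D, hD, h0, h1, h2⟩ := line hG (Or.inr rfl) h P
  have hP := card_sylow_subgroup_eq P (a := 2) (m := 144) h (by omega)
  have hc := IsPGroup.isMulCommutative_of_card_eq_prime_sq hP
  have h3 : Nat.card (𝐍 D) = 300 := by have := (𝐍 D).card_mul_index; rw [h1, h] at this; omega
  have hPC : (P : Subgroup G) ≤ 𝐂 D := (le_centralizer _).trans (centralizer_le hD)
  have hPN : (P : Subgroup G) ≤ 𝐍 D := hPC.trans (centralizer_le_normalizer _)
  have h4 : 𝐍 D ≤ 𝐂 D := by
    have h5 := card_sylow_normal (P.subtype hPN) ((𝐂 D).subgroupOf (𝐍 D))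
    rw [inf_eq_left.2 (show ((P.subtype hPN : Sylow 5 (𝐍 D)) : Subgroup (𝐍 D)) ≤ (𝐂 D).subgroupOf (𝐍 D) from
      fun x hx => hPC hx), index_normalizer_sylow, h2] at h5
    have h6 := card_normalizer_mul_card_sylow (G := (𝐂 D).subgroupOf (𝐍 D)) (p := 5) default
    have h7 : Nat.card ((𝐂 D).subgroupOf (𝐍 D)) = Nat.card (𝐂 D) :=
      Nat.card_congr (subgroupOfEquivOfLe (centralizer_le_normalizer _)).toEquiv
    have h8 := card_dvd_of_le hPC
    have h9 := card_dvd_of_le (centralizer_le_normalizer (D : Set G))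
    rw [h5, h7] at h6
    rw [hP] at h8
    rw [h3] at h9
    have h10 : Nat.card (𝐂 D) ≠ 150 := fun e => aux150 (h7.trans e) h5
    have h11 := Nat.le_of_dvd (by norm_num) h9
    have h12 : 0 < Nat.card (𝐂 D) := Nat.card_pos
    exact (eq_of_le_of_card_ge (centralizer_le_normalizer _) (by rw [h3]; omega)).ge
  have h5 : (𝐍 D).relIndex (𝐍 (P : Subgroup G)) = 2 := by
    have h6 := (ncard_lin (P := P) (by rw [h0, hP]; rfl) hD)
    have h7 := card_normalizer_mul_card_sylow P
    have h8 := ((𝐍 (P : Subgroup G)).subgroupOf (𝐍 D)).card_mul_index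
    have h9 := ((𝐍 D).subgroupOf (𝐍 (P : Subgroup G))).card_mul_index
    rw [h6.1, h2] at h6
    rw [hs, h] at h7
    change _ * relIndex _ _ = _ at h8 h9
    rw [← h6.2, h3, ← inf_subgroupOf_right, Nat.card_congr (subgroupOfEquivOfLe inf_le_right).toEquiv] at h8
    rw [← inf_subgroupOf_right, Nat.card_congr (subgroupOfEquivOfLe inf_le_right).toEquiv, inf_comm,
      show Nat.card ↥(𝐍 (P : Subgroup G) ⊓ 𝐍 D) = 50 by omega] at h9
    omega
  obtain ⟨n, hn, h6, h7⟩ := relIndex_eq_two_iff_exists_notMem_and.1 h5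
  obtain ⟨d, hd⟩ := exists_prime_orderOf_dvd_card' (G := D) 5 h0.symm.dvd
  have hd1 : (d : G) ≠ 1 := fun e => by rw [← orderOf_coe, e, orderOf_one] at hd; omega
  have hz := eq_zpowers_of_mem_card_prime h0 d.2 hd1
  have c1 : ∀ m ∈ 𝐍 D, m * d * m⁻¹ = d := fun m hm => by rw [← h4 hm d d.2, mul_inv_cancel_right]
  have c2 : ∀ m ∈ 𝐍 (P : Subgroup G), m ∈ 𝐍 D → m * (n⁻¹ * d * n) * m⁻¹ = n⁻¹ * d * n := fun m hm hm' => by
    have := c1 _ ((h7 _ (mul_mem (mul_mem hn hm) (inv_mem hn))).resolve_left fun e =>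
      h6 (by simpa using mul_mem e (inv_mem hm')))
    conv_rhs => rw [← this]
    group
  have c3 : n⁻¹ * (n⁻¹ * d * n) * n = d := by
    have := c1 _ (inv_mem ((h7 n hn).resolve_right h6))
    conv_rhs => rw [← this]
    simp only [mul_inv_rev, inv_inv, mul_assoc]
  have hd' : n⁻¹ * d * n ∈ (P : Subgroup G) := by simpa using (mem_normalizer_iff.1 (inv_mem hn) _).1 (hD d.2)
  have c4 : (n⁻¹ * d * n) * d = d * (n⁻¹ * d * n) := le_centralizer (P : Subgroup G) (hD d.2) _ hd'
  have hT := Transfer.sylowIn_top P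
  have h8 := (hT.fitting_decomp hc).1
  rw [← hT.commutator_inf_of_comm hc, show ⁅(⊤ : Subgroup G), (⊤ : Subgroup G)⁆ = ⊤ from commutator_eq_top_of_simple hG] at h8
  have h9 : d * (n⁻¹ * d * n) = 1 := mem_bot.1 (h8 ▸ ⟨⟨mul_mem (hD d.2) hd', fun b hb => by
    refine mul_inv_eq_iff_eq_mul.1 ?_
    rcases h7 b hb.2 with e | e
    · have e1 := c1 _ e
      have e2 := c2 _ (mul_mem hb.2 hn) e
      calc b * (d * (n⁻¹ * d * n)) * b⁻¹
          = (b * n * (n⁻¹ * d * n) * (b * n)⁻¹) * (b * n * (n⁻¹ * (n⁻¹ * d * n) * n) * (b * n)⁻¹) := by group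
        _ = _ := by rw [e2, c3, e1, c4]
    · rw [← conj_mul, c1 b e, c2 b hb.2 e]⟩, trivial, mul_mem (hD d.2) hd'⟩)
  refine h6 (by
    rw [← inv_mem_iff, ← hz]
    refine mem_normalizer_fintype ?_
    rintro _ ⟨k, rfl⟩
    refine ⟨-k, ?_⟩
    beta_reduce
    rw [← conj_zpow, inv_inv, zpow_neg, ← inv_zpow, eq_inv_of_mul_eq_one_right h9])

theorem card_cases (hG : ¬ IsMulCommutative G) (h : Nat.card G < 6000) :
    Nat.card G ∈ [60, 168, 360, 504, 660, 1092, 2448, 2520, 3420, 4080, 5616] := by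
  simp only [List.mem_cons, List.not_mem_nil, or_false]
  rcases le_or_gt (Nat.card G) 1092 with h1 | h1
  · have := Cfsg.Agent.S0496.result hG h1; omega
  rcases le_or_gt (Nat.card G) 3640 with h2 | h2
  · have h3 := List.all_eq_true.1 key (Nat.card G) (List.mem_range'_1.2 (by omega))
    simp only [Bool.or_eq_true, beq_iff_eq, or_assoc] at h3
    have := h3.resolve_left (not_kill hG 80)
    have := no1800 hG
    have := no2700 hG
    have := no3360 (G := G)
    have := no3600 hG
    omega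
  · have := Cfsg.Agent.S0983.result hG h2 (by omega); omega

end Cfsg.Lib.Coprime.Small6
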