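import Cfsg.Agent.Lib.Exc.Nat2
import Cfsg.Agent.Lib.Coprime.Neumann
import Cfsg.Agent.Lib.Coprime.PermL
import Cfsg.Agent.Lib.Linear.PSL2Klein

/-!
# Groups whose elements have order at most 5
-/

set_option autoImplicit false
set_option linter.unusedSectionVars false

namespace Cfsg.Lib.Coprime

open Cfsg Subgroup Cfsg.Lib.Exc Equiv
open scoped commutatorElement

variable {G : Type*} [Group G] [Finite G]

theorem elem_of_fpf {Q : Type*} [Group Q] [IsSimpleGroup Q] (f : G →* Q) (hf : Function.Surjective f)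
    (hN : IsPGroup 2 f.ker) {V : Subgroup Q} (hV : V ≠ ⊥) (h2 : ∀ v ∈ V, v * v = 1) {y : G} (h3 : y ^ 3 = 1)
    (hn : ∀ v ∈ V, f y * v * (f y)⁻¹ ∈ V) (hfV : ∀ v ∈ V, Commute (f y) v → v = 1)
    (hfN : ∀ x ∈ f.ker, Commute y x → x = 1) : IsElementaryAbelian 2 f.ker := by
  have hn' : ∀ x ∈ V.comap f, y * x * y⁻¹ ∈ V.comap f := fun x hx => by simpa using hn _ hx
  have hf' : ∀ x ∈ V.comap f, Commute y x → x = 1 := fun x hx h => hfN x (hfV _ hx (h.map f)) h
  have hS : ∀ x ∈ V.comap f, x ^ 3 = 1 → x = 1 := fun x hx h => by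
    have h1 : f x = 1 := by
      have := congrArg f h
      rwa [map_pow, map_one, pow_three', h2 _ hx, one_mul] at this
    obtain ⟨k, hk⟩ := hN ⟨x, h1⟩
    exact orderOf_eq_one_iff.1 (Nat.eq_one_of_dvd_coprimes (Nat.Coprime.pow_left k (by norm_num : Nat.Coprime 2 3))
      (orderOf_dvd_of_pow_eq_one (congrArg Subtype.val hk)) (orderOf_dvd_of_pow_eq_one h))
  have hNS : ∀ x ∈ f.ker, x ∈ V.comap f := fun x hx => ker_le_comap f V hx
  have key : ∀ T : Set G, T ⊆ f.ker → (∀ t ∈ T, ∀ g, g * t * g⁻¹ ∈ T) → (∀ s ∈ V.comap f, ∀ t ∈ T, Commute t s) →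
      ∀ t ∈ T, t = 1 := fun T h1 h4 h5 t ht => by
    have : (centralizer T).Normal := ⟨fun c hc g t ht => by
      have := hc _ (h4 t ht g⁻¹)
      calc _ = g * (g⁻¹ * t * g⁻¹⁻¹ * c) * g⁻¹ := by group
        _ = _ := by rw [this]; group⟩
    have h6 : V.comap f ≤ centralizer T := fun s hs t ht => h5 s hs t ht
    have h7 : (centralizer T).map f = ⊤ := (Subgroup.Normal.map this f hf).eq_bot_or_eq_top.resolve_left fun e =>
      hV (eq_bot_iff.2 (e ▸ (map_comap_eq_self_of_surjective hf V).ge.trans (map_mono h6)))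
    obtain ⟨c, hc, e⟩ : f y ∈ (centralizer T).map f := h7 ▸ mem_top _
    have h8 : y ∈ centralizer T := by
      simpa using mul_mem hc (h6 (hNS (c⁻¹ * y) (by simp [MonoidHom.mem_ker, e])))
    exact hfN t (h1 ht) (h8 t ht).symm
  have hc : ∀ a ∈ f.ker, ∀ b ∈ f.ker, Commute a b := fun a ha b hb => commutatorElement_eq_one_iff_commute.1
    (key {t | ∃ a ∈ f.ker, ∃ b ∈ f.ker, t = ⁅a, b⁆} (by
      rintro _ ⟨a, ha, b, hb, rfl⟩
      exact mul_mem (mul_mem (mul_mem ha hb) (inv_mem ha)) (inv_mem hb)) (by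
      rintro _ ⟨a, ha, b, hb, rfl⟩ g
      exact ⟨_, f.normal_ker.conj_mem a ha g, _, f.normal_ker.conj_mem b hb g, conjugate_commutatorElement ..⟩) (by
      rintro s hs _ ⟨a, ha, b, hb, rfl⟩
      exact (class_two_of_fpf hn' hf' h3 hS hs (hNS a ha) (hNS b hb)).symm) _ ⟨a, ha, b, hb, rfl⟩)
  refine ⟨⟨⟨fun a b => Subtype.ext (hc a a.2 b b.2)⟩⟩, fun a ha => key {t | ∃ a ∈ f.ker, t = a ^ 2} (by
      rintro _ ⟨a, ha, rfl⟩; exact pow_mem ha 2) (by
      rintro _ ⟨a, ha, rfl⟩ g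
      exact ⟨_, f.normal_ker.conj_mem a ha g, conj_pow.symm⟩) ?_ _ ⟨a, ha, rfl⟩⟩
  rintro s hs _ ⟨a, ha, rfl⟩
  have h1 := class_two_of_fpf hn' hf' h3 hS hs hs (hNS a ha)
  have h4 := class_two_of_fpf hn' hf' h3 hS (hNS a ha) hs (hNS a ha)
  have h5 := hc a ha (s * s) (by rw [MonoidHom.mem_ker, map_mul, h2 _ hs])
  have e : s * a = ⁅s, a⁆ * a * s := by group
  generalize ⁅s, a⁆ = z at *
  have h6 : z * z = 1 := by
    have : z * z * a * (s * s) = a * (s * s) := by
      calc _ = z * (z * a * s) * s := by group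
        _ = (z * s) * a * s := by rw [← e]; group
        _ = s * (z * a * s) := by rw [← h1.eq]; group
        _ = _ := by rw [← e, h5.eq]; group
    exact mul_eq_right.1 (mul_right_cancel this)
  symm
  calc s * a ^ 2 = s * a * a := by rw [sq, mul_assoc]
    _ = z * a * (z * a * s) := by rw [e, mul_assoc (z * a), e]
    _ = z * (a * z) * a * s := by group
    _ = z * z * a ^ 2 * s := by rw [h4.eq, sq]; simp only [mul_assoc]
    _ = _ := by rw [h6, one_mul]

theorem pCore_eq_bot_of_no_four (h : CIT G) (h4 : ∀ x : G, orderOf x ≠ 4) (he : 2 ∣ (pCore 2 G).index) :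
    pCore 2 G = ⊥ := by
  by_contra h0
  obtain ⟨⟨t, ht⟩, ht2⟩ := exists_prime_orderOf_dvd_card' (G := pCore 2 G) 2
    (Core.dvd_card_of_isPGroup_of_ne_bot Nat.prime_two (Core.isPGroup_pCore 2 G) h0)
  rw [← orderOf_coe] at ht2
  have h1 : ∀ S : Sylow 2 G, ∀ x ∈ (S : Subgroup G), x * x = 1 := fun S x hx => by
    obtain ⟨k, hk⟩ := IsPGroup.iff_orderOf.1 S.isPGroup' ⟨x, hx⟩
    rw [← orderOf_coe] at hk
    rw [← sq, ← orderOf_dvd_iff_pow_eq_one]
    rcases k with _ | _ | k
    · exact hk ▸ one_dvd _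
    · exact hk.dvd
    · refine absurd ?_ (h4 (x ^ 2 ^ k))
      rw [orderOf_pow_of_dvd (by simp) (hk ▸ pow_dvd_pow _ (by omega)), hk, pow_add, pow_add]
      exact Nat.div_eq_of_eq_mul_right (by simp) (by ring)
  have h2 : ∀ S : Sylow 2 G, centralizer {t} = (S : Subgroup G) := fun S => S.is_maximal' (h t ht2) fun x hx => by
    have h3 := Core.pCore_le_sylow S ht
    rw [mem_centralizer_singleton_iff]
    have h5 := h1 S _ (mul_mem hx h3)
    calc x * t = (x * t)⁻¹ := eq_inv_of_mul_eq_one_left h5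
      _ = _ := by rw [mul_inv_rev, inv_eq_of_mul_eq_one_left (h1 S x hx), inv_eq_of_mul_eq_one_left (h1 S t h3)]
  have : Subsingleton (Sylow 2 G) := ⟨fun S T => Sylow.ext ((h2 S).symm.trans (h2 T))⟩
  obtain ⟨S⟩ : Nonempty (Sylow 2 G) := inferInstance
  have := S.normal_of_subsingleton
  exact S.not_dvd_index (he.trans (index_dvd_of_le (Core.le_pCore S.isPGroup')))

theorem nine2_check : ∀ n ∈ (List.range 6).permutations', mulP n [1,0,3,2,4,5] = mulP [1,0,3,2,4,5] n →
   powP 6 n 2 = List.range 6 → ∀ b ∈ (List.range 6).permutations',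
   powP 6 (mulP (mulP [4,5,0,3,1,2] b) n) 2 = List.range 6 →
   powP 6 (mulP (mulP [4,5,1,2,0,3] (mulP [1,0,3,2,4,5] b)) n) 2 = List.range 6 →
   powP 6 (mulP (mulP [4,3,1,0,2,5] (mulP (mulP b [1,0,3,2,4,5]) (powP 6 b 2))) n) 2 = List.range 6 →
   powP 6 b 5 ≠ List.range 6 := by
  decide +kernel

theorem not_nine2 (h : Nine2 G) (h5 : ∀ x : G, orderOf x ≤ 5) : False := by
  obtain ⟨N, _, hi, F, _, _, hF, ⟨e₀⟩⟩ := h
  obtain ⟨e₁⟩ := Linear.psl2_nine_equiv (Nat.card_eq_fintype_card.trans hF)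
  let e := e₀.trans e₁
  let a : alternatingGroup (Fin 6) := ⟨swap 0 1 * swap 2 3, Perm.mem_alternatingGroup.2 (by decide)⟩
  let b : alternatingGroup (Fin 6) := ⟨swap 0 2 * swap 0 5 * swap 0 1 * swap 0 4, Perm.mem_alternatingGroup.2 (by decide)⟩
  have ha : orderOf (e.symm a) = 2 := (e.symm.orderOf_eq a).trans (orderOf_eq_prime (by decide) (by decide))
  obtain ⟨w₀, hw₀⟩ : ∃ w, w ∉ N := not_forall.1 fun h => by
    rw [(eq_top_iff' N).2 h, index_top] at hi; omega
  have : CharP F 3 := charP_of_card_eq_prime_pow (f := 2) hF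
  obtain ⟨c, hc⟩ := isConj_iff.1 (e₀.symm.toMonoidHom.map_isConj (Linear.psl2_isConj_of_orderOf_two
    (x := e₀ (MulAut.conjNormal w₀ (e.symm a))) (y := e₀ (e.symm a))
    (fun h => absurd ((CharP.cast_eq_zero_iff F 3 2).1 (by exact_mod_cast h)) (by norm_num))
    (by rw [MulEquiv.orderOf_eq, MulEquiv.orderOf_eq, ha]) (by rw [MulEquiv.orderOf_eq, ha])))
  simp only [MulEquiv.toMonoidHom_eq_coe, MonoidHom.coe_coe, MulEquiv.symm_apply_apply] at hc
  set w := (c : G) * w₀ with hw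
  let α : MulAut N := MulAut.conjNormal w
  have h1 : α (e.symm a) = e.symm a := by
    apply Subtype.ext
    have := congrArg Subtype.val hc
    simp only [coe_mul, coe_inv, MulAut.conjNormal_apply] at this
    rw [MulAut.conjNormal_apply, hw, mul_inv_rev]
    simpa only [mul_assoc] using this
  let n : N := ⟨w * w, mul_self_mem_of_index_two hi w⟩
  have h2 : ∀ m : N, (m * α m * n) ^ 2 = 1 := fun m => by
    have h3 : (m : G) * w ∉ N := fun h => hw₀ (by
      simpa [hw, mul_assoc] using mul_mem (inv_mem (mul_mem m.2 c.2)) h)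
    have h4 : Even (orderOf (m * w : G)) := by
      by_contra h
      obtain ⟨k, hk⟩ := Nat.not_even_iff_odd.1 h
      have h6 := pow_orderOf_eq_one (m * w : G)
      rw [hk, pow_succ, pow_mul] at h6
      exact h3 (eq_inv_of_mul_eq_one_right h6 ▸ inv_mem (pow_mem (sq_mem_of_index_two hi _) k))
    have h6 : ((m : G) * w) ^ 4 = 1 := orderOf_dvd_iff_pow_eq_one.1 (by
      have := h5 (m * w : G)
      have := orderOf_pos (m * w : G)
      generalize orderOf (m * w : G) = k at *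
      interval_cases k <;> simp_all (decide := true))
    apply Subtype.ext
    simp only [α, n, coe_pow, coe_mul, MulAut.conjNormal_apply, coe_one]
    rw [← h6, show 4 = 2 * 2 from rfl, pow_mul]; congr 1; rw [sq]; group
  let φ : N →* Perm (Fin 6) := (alternatingGroup (Fin 6)).subtype.comp e.toMonoidHom
  have ea : φ (e.symm a) = a := by simp [φ]
  have eb : φ (e.symm b) = b := by simp [φ]
  have h3 : ∀ m : N, powP 6 (mulP (mulP (encP (φ m)) (encP (φ (α m)))) (encP (φ n))) 2 = List.range 6 := fun m => by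
    rw [← encP_mul, ← encP_mul, ← encP_pow, ← map_mul, ← map_mul, ← map_pow, h2, map_one, encP_one]
  have ea' : encP (φ (e.symm a)) = [1,0,3,2,4,5] := by rw [ea]; decide
  refine nine2_check (encP (φ n)) (encP_mem _) ?_ ?_ (encP (φ (α (e.symm b)))) (encP_mem _) ?_ ?_ ?_ ?_
  · rw [← ea', ← encP_mul, ← encP_mul, ← map_mul, ← map_mul]
    congr 2
    have h4 : Commute w (e.symm a) := mul_inv_eq_iff_eq_mul.1 (congrArg Subtype.val h1)
    exact Subtype.ext (h4.mul_left h4)
  · simpa only [map_one, encP_one, show mulP (List.range 6) (List.range 6) = List.range 6 by decide, ← encP_one, ← encP_mul,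
      one_mul] using h3 1
  · have := h3 (e.symm b)
    rwa [show encP (φ (e.symm b)) = [4,5,0,3,1,2] by rw [eb]; decide] at this
  · have := h3 (e.symm a * e.symm b)
    rwa [show encP (φ (e.symm a * e.symm b)) = [4,5,1,2,0,3] by rw [map_mul, ea, eb]; decide, map_mul, h1, map_mul,
      encP_mul, ea'] at this
  · have := h3 (e.symm b * e.symm a * e.symm b ^ 2)
    rwa [show encP (φ (e.symm b * e.symm a * e.symm b ^ 2)) = [4,3,1,0,2,5] by
      rw [map_mul, map_mul, map_pow, ea, eb]; decide, map_mul α, map_mul α, map_pow α, h1, map_mul, map_mul,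
      map_pow, encP_mul, encP_mul, encP_pow, ea'] at this
  · rw [← encP_pow, ← map_pow, ← map_pow, ← map_pow, show b ^ 5 = 1 by decide, map_one, map_one, map_one, encP_one]

theorem psl2_order {F : Type*} [Field F] [Fintype F] {q m : ℕ} (h : Fintype.card F = q)
    (hm : m ∣ (q - 1) / Nat.gcd 2 (q - 1) ∨ m ∣ (q + 1) / Nat.gcd 2 (q - 1)) :
    ∃ x : Matrix.ProjectiveSpecialLinearGroup (Fin 2) F, orderOf x = m := by
  obtain ⟨p, hp⟩ := CharP.exists F
  have := Fact.mk (CharP.char_is_prime F p)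
  exact (Known.PSL2_spectrum p m).2 (Or.inr (by rwa [Nat.card_eq_fintype_card, h]))

theorem spec_A6 : Set.range (orderOf : alternatingGroup (Fin 6) → ℕ) = {1, 2, 3, 4, 5} := by
  have h3 := GaloisField.card 3 2 (by norm_num)
  obtain ⟨e⟩ := Linear.psl2_nine_equiv h3
  ext m
  have h4 := Known.PSL2_spectrum (F := GaloisField 3 2) 3 m
  rw [h3] at h4
  refine Iff.trans ⟨fun ⟨x, hx⟩ => ⟨e.symm x, (e.symm.orderOf_eq x).trans hx⟩,
    fun ⟨x, hx⟩ => ⟨e x, (e.orderOf_eq x).trans hx⟩⟩ (h4.trans ⟨fun h => ?_, fun h => ?_⟩)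
  · have : m ≤ 5 := by rcases h with h | h | h <;> exact (Nat.le_of_dvd (by norm_num) h).trans (by norm_num)
    interval_cases m <;> simp_all
  · rcases h with rfl | rfl | rfl | rfl | rfl <;> norm_num

theorem ep_of_le_five (h5 : ∀ x : G, orderOf x ≤ 5) : EP G := fun g hg => by
  have h1 := h5 g
  have h2 := orderOf_pos g
  have h3 := mt orderOf_eq_one_iff.1 hg
  generalize orderOf g = k at *
  interval_cases k
  exacts [absurd rfl h3, Nat.prime_two.isPrimePow, Nat.prime_three.isPrimePow, Nat.prime_two.isPrimePow.pow (k := 2) two_ne_zero,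
    Nat.prime_five.isPrimePow]

theorem exists_orderOf_dvd {X : Type*} [Group X] (f : G →* X) (hf : Function.Surjective f) (x : X) :
    ∃ g : G, orderOf x ∣ orderOf g ∧ f g = x :=
  let ⟨g, hg⟩ := hf x; ⟨g, hg ▸ orderOf_map_dvd f g, hg⟩

/-- nonsolvable groups with element orders at most 5 -/
theorem struct_five (h5 : ∀ x : G, orderOf x ≤ 5) (hs : ¬ Group.IsSolvable G) :
    Nonempty (G ≃* alternatingGroup (Fin 6)) ∨ Nonempty (G ⧸ pCore 2 G ≃* alternatingGroup (Fin 5)) := by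
  have h := ep_of_le_five h5
  have h6 : ∀ x : G ⧸ pCore 2 G, orderOf x ≤ 5 := fun x =>
    let ⟨g, hg, _⟩ := exists_orderOf_dvd _ (QuotientGroup.mk'_surjective _) x
    (Nat.le_of_dvd (orderOf_pos g) hg).trans (h5 g)
  have h7 : ∀ r, r.Prime → r ∣ Nat.card (G ⧸ pCore 2 G) → r ≤ 5 := fun r hr h =>
    have := Fact.mk hr
    let ⟨x, hx⟩ := exists_prime_orderOf_dvd_card' r h
    hx ▸ h6 x
  rcases h.list_quot hs with (⟨K, _, _, h1, ⟨e⟩⟩ | ⟨K, _, _, h1, ⟨e⟩⟩ | ⟨K, _, _, m, hK, h1, ⟨e⟩⟩) | h1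
  · have h8 := fun x => (e.symm.orderOf_eq x).symm.trans_le (h6 (e.symm x))
    simp only [Finset.mem_insert, Finset.mem_singleton] at h1
    rcases h1 with h1 | h1 | h1 | h1 | h1
    · exact Or.inr ((Linear.psl2_four_equiv (Nat.card_eq_fintype_card.trans h1)).map e.trans)
    · refine absurd (h7 7 (by norm_num) ?_) (by norm_num)
      rw [Nat.card_congr e.toEquiv, dvd_psl2_iff (by norm_num) (by norm_num), Nat.card_eq_fintype_card, h1]
      norm_num
    · obtain ⟨x, hx⟩ := psl2_order (m := 9) h1 (by norm_num)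
      exact absurd (hx ▸ h8 x) (by norm_num)
    · obtain ⟨f⟩ := Linear.psl2_nine_equiv (Nat.card_eq_fintype_card.trans h1)
      have := Fact.mk Nat.prime_three
      obtain ⟨P⟩ : Nonempty (Sylow 3 (Matrix.ProjectiveSpecialLinearGroup (Fin 2) K)) := inferInstance
      refine Or.inl (equiv_of_eq_bot (h.cit.eq_bot (Core.isPGroup_pCore 2 G) e P Nat.prime_three Nat.prime_three ?_
        (by decide) fun x hx => absurd (hx ▸ h8 x) (by norm_num)) (e.trans f))
      rw [P.card_eq_multiplicity, card_psl2_nine h1]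
      decide +kernel
    · obtain ⟨x, hx⟩ := psl2_order (m := 9) h1 (by norm_num)
      exact absurd (hx ▸ h8 x) (by norm_num)
  · refine absurd (h7 7 (by norm_num) ?_) (by norm_num)
    rw [Nat.card_congr e.toEquiv, card_psl3_four (Nat.card_eq_fintype_card.trans h1)]
    norm_num
  · have h3 := hK.one_le
    interval_cases m
    · refine absurd (h7 7 (by norm_num) ?_) (by norm_num)
      rw [Nat.card_congr e.toEquiv, BN.Sz.card_Sz]
      norm_num
    · refine absurd (h7 31 (by norm_num) ?_) (by norm_num)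
      rw [Nat.card_congr e.toEquiv, BN.Sz.card_Sz]
      norm_num
  · exact (not_nine2 h1 h6).elim

theorem not_solvable_of_five (h5 : ∀ x : G, orderOf x ≤ 5) (h : 30 ∣ Nat.card G) : ¬ Group.IsSolvable G :=
  (ep_of_le_five h5).not_solvable ((Finset.card_le_card (Nat.primeFactors_mono h Nat.card_pos.ne')).trans'
    (by decide +kernel))

theorem fpf_of_five (h5 : ∀ x : G, orderOf x ≤ 5) {N : Subgroup G} (hN : IsPGroup 2 N) {y : G} (hy : 3 ∣ orderOf y) :
    y ^ 3 = 1 ∧ ∀ x ∈ N, Commute y x → x = 1 := by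
  have h1 : orderOf y = 3 := by have := h5 y; have := orderOf_pos y; omega
  refine ⟨h1 ▸ pow_orderOf_eq_one y, fun x hx h => by_contra fun h0 => ?_⟩
  obtain ⟨k, hk⟩ := IsPGroup.iff_orderOf.1 hN ⟨x, hx⟩
  rw [← orderOf_coe] at hk
  have h2 := h5 (y * x)
  rw [h.orderOf_mul_eq_mul_orderOf_of_coprime (by rw [h1, hk]; exact Nat.Coprime.pow_right k (by norm_num)), h1] at h2
  have := orderOf_pos x
  exact h0 (orderOf_eq_one_iff.1 (by omega))

end Cfsg.Lib.Coprime
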