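/-
Casolo's theorem on subnormalizers of `p`-subgroups.
-/
import Cfsg.Agent.Lib.Coprime.ClassCount
import Cfsg.Agent.Lib.Coprime.Wielandt
import Cfsg.Agent.Lib.Coprime.ActionForm
import Cfsg.Agent.Lib.Clifford.AmGm
import Cfsg.Agent.Lib.PGrp.Cyclic
import Cfsg.Agent.Lib.Hall.SylNum
import Cfsg.Agent.Lib.Core.Subnormal

set_option autoImplicit false

namespace Cfsg.Lib.Coprime

open Cfsg Cfsg.Lib.Transfer Finset Subgroup
open scoped Classical

local notation "𝐍" X:max => normalizer (SetLike.coe (X : Subgroup _))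

theorem exists_mob {α : Type*} [PartialOrder α] (X : Finset α) :
    ∃ c : α → ℤ, ∀ T ∈ X, ∑ Q ∈ X with T ≤ Q, c Q = 1 := by
  induction X using Finset.strongInduction with | H X ih =>
  rcases X.eq_empty_or_nonempty with rfl | h
  · simp
  obtain ⟨m, hm⟩ := X.exists_minimal h
  obtain ⟨c, hc⟩ := ih _ (erase_ssubset hm.1)
  refine ⟨Function.update c m (1 - ∑ Q ∈ X.erase m with m ≤ Q, c Q), fun T hT => ?_⟩
  have e : ∀ T, ∑ Q ∈ X.erase m with T ≤ Q, Function.update c m (1 - ∑ Q ∈ X.erase m with m ≤ Q, c Q) Q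
      = ∑ Q ∈ X.erase m with T ≤ Q, c Q := fun T => sum_congr rfl fun Q hQ =>
    Function.update_of_ne (ne_of_mem_erase (mem_filter.1 hQ).1) _ _
  rw [← insert_erase hm.1, filter_insert, insert_erase hm.1]
  split_ifs with h
  · obtain rfl := hm.eq_of_le hT h
    rw [sum_insert (by simp), e]
    simp
  · rw [e, hc T (mem_erase.2 ⟨by rintro rfl; exact h le_rfl, hT⟩)]

theorem mob_unique {α : Type*} [PartialOrder α] [WellFoundedGT α] {X : Finset α} {c d : α → ℤ}
    (h : ∀ T ∈ X, ∑ Q ∈ X with T ≤ Q, c Q = ∑ Q ∈ X with T ≤ Q, d Q) (T : α) (hT : T ∈ X) :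
    c T = d T := by
  induction T using WellFoundedGT.induction with | ind T ih =>
  have := h T hT
  rw [← add_sum_erase _ _ (mem_filter.2 ⟨hT, le_rfl⟩), ← add_sum_erase _ d (mem_filter.2 ⟨hT, le_rfl⟩),
    sum_congr rfl fun Q hQ => ih Q ((mem_filter.1 (mem_of_mem_erase hQ)).2.lt_of_ne'
      (ne_of_mem_erase hQ)) (mem_filter.1 (mem_of_mem_erase hQ)).1] at this
  exact add_right_cancel this

variable {G : Type*} [Group G] [Fintype G] [Fintype (Subgroup G)] {p : ℕ} [hp : Fact p.Prime]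
  {H L R : Subgroup G} {g : G}

/-- The `p`-subgroups of `L` normalized by `g`. -/
noncomputable def invP (p : ℕ) (L : Subgroup G) (g : G) : Finset (Subgroup G) :=
  {R | IsPGroup p R ∧ R ≤ L ∧ g ∈ 𝐍 R}

omit [Fintype G] hp in
theorem mem_invP : R ∈ invP p L g ↔ IsPGroup p R ∧ R ≤ L ∧ g ∈ 𝐍 R := by simp [invP]

/-- The Möbius function of the poset of invariant `p`-subgroups. -/
noncomputable def mobP (p : ℕ) (L : Subgroup G) (g : G) : Subgroup G → ℤ :=
  (exists_mob (invP p L g)).choose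

omit [Fintype G] hp in
theorem sum_mobP (h : R ∈ invP p L g) : ∑ Q ∈ invP p L g with R ≤ Q, mobP p L g Q = 1 :=
  (exists_mob (invP p L g)).choose_spec R h

theorem mobP_norm (h : R ∈ invP p L g) : mobP p L g R = mobP p (L ⊓ 𝐍 R) g R := by
  obtain ⟨h1, h2, h3⟩ := mem_invP.1 h
  refine Eq.trans ?_ (mob_unique (X := (invP p (L ⊓ 𝐍 R) g).filter (R ≤ ·))
    (c := fun T => ∑ Q ∈ invP p L g with Q ⊓ 𝐍 R = T, mobP p L g Q) (fun T hT => ?_) R
    (mem_filter.2 ⟨mem_invP.2 ⟨h1, le_inf h2 le_normalizer, h3⟩, le_rfl⟩))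
  · symm
    refine sum_eq_single_of_mem R (mem_filter.2 ⟨h, inf_eq_left.2 le_normalizer⟩) fun Q hQ hne =>
      absurd (mem_filter.1 hQ).2 fun e => ?_
    exact (lt_inf_normalizer (mem_invP.1 (mem_filter.1 hQ).1).1
      ((e.ge.trans inf_le_left).lt_of_ne' hne)).ne' e
  obtain ⟨a, b⟩ := mem_filter.1 hT
  obtain ⟨a1, a2, a3⟩ := mem_invP.1 a
  rw [filter_filter, filter_congr fun Q _ => and_iff_right_of_imp b.trans, sum_mobP a,
    sum_fiberwise_eq_sum_filter _ _ (· ⊓ 𝐍 R), ← sum_mobP (mem_invP.2 ⟨a1, a2.trans inf_le_left, a3⟩)]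
  refine sum_congr (filter_congr fun Q hQ => ?_) fun _ _ => rfl
  obtain ⟨c1, c2, c3⟩ := mem_invP.1 hQ
  exact ⟨fun h => (mem_filter.1 h).2.trans inf_le_left, fun h => mem_filter.2 ⟨mem_invP.2
    ⟨c1.to_inf_left, inf_le_inf_right _ c2, inf_normalizer_le_normalizer_inf
      ⟨c3, le_normalizer h3⟩⟩, le_inf h (a2.trans inf_le_right)⟩⟩

omit hp in
theorem card_sn_eq (H L : Subgroup G) : (#{g | g ∈ L ∧ ∃ R ∈ invP p L g, H ≤ R} : ℤ) =
    ∑ R : Subgroup G with IsPGroup p (R : Subgroup G) ∧ R ≤ L ∧ H ≤ R, ∑ g with g ∈ L ⊓ 𝐍 R, mobP p L g R := by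
  rw [sum_comm' (t' := {g | g ∈ L}) (s' := fun g => (invP p L g).filter (H ≤ ·)) (by
    simp only [mem_filter, mem_invP, Subgroup.mem_inf, mem_univ]; tauto), ← filter_filter,
    card_filter, Nat.cast_sum]
  refine sum_congr rfl fun g _ => ?_
  split_ifs with h
  · obtain ⟨D, ⟨h1, h2⟩, -, h3⟩ := PGrp.exists_minimal_subgroup_le
      (fun R => R ∈ invP p L g ∧ H ≤ R) h.choose_spec
    rw [Nat.cast_one, ← sum_mobP h1]
    refine sum_congr (filter_congr fun Q hQ => ⟨h2.trans, fun h => inf_eq_left.1 (h3 _ ⟨?_, le_inf h2 h⟩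
      inf_le_left)⟩) fun _ _ => rfl
    rw [mem_invP] at h1 hQ ⊢
    exact ⟨h1.1.to_inf_left, inf_le_left.trans h1.2.1,
      inf_normalizer_le_normalizer_inf ⟨h1.2.2, hQ.2.2⟩⟩
  · rw [filter_false_of_mem fun R a b => h ⟨R, a, b⟩]; rfl

theorem sum_card_normalizer_sylowIn (L : Subgroup G) :
    ∑ Q with SylowIn p Q L, Nat.card (L ⊓ 𝐍 Q : Subgroup G) = Nat.card L := by
  refine Nat.eq_of_mul_eq_mul_right (Nat.card_pos (α := Sylow p L)) ?_
  rw [sum_mul, sum_congr rfl fun Q hQ => by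
    rw [Hall.card_sylow_eq_relIndex (mem_filter.1 hQ).2, inf_comm, Core.card_inf_mul_relIndex],
    sum_const, smul_eq_mul, mul_comm, ← card_eq_card_filter]
  refine congrArg _ (Nat.card_eq_of_bijective (fun P => ⟨_, sylowIn_map_subtype P⟩) ⟨fun P Q e =>
    Sylow.ext (map_injective L.subtype_injective (congrArg Subtype.val e)), fun Q =>
      ⟨Q.2.toSylow, Subtype.ext Q.2.map_toSylow⟩⟩).symm

theorem sum_mobP_eq (hR : IsPGroup p R) : ∀ L, R ≤ L → ∑ g with g ∈ L ⊓ 𝐍 R, mobP p L g R =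
    if SylowIn p R L then Nat.card (L ⊓ 𝐍 R : Subgroup G) else 0 := by
  induction R using WellFoundedGT.induction with | ind R ih =>
  intro L hL
  have hN : R ≤ L ⊓ 𝐍 R := le_inf hL le_normalizer
  have e1 := card_sn_eq (p := p) R (L ⊓ 𝐍 R)
  have e2 := congrArg (Nat.cast (R := ℤ)) (sum_card_normalizer_sylowIn (p := p) (L ⊓ 𝐍 R))
  rw [filter_congr fun g _ => and_iff_left_of_imp fun hg => ⟨R, mem_invP.2 ⟨hR, hN, hg.2⟩, le_rfl⟩,
    ← card_eq_card_filter, ← add_sum_erase _ _ (mem_filter.2 ⟨mem_univ _, hR, hN, le_rfl⟩),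
    sum_congr (s₁ := erase _ R) rfl fun Q hQ => by
      obtain ⟨-, a, b, c⟩ := mem_filter.1 (mem_of_mem_erase hQ)
      exact ih Q (c.lt_of_ne' (ne_of_mem_erase hQ)) a _ b] at e1
  rw [filter_congr (q := fun Q : Subgroup G => (IsPGroup p Q ∧ Q ≤ L ⊓ 𝐍 R ∧ R ≤ Q) ∧ SylowIn p Q (L ⊓ 𝐍 R))
    fun Q _ => (and_iff_right_of_imp fun h => ⟨h.2, h.1, h.le_of_le_normalizer hR hN
      (h.1.trans inf_le_right)⟩).symm, ← filter_filter, sum_filter, Nat.cast_sum,
    ← add_sum_erase _ _ (mem_filter.2 ⟨mem_univ _, hR, hN, le_rfl⟩), e1, add_left_inj, inf_assoc,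
    inf_idem] at e2
  rw [sum_congr rfl fun g hg => mobP_norm (mem_invP.2 ⟨hR, hL, (mem_filter.1 hg).2.2⟩), ← e2]
  exact congrArg _ (if_congr ⟨sylowIn_of_sylowIn_normalizer, fun h => h.mono hN inf_le_left⟩ rfl rfl)

theorem card_filter_cj (A : Subgroup G) (S : Subgroup G → Prop) :
    #{g | S (cj g A)} = #{K | S K ∧ ∃ g, K = cj g A} * Nat.card (𝐍 A) := by
  rw [card_eq_sum_card_fiberwise (f := (cj · A)) (t := {K | S K ∧ ∃ g, K = cj g A}) fun g hg => by
    simpa using ⟨by simpa using hg, g, rfl⟩, ← smul_eq_mul, ← sum_const]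
  refine sum_congr rfl fun K hK => ?_
  obtain ⟨-, h, a, rfl⟩ := mem_filter.1 hK
  rw [card_eq_card_filter]
  refine card_nbij' (a⁻¹ * ·) (a * ·) (fun g hg => ?_) (fun g hg => ?_) (by simp [Set.LeftInvOn])
    (by simp [Set.RightInvOn, Set.LeftInvOn]) <;>
    simp only [coe_filter, mem_filter, mem_univ, true_and, Set.mem_setOf_eq, ← cj_eq_iff, cj_mul] at hg ⊢
  · rw [hg.2, cj_inv_cj]
  · rw [hg]; exact ⟨h, rfl⟩

omit [Fintype G] [Fintype (Subgroup G)] in
theorem isSubnormal_sup_iff [Finite G] (hH : IsPGroup p H) :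
    (H.subgroupOf (H ⊔ zpowers g)).IsSubnormal ↔
      ∃ R : Subgroup G, IsPGroup p R ∧ H ≤ R ∧ g ∈ 𝐍 R := by
  refine ⟨fun h => ⟨_, Core.isPGroup_pCoreOf (H ⊔ zpowers g), ?_,
    Core.le_normalizer_pCoreOf _ (mem_sup_right (mem_zpowers g))⟩, fun ⟨R, h1, h2, h3⟩ =>
    Core.isSubnormal_of_le_pCore hp.out ?_⟩
  · exact (map_subgroupOf_eq_of_le le_sup_left).ge.trans
      (map_mono (Core.le_pCore_of_isSubnormal h (Core.isPGroup_subgroupOf hH _)))
  · have := normal_subgroupOf_of_le_normalizer (sup_le (h2.trans le_normalizer) (zpowers_le.2 h3))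
    exact (comap_mono h2).trans (Core.le_pCore (hN := this) (Core.isPGroup_subgroupOf h1 _))

omit [Fintype (Subgroup G)] in
/-- **Casolo**: the size of the subnormalizer of a `p`-subgroup. -/
theorem card_subnormalizer (hH : IsPGroup p H) (P : Sylow p G) :
    Nat.card {g // (H.subgroupOf (H ⊔ zpowers g)).IsSubnormal} = #{g | H ≤ cj g P} := by
  have := Fintype.ofFinite (Subgroup G)
  have e := card_sn_eq (p := p) H ⊤
  rw [sum_congr rfl fun R hR => sum_mobP_eq (mem_filter.1 hR).2.1 ⊤ le_top, ← Nat.cast_sum,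
    Nat.cast_inj, ← sum_filter, filter_filter] at e
  rw [card_eq_card_filter, card_filter_cj P (H ≤ ·), ← smul_eq_mul, ← sum_const]
  refine (congrArg _ (filter_congr fun g _ => ?_)).trans (e.trans (sum_congr (filter_congr fun R _ =>
    ⟨fun h => ⟨h.1.2.2, ?_⟩, ?_⟩) fun R hR => ?_))
  · simp [isSubnormal_sup_iff hH, mem_invP, and_assoc, and_comm, and_left_comm]
  · obtain ⟨g, -, e⟩ := (sylowIn_top P).exists_cj_eq h.2
    exact ⟨g, e.symm⟩
  · rintro ⟨h, g, rfl⟩
    exact ⟨⟨isPGroup_cj g P.isPGroup', le_top, h⟩, (sylowIn_top P).cj_of_mem trivial⟩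
  · obtain ⟨-, -, g, rfl⟩ := mem_filter.1 hR
    rw [top_inf_eq, ← cj_normalizer, card_cj]

section NR
variable {A V ι κ : Type*} [Group A] [Finite A] [Group V] [Finite V] [Fintype ι] [Fintype κ]

omit hp [Finite A] in
theorem card_sigma_fin (X : ι → Subgroup A) (a : ι → ℕ) (g : A) :
    Nat.card {z : Σ i, Fin (a i) // g ∈ X z.1} = ∑ i with g ∈ X i, a i := by
  rw [card_eq_card_filter, card_filter, Fintype.sum_sigma, sum_filter]
  simp [apply_ite card]

omit hp in
/-- Wielandt's fixed point formula for a solvable operator group, with weights. -/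
theorem wielandt_weighted [hA : Group.IsSolvable A] (φ : A →* MulAut V)
    (hc : (Nat.card A).Coprime (Nat.card V)) (X : ι → Subgroup A) (Y : κ → Subgroup A) (a : ι → ℕ)
    (b : κ → ℕ) (h : ∀ g, ∑ i with g ∈ X i, a i = ∑ j with g ∈ Y j, b j) :
    ∏ i, Nat.card (actFix φ (X i)) ^ (Nat.card (X i) * a i) =
      ∏ j, Nat.card (actFix φ (Y j)) ^ (Nat.card (Y j) * b j) := by
  have n0 : ∀ {W : Type _} [Group W] [Finite W] (U : Subgroup W) (k : ℕ), Nat.card U ^ k ≠ 0 :=
    fun U k => pow_ne_zero _ Nat.card_pos.ne'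
  refine Nat.eq_of_factorization_eq (prod_ne_zero_iff.2 fun _ _ => n0 _ _)
    (prod_ne_zero_iff.2 fun _ _ => n0 _ _) fun q => ?_
  by_cases hq : q.Prime
  swap
  · simp [Nat.factorization_eq_zero_of_not_prime _ hq]
  have := Fact.mk hq
  obtain ⟨Q, hQ⟩ := act_exists_invariant_sylow (φ := φ) (B := ⊤) (by simpa using hc)
    (Or.inl inferInstance) q
  have := isSolvable_of_isPGroup Q.isPGroup'
  have e : ∀ B : Subgroup A, (Nat.card (actFix φ B)).factorization q = (Nat.card (actFix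
      (subAut φ Q fun a => hQ a trivial) B)).factorization q := fun B => by
    have := (act_sylowIn_inf_actFix (B := B) (hc.coprime_dvd_left (card_subgroup_dvd_card B))
      (Or.inl inferInstance) Q fun a _ => hQ a trivial).card_eq_pow
    rw [← Nat.factorization_pow_self (p := q) (n := Nat.factorization _ q) hq, ← this, inf_comm,
      ← Core.card_subgroupOf_eq_card_inf]
    congr 4
    ext x
    simp only [mem_actFix, mem_subgroupOf, Subtype.ext_iff, coe_subAut]
  have := congrArg (Nat.factorization · q) (wielandt_act (subAut φ Q fun a => hQ a trivial)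
    (hc.coprime_dvd_right (card_subgroup_dvd_card _)) (fun z : Σ i, Fin (a i) => X z.1)
    (fun z : Σ j, Fin (b j) => Y z.1) fun g => by rw [card_sigma_fin, card_sigma_fin, h])
  simp only [Fintype.prod_sigma, prod_const, card_univ, Fintype.card_fin, ← pow_mul] at this
  rw [Nat.factorization_prod fun _ _ => n0 _ _, Nat.factorization_prod fun _ _ => n0 _ _] at this ⊢
  simpa [e] using this

/-- The Navarro–Rizo formula. -/
theorem navarro_rizo [Fintype A] (hA : IsPGroup p A) (φ : A →* MulAut V) (hc : (Nat.card V).Coprime p) :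
    ∏ x, Nat.card (actFix φ (zpowers x)) ^ p =
      Nat.card (actFix φ ⊤) ^ ((p - 1) * Nat.card A) * ∏ x, Nat.card (actFix φ (zpowers (x ^ p))) := by
  have := isSolvable_of_isPGroup hA
  have d : ∀ x : A, orderOf x * (Nat.card A / orderOf x) = Nat.card A := fun x =>
    Nat.mul_div_cancel' (orderOf_dvd_natCard x)
  have o : ∀ x : A, x ≠ 1 → orderOf x = p * orderOf (x ^ p) := fun x hx => by
    obtain ⟨k, hk⟩ := IsPGroup.iff_orderOf.1 hA x
    rw [orderOf_pow_of_dvd hp.out.ne_zero, Nat.mul_div_cancel'] <;>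
      exact hk ▸ dvd_pow_self p (by rintro rfl; exact hx (orderOf_eq_one_iff.1 hk))
  have d' : ∀ x : A, x ≠ 1 → p * (Nat.card A / orderOf x) = Nat.card A / orderOf (x ^ p) := fun x hx =>
    Nat.eq_of_mul_eq_mul_left (orderOf_pos (x ^ p)) (by rw [d, mul_left_comm, ← mul_assoc, ← o x hx, d])
  have s : ∀ g x : A, g ∈ zpowers x ∧ g ∉ zpowers (x ^ p) → x ∈ zpowers g ∧ x ∉ zpowers (g ^ p) :=
    fun g x ⟨h1, h2⟩ => ⟨(PGrp.mem_zpowers_or_exists_pow hA h1).resolve_right fun ⟨k, hk⟩ => h2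
      ⟨k, by simp only [hk, ← zpow_natCast, ← zpow_mul, mul_comm]⟩, fun h => h2
        (PGrp.eq_one_of_mem_zpowers_pow hA (zpowers_le.2 h h1) ▸ one_mem _)⟩
  have := wielandt_weighted φ (coprime_card_of_isPGroup hA hc).symm zpowers
    (fun o : Option A => o.elim ⊤ fun x => zpowers (x ^ p)) (fun x => p * (Nat.card A / orderOf x))
    (fun o => o.elim ((p - 1) * Nat.card A) fun x => Nat.card A / orderOf (x ^ p)) fun g => by
      rw [sum_filter (s := univ (α := Option A)), Fintype.sum_option]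
      refine Eq.trans ?_ (congrArg₂ _ (if_pos trivial).symm (sum_filter (fun x => g ∈ zpowers (x ^ p))
        fun x => Nat.card A / orderOf (x ^ p)))
      rw [Option.elim_none]
      rcases eq_or_ne g 1 with rfl | hg
      · simp only [one_mem, filter_true]
        rw [← add_sum_erase _ _ (mem_univ 1), ← add_sum_erase _ _ (mem_univ 1), sum_congr rfl
          fun x hx => d' x (ne_of_mem_erase hx), ← add_assoc, one_pow, orderOf_one, Nat.div_one,
          ← add_one_mul, Nat.sub_add_cancel hp.out.one_le]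
      have l : ∀ x : A, zpowers (x ^ p) ≤ zpowers x := fun x => zpowers_le.2 (npow_mem_zpowers _ _)
      rw [← sum_filter_add_sum_filter_not _ (fun x => g ∈ zpowers (x ^ p)), add_comm, filter_filter,
        filter_filter, filter_congr fun x _ => ⟨s g x, s x g⟩, filter_congr fun x _ =>
        and_iff_right_of_imp fun h => l x h]
      congr 1
      · rw [sum_congr rfl (g := fun _ => p * (Nat.card A / orderOf g)) fun x hx => by
          rw [(orderOf_dvd_of_mem_zpowers (mem_filter.1 hx).2.1).antisymm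
            (orderOf_dvd_of_mem_zpowers (s x g (mem_filter.1 hx).2).1)], sum_const, smul_eq_mul,
          ← filter_filter, filter_not, filter_filter, filter_congr fun x _ => and_iff_right_of_imp
          fun h => l g h, card_sdiff_of_subset fun x hx => by simpa using l g (by simpa using hx),
          ← card_eq_card_filter, ← card_eq_card_filter, Nat.card_zpowers, Nat.card_zpowers, d' g hg,
          o g hg, ← Nat.sub_one_mul, mul_assoc, d]
      · exact sum_congr rfl fun x hx => d' x (by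
          rintro rfl; exact hg (by simpa using (mem_filter.1 hx).2))
  simp only [Fintype.prod_option, Option.elim, Nat.card_zpowers, d, mul_left_comm _ p, card_top] at this
  refine Nat.pow_left_injective (Nat.card_pos (α := A)).ne' ?_
  simp only [mul_pow, ← prod_pow, ← pow_mul, this, mul_comm (Nat.card A)]

end NR

section Chain
omit [Fintype (Subgroup G)]
variable (P : Sylow p G) {M K : Subgroup G} [M.Normal] [K.Normal]

/-- The action of `G` on the section `K/M`. -/
def secAct (M K : Subgroup G) [M.Normal] [K.Normal] : G →* MulAut (K.map (QuotientGroup.mk' M)) :=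
  have := Normal.map ‹K.Normal› _ (QuotientGroup.mk'_surjective M)
  MulAut.conjNormal.comp (QuotientGroup.mk' M)

omit [Fintype G] hp in
theorem card_centMod (h : M ≤ K) (H : Subgroup G) :
    Nat.card {u // u ∈ K ∧ ∀ h ∈ H, h * u * h⁻¹ * u⁻¹ ∈ M} =
      Nat.card M * Nat.card (actFix (secAct M K) H) := by
  rw [← Subgroup.card_subtype (K.map _), ← PGrp.card_comap_mk']
  refine Nat.card_congr (Equiv.subtypeEquivRight fun u => ?_)
  have e : ∀ a : G, a * u * a⁻¹ * u⁻¹ ∈ M ↔ (a * u * a⁻¹ : G ⧸ M) = u := fun a => by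
    rw [← QuotientGroup.eq_one_iff, ← mul_inv_eq_one (b := (u : G ⧸ M))]; rfl
  simp only [e]
  refine ⟨fun hu => ⟨⟨_, mem_map_of_mem _ hu.1⟩, fun a ha => Subtype.ext (hu.2 a ha), rfl⟩, ?_⟩
  rintro ⟨⟨_, h1⟩, h2, rfl⟩
  exact ⟨by rwa [← mem_comap, comap_map_eq_self (by simpa)] at h1, fun a ha =>
    congrArg Subtype.val (h2 a ha)⟩

omit [Fintype G] in
theorem cj_sylow_sup_inf (h : M ≤ K) (hc : (M.relIndex K).Coprime p) (g : G) :
    cj g (P ⊔ M) ⊓ K = M := by
  rw [cj_sup, cj_eq_of_normal g M]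
  refine le_antisymm (fun x hx => ?_) (le_inf le_sup_right h)
  obtain ⟨y, hy, m, hm, rfl⟩ := mem_sup_of_normal_right.1 hx.1
  obtain ⟨k, hk⟩ := IsPGroup.iff_orderOf.1 (isPGroup_cj g P.isPGroup') ⟨y, hy⟩
  exact M.mul_mem (mem_of_pow_mem_of_coprime (by
    rw [← orderOf_coe] at hk
    exact hk ▸ hc.symm.pow_left k) (pow_relIndex_mem' le_normalizer_of_normal
      ((mul_mem_cancel_right (h hm)).1 hx.2))) hm

theorem card_cj_step (h : M ≤ K) (hc : (M.relIndex K).Coprime p) (hH : IsPGroup p H) :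
    #{g | H ≤ cj g (P ⊔ M)} * M.relIndex K =
      #{g | H ≤ cj g (P ⊔ K)} * Nat.card (actFix (secAct M K) H) := by
  refine Nat.eq_of_mul_eq_mul_left (Nat.card_pos (α := M)) ?_
  rw [mul_left_comm, card_mul_relIndex h, mul_left_comm, ← card_centMod h, card_eq_card_filter (· ∈ K),
    mul_comm, ← smul_eq_mul, ← sum_const, ← smul_eq_mul, ← sum_const, sum_congr rfl
    (g := fun m => #{g | H ≤ cj (m⁻¹ * g) (P ⊔ M)}) fun m _ => card_equiv (Equiv.mulLeft m) (by simp)]
  simp only [card_filter, sum_filter (s := univ (α := G)), ite_sum_zero]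
  rw [sum_comm]
  refine sum_congr rfl fun g _ => ?_
  have a : ∀ m ∈ K, cj m (cj g (P ⊔ K)) = cj g (P ⊔ K) := fun m hm => cj_eq_of_mem
    (cj_mono g le_sup_right ((cj_eq_of_normal g K).ge hm))
  split_ifs with h1
  swap
  · refine sum_eq_zero fun m _ => ite_eq_right_iff.2 fun hm => if_neg fun h2 => h1 ?_
    exact h2.trans ((cj_mono _ (sup_le_sup_left h _)).trans (by rw [cj_mul, a _ (K.inv_mem hm)]))
  obtain ⟨x, hx, h2⟩ := ((sylowIn_of_le P le_sup_left).cj g).exists_cj_le hH h1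
  rw [cj_sup, cj_eq_of_normal g K] at hx
  obtain ⟨y, hy, m, hm, rfl⟩ := mem_sup_of_normal_right.1 hx
  have h3 : H ≤ cj (m⁻¹ * g) (P ⊔ M) := by
    rw [cj_mul, ← cj_le_iff_le_cj_inv, ← cj_le_cj (g := y), ← cj_mul]
    exact h2.trans ((cj_eq_of_mem hy).ge.trans (cj_mono _ (cj_mono _ le_sup_left)))
  rw [card_eq_card_filter, card_filter]
  refine Fintype.sum_equiv (Equiv.mulLeft m⁻¹) _ _ fun u => ?_
  rw [← ite_and]
  refine if_congr ?_ rfl rfl
  simp only [Equiv.coe_mulLeft]
  rw [mul_mem_cancel_left (K.inv_mem hm),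
    show u⁻¹ * g = (m⁻¹ * u)⁻¹ * (m⁻¹ * g) by group, cj_mul]
  refine and_congr_right fun hu => forall₂_congr fun a ha => ?_
  have b := K.mul_mem (K.inv_mem hm) hu
  generalize m⁻¹ * u = v at b
  conv_rhs => rw [← cj_sylow_sup_inf P h hc (m⁻¹ * g), Subgroup.mem_inf, and_iff_left
    (K.mul_mem (Normal.conj_mem ‹_› v b a) (K.inv_mem b)), mul_assoc, mul_assoc,
    mul_mem_cancel_left (h3 ha), ← inv_mem_iff]
  simp [mem_cj, mul_assoc]

omit [Fintype G] in
theorem sylow_sup_eq [Finite G] (h : M ≤ K) {m : ℕ} (hm : M.relIndex K = p ^ m) :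
    (P : Subgroup G) ⊔ M = (P : Subgroup G) ⊔ K := le_antisymm (sup_le_sup_left h _) (sup_le le_sup_left
  (((sylowIn_inf_normal P K).sup_eq_of_relIndex h hm).ge.trans (sup_le le_sup_right
    (inf_le_left.trans le_sup_left))))

theorem card_cj_chain (hH : IsPGroup p H) (n : ℕ) : ∀ M : Fin (n + 1) → Subgroup G,
    M (Fin.last n) = ⊤ → Monotone M → (∀ i, (M i).Normal) → (∀ i : Fin n, (∃ m : ℕ,
      (M i.castSucc).relIndex (M i.succ) = p ^ m) ∨ ((M i.castSucc).relIndex (M i.succ)).Coprime p) →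
    #{g | H ≤ cj g (P ⊔ M 0)} = Nat.card ((P : Subgroup G) ⊔ M 0 : Subgroup G) *
      ∏ i : Fin n, if ((M i.castSucc).relIndex (M i.succ)).Coprime p then
        Nat.card {u : G // u ∈ M i.succ ∧ ∀ h ∈ H, h * u * h⁻¹ * u⁻¹ ∈ M i.castSucc} /
          Nat.card (M i.castSucc) else 1 := by
  induction n with
  | zero => intro M h _ _ _; simp [show M 0 = ⊤ from h, cj_top]
  | succ n ih =>
    intro M h1 h2 h3 h4
    have e := ih (M ∘ Fin.succ) h1 (h2.comp Fin.strictMono_succ.monotone) (fun _ => h3 _)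
      fun i => h4 i.succ
    have l : M 0 ≤ M 1 := h2 zero_le_one
    rw [Fin.prod_univ_succ]
    split_ifs with hc
    · have a := card_cj_step P l hc hH
      have b := cj_sylow_sup_inf P l hc 1
      have c := PGrp.card_sup_mul_card_inf (P ⊔ M 0) (M 1)
      rw [cj_one] at b
      rw [b, sup_assoc, sup_eq_right.2 l, ← card_mul_relIndex l, mul_left_comm, mul_comm,
        Nat.mul_right_inj Nat.card_pos.ne'] at c
      refine Nat.eq_of_mul_eq_mul_right (Nat.pos_of_ne_zero (n := (M 0).relIndex (M 1))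
        FiniteIndex.index_ne_zero) ?_
      rw [a, Fin.castSucc_zero, Fin.succ_zero_eq_one, card_centMod l,
        Nat.mul_div_cancel_left _ Nat.card_pos, mul_right_comm, ← c, mul_comm (Nat.card (actFix _ _)),
        ← mul_assoc]
      exact congrArg (· * _) e
    · obtain ⟨m, hm⟩ := (h4 0).resolve_right hc
      rw [one_mul, sylow_sup_eq P l hm]
      exact e

theorem prod_card_cj_chain [Fintype (P : Subgroup G)] (n : ℕ) : ∀ M : Fin (n + 1) → Subgroup G,
    M (Fin.last n) = ⊤ → Monotone M → (∀ i, (M i).Normal) → (∀ i : Fin n, (∃ m : ℕ,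
      (M i.castSucc).relIndex (M i.succ) = p ^ m) ∨ ((M i.castSucc).relIndex (M i.succ)).Coprime p) →
    ∏ x : (P : Subgroup G), #{g | zpowers (x : G) ≤ cj g (P ⊔ M 0)} ^ p =
      #{g | (P : Subgroup G) ≤ cj g (P ⊔ M 0)} ^ ((p - 1) * Nat.card (P : Subgroup G)) *
        ∏ x : (P : Subgroup G), #{g | zpowers ((x : G) ^ p) ≤ cj g (P ⊔ M 0)} := by
  have q : ∀ k : ℕ, ∏ _x : (P : Subgroup G), k ^ p = k ^ ((p - 1) * Nat.card (P : Subgroup G)) * ∏ _x : (P : Subgroup G), k := fun k => by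
    rw [prod_const, prod_const, card_univ, ← Nat.card_eq_fintype_card, ← pow_mul, ← pow_add,
      ← add_one_mul, Nat.sub_add_cancel hp.out.one_le]
  induction n with
  | zero => intro M h _ _ _; simpa only [show M 0 = ⊤ from h, sup_top_eq, cj_top, le_top] using q _
  | succ n ih =>
    intro M h1 h2 h3 h4
    have e := ih (M ∘ Fin.succ) h1 (h2.comp Fin.strictMono_succ.monotone) (fun _ => h3 _)
      fun i => h4 i.succ
    have l : M 0 ≤ M 1 := h2 zero_le_one
    rcases h4 0 with ⟨m, hm⟩ | hc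
    · rw [sylow_sup_eq P l hm]
      exact e
    have a := navarro_rizo P.isPGroup' ((secAct (M 0) (M 1)).comp (P : Subgroup G).subtype)
      (by rwa [PGrp.card_map_mk'])
    have b : ∀ B : Subgroup P, actFix ((secAct (M 0) (M 1)).comp (P : Subgroup G).subtype) B =
        actFix (secAct (M 0) (M 1)) (B.map (P : Subgroup G).subtype) := fun B => by
      ext; simp [mem_actFix]
    simp only [b, MonoidHom.map_zpowers, ← MonoidHom.range_eq_map, range_subtype, map_pow,
      subtype_apply] at a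
    have c := fun x (hx : x ∈ (P : Subgroup G)) =>
      card_cj_step P l hc (P.isPGroup'.to_le (zpowers_le.2 hx))
    refine Nat.eq_of_mul_eq_mul_right (prod_pos fun (_ : (P : Subgroup G)) (_ : _ ∈ univ) => pow_pos
      (Nat.pos_of_ne_zero (n := (M 0).relIndex (M 1))
        FiniteIndex.index_ne_zero) p) ?_
    conv_rhs => rw [q, mul_mul_mul_comm, ← mul_pow, ← prod_mul_distrib, card_cj_step P l hc P.isPGroup',
      prod_congr rfl fun (x : (P : Subgroup G)) _ => c _ (pow_mem x.2 p), mul_pow, prod_mul_distrib, mul_mul_mul_comm]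
    simp only [← prod_mul_distrib, ← mul_pow, c _ (Subtype.prop _)]
    simp only [prod_mul_distrib, mul_pow, a]
    exact congrArg (· * _) e

theorem card_sylow_pow_le (hG : IsPSolvable p G) : Nat.card (P : Subgroup G) ^ p * Nat.card (Sylow p G) ^ (p - 1) ≤
    Nat.card {g : G // ∃ k, orderOf g = p ^ k} ^ p := by
  have := Fintype.ofFinite (P : Subgroup G)
  obtain ⟨n, M, h0, h⟩ := hG
  have e := prod_card_cj_chain P n M h.1 h.2.1 h.2.2.1 h.2.2.2
  simp only [h0, sup_bot_eq, zpowers_le] at e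
  set s : G → ℕ := fun x => #{g | x ∈ cj g P}
  have s0 : ∀ y : G, (∃ k, orderOf y = p ^ k) → (0 : ℝ) < s y := fun y ⟨k, hk⟩ => by
    obtain ⟨g, -, h⟩ := (sylowIn_top P).exists_cj_le (Core.isPGroup_zpowers_of_orderOf hk) le_top
    exact Nat.cast_pos.2 (card_pos.2 ⟨g⁻¹, by simpa [mem_cj] using cj_zpowers_le.1 h⟩)
  have s1 : ∀ x : (P : Subgroup G), (0 : ℝ) < s x := fun x => s0 x (by
    simpa using IsPGroup.iff_orderOf.1 P.isPGroup' x)
  have u : (Nat.card {g : G // ∃ k, orderOf g = p ^ k} : ℝ) = ∑ x : (P : Subgroup G), (Nat.card G : ℝ) / s x := by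
    rw [card_eq_card_filter, card_eq_sum_ones, Nat.cast_sum, sum_congr rfl (g := fun y =>
      ∑ g with y ∈ cj g P, (s y : ℝ)⁻¹) fun y hy => by
        rw [sum_const, nsmul_eq_mul, mul_inv_cancel₀ (s0 y (mem_filter.1 hy).2).ne', Nat.cast_one],
      sum_comm' (t' := univ) (s' := fun g => {y | y ∈ cj g P}) fun y g => by
        simpa using fun h => by simpa using IsPGroup.iff_orderOf.1 (isPGroup_cj g P.isPGroup') ⟨y, h⟩]
    simp only [div_eq_mul_inv, ← mul_sum]
    rw [Nat.card_eq_fintype_card, ← card_univ, ← nsmul_eq_mul, ← sum_const]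
    refine sum_congr rfl fun g _ => (sum_bij (fun (x : (P : Subgroup G)) _ => g * x * g⁻¹) (by simp [conj_mem_cj]) (by simp)
      (fun y hy => ⟨⟨_, mem_cj.1 (mem_filter.1 hy).2⟩, mem_univ _, by simp [mul_assoc]⟩) fun x _ =>
      congrArg (fun n : ℕ => (n : ℝ)⁻¹) (card_equiv (Equiv.mulLeft g) fun a => ?_)).symm
    simp [cj_mul, conj_mem_cj]
  have e1 : #{g | (P : Subgroup G) ≤ cj g P} * Nat.card (Sylow p G) = Nat.card G := by
    rw [Hall.card_sylow_eq_index P, ← card_eq_card_filter, ← (𝐍 (P : Subgroup G)).card_mul_index]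
    exact congrArg (· * _) (Nat.card_congr (Equiv.subtypeEquivRight fun g => ⟨fun h => cj_eq_iff.1
      (PGrp.eq_of_le_of_card_le h (card_cj g _).le).symm, fun h => (cj_eq_iff.2 h).ge⟩))
  have e2 : (∏ x : (P : Subgroup G), s x ^ p) * Nat.card (Sylow p G) ^ ((p - 1) * Nat.card (P : Subgroup G)) ≤
      Nat.card G ^ (p * Nat.card (P : Subgroup G)) := by
    rw [e, mul_right_comm, ← mul_pow, e1]
    rw [show ∀ n, p * n = (p - 1) * n + n from fun n => by
      rw [← add_one_mul, Nat.sub_add_cancel hp.out.one_le], pow_add]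
    refine Nat.mul_le_mul_left _ ((prod_le_pow_card _ _ (Nat.card G) fun x _ => ?_).trans_eq ?_)
    · exact (card_le_univ _).trans Nat.card_eq_fintype_card.ge
    · rw [card_univ, Nat.card_eq_fintype_card (α := (P : Subgroup G))]
  have n0 : (0 : ℝ) < Nat.card (Sylow p G) ^ (p - 1) := pow_pos (Nat.cast_pos.2 Nat.card_pos) _
  have r := Real.rpow_inv_natCast_pow n0.le hp.out.ne_zero
  have r0 := Real.rpow_pos_of_pos n0 (p⁻¹ : ℝ)
  generalize ((Nat.card (Sylow p G) : ℝ) ^ (p - 1)) ^ (p⁻¹ : ℝ) = r' at r r0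
  have g0 : (0 : ℝ) < Nat.card G := Nat.cast_pos.2 Nat.card_pos
  have := (Clifford.card_le_sum_of_one_le_prod univ (fun x : (P : Subgroup G) => (Nat.card G : ℝ) / s x / r')
    (fun x _ => div_pos (div_pos g0 (s1 x)) r0) ((one_le_pow_iff_of_nonneg (prod_nonneg fun x _ =>
      (div_pos (div_pos g0 (s1 x)) r0).le) hp.out.ne_zero).1 (by
      simp only [← prod_pow, div_pow, r, prod_div_distrib, prod_const, card_univ,
        ← Nat.card_eq_fintype_card, ← pow_mul]
      rw [div_div, one_le_div (mul_pos (prod_pos fun x _ => pow_pos (s1 x) _) (pow_pos r0 _)),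
        mul_comm _ p, pow_mul r', r, ← pow_mul]
      exact_mod_cast e2))).1
  rw [← sum_div, ← u, le_div_iff₀ r0, card_univ, ← Nat.card_eq_fintype_card] at this
  have := pow_le_pow_left₀ (by positivity) this p
  rw [mul_pow, r] at this
  exact_mod_cast this

end Chain

end Cfsg.Lib.Coprime
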