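import Cfsg.Agent.Lib.Coprime.L33

/-!
# Characters of a simple group of order `6048` without elements of order `14`, `21`, `9`
-/

set_option autoImplicit false
set_option maxRecDepth 100000
set_option linter.unusedSectionVars false

namespace Cfsg.Lib.Coprime.U33

open Cfsg Subgroup Cfsg.Lib.Small Cfsg.Lib.Char Cfsg.Lib.Clifford Cfsg.Lib.Amalg Cfsg.Lib.Exc Cfsg.Lib.Exc.M11
  Cfsg.Lib.Invol Cfsg.Lib.PF
open scoped ComplexConjugate

variable {G : Type*} [Group G] [Finite G]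

theorem real3 {χ : G → ℂ} (hχ : IsCharacter G χ) {x : G} (hx : orderOf x = 3) (hr : conj (χ x) = χ x) :
    ∃ m n : ℕ, χ x = χ 1 - 3 * m ∧ χ 1 = n + 2 * m := by
  have h3 : x ^ 3 = 1 := hx ▸ pow_orderOf_eq_one x
  have hω := Complex.isPrimitiveRoot_exp 3 (by norm_num)
  obtain ⟨n, hn⟩ := cent_sum hχ h3 (T := ⊥) bot_le (fun _ t ht h => absurd (mem_bot.1 ht) h) (one_pow 3)
  obtain ⟨m, hm⟩ := cent_sum hχ h3 (T := ⊥) bot_le (fun _ t ht h => absurd (mem_bot.1 ht) h)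
    (ω := (hω.isUnit (by norm_num)).unit) (Units.ext (by simpa using hω.pow_eq_one))
  have h4 := congrArg conj (hω.geom_sum_eq_zero (by norm_num))
  have h5 : χ (x ^ 2) = χ x := by
    rw [eq_inv_of_mul_eq_one_left ((pow_succ x 2).symm.trans h3), hχ.apply_inv, hr]
  rw [h5, card_bot] at hn hm
  simp only [Finset.sum_range_succ, Finset.range_zero, Finset.sum_empty, map_add, pow_zero, pow_one, map_zero, map_one,
    IsUnit.unit_spec, Units.val_one, one_pow] at h4 hn hm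
  push_cast at hn hm
  exact ⟨m, n, by linear_combination χ x * h4 - hm, by linear_combination (hn + 2 * hm - 2 * χ x * h4) / 3⟩

theorem frob_pb {p e t : ℕ} [Fact p.Prime] {P : Subgroup G} {X Y : Finset (IrrCharacter G)} {κ : ℤ}
    {ε : IrrCharacter G → ℤ} (h : PB p P e t X Y κ ε) (hC : 𝐂 P ≤ P) {θ : IrrCharacter G} (hθ : θ ∈ Y) {y s : G}
    (hy : p ∣ orderOf y) (hp : p ≠ 2) (hs : orderOf s = 2) (nr : ∀ u, u * y * u⁻¹ ≠ y⁻¹) :
    ∑ χ ∈ X, ε χ * (χ.1 s * χ.1 s / charDegree χ.1) = κ * (θ.1 s * θ.1 s / charDegree θ.1) := by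
  classical
  have h1 := frob s s y
  have h2 : pairCount s s y = 0 := Nat.card_eq_zero.2 (Or.inl ⟨fun ⟨v, e, e'⟩ => by
    have h3 := left_inverts (mul_self_of_two ((orderOf_isConj e).trans hs)) (mul_self_of_two ((orderOf_isConj e').trans hs))
    rw [mul_inv_cancel_left] at h3
    exact nr v h3⟩)
  have h3 : ¬ p ∣ orderOf s := fun e => hp ((Nat.prime_dvd_prime_iff_eq Fact.out Nat.prime_two).1 (hs ▸ e))
  rw [h2, Nat.cast_zero, mul_zero, eq_comm, mul_eq_zero, mul_eq_zero, Nat.cast_eq_zero, or_self,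
    ← Finset.sum_subset (Finset.subset_univ (X ∪ Y)) fun χ _ hχ => by
      rw [h.val_out (h.out hC χ (fun e => hχ (Finset.mem_union_left _ e)) fun e => hχ (Finset.mem_union_right _ e)) hy,
        map_zero, mul_zero], Finset.sum_union h.disj,
    Finset.sum_congr rfl (g := fun χ => ε χ * (χ.1 s * χ.1 s / charDegree χ.1)) fun χ hχ => by
      rw [h.val_X χ hχ y hy, coe_deg, map_intCast, mul_comm],
    Finset.sum_congr (s₁ := Y) rfl (g := fun χ => θ.1 s * θ.1 s / charDegree θ.1 * conj (χ.1 y)) fun χ hχ => by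
      rw [h.regular χ hχ θ hθ s h3, ← coe_deg, h.deg_eq hχ hθ], ← Finset.mul_sum, ← map_sum, h.val_Y y hy] at h1
  have h5 := h1.resolve_left (ix_pos s).ne'
  simp only [map_neg, map_intCast] at h5
  linear_combination h5

/-- the hypotheses -/
structure Hyp (G : Type*) [Group G] : Prop where
  card : Nat.card G = 6048
  h14 : ∀ g : G, orderOf g ≠ 14
  h21 : ∀ g : G, orderOf g ≠ 21
  h9 : ∀ g : G, orderOf g ≠ 9

/-- the principal `7`-block -/
structure Tab (a b θ : IrrCharacter G) (y : G) : Prop where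
  da : charDegree a.1 = 6
  db : charDegree b.1 = 27
  dθ : charDegree θ.1 = 32
  y7 : orderOf y = 7
  ra : ∀ g, conj (a.1 g) = a.1 g
  v7 : ∀ g, 7 ∣ orderOf g → orderOf g = 7 ∧ a.1 g = -1 ∧ b.1 g = -1
  reg : ∀ g, ¬ 7 ∣ orderOf g → θ.1 g = a.1 g + b.1 g - 1
  nr : ∀ u, u * y * u⁻¹ ≠ y⁻¹
  fr : ∀ s, orderOf s = 2 → 1 - a.1 s * a.1 s / 6 - b.1 s * b.1 s / 27 = - (θ.1 s * θ.1 s / 32)

namespace Hyp

variable [IsSimpleGroup G] (hG : Hyp G)
include hG

theorem ncomm : ¬ IsMulCommutative G := not_isMulCommutative_of_not_prime (by rw [hG.card]; norm_num)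

theorem three {Q : Subgroup G} (hQ : IsPGroup 3 Q) {x : G} (hx : x ∈ Q) (h1 : x ≠ 1) : orderOf x = 3 := by
  have := Fact.mk Nat.prime_three
  obtain ⟨k, hk⟩ := IsPGroup.iff_orderOf.1 hQ ⟨x, hx⟩
  rw [← orderOf_coe] at hk
  rcases k with _ | _ | k
  · exact absurd (orderOf_eq_one_iff.1 hk) h1
  · exact hk
  · exact absurd (by rw [orderOf_pow_of_dvd (by positivity) (hk ▸ pow_dvd_pow 3 (by omega)), hk,
      Nat.pow_div (by omega) (by norm_num), show k + 1 + 1 - k = 2 by omega]) (hG.h9 (x ^ 3 ^ k))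

theorem seven : ∃ (P : Subgroup G) (X Y : Finset (IrrCharacter G)) (κ : ℤ) (ε : IrrCharacter G → ℤ),
    haveI := Fact.mk (by norm_num : Nat.Prime 7)
    PB 7 P 3 2 X Y κ ε ∧ principalIrr G ∈ X ∧ 𝐂 P ≤ P ∧ (𝐍 P).index = 288 := by
  have := Fact.mk (by norm_num : Nat.Prime 7)
  obtain ⟨P, e, t, c, X, Y, κ, ε, h, h1, h2, h3, h4, h5, h6, h8⟩ := exists_pb hG.ncomm 7 864 hG.card (by norm_num)
  have h7 := h.mul
  obtain rfl : c = 1 := by
    have e2 : ¬ 2 ∣ c := fun e => (h8 2 Nat.prime_two (by norm_num) e).elim hG.h14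
    have e3 : ¬ 3 ∣ c := fun e => (h8 3 Nat.prime_three (by norm_num) e).elim hG.h21
    exact (by decide +kernel : ∀ s ∈ Nat.divisors 864, ¬ 2 ∣ s → ¬ 3 ∣ s → s = 1) _
      (Nat.mem_divisors.2 ⟨⟨_, by rw [← h4, mul_assoc]⟩, by norm_num⟩) e2 e3
  have h9 : e ≤ 6 := Nat.le_of_dvd (by norm_num) ⟨t, by rw [mul_comm]; omega⟩
  obtain rfl : e = 3 := by interval_cases e <;> omega
  obtain rfl : t = 2 := by omega
  exact ⟨P, X, Y, κ, ε, h, h1, h3.1 rfl, by omega⟩

theorem exists_tab : ∃ (a b θ : IrrCharacter G) (y : G), Tab a b θ y := by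
  classical
  have := Fact.mk (by norm_num : Nat.Prime 7)
  have := Fact.mk Nat.prime_three
  obtain ⟨P, X, Y, κ, ε, h, h1, hC, hs⟩ := hG.seven
  obtain ⟨D⟩ := h.dOne
  have hi : (𝐂 P).index = 864 := by rw [h.index_C, hs]
  obtain ⟨θ, hθ⟩ := h.exists_Y
  have hy := D.orderOf_eq D.x_mem D.x_ne_one
  have nr : ∀ u : G, u * D.x * u⁻¹ ≠ (D.x : G)⁻¹ := fun u e => by
    have h2 := (𝐍 P).orderOf_dvd_natCard (D.mem_normalizer_of_conj D.x_mem D.x_ne_one (e ▸ inv_mem D.x_mem))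
    rw [D.card_N hC, h.he] at h2
    have h3 : u ^ 21 = 1 := orderOf_dvd_iff_pow_eq_one.1 h2
    have h4 : Commute (u ^ 2) (D.x : G) := by
      rw [sq, commute_iff_eq, ← mul_inv_eq_iff_eq_mul, show u * u * D.x * (u * u)⁻¹ = u * (u * D.x * u⁻¹) * u⁻¹ by group,
        e, ← conj_inv, e, inv_inv]
    have h5 := h4.pow_left 11
    rw [← pow_mul, show 2 * 11 = 21 + 1 from rfl, pow_succ, h3, one_mul] at h5
    rw [h5.eq, mul_inv_cancel_right, eq_inv_iff_mul_eq_one, ← sq, ← orderOf_dvd_iff_pow_eq_one, hy] at e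
    omega
  have h2 : ∀ χ ∈ X.erase (principalIrr G), ε χ * charDegree χ.1 ∈ [-6, 8, -27, 36, -48] ∧ (ε χ = 1 ∨ ε χ = -1) :=
    fun χ hχ => by
    have hχ' := Finset.mem_of_mem_erase hχ
    have h3 := h.av_X hχ'
    have h4 := h.sign_ε χ hχ'
    have h5 := sq_le {χ}
    rw [Finset.sum_singleton, hG.card] at h5
    have := (by decide +kernel : ∀ d ∈ Nat.divisors 864, 2 < d → d ≤ 78 → (d % 7 = 1 → d = 8 ∨ d = 36) ∧
      (d % 7 = 6 → d = 6 ∨ d = 27 ∨ d = 48)) _ (Nat.mem_divisors.2 ⟨hi ▸ h.dvd_X hχ', by norm_num⟩)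
      (two_lt_deg hG.ncomm (Finset.ne_of_mem_erase hχ)) (by push_cast at h5; nlinarith)
    refine ⟨?_, h4⟩
    simp only [List.mem_cons, List.not_mem_nil, or_false]
    rcases h4 with e | e <;> rw [e] at h3 ⊢ <;> omega
  have real : ∀ a b, X.erase (principalIrr G) = {a, b} → charDegree a.1 ≠ charDegree b.1 →
      charDegree a.1 ≠ charDegree θ.1 → ∀ g, conj (a.1 g) = a.1 g := fun a b hX e1 e2 g => by
    have ha : a ∈ X.erase (principalIrr G) := by simp [hX]
    have e3 : charDegree (⟨_, a.2.conj⟩ : IrrCharacter G).1 = charDegree a.1 := by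
      exact_mod_cast (coe_deg ⟨_, a.2.conj⟩).trans (show conj (a.1 1) = (charDegree a.1 : ℂ) by rw [← coe_deg, map_natCast])
    have e4 := two_lt_deg hG.ncomm (Finset.ne_of_mem_erase ha)
    suffices e5 : ⟨_, a.2.conj⟩ = a from congrFun (congrArg Subtype.val e5) g
    by_cases e5 : ⟨_, a.2.conj⟩ ∈ X
    · rw [← Finset.insert_erase h1, hX] at e5
      simp only [Finset.mem_insert, Finset.mem_singleton] at e5
      rcases e5 with e5 | e5 | e5
      · rw [e5, deg_principal] at e3; omega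
      · exact e5
      · exact absurd (e5 ▸ e3).symm e1
    by_cases e6 : ⟨_, a.2.conj⟩ ∈ Y
    · exact absurd (e3.symm.trans (h.deg_eq e6 hθ)) e2
    · have e7 := h.out hC _ e5 e6
      have e8 := (h2 a ha).1
      simp only [List.mem_cons, List.not_mem_nil, or_false] at e8
      rcases (h2 a ha).2 with e | e <;> rw [e] at e8 <;> omega
  have rel : ∀ a b, a ≠ b → X.erase (principalIrr G) = {a, b} → ∀ g, ¬ 7 ∣ orderOf g →
      κ * θ.1 g = 1 + (ε a * a.1 g + ε b * b.1 g) := fun a b ab hX g hg => by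
    have := h.rel θ hθ g hg
    rw [← Finset.add_sum_erase _ _ h1, hX, Finset.sum_pair ab, h.ε_one h1] at this
    change _ = _ * 1 + _ at this
    simpa using this
  have fr : ∀ a b, a ≠ b → X.erase (principalIrr G) = {a, b} → ∀ s, orderOf s = 2 →
      1 + (ε a * (a.1 s * a.1 s / charDegree a.1) + ε b * (b.1 s * b.1 s / charDegree b.1)) =
        κ * (θ.1 s * θ.1 s / charDegree θ.1) := fun a b ab hX s hs => by
    have := frob_pb h hC hθ hy.symm.dvd (by norm_num) hs nr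
    rw [← Finset.add_sum_erase _ _ h1, hX, Finset.sum_pair ab, h.ε_one h1, deg_principal] at this
    change _ * (1 * 1 / _) + _ = _ at this
    simpa using this
  have n1 : ∀ a b, a ≠ b → X.erase (principalIrr G) = {a, b} → charDegree a.1 = 6 → ε a = -1 → charDegree b.1 = 8 →
      ε b = 1 → charDegree θ.1 = 3 → κ = 1 → False := fun a b ab hX da εa db εb dθ hκ => by
    obtain ⟨Q⟩ : Nonempty (Sylow 3 G) := inferInstance
    have e1 := sum_eq_av θ.2.isCharacter Q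
    rw [sum_elems_erase (c := 0) _ _ fun u hu e2 => by
      have e3 := hG.three Q.2 hu e2
      have e4 := rel a b ab hX u (by rw [e3]; norm_num)
      rw [hκ, εa, εb] at e4
      push_cast at e4
      obtain ⟨m, n, e5, e6⟩ := real3 θ.2.isCharacter e3 (by
        rw [one_mul] at e4
        simp [e4, real a b hX (by omega) (by omega), real b a (hX.trans (Finset.pair_comm _ _)) (by omega) (by omega)])
      have e7 := norm_lt hG.ncomm (χ := θ) (fun e => by rw [e, deg_principal] at dθ; omega) e2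
      rw [← coe_deg, dθ] at e5 e6
      have e8 : 3 = n + 2 * m := by exact_mod_cast e6
      obtain rfl | rfl : m = 0 ∨ m = 1 := by omega
      · rw [e5, dθ] at e7; simp at e7
      · rw [e5]; simp, card_sylow_subgroup_eq Q (a := 3) (m := 224) hG.card (by norm_num), ← coe_deg, dθ, mul_zero,
      add_zero] at e1
    have : 3 = 3 ^ 3 * av Q θ.1 := by exact_mod_cast e1
    omega
  have n2 : ∀ a b, a ≠ b → X.erase (principalIrr G) = {a, b} → charDegree a.1 = 8 → ε a = 1 → charDegree b.1 = 27 →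
      ε b = -1 → charDegree θ.1 = 18 → κ = -1 → False := fun a b ab hX da εa db εb dθ hκ => by
    obtain ⟨s, hs⟩ := exists_prime_orderOf_dvd_card' (G := G) 2 (hp := fact_two) (by rw [hG.card]; norm_num)
    choose α hα using int_of_two hs
    have e1 := rel a b ab hX s (by rw [hs]; norm_num)
    have e2 := fr a b ab hX s hs
    have e3 := norm_lt hG.ncomm (χ := a) (fun e => by rw [e, deg_principal] at da; omega) (ne_one_of_two hs)
    rw [hκ, εa, εb, hα, hα, hα] at e1 e2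
    rw [da, db, dθ] at e2
    have e4 : α b = 1 + α a + α θ := by
      have : (α b : ℂ) = 1 + α a + α θ := by push_cast at e1; linear_combination e1
      exact_mod_cast this
    have e5 : 216 + 27 * (α a * α a) - 8 * (α b * α b) + 12 * (α θ * α θ) = 0 := by
      have : (216 + 27 * (α a * α a) - 8 * (α b * α b) + 12 * (α θ * α θ) : ℂ) = 0 := by
        push_cast at e2; linear_combination 216 * e2
      exact_mod_cast this
    rw [e4] at e5
    have e6 : α a = 8 := by nlinarith [sq_nonneg (8 - α a), sq_nonneg (18 - α θ), sq_nonneg (9 * α a - 4 * α θ)]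
    rw [hα, e6, da] at e3
    simp at e3
  obtain ⟨a, b, ab, hX, da, εa, db, εb, dθ, rfl⟩ : ∃ a b, a ≠ b ∧ X.erase (principalIrr G) = {a, b} ∧
      charDegree a.1 = 6 ∧ ε a = -1 ∧ charDegree b.1 = 27 ∧ ε b = -1 ∧ charDegree θ.1 = 32 ∧ κ = -1 := by
    obtain ⟨a, b, ab, hX⟩ := Finset.card_eq_two.1 (show (X.erase (principalIrr G)).card = 2 by
      rw [Finset.card_erase_of_mem h1, h.card_X])
    have hX' := hX.trans (Finset.pair_comm _ _)
    have h3 := h.deg_rel hθ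
    have h4 := h.dvd_Y hθ
    rw [← Finset.add_sum_erase _ _ h1, hX, Finset.sum_pair ab, h.ε_one h1, deg_principal] at h3
    rw [hi] at h4
    have h5 := (by decide +kernel : ∀ d ∈ Nat.divisors 864, ∀ u ∈ [-6, 8, -27, 36, -48], ∀ v ∈ [-6, 8, -27, 36, -48],
      ((d : ℤ) = 1 + (u + v) → d = 3 ∧ (u = -6 ∧ v = 8 ∨ u = 8 ∧ v = -6)) ∧ (-(d : ℤ) = 1 + (u + v) →
      (d = 32 ∧ (u = -6 ∧ v = -27 ∨ u = -27 ∧ v = -6)) ∨ (d = 18 ∧ (u = 8 ∧ v = -27 ∨ u = -27 ∧ v = 8)))) _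
      (Nat.mem_divisors.2 ⟨h4, by norm_num⟩) _ (h2 a (by simp [hX])).1 _ (h2 b (by simp [hX])).1
    have h6 := (h2 a (by simp [hX])).2
    have h7 := (h2 b (by simp [hX])).2
    have h8 : ∀ χ : IrrCharacter G, (ε χ = 1 ∨ ε χ = -1) → ∀ d : ℕ, 0 < d → (ε χ * charDegree χ.1 = d → charDegree χ.1 = d ∧ ε χ = 1) ∧
        (ε χ * charDegree χ.1 = -d → charDegree χ.1 = d ∧ ε χ = -1) := fun χ e d hd => by
      rcases e with e | e <;> rw [e] <;> omega
    have a6 := (h8 a h6 6 (by norm_num)).2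
    have a8 := (h8 a h6 8 (by norm_num)).1
    have a27 := (h8 a h6 27 (by norm_num)).2
    have b6 := (h8 b h7 6 (by norm_num)).2
    have b8 := (h8 b h7 8 (by norm_num)).1
    have b27 := (h8 b h7 27 (by norm_num)).2
    rcases h.sign with rfl | rfl
    · obtain ⟨e1, ⟨e2, e3⟩ | ⟨e2, e3⟩⟩ := h5.1 (by simpa using h3)
      · exact (n1 a b ab hX (a6 e2).1 (a6 e2).2 (b8 e3).1 (b8 e3).2 e1 rfl).elim
      · exact (n1 b a ab.symm hX' (b6 e3).1 (b6 e3).2 (a8 e2).1 (a8 e2).2 e1 rfl).elim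
    · obtain ⟨e1, ⟨e2, e3⟩ | ⟨e2, e3⟩⟩ | ⟨e1, ⟨e2, e3⟩ | ⟨e2, e3⟩⟩ := h5.2 (by simpa using h3)
      · exact ⟨a, b, ab, hX, (a6 e2).1, (a6 e2).2, (b27 e3).1, (b27 e3).2, e1, rfl⟩
      · exact ⟨b, a, ab.symm, hX', (b6 e3).1, (b6 e3).2, (a27 e2).1, (a27 e2).2, e1, rfl⟩
      · exact (n2 a b ab hX (a8 e2).1 (a8 e2).2 (b27 e3).1 (b27 e3).2 e1 rfl).elim
      · exact (n2 b a ab.symm hX' (b8 e3).1 (b8 e3).2 (a27 e2).1 (a27 e2).2 e1 rfl).elim
  have ha : a ∈ X := Finset.mem_of_mem_erase (a := principalIrr G) (by simp [hX])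
  have hb : b ∈ X := Finset.mem_of_mem_erase (a := principalIrr G) (by simp [hX])
  refine ⟨a, b, θ, D.x, da, db, dθ, hy, real a b hX (by omega) (by omega), fun g hg => ⟨D.orderOf_eq_p hC hg,
      ?_, ?_⟩, fun g hg => ?_, nr, fun s hs => ?_⟩
  · rw [h.val_X a ha g hg, εa]; simp
  · rw [h.val_X b hb g hg, εb]; simp
  · have := rel a b ab hX g hg
    rw [εa, εb] at this
    push_cast at this
    linear_combination -this
  · have := fr a b ab hX s hs
    rw [εa, εb, da, db, dθ] at this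
    push_cast at this
    linear_combination this

theorem val32 {χ : IrrCharacter G} (h : charDegree χ.1 = 32) {g : G} (hg : 2 ∣ orderOf g) : χ.1 g = 0 :=
  apply_eq_zero_of_defectZero Nat.prime_two (by rw [h, hG.card]; decide +kernel) hg

theorem val27 {χ : IrrCharacter G} (h : charDegree χ.1 = 27) {g : G} (hg : 3 ∣ orderOf g) : χ.1 g = 0 :=
  apply_eq_zero_of_defectZero Nat.prime_three (by rw [h, hG.card]; decide +kernel) hg

end Hyp

/-- elements of order `3` with a given character value -/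
def K (a : IrrCharacter G) (v : ℤ) : Set G := {g | orderOf g = 3 ∧ a.1 g = v}

theorem K_conj {a : IrrCharacter G} {v : ℤ} {g h : G} (hg : g ∈ K a v) (e : IsConj g h) : h ∈ K a v :=
  ⟨(orderOf_isConj e).trans hg.1, (a.2.isClassFunction.eq_of_isConj e).symm.trans hg.2⟩

theorem K_ix_le {a : IrrCharacter G} {v : ℤ} {g : G} (hg : g ∈ K a v) : ix g ≤ (K a v).ncard := by
  rw [← card_cls]
  exact Set.ncard_le_ncard (s := {y | IsConj g y}) fun y hy => K_conj hg hy

namespace Tab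

variable [IsSimpleGroup G] {a b θ : IrrCharacter G} {y : G} (h : Tab a b θ y) (hG : Hyp G)
include h hG

theorem val {s : G} (hs : orderOf s = 2) : a.1 s = -2 := by
  obtain ⟨α, hα⟩ := int_of_two hs a
  have h0 := h.reg s (by rw [hs]; norm_num)
  have h1 := h.fr s hs
  rw [hG.val32 h.dθ hs.symm.dvd, hα] at h0 h1
  rw [show b.1 s = 1 - α by linear_combination -h0] at h1
  have h6 : (((11 * α - 26) * (α + 2) : ℤ) : ℂ) = 0 := by
    push_cast
    linear_combination -54 * h1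
  have h7 : (11 * α - 26) * (α + 2) = 0 := by exact_mod_cast h6
  obtain rfl : α = -2 := by rcases mul_eq_zero.1 h7 with e | e <;> omega
  simpa using hα

theorem three {x : G} (hx : orderOf x = 3) : x ∈ K a 3 ∨ x ∈ K a 0 ∨ x ∈ K a (-3) := by
  obtain ⟨m, n, e1, e2⟩ := real3 a.2.isCharacter hx (h.ra x)
  have e7 := norm_lt hG.ncomm (χ := a) (fun e => by have := h.da; rw [e, deg_principal] at this; omega)
    (g := x) (by rintro rfl; simp at hx)
  rw [← coe_deg, h.da] at e1 e2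
  have e8 : 6 = n + 2 * m := by exact_mod_cast e2
  obtain rfl | rfl | rfl | rfl : m = 0 ∨ m = 1 ∨ m = 2 ∨ m = 3 := by omega
  · rw [e1, h.da] at e7; simp at e7
  · exact Or.inl ⟨hx, by rw [e1]; norm_num⟩
  · exact Or.inr (Or.inl ⟨hx, by rw [e1]; norm_num⟩)
  · exact Or.inr (Or.inr ⟨hx, by rw [e1]; norm_num⟩)

omit hG in
theorem not_dvd_cc {g : G} (h1 : g ≠ 1) (h7 : ¬ 7 ∣ orderOf g) : ¬ 7 ∣ cc g := fun hd => by
  have hp : Nat.Prime 7 := by norm_num
  have := Fact.mk hp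
  obtain ⟨u, hu⟩ := exists_prime_orderOf_dvd_card' 7 hd
  rw [← orderOf_coe] at hu
  have h3 := (Invol.mem_cent.1 u.2).orderOf_mul_eq_mul_orderOf_of_coprime (hu ▸ (Nat.Prime.coprime_iff_not_dvd hp).2 h7)
  rw [hu] at h3
  have h4 := h3.symm.trans (h.v7 _ ⟨_, h3⟩).1
  exact h1 (orderOf_eq_one_iff.1 ((Nat.mul_eq_left hp.ne_zero).1 h4))

theorem dvd_ix {v : ℤ} {x : G} (hx : x ∈ K a v) : 7 ∣ ix x ∧ (32 : ℤ) ∣ ix x * (v - 1) := by
  have h0 := h.reg x (by rw [hx.1]; norm_num)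
  have h1 := L33.int_omega θ x
  rw [h0, hG.val27 h.db hx.1.symm.dvd, hx.2, h.dθ, show (ix x : ℂ) * (v + 0 - 1) / (32 : ℕ) =
    ((ix x * (v - 1) / 32 : ℚ) : ℂ) by push_cast; ring] at h1
  obtain ⟨k, hk⟩ := IsIntegrallyClosed.isIntegral_iff.1 (isIntegral_algebraMap_iff (algebraMap ℚ ℂ).injective |>.1 h1)
  refine ⟨((by norm_num : Nat.Prime 7).dvd_mul.1 (by rw [cc_mul_ix, hG.card]; norm_num)).resolve_left
    (h.not_dvd_cc (g := x) (by rintro rfl; simpa using hx.1) (by rw [hx.1]; norm_num)), k, ?_⟩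
  have : (ix x * (v - 1) : ℚ) = 32 * k := by simp only [eq_intCast] at hk; rw [hk]; ring
  exact_mod_cast this

theorem cnt (α β γ : ℤ) (e : α = β + γ) : 32 * (α + 6 * β + 27 * γ) + 2 * (α + 3 * β) * (K a 3).ncard -
    α * (K a 0).ncard - 4 * (α - 3 * β) * (K a (-3)).ncard = 0 := by
  classical
  have := Fintype.ofFinite G
  have := Fact.mk Nat.prime_three
  have o : ∀ χ : IrrCharacter G, charDegree χ.1 ≠ 32 → ∑ g, θ.1 g * conj (χ.1 g) = 0 := fun χ e => by
    have := θ.2.classInner_of_ne χ.2 fun e' => e (e' ▸ h.dθ)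
    rw [classInner, mul_eq_zero, inv_eq_zero, Nat.cast_eq_zero] at this
    exact this.resolve_left Nat.card_pos.ne'
  have h1 : ∑ g, θ.1 g * (α + β * conj (a.1 g) + γ * conj (b.1 g)) = 0 := by
    have e1 := o (principalIrr G) (by rw [deg_principal]; omega)
    change ∑ g, θ.1 g * conj 1 = 0 at e1
    simp only [mul_add, mul_left_comm _ (β : ℂ), mul_left_comm _ (γ : ℂ), Finset.sum_add_distrib, ← Finset.mul_sum,
      ← Finset.sum_mul, o a (by rw [h.da]; omega), o b (by rw [h.db]; omega)]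
    simpa using Or.inl e1
  have n1 : ∀ v, (1 : G) ∉ K a v := fun v e => by simpa using e.1
  have n2 : ∀ {g : G} {v : ℤ}, g ∈ K a v → ∀ w, (g ∈ K a w ↔ v = w) := fun hv w =>
    ⟨fun hw => by exact_mod_cast hv.2.symm.trans hw.2, fun e => e ▸ hv⟩
  rw [Finset.sum_congr rfl (g := fun g => (if g = 1 then (32 * (α + 6 * β + 27 * γ) : ℂ) else 0) +
      (if g ∈ K a 3 then (2 * (α + 3 * β) : ℂ) else 0) - (if g ∈ K a 0 then (α : ℂ) else 0) -
      (if g ∈ K a (-3) then (4 * (α - 3 * β) : ℂ) else 0)) fun g _ => ?_] at h1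
  · simp only [Finset.sum_sub_distrib, Finset.sum_add_distrib, Finset.sum_ite_eq', Finset.mem_univ, if_true,
      ← Finset.sum_filter, Finset.sum_const, nsmul_eq_mul] at h1
    have c : ∀ v, (K a v).ncard = (Finset.univ.filter (· ∈ K a v)).card := fun v => by
      rw [← Set.ncard_coe_finset]; simp
    rw [c, c, c]
    have : ((32 * (α + 6 * β + 27 * γ) + 2 * (α + 3 * β) * (Finset.univ.filter (· ∈ K a 3)).card -
      α * (Finset.univ.filter (· ∈ K a 0)).card - 4 * (α - 3 * β) * (Finset.univ.filter (· ∈ K a (-3))).card : ℤ) : ℂ) = 0 := by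
      push_cast; linear_combination h1
    exact_mod_cast this
  by_cases e1 : g = 1
  · subst e1
    simp only [n1, if_true, if_false, ← coe_deg, h.da, h.db, h.dθ, map_natCast]
    push_cast; ring
  by_cases e3 : orderOf g = 3
  · have e4 := h.reg g (by rw [e3]; norm_num)
    rw [e4, hG.val27 h.db e3.symm.dvd, h.ra]
    rcases h.three hG e3 with e5 | e5 | e5 <;> simp only [n2 e5, e5.2, e1] <;> norm_num <;> ring
  have n3 : ∀ v, g ∉ K a v := fun v e => e3 e.1
  simp only [n3, e1, if_false, add_zero, sub_zero]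
  by_cases e7 : 7 ∣ orderOf g
  · obtain ⟨-, e4, e5⟩ := h.v7 g e7
    rw [e4, e5, e]; simp
  by_cases e2 : 2 ∣ orderOf g
  · rw [hG.val32 h.dθ e2, zero_mul]
  have e4 := (by decide +kernel : ∀ d ∈ Nat.divisors 6048, ¬ 7 ∣ d → ¬ 2 ∣ d → d ∣ 3 ^ 3) _
    (Nat.mem_divisors.2 ⟨hG.card ▸ orderOf_dvd_natCard g, by norm_num⟩) e7 e2
  obtain ⟨k, -, hk⟩ := (Nat.dvd_prime_pow Nat.prime_three).1 e4
  exact absurd (hG.three (Q := zpowers g) (.of_card (by rw [Nat.card_zpowers, hk])) (mem_zpowers g) e1) e3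

theorem sum_eq {R : Subgroup G} (hR : IsPGroup 3 R) (f : ℂ → ℂ) (h0 : f 0 = 0) :
    ∑ u ∈ elems R, f (a.1 u) = f 6 + f 3 * (K a 3 ∩ R).ncard + f (-3) * (K a (-3) ∩ R).ncard := by
  classical
  have n1 : ∀ v, (1 : G) ∉ K a v := fun v e => by simpa using e.1
  have n2 : ∀ {g : G} {v : ℤ}, g ∈ K a v → ∀ w, (g ∈ K a w ↔ v = w) := fun hv w =>
    ⟨fun hw => by exact_mod_cast hv.2.symm.trans hw.2, fun e => e ▸ hv⟩
  have c : ∀ v, (K a v ∩ R).ncard = ((elems R).filter (· ∈ K a v)).card := fun v => by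
    rw [← Set.ncard_coe_finset]; congr 1; ext; simp [mem_elems, and_comm]
  rw [Finset.sum_congr rfl (g := fun g => (if g = 1 then f 6 else 0) + (if g ∈ K a 3 then f 3 else 0) +
      (if g ∈ K a (-3) then f (-3) else 0)) fun g hg => ?_]
  · simp only [Finset.sum_add_distrib, Finset.sum_ite_eq', mem_elems.2 R.one_mem, if_true,
      ← Finset.sum_filter, Finset.sum_const, nsmul_eq_mul, c, mul_comm]
  by_cases e1 : g = 1
  · subst e1
    simp [n1, ← coe_deg, h.da]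
  rcases h.three hG (hG.three hR (mem_elems.1 hg) e1) with e5 | e5 | e5 <;> simp [n2 e5, e5.2, e1, h0]

theorem K3 : K a 3 = ∅ := by
  have := Fact.mk Nat.prime_three
  by_contra hn
  obtain ⟨x, hx⟩ := Set.nonempty_iff_ne_empty.2 hn
  have h1 := h.cnt hG 0 1 (-1) rfl
  have h2 := h.dvd_ix hG hx
  have h3 := K_ix_le hx
  have h4 := ix_pos x
  have h5 : K a (-3) = ∅ := (Set.ncard_eq_zero (Set.toFinite _)).1 (by omega)
  obtain ⟨Q⟩ : Nonempty (Sylow 3 G) := inferInstance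
  have e1 := sum_eq_av a.2.isCharacter Q
  have e2 := sum_eq_av (a.2.isCharacter.mul a.2.isCharacter) Q
  have e3 := h.sum_eq hG Q.2 id rfl
  have e4 := h.sum_eq hG Q.2 (fun z => z * z) (by simp)
  rw [card_sylow_subgroup_eq Q (a := 3) (m := 224) hG.card (by norm_num)] at e1 e2
  simp only [h5, Set.empty_inter, Set.ncard_empty, id] at e3 e4
  have e5 : (6 + 3 * (K a 3 ∩ Q).ncard : ℂ) = (3 ^ 3 : ℕ) * av Q a.1 := by rw [← e1, e3]; simp
  have e6 : (6 * 6 + 3 * 3 * (K a 3 ∩ Q).ncard : ℂ) = (3 ^ 3 : ℕ) * av Q (a.1 * a.1) := by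
    rw [← e2]; simp only [Pi.mul_apply]; rw [e4]; simp
  norm_cast at e5 e6
  omega

theorem ncard_K : (K a (-3)).ncard = 56 ∧ (K a 0).ncard = 672 := by
  have h1 := h.cnt hG 0 1 (-1) rfl
  have h2 := h.cnt hG 1 0 1 rfl
  rw [h.K3 hG, Set.ncard_empty] at h1 h2
  omega

theorem ix_eq {z : G} (hz : z ∈ K a (-3)) : ix z = 56 := by
  have h2 := h.dvd_ix hG hz
  have h3 := K_ix_le hz
  have h4 := ix_pos z
  rw [(h.ncard_K hG).1] at h3
  omega

theorem isConj {z w : G} (hz : z ∈ K a (-3)) (hw : w ∈ K a (-3)) : IsConj z w :=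
  (Set.eq_of_subset_of_ncard_le (s := {y | IsConj z y}) (fun y hy => K_conj hz hy)
    (by rw [(h.ncard_K hG).1, ← h.ix_eq hG hz, ← card_cls]; rfl)).ge hw

theorem cent0 {x : G} (hx : x ∈ K a 0) : IsPGroup 3 (centralizer ({x} : Set G)) := by
  have h2 := h.dvd_ix hG hx
  obtain ⟨m, hm⟩ : 224 ∣ ix x := by omega
  have h3 := cc_mul_ix x
  rw [hm, hG.card] at h3
  obtain ⟨k, -, hk⟩ := (Nat.dvd_prime_pow Nat.prime_three).1 (show cc x ∣ 3 ^ 3 from ⟨m, by linarith⟩)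
  exact .of_card hk

theorem sum_K {R : Subgroup G} (hR : IsPGroup 3 R) : ∃ n : ℕ, 6 = 3 * (K a (-3) ∩ R).ncard + Nat.card R * n := by
  have e1 := sum_eq_av a.2.isCharacter R
  have e3 := h.sum_eq hG hR id rfl
  simp only [h.K3 hG, Set.empty_inter, Set.ncard_empty, id] at e3
  refine ⟨av R a.1, ?_⟩
  have : (6 : ℂ) = 3 * (K a (-3) ∩ R).ncard + Nat.card R * av R a.1 := by rw [← e1, e3]; simp
  exact_mod_cast this

omit hG in
theorem K_inv {v : ℤ} {z : G} (hz : z ∈ K a v) : z⁻¹ ∈ K a v :=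
  ⟨(orderOf_inv z).trans hz.1, by rw [a.2.isCharacter.apply_inv, h.ra, hz.2]⟩

theorem uniq {R : Subgroup G} (hR : IsPGroup 3 R) {z w : G} (hz : z ∈ K a (-3)) (hw : w ∈ K a (-3)) (h1 : z ∈ R)
    (h2 : w ∈ R) : w = z ∨ w = z⁻¹ := by
  obtain ⟨n, hn⟩ := h.sum_K hG hR
  have h3 : z ≠ z⁻¹ := fun e => by
    rw [eq_inv_iff_mul_eq_one, ← sq, ← orderOf_dvd_iff_pow_eq_one, hz.1] at e; omega
  exact (Set.eq_of_subset_of_ncard_le (s := {z, z⁻¹}) (t := K a (-3) ∩ R) (by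
    rintro _ (rfl | rfl)
    exacts [⟨hz, h1⟩, ⟨h.K_inv hz, inv_mem h1⟩]) (by rw [Set.ncard_pair h3]; omega)).ge ⟨hw, h2⟩

theorem exists_K {R : Subgroup G} (hR : IsPGroup 3 R) (h9 : 9 ∣ Nat.card R) : ∃ z ∈ K a (-3), z ∈ R := by
  obtain ⟨n, hn⟩ := h.sum_K hG hR
  obtain ⟨z, hz⟩ := Set.nonempty_of_ncard_ne_zero (s := K a (-3) ∩ R) fun e => by
    obtain ⟨m, hm⟩ := h9
    rw [e, hm, mul_assoc] at hn
    omega
  exact ⟨z, hz.1, hz.2⟩

theorem not_inv {z d : G} (hz : z ∈ K a (-3)) (hd : orderOf d = 2) : d * z * d⁻¹ ≠ z⁻¹ := fun e => by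
  have := Fact.mk Nat.prime_three
  have hZ : Nat.card (zpowers z) = 3 := by rw [Nat.card_zpowers, hz.1]
  have h0 : z ≠ z⁻¹ := fun e => by
    rw [eq_inv_iff_mul_eq_one, ← sq, ← orderOf_dvd_iff_pow_eq_one, hz.1] at e; omega
  obtain ⟨n, hn⟩ := h.sum_K hG (R := zpowers z) (.of_card (n := 1) hZ)
  have h1 : 2 ≤ (K a (-3) ∩ zpowers z).ncard := by
    rw [← Set.ncard_pair h0]
    refine Set.ncard_le_ncard ?_
    rintro _ (rfl | rfl)
    exacts [⟨hz, mem_zpowers _⟩, ⟨h.K_inv hz, inv_mem (mem_zpowers _)⟩]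
  have e3 := h.sum_eq hG (R := zpowers z) (.of_card (n := 1) hZ) id rfl
  simp only [h.K3 hG, Set.empty_inter, Set.ncard_empty, id, show (K a (-3) ∩ zpowers z).ncard = 2 by omega] at e3
  have e4 := sum_mul_eq_zero a.2.isCharacter (e3.trans (by norm_num)) d
  rw [Finset.sum_congr rfl (g := fun _ => (-2 : ℂ)) fun u hu => h.val hG (by
    obtain ⟨k, rfl⟩ := mem_elems.1 hu
    have e5 : d * z ^ k * d⁻¹ = (z ^ k)⁻¹ := by rw [← conj_zpow, e, inv_zpow]
    refine two_of_mul_self ?_ fun e6 => ?_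
    · rw [inv_eq_of_mul_eq_one_right (mul_self_of_two hd)] at e5
      rw [mul_assoc, ← mul_assoc d, e5, mul_inv_cancel]
    · have e7 := (zpowers z).orderOf_dvd_natCard (x := d) (eq_inv_of_mul_eq_one_right e6 ▸ inv_mem ⟨k, rfl⟩)
      rw [hd, hZ] at e7
      omega), Finset.sum_const, card_elems, hZ] at e4
  norm_num at e4

end Tab

end Cfsg.Lib.Coprime.U33
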