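import Cfsg.Agent.Lib.Coprime.U33
import Cfsg.Agent.Lib.Coprime.Basic
import Cfsg.Agent.Lib.U3.Odd5

/-!
# A simple group of order `6048` without elements of order `14`, `21`, `9` is isomorphic to `PSU₃(3)`
-/

set_option autoImplicit false
set_option maxRecDepth 100000
set_option linter.unusedSectionVars false

namespace Cfsg.Lib.Coprime.U33

open Cfsg Subgroup Cfsg.Lib.Small Cfsg.Lib.Exc Cfsg.Lib.Exc.G3 Cfsg.Lib.Invol Cfsg.Lib.OU

variable {G : Type*} [Group G] [Finite G]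

theorem eq_one_of_inv {x : G} (h : x ^ 3 = 1) (e : x = x⁻¹) : x = 1 := by
  rw [eq_inv_iff_mul_eq_one] at e
  rwa [pow_succ, sq, e, one_mul] at h

theorem mem_N {z g : G} (hz : orderOf z = 3) : g ∈ normalizer (zpowers z : Set G) ↔ g * z * g⁻¹ = z ∨ g * z * g⁻¹ = z⁻¹ := by
  refine ⟨fun hg => ((mem3 hz).1 ((mem_normalizer_iff.1 hg z).1 (mem_zpowers z))).resolve_left fun e => ?_,
    fun e => BS.mem_norm_of ?_⟩
  · rw [conj_eq_one_iff] at e
    simp [e] at hz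
  · rintro _ ⟨k, rfl⟩
    rw [← conj_zpow]
    rcases e with e | e <;> rw [e]
    exacts [zpow_mem (mem_zpowers z) k, zpow_mem (inv_mem (mem_zpowers z)) k]

theorem comm_of_N {z x : G} (hz : orderOf z = 3) (hx : x ^ 3 = 1) (h : x ∈ normalizer (zpowers z : Set G)) :
    Commute x z := by
  rcases (mem_N hz).1 h with e | e
  · exact mul_inv_eq_iff_eq_mul.1 e
  · have h4 : Commute (x ^ 2) z := by
      rw [sq, commute_iff_eq, ← mul_inv_eq_iff_eq_mul, show x * x * z * (x * x)⁻¹ = x * (x * z * x⁻¹) * x⁻¹ by group,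
        e, ← conj_inv, e, inv_inv]
    have h5 := h4.pow_left 2
    rwa [← pow_mul, show 2 * 2 = 3 + 1 from rfl, pow_succ, hx, one_mul] at h5

theorem pgroup_sup {u v : G} (hu : orderOf u = 3) (hv : orderOf v = 3) (h : Commute u v) :
    IsPGroup 3 (zpowers u ⊔ zpowers v : Subgroup G) :=
  IsPGroup.to_sup_of_normal_right' (.of_card (n := 1) (by rw [Nat.card_zpowers, hu]; rfl))
    (.of_card (n := 1) (by rw [Nat.card_zpowers, hv]; rfl))
    (zpowers_le.2 ((mem_N hv).2 (Or.inl (by rw [h.eq, mul_inv_cancel_right]))))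

namespace Tab

variable [IsSimpleGroup G] {a b θ : IrrCharacter G} {y z : G} (h : Tab a b θ y) (hG : Hyp G) (hz : z ∈ K a (-3))
include h hG hz

theorem comm_K {w : G} (hw : w ∈ K a (-3)) (e : Commute z w) : w = z ∨ w = z⁻¹ :=
  h.uniq hG (pgroup_sup hz.1 hw.1 e) hz hw (mem_sup_left (mem_zpowers _)) (mem_sup_right (mem_zpowers _))

theorem fix {w x : G} (hw : w ∈ K a (-3)) (hx : orderOf x = 3) (e1 : Commute x z) (e2 : Commute x w) :
    w = z ∨ w = z⁻¹ := by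
  rcases h.three hG hx with e | e | e
  · simp [h.K3 hG] at e
  · exact h.uniq hG (h.cent0 hG e) hz hw (mem_cent.2 e1.symm) (mem_cent.2 e2.symm)
  · refine h.comm_K hG hz hw ?_
    rcases h.comm_K hG e hz e1 with rfl | rfl
    exacts [e2, e2.inv_left]

theorem exists_inv : ∃ d, d * z * d⁻¹ = z⁻¹ := isConj_iff.1 (h.isConj hG hz (h.K_inv hz))

theorem index_N : (normalizer (zpowers z : Set G)).index = 28 := by
  obtain ⟨d, hd⟩ := h.exists_inv hG hz
  have h0 : z ≠ z⁻¹ := fun e => by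
    have := hz.1
    rw [eq_one_of_inv (hz.1 ▸ pow_orderOf_eq_one z) e] at this
    simp at this
  have h1 : (centralizer {z}).relIndex (normalizer (zpowers z : Set G)) = 2 :=
    relIndex_eq_two_iff_exists_notMem_and.2 ⟨d, (mem_N hz.1).2 (Or.inr hd), fun e => h0 (by
      rw [← hd, (mem_cent.1 e).eq, mul_inv_cancel_right]), fun g hg => by
      rcases (mem_N hz.1).1 hg with e | e
      · exact Or.inr (mem_cent.2 (mul_inv_eq_iff_eq_mul.1 e))
      · refine Or.inl (mem_cent.2 (mul_inv_eq_iff_eq_mul.1 ?_))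
        rw [show g * d * z * (g * d)⁻¹ = g * (d * z * d⁻¹) * g⁻¹ by group, hd, ← conj_inv, e, inv_inv]⟩
  have h2 := relIndex_mul_index (show centralizer {z} ≤ normalizer (zpowers z : Set G) from fun g hg =>
    (mem_N hz.1).2 (Or.inl (by rw [(mem_cent.1 hg).eq, mul_inv_cancel_right])))
  have h3 := h.ix_eq hG hz
  rw [h1] at h2
  change _ = ix z at h2
  omega

theorem ncard_le : (K a 0 ∩ centralizer {z}).ncard ≤ 24 := by
  classical
  have h1 := Finset.card_mul_le_card_mul (s := (Set.toFinite (K a (-3))).toFinset) (t := (Set.toFinite (K a 0)).toFinset)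
    (fun w x => Commute x w) (m := (K a 0 ∩ centralizer {z}).ncard) (n := 2) (fun w hw => by
      obtain ⟨c, rfl⟩ := isConj_iff.1 (h.isConj hG hz ((Set.Finite.mem_toFinset _).1 hw))
      rw [← Set.ncard_coe_finset]
      refine Set.ncard_le_ncard_of_injOn (fun x => c * x * c⁻¹) (fun x hx => ?_) fun x _ x' _ e => by simpa using e
      simp only [Finset.coe_bipartiteAbove, Set.Finite.mem_toFinset, Set.mem_setOf_eq]
      exact ⟨K_conj hx.1 (isConj_iff.2 ⟨c, rfl⟩), (mem_cent.1 hx.2).map (MulAut.conj c)⟩) fun x hx => by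
      rcases Finset.eq_empty_or_nonempty (Finset.bipartiteBelow (fun w x => Commute x w)
        (Set.toFinite (K a (-3))).toFinset x) with e | ⟨w, hw⟩
      · simp [e]
      rw [Finset.mem_bipartiteBelow, Set.Finite.mem_toFinset] at hw
      refine (Finset.card_le_card (t := {w, w⁻¹}) fun w' hw' => ?_).trans Finset.card_le_two
      rw [Finset.mem_bipartiteBelow, Set.Finite.mem_toFinset] at hw'
      simpa using h.fix hG hw.1 hw'.1 ((Set.Finite.mem_toFinset _).1 hx).1 hw.2 hw'.2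
  rw [← Set.ncard_eq_toFinset_card, ← Set.ncard_eq_toFinset_card, (h.ncard_K hG).1, (h.ncard_K hG).2] at h1
  omega

variable {Q : Subgroup G} (hQ : Nat.card Q = 27) (hzQ : z ∈ Q)
include hQ hzQ

theorem Q_le : Q ≤ normalizer (zpowers z : Set G) := fun x hx => (mem_N hz.1).2
  (h.uniq hG (.of_card (n := 3) hQ) hz (K_conj hz (isConj_iff.2 ⟨x, rfl⟩)) hzQ (mul_mem (mul_mem hx hzQ) (inv_mem hx)))

omit h hz hzQ in
theorem cube {x : G} (hx : x ∈ Q) : x ^ 3 = 1 := by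
  by_cases e : x = 1
  · simp [e]
  · exact hG.three (.of_card (n := 3) hQ) hx e ▸ pow_orderOf_eq_one x

theorem Q_comm {x : G} (hx : x ∈ Q) : Commute x z := comm_of_N hz.1 (cube hG hQ hx) (h.Q_le hG hz hQ hzQ hx)

theorem mem_K0 {x : G} (hx : x ∈ Q) (h1 : x ∉ zpowers z) : x ∈ K a 0 := by
  rcases h.three hG (hG.three (.of_card (n := 3) hQ) hx fun e => h1 (e ▸ one_mem _)) with e | e | e
  · simp [h.K3 hG] at e
  · exact e
  · exact absurd ((mem3 hz.1).2 (Or.inr (h.uniq hG (.of_card (n := 3) hQ) hz e hzQ hx))) h1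

theorem N_le : normalizer (zpowers z : Set G) ≤ normalizer (Q : Set G) := fun g hg => BS.mem_norm_of fun x hx => by
  have h1 : (Q : Set G) \ zpowers z = K a 0 ∩ centralizer {z} := Set.eq_of_subset_of_ncard_le
    (fun x hx => ⟨h.mem_K0 hG hz hQ hzQ hx.1 hx.2, mem_cent.2 (h.Q_comm hG hz hQ hzQ hx.1)⟩) (by
      rw [Set.ncard_diff (show (zpowers z : Set G) ⊆ Q from zpowers_le.2 hzQ)]
      change _ ≤ Nat.card Q - Nat.card (zpowers z)
      rw [hQ, Nat.card_zpowers, hz.1]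
      exact h.ncard_le hG hz)
  by_cases e : x ∈ zpowers z
  · exact zpowers_le.2 hzQ ((mem_normalizer_iff.1 hg x).1 e)
  refine (h1.ge ⟨K_conj (h.mem_K0 hG hz hQ hzQ hx e) (isConj_iff.2 ⟨g, rfl⟩), mem_cent.2 (comm_of_N hz.1 ?_ ?_)⟩).1
  · rw [conj_pow, cube hG hQ hx]; simp
  · exact mul_mem (mul_mem hg (h.Q_le hG hz hQ hzQ hx)) (inv_mem hg)

theorem reg_N {g x : G} (hg : g ∉ normalizer (zpowers z : Set G)) (hx : x ∈ Q)
    (e : g⁻¹ * x * g ∈ normalizer (zpowers z : Set G)) : x = 1 := by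
  by_contra h1
  have h2 := (comm_of_N hz.1 (x := g⁻¹ * x * g) (by
    simpa [cube hG hQ hx] using conj_pow (a := g⁻¹) (b := x) (i := 3)) e).map (MulAut.conj g)
  simp only [MulAut.conj_apply, mul_assoc, mul_inv_cancel_left, mul_inv_cancel, mul_one] at h2
  exact hg ((mem_N hz.1).2 (h.fix hG hz (K_conj hz (isConj_iff.2 ⟨g, rfl⟩)) (hG.three (.of_card (n := 3) hQ) hx h1)
    (h.Q_comm hG hz hQ hzQ hx) (by rwa [mul_assoc])))

theorem bru {t g : G} (ht : t ∉ normalizer (zpowers z : Set G)) (hg : g ∉ normalizer (zpowers z : Set G)) :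
    ∃ x ∈ Q, ∃ c ∈ normalizer (zpowers z : Set G), g = x * t * c := by
  have hQB := h.Q_le hG hz hQ hzQ
  have h2 := card_remove (p := fun _ : G ⧸ normalizer (zpowers z : Set G) => True) (a := ((1 : G) : G ⧸ _)) trivial
  rw [card_true, ← index, h.index_N hG hz] at h2
  let φ : Q → {ω : G ⧸ normalizer (zpowers z : Set G) // True ∧ ω ≠ ((1 : G) : G ⧸ _)} := fun x => ⟨(x * t : G), trivial,
    fun e => ht (by simpa using mul_mem (inv_mem (hQB x.2)) (inv_mem (QuotientGroup.eq.1 e)))⟩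
  have h3 : Function.Injective φ := fun x x' e => Subtype.ext (inv_mul_eq_one.1 (h.reg_N hG hz hQ hzQ ht
    (mul_mem (inv_mem x.2) x'.2) (by simpa [mul_assoc] using QuotientGroup.eq.1 (congrArg Subtype.val e))))
  obtain ⟨x, hx⟩ := (h3.bijective_of_nat_card_le (by omega)).2 ⟨g, trivial, fun e => hg (by simpa using QuotientGroup.eq.1 e)⟩
  exact ⟨x, x.2, _, QuotientGroup.eq.1 (congrArg Subtype.val hx), by simp [mul_assoc]⟩

theorem not_four {d : G} (hd : orderOf d = 4) : d * z * d⁻¹ ≠ z⁻¹ := fun e => by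
  have := Fact.mk Nat.prime_three
  have hp : IsPGroup 3 Q := .of_card (n := 3) hQ
  have hZ : Nat.card (zpowers z) = 3 := by rw [Nat.card_zpowers, hz.1]
  have hn := h.N_le hG hz hQ hzQ ((mem_N hz.1).2 (Or.inr e))
  have cj : ∀ {x}, x ∈ Q → d * x * d⁻¹ ∈ Q := fun hx => (mem_normalizer_iff.1 hn _).1 hx
  have dz : ∀ {c}, c ∈ zpowers z → d * c * d⁻¹ = c⁻¹ := by
    rintro _ ⟨k, rfl⟩; rw [← conj_zpow, e, inv_zpow]
  have dd : ∀ x, d * d * x * (d * d)⁻¹ = d * (d * x * d⁻¹) * d⁻¹ := fun x => by group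
  have sz : ∀ {c}, c ∈ zpowers z → d * d * c * (d * d)⁻¹ = c := fun hc => by rw [dd, dz hc, dz (inv_mem hc), inv_inv]
  have s2 : orderOf (d * d) = 2 := by rw [← sq, orderOf_pow_of_dvd (by norm_num) (by rw [hd]; norm_num), hd]
  obtain ⟨x, hx, h1⟩ : ∃ x ∈ Q, x ∉ zpowers z := by
    by_contra hn
    push Not at hn
    have := card_le_of_le (show Q ≤ zpowers z from hn)
    omega
  obtain ⟨u, hu, su, h2⟩ : ∃ u ∈ Q, d * d * u * (d * d)⁻¹ = u⁻¹ ∧ u ≠ 1 := by
    refine ⟨x⁻¹ * (d * d * x * (d * d)⁻¹), mul_mem (inv_mem hx) (dd x ▸ cj (cj hx)), ?_, fun e => ?_⟩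
    · have := mul_self_of_two s2
      generalize d * d = s at *
      rw [inv_eq_of_mul_eq_one_right this]
      simp [mul_assoc, ← mul_assoc s s, this, inv_eq_of_mul_eq_one_right this]
    · obtain ⟨k, hk⟩ := IsPGroup.iff_orderOf.1 (h.cent0 hG (h.mem_K0 hG hz hQ hzQ hx h1))
        ⟨d * d, mem_cent.2 (mul_inv_eq_iff_eq_mul.1 (inv_mul_eq_one.1 e).symm)⟩
      rw [← orderOf_coe, s2] at hk
      rcases k with _ | k <;> omega
  have u3 := hG.three hp hu h2
  have du : d * (d * u * d⁻¹) * d⁻¹ = u⁻¹ := by rw [← dd, su]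
  have h3 : Commute u (d * u * d⁻¹) := by
    have hN : ((zpowers z).subgroupOf Q).Normal := (normal_subgroupOf_iff_le_normalizer (zpowers_le.2 hzQ)).2
      (h.Q_le hG hz hQ hzQ)
    have h4 := IsPGroup.isMulCommutative_of_card_eq_prime_sq (p := 3) (G := Q ⧸ (zpowers z).subgroupOf Q) (by
      have := ((zpowers z).subgroupOf Q).card_mul_index
      rw [Nat.card_congr (subgroupOfEquivOfLe (zpowers_le.2 hzQ)).toEquiv, hZ, hQ, index] at this
      omega)
    have h5 : u * (d * u * d⁻¹) * u⁻¹ * (d * u * d⁻¹)⁻¹ ∈ zpowers z := by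
      have := h4.1.1 (QuotientGroup.mk ⟨u, hu⟩) (QuotientGroup.mk ⟨_, cj hu⟩)
      rw [← mul_inv_eq_one, mul_inv_rev, ← mul_assoc] at this
      exact (QuotientGroup.eq_one_iff (N := (zpowers z).subgroupOf Q) _).1 this
    have h6 := dz h5
    obtain ⟨k, hk⟩ := mem_zpowers_iff.1 h5
    have h7 := ((h.Q_comm hG hz hQ hzQ hu).zpow_right k).eq
    rw [show d * (u * (d * u * d⁻¹) * u⁻¹ * (d * u * d⁻¹)⁻¹) * d⁻¹ = (d * u * d⁻¹) * (d * (d * u * d⁻¹) * d⁻¹) *
      (d * u * d⁻¹)⁻¹ * (d * (d * u * d⁻¹) * d⁻¹)⁻¹ by group, du, show d * u * d⁻¹ * u⁻¹ * (d * u * d⁻¹)⁻¹ * u⁻¹⁻¹ =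
      u⁻¹ * (u * (d * u * d⁻¹) * u⁻¹ * (d * u * d⁻¹)⁻¹ * u) by group, ← hk, ← h7, inv_mul_cancel_left] at h6
    rw [eq_one_of_inv (cube hG hQ (zpow_mem hzQ k)) h6] at hk
    exact commutatorElement_eq_one_iff_commute.1 hk.symm
  have u3' := (orderOf_isConj (isConj_iff.2 ⟨d, rfl⟩)).trans u3
  have hR := pgroup_sup u3 u3' h3
  have h4 : ¬ 9 ∣ Nat.card (zpowers u ⊔ zpowers (d * u * d⁻¹) : Subgroup G) := fun h9 => by
    obtain ⟨w, hw, h5⟩ := h.exists_K hG hR h9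
    have h6 := (mem3 hz.1).2 (Or.inr (h.uniq hG hp hz hw hzQ (sup_le (zpowers_le.2 hu) (zpowers_le.2 (cj hu)) h5)))
    obtain ⟨_, ⟨i, rfl⟩, _, ⟨j, rfl⟩, rfl⟩ := (mem_sup_iff_of_le_normalizer (zpowers_le.2 ((mem_N u3).2 (Or.inl (by
      rw [← h3.eq, mul_inv_cancel_right]))))).1 h5
    have h7 := sz h6
    beta_reduce at h7 hw h6
    rw [← conj_mul, ← conj_zpow, ← conj_zpow, su, show d * d * (d * u * d⁻¹) * (d * d)⁻¹ =
      d * (d * d * u * (d * d)⁻¹) * d⁻¹ by group, su, ← conj_inv, inv_zpow, inv_zpow, ← mul_inv_rev,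
      ← (h3.zpow_zpow i j).eq] at h7
    have h8 := hw.1
    rw [eq_one_of_inv (cube hG hQ (zpowers_le.2 hzQ h6)) h7.symm] at h8
    simp at h8
  obtain ⟨k, hk⟩ := IsPGroup.iff_card.1 hR
  have h5 : d * u * d⁻¹ ∈ zpowers u := (eq_of_le_of_card_ge le_sup_left (by
    rw [Nat.card_zpowers, u3, hk]
    rcases k with _ | _ | k
    · omega
    · omega
    · exact absurd (hk ▸ pow_dvd_pow 3 (show 2 ≤ k + 1 + 1 by omega)) h4)).ge (mem_sup_right (mem_zpowers _))
  refine h2 (eq_one_of_inv (cube hG hQ hu) ?_)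
  rcases (mem3 u3).1 h5 with e | e | e
  · rw [e] at u3'; simp at u3'
  · rwa [e, e] at du
  · rwa [e, ← conj_inv, e, inv_inv] at du

end Tab

theorem Hyp.iso [IsSimpleGroup G] (hG : Hyp G) :
    ∃ (F : Type) (_ : Field F) (_ : Fintype F), Fintype.card F = (3 ^ 1) ^ 2 ∧ Nonempty (G ≃* Cfsg.PSU 3 F (3 ^ 1)) := by
  have := Fact.mk Nat.prime_three
  obtain ⟨a, b, θ, y, h⟩ := hG.exists_tab
  obtain ⟨Q⟩ : Nonempty (Sylow 3 G) := inferInstance
  have hQ : Nat.card Q = 27 := card_sylow_subgroup_eq Q (a := 3) (m := 224) hG.card (by norm_num)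
  obtain ⟨z, hz, hzQ⟩ := h.exists_K hG Q.2 (by rw [hQ]; norm_num)
  have hi := h.index_N hG hz
  have hQB := h.Q_le hG hz hQ hzQ
  have hBQ := h.N_le hG hz hQ hzQ
  have bru := fun {t g : G} => h.bru hG hz hQ hzQ (t := t) (g := g)
  have reg := fun {t g : G} => h.reg_N hG hz hQ hzQ (g := t) (x := g)
  obtain ⟨d₀, hd₀⟩ := h.exists_inv hG hz
  have hd₁ := (mem_N hz.1).2 (Or.inr hd₀)
  generalize normalizer (zpowers z : Set G) = B at *
  obtain ⟨g, hg⟩ : ∃ g, g ∉ B := by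
    by_contra hn
    push Not at hn
    rw [(eq_top_iff' B).2 hn, index_top] at hi
    omega
  obtain ⟨t, tB, tt⟩ : ∃ t, t ∉ B ∧ t * t ∈ B := by
    obtain ⟨x, hx, c, hc, e⟩ := bru hg (mt inv_mem_iff.1 hg)
    refine ⟨g * x, fun e => hg (by simpa using mul_mem e (inv_mem (hQB hx))), ?_⟩
    rw [show g * x * (g * x) = g * (x * g * c) * c⁻¹ * x by group, ← e, mul_inv_cancel, one_mul]
    exact mul_mem (inv_mem hc) (hQB hx)
  let D := B ⊓ B.comap (MulAut.conj t⁻¹).toMonoidHom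
  have hD : ∀ {d}, d ∈ D ↔ d ∈ B ∧ t⁻¹ * d * t ∈ B := fun {d} => by simp [D]
  have dec : ∀ c ∈ B, ∃ x ∈ (Q : Subgroup G), ∃ d ∈ D, c = x * d := fun c hc => by
    obtain ⟨x, hx, c', hc', e⟩ := bru (g := c * t) tB fun e => tB (by simpa using mul_mem (inv_mem hc) e)
    refine ⟨x, hx, x⁻¹ * c, hD.2 ⟨mul_mem (inv_mem (hQB hx)) hc, ?_⟩, by simp⟩
    rwa [mul_assoc, mul_assoc, e, show t⁻¹ * (x⁻¹ * (x * t * c')) = c' by group]
  have cD : Nat.card D = 8 := by
    have h1 := card_sup_of_disjoint' (A := D) (K := Q) (inf_le_left.trans hBQ)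
      ((eq_bot_iff_forall _).2 fun x hx => reg tB hx.1 (hD.1 hx.2).2)
    have h2 := B.card_mul_index
    rw [le_antisymm (sup_le hQB inf_le_left) fun c hc => by
      obtain ⟨x, hx, d, hd, rfl⟩ := dec c hc
      exact mul_mem (mem_sup_left hx) (mem_sup_right hd), hQ] at h1
    rw [hi, hG.card] at h2
    omega
  obtain ⟨x, hx, d, hd, rfl⟩ := dec d₀ hd₁
  have h1 : d * z * d⁻¹ = z⁻¹ := by
    rw [show d * z * d⁻¹ = x⁻¹ * (x * d * z * (x * d)⁻¹) * x by group, hd₀, mul_assoc,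
      ← (h.Q_comm hG hz hQ hzQ hx).inv_right.eq, inv_mul_cancel_left]
  have h2 : orderOf d = 8 := by
    rcases (by decide : ∀ n ∈ Nat.divisors 8, n = 1 ∨ n = 2 ∨ n = 4 ∨ n = 8) _
      (Nat.mem_divisors.2 ⟨cD ▸ D.orderOf_dvd_natCard hd, by norm_num⟩) with e | e | e | e
    · have h3 := hz.1
      rw [orderOf_eq_one_iff.1 e, one_mul, inv_one, mul_one] at h1
      rw [eq_one_of_inv (hz.1 ▸ pow_orderOf_eq_one z) h1] at h3
      simp at h3
    · exact absurd h1 (h.not_inv hG hz e)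
    · exact absurd h1 (h.not_four hG hz hQ hzQ e)
    · exact e
  exact OU.iso (B := B) (Q := Q) (D := D) (i := d ^ 4) (t := t) ⟨Nat.prime_three, by norm_num, le_rfl, hQB, inf_le_left,
    hBQ, dec, BS.mem_norm_of fun c hc => hD.2 ⟨by
      simpa [mul_assoc] using mul_mem (mul_mem tt (hD.1 hc).2) (inv_mem tt), by simpa [mul_assoc] using (hD.1 hc).1⟩, tB,
    hD.2 ⟨tt, by simpa [mul_assoc] using tt⟩, fun g hg => bru tB hg, fun x hx => reg tB hx,
    B.normalCore_normal.eq_bot_or_eq_top.resolve_right fun e => tB (B.normalCore_le (e ▸ mem_top _)), hQ,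
    isCyclic_of_orderOf_eq_card ⟨d, hd⟩ (by rw [← orderOf_coe, h2, cD]), by rw [cD]; norm_num,
    by rw [orderOf_pow_of_dvd (by norm_num) (by rw [h2]; norm_num), h2], pow_mem hd 4⟩

end Cfsg.Lib.Coprime.U33
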